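import Mathlib
import Cfsg.Agent.Lib.Cores.Fitting

/-!
Solvable groups with trivial odd core: `C(O₂) ≤ O₂` and the resulting bound on the order.
-/

set_option autoImplicit false
set_option linter.all false

namespace Cfsg.Agent.InvChar.Solvable

open Cfsg

variable {G : Type*} [Group G] [Finite G]

theorem fitting_le_pCore_two (hO : Cfsg.oddCore G = ⊥) :
    Cfsg.fittingSubgroup G ≤ Cfsg.pCore 2 G := by
  rw [Cfsg.Agent.Cores.fittingSubgroup_eq_iSup]
  refine iSup_le fun p => ?_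
  by_cases h2 : (p : ℕ) = 2
  · rw [h2]
  · haveI : Fact (p : ℕ).Prime := ⟨Nat.prime_of_mem_primeFactors p.2⟩
    haveI : (Cfsg.pCore (p : ℕ) G).Normal := Subgroup.sSup_normal _ (fun N hN => hN.1)
    obtain ⟨k, hk⟩ := IsPGroup.iff_card.1 (Cfsg.Agent.Cores.pCore_isPGroup (G := G) (p : ℕ))
    have hodd : Odd (Nat.card ↥(Cfsg.pCore (p : ℕ) G)) := by
      rw [hk]
      exact ((Fact.out (p := (p : ℕ).Prime)).odd_of_ne_two h2).pow
    exact (Cfsg.Agent.Cores.le_oddCore hodd).trans (hO ▸ bot_le)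

theorem centralizer_pCore_two_le (hs : Group.IsSolvable G) (hO : Cfsg.oddCore G = ⊥) :
    Subgroup.centralizer (Cfsg.pCore 2 G : Set G) ≤ Cfsg.pCore 2 G :=
  haveI := hs
  le_trans (le_trans (Subgroup.centralizer_le (fitting_le_pCore_two hO))
    Cfsg.Agent.Cores.centralizer_fittingSubgroup_le) (fitting_le_pCore_two hO)

/-- `G / C(Q)` embeds in `Aut Q`. -/
theorem card_dvd_of_centralizer_le (Q : Subgroup G) [Q.Normal]
    (h : Subgroup.centralizer (Q : Set G) ≤ Q) :
    Nat.card G ∣ Nat.card Q * Nat.card (MulAut Q) := by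
  rw [← (MulAut.conjNormal : G →* MulAut Q).ker.card_mul_index]
  refine mul_dvd_mul (Subgroup.card_dvd_of_le ?_) ?_
  · intro g hg
    refine h (Subgroup.mem_centralizer_iff.2 fun q hq => ?_)
    have h1 := congrArg Subtype.val (DFunLike.congr_fun (MonoidHom.mem_ker.1 hg) (⟨q, hq⟩ : Q))
    rw [MulAut.conjNormal_apply] at h1
    exact (mul_inv_eq_iff_eq_mul.1 h1).symm
  · rw [Subgroup.index_ker]
    exact Subgroup.card_subgroup_dvd_card _

theorem isPGroup_mulAut_of_isCyclic {Q : Type*} [Group Q] [Finite Q] [IsCyclic Q]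
    (hQ : IsPGroup 2 Q) : IsPGroup 2 (MulAut Q) := by
  haveI : Fact (Nat.Prime 2) := ⟨Nat.prime_two⟩
  obtain ⟨k, hk⟩ := IsPGroup.iff_card.1 hQ
  rcases Nat.eq_zero_or_pos k with h0 | h0
  · refine IsPGroup.of_card (n := 0) ?_
    rw [IsCyclic.card_mulAut, hk, h0, pow_zero, Nat.totient_one]
  · refine IsPGroup.of_card (n := k - 1) ?_
    rw [IsCyclic.card_mulAut, hk, Nat.totient_prime_pow Nat.prime_two h0]
    simp

/-- If `O₂` is self-centralizing and has a 2-group as automorphism group, `G` is a 2-group. -/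
theorem isPGroup_of_isPGroup_mulAut (Q : Subgroup G) [Q.Normal]
    (h : Subgroup.centralizer (Q : Set G) ≤ Q) (hQ : IsPGroup 2 Q) (hA : IsPGroup 2 (MulAut Q)) :
    IsPGroup 2 G := by
  haveI : Fact (Nat.Prime 2) := ⟨Nat.prime_two⟩
  haveI : Finite (MulAut Q) := inferInstance
  obtain ⟨a, ha⟩ := IsPGroup.iff_card.1 hQ
  obtain ⟨b, hb⟩ := IsPGroup.iff_card.1 hA
  have hd := card_dvd_of_centralizer_le Q h
  rw [ha, hb, ← pow_add] at hd
  obtain ⟨i, -, hi⟩ := (Nat.dvd_prime_pow Nat.prime_two).1 hd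
  exact IsPGroup.of_card hi

end Cfsg.Agent.InvChar.Solvable
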