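import Mathlib
import Cfsg.Agent.InvChar.Solvable

/-!
2-groups with a cyclic subgroup of index at most two, and their automorphisms.
-/

set_option autoImplicit false
set_option linter.all false

namespace Cfsg.Agent.InvChar.CyclicIndexTwo

variable {X : Type*} [Group X] [Finite X]

theorem map_mem_of_pow (H : Subgroup X) {h₀ : X} (hgen : H = Subgroup.zpowers h₀) (k : ℕ)
    (hout : ∀ y, y ∉ H → y ^ k = 1) (hk : h₀ ^ k ≠ 1) (φ : MulAut X) {h : X} (hh : h ∈ H) :
    φ h ∈ H := by
  subst hgen
  have h1 : φ h₀ ∈ Subgroup.zpowers h₀ := by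
    by_contra hc
    have := hout _ hc
    rw [← map_pow, map_eq_one_iff φ φ.injective] at this
    exact hk this
  obtain ⟨i, rfl⟩ := hh
  simp only [map_zpow]
  exact Subgroup.zpow_mem _ h1 i

theorem isPGroup_mulAut (hX : IsPGroup 2 X) (H : Subgroup X) (hcyc : IsCyclic H)
    (hchar : ∀ (φ : MulAut X), ∀ h ∈ H, φ h ∈ H) (hi : H.index ≤ 2) : IsPGroup 2 (MulAut X) := by
  haveI := hcyc
  intro φ
  let r : MulAut X → MulAut H := fun ψ =>
    { toFun := fun h => ⟨ψ h, hchar ψ h h.2⟩
      invFun := fun h => ⟨ψ.symm h, hchar ψ⁻¹ h h.2⟩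
      left_inv := fun h => Subtype.ext (ψ.symm_apply_apply _)
      right_inv := fun h => Subtype.ext (ψ.apply_symm_apply _)
      map_mul' := fun a b => Subtype.ext (map_mul ψ _ _) }
  let r' : MulAut X →* MulAut H := MonoidHom.mk' r (fun a b => MulEquiv.ext fun h => Subtype.ext rfl)
  obtain ⟨j, hj⟩ := (Cfsg.Agent.InvChar.Solvable.isPGroup_mulAut_of_isCyclic (hX.to_subgroup H)) (r' φ)
  rw [← map_pow] at hj
  set ψ := φ ^ (2 ^ j) with hψ
  have hfix : ∀ h ∈ H, ψ h = h := fun h hh =>
    congrArg Subtype.val (DFunLike.congr_fun hj (⟨h, hh⟩ : H))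
  haveI : Fact (Nat.Prime 2) := ⟨Nat.prime_two⟩
  obtain ⟨m, hm⟩ := IsPGroup.iff_card.1 (hX.to_subgroup H)
  refine ⟨j + m, ?_⟩
  rw [pow_add, pow_mul, ← hψ]
  ext y
  rw [MulAut.one_apply]
  by_cases hy : y ∈ H
  · have : ∀ i : ℕ, (ψ ^ i) y = y := by
      intro i
      induction i with
      | zero => rfl
      | succ i ih => rw [pow_succ, MulAut.mul_apply, hfix y hy, ih]
    exact this _
  · have hne1 : H.index = 2 := by
      have h0 : H.index ≠ 0 := Subgroup.FiniteIndex.index_ne_zero
      have h1 : H.index ≠ 1 := fun h => hy (Subgroup.index_eq_one.1 h ▸ Subgroup.mem_top y)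
      omega
    have hψy : ψ y ∉ H := fun h => hy (by simpa using hchar ψ⁻¹ _ h)
    have hd : y⁻¹ * ψ y ∈ H := by
      have := (Subgroup.mul_mem_iff_of_index_two hne1 (a := y⁻¹) (b := ψ y)).2
        (iff_of_false (fun h => hy (by simpa using H.inv_mem h)) hψy)
      exact this
    have : ∀ i : ℕ, (ψ ^ i) y = y * (y⁻¹ * ψ y) ^ i := by
      intro i
      induction i with
      | zero => simp
      | succ i ih =>
        rw [pow_succ', MulAut.mul_apply, ih, map_mul, map_pow, hfix _ hd, pow_succ', ← mul_assoc,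
          ← mul_assoc, mul_inv_cancel, one_mul]
    rw [this]
    have h2 : (⟨_, hd⟩ : H) ^ (2 ^ m) = 1 := by rw [← hm]; exact pow_card_eq_one'
    have h3 := congrArg Subtype.val h2
    rw [Subgroup.coe_pow] at h3
    simp only [] at h3
    rw [h3]
    exact mul_one y

/-- The structure shared by generalized quaternion groups and their subgroups. -/
theorem quaternion_like (hX : IsPGroup 2 X) (H : Subgroup X) (hcyc : IsCyclic H) (hi : H.index ≤ 2)
    (hout : ∀ y, y ∉ H → orderOf y = 4 ∧ ∀ h ∈ H, y * h * y⁻¹ = h⁻¹) :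
    IsPGroup 2 (MulAut X) ∨ (Nat.card (MulAut X) ≤ 24 ∧ Nat.card (Subgroup.center X) ≤ 2) := by
  classical
  obtain ⟨h₀, hgen⟩ := (Subgroup.isCyclic_iff_exists_zpowers_eq_top H).1 hcyc
  have hout4 : ∀ y, y ∉ H → y ^ 4 = 1 := fun y hy => by
    rw [← (hout y hy).1]; exact pow_orderOf_eq_one y
  by_cases h4 : h₀ ^ 4 = 1
  swap
  · exact Or.inl (isPGroup_mulAut hX H hcyc (fun φ h hh => map_mem_of_pow H hgen.symm 4 hout4 h4 φ hh) hi)
  have hH4 : Nat.card H ∣ 4 := by
    rw [← hgen, Nat.card_zpowers]; exact orderOf_dvd_of_pow_eq_one h4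
  by_cases hXcyc : IsCyclic X
  · exact Or.inl (isPGroup_mulAut hX ⊤ (isCyclic_of_surjective Subgroup.topEquiv.symm
      Subgroup.topEquiv.symm.surjective) (fun φ h _ => Subgroup.mem_top _) (by simp))
  have hindex : H.index = 2 := by
    have h0 : H.index ≠ 0 := Subgroup.FiniteIndex.index_ne_zero
    have h1 : H.index ≠ 1 := fun h => hXcyc (by
      have := Subgroup.index_eq_one.1 h
      subst this
      haveI := hcyc
      exact isCyclic_of_surjective Subgroup.topEquiv Subgroup.topEquiv.surjective)
    omega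
  obtain ⟨y, hy⟩ : ∃ y, y ∉ H := by
    by_contra hc
    push Not at hc
    rw [(Subgroup.eq_top_iff' H).2 hc, Subgroup.index_top] at hindex
    omega
  have hcardX : Nat.card X = Nat.card H * 2 := by rw [← hindex, Subgroup.card_mul_index]
  have hH : Nat.card H = 4 := by
    have hle := Nat.le_of_dvd (by norm_num) hH4
    by_contra hne
    have hlt : Nat.card H ≤ 2 := by
      interval_cases h : Nat.card H <;> omega
    apply hXcyc
    refine isCyclic_of_orderOf_eq_card y (le_antisymm (Nat.le_of_dvd Nat.card_pos (orderOf_dvd_natCard y)) ?_)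
    rw [(hout y hy).1, hcardX]
    omega
  have hh₀ : orderOf h₀ = 4 := by rw [← hH, ← hgen, Nat.card_zpowers]
  have hh₀H : h₀ ∈ H := hgen ▸ Subgroup.mem_zpowers h₀
  have hX8 : Nat.card X = 8 := by omega
  refine Or.inr ⟨?_, ?_⟩
  · -- an automorphism is determined by the images of `h₀` and `y`
    let U := {u : X // orderOf u = 4}
    let V := fun u : U => {v : X // v ∉ Subgroup.zpowers (u : X)}
    let f : MulAut X → Σ u : U, V u := fun φ =>
      ⟨⟨φ h₀, by rw [MulEquiv.orderOf_eq]; exact hh₀⟩, ⟨φ y, fun h => hy (by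
        obtain ⟨i, hi⟩ := h
        rw [← hgen]
        refine ⟨i, φ.injective ?_⟩
        simpa [map_zpow] using hi)⟩⟩
    have hf : Function.Injective f := by
      intro φ ψ h
      have h1 : φ h₀ = ψ h₀ := congrArg (fun s : Σ u : U, V u => (s.1 : X)) h
      have h2 : φ y = ψ y := congrArg (fun s : Σ u : U, V u => ((s.2 : V s.1) : X)) h
      ext x
      by_cases hx : x ∈ H
      · rw [← hgen] at hx
        obtain ⟨i, rfl⟩ := hx
        simp only [map_zpow, h1]
      · have hd : y⁻¹ * x ∈ H := (Subgroup.mul_mem_iff_of_index_two hindex).2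
          (iff_of_false (fun h => hy (by simpa using H.inv_mem h)) hx)
        rw [← hgen] at hd
        obtain ⟨i, hi⟩ := hd
        simp only at hi
        have e : x = y * h₀ ^ i := by rw [hi, mul_inv_cancel_left]
        rw [e, map_mul, map_mul, map_zpow, map_zpow, h1, h2]
    haveI : Fintype X := Fintype.ofFinite X
    have hV : ∀ u : U, Fintype.card (V u) = 4 := by
      intro u
      have hc : Fintype.card (V u) = Fintype.card X - Fintype.card (Subgroup.zpowers (u : X)) :=
        Fintype.card_subtype_compl (fun v => v ∈ Subgroup.zpowers (u : X))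
      rw [hc, ← Nat.card_eq_fintype_card, ← Nat.card_eq_fintype_card, hX8, Nat.card_zpowers, u.2]
    have hU : Fintype.card U ≤ 6 := by
      have hsub : (Finset.univ.filter fun u : X => orderOf u = 4) ⊆ Finset.univ \ {1, h₀ ^ 2} := by
        intro u hu
        rw [Finset.mem_filter] at hu
        simp only [Finset.mem_sdiff, Finset.mem_univ, true_and, Finset.mem_insert, Finset.mem_singleton]
        rintro (rfl | rfl)
        · simp at hu
        · rw [orderOf_pow, hh₀] at hu; norm_num at hu
      have hne : (1 : X) ≠ h₀ ^ 2 := by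
        intro h
        have := orderOf_dvd_of_pow_eq_one h.symm
        rw [hh₀] at this
        exact absurd (Nat.le_of_dvd (by norm_num) this) (by norm_num)
      have := Finset.card_le_card hsub
      rw [Finset.card_sdiff_of_subset (Finset.subset_univ _), Finset.card_univ, Finset.card_pair hne,
        ← Nat.card_eq_fintype_card (α := X), hX8] at this
      rw [Fintype.card_subtype]
      exact this
    calc Nat.card (MulAut X) ≤ Nat.card (Σ u : U, V u) := Nat.card_le_card_of_injective f hf
      _ = ∑ u : U, Fintype.card (V u) := by rw [Nat.card_eq_fintype_card, Fintype.card_sigma]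
      _ = Fintype.card U * 4 := by simp [hV]
      _ ≤ 24 := by omega
  · -- the centre consists of elements of square one in `H`
    haveI := hcyc
    haveI : Fintype H := Fintype.ofFinite H
    have hmem : ∀ x ∈ Subgroup.center X, x ∈ H ∧ x ^ 2 = 1 := by
      intro x hx
      have hxH : x ∈ H := by
        by_contra hc
        have h := (hout x hc).2 h₀ hh₀H
        rw [← Subgroup.mem_center_iff.1 hx h₀, mul_inv_cancel_right] at h
        have : h₀ ^ 2 = 1 := by rw [pow_two]; nth_rewrite 1 [h]; exact inv_mul_cancel _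
        have := orderOf_dvd_of_pow_eq_one this
        rw [hh₀] at this
        exact absurd (Nat.le_of_dvd (by norm_num) this) (by norm_num)
      refine ⟨hxH, ?_⟩
      have h := (hout y hy).2 x hxH
      rw [Subgroup.mem_center_iff.1 hx y, mul_inv_cancel_right] at h
      rw [pow_two]
      nth_rewrite 1 [h]
      exact inv_mul_cancel _
    refine le_trans ?_ (IsCyclic.card_pow_eq_one_le (α := H) (n := 2) (by norm_num))
    rw [← Fintype.card_subtype, ← Nat.card_eq_fintype_card]
    exact Nat.card_le_card_of_injective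
      (fun x : Subgroup.center X => (⟨⟨x, (hmem x x.2).1⟩, Subtype.ext (hmem x x.2).2⟩ : {a : H // a ^ 2 = 1}))
      (fun a b h => Subtype.ext (congrArg (fun u : {a : H // a ^ 2 = 1} => ((u : H) : X)) h))

end Cfsg.Agent.InvChar.CyclicIndexTwo
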