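import Mathlib
import Cfsg.Prelude.Def_Local
import Cfsg.Prelude.Def_Classification2

/-!
Small facts on cores, subnormal subgroups and sections used by the involution-characterization block.
-/

set_option autoImplicit false

namespace Cfsg.Agent.InvChar.Core

variable {G : Type*} [Group G]

theorem coprime_card_sup {p : ℕ} {M N : Subgroup G} [N.Normal]
    (hM : (Nat.card M).Coprime p) (hN : (Nat.card N).Coprime p) :
    (Nat.card ↥(M ⊔ N)).Coprime p := by
  have h1 : (Nat.card ↥N) * N.relIndex (M ⊔ N) = Nat.card ↥(M ⊔ N) := by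
    rw [← Subgroup.relIndex_bot_left N, ← Subgroup.relIndex_bot_left (M ⊔ N)]
    exact Subgroup.relIndex_mul_relIndex _ _ _ bot_le le_sup_right
  have h2 : N.relIndex (M ⊔ N) = N.relIndex M := Subgroup.relIndex_sup_right M N
  have h3 : N.relIndex M ∣ Nat.card M := Subgroup.relIndex_dvd_card N M
  rw [← h1, h2]
  exact Nat.Coprime.mul_left hN (Nat.Coprime.coprime_dvd_left h3 hM)

theorem coprime_card_pPrimeCore [Finite G] (p : ℕ) :
    (Nat.card ↥(Cfsg.pPrimeCore p G)).Coprime p := by
  classical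
  let S : Set (Subgroup G) := {N : Subgroup G | N.Normal ∧ (Nat.card N).Coprime p}
  have key : ∀ s : Finset (Subgroup G), ↑s ⊆ S → (s.sup id).Normal ∧ (Nat.card ↥(s.sup id)).Coprime p := by
    intro s
    induction s using Finset.induction_on with
    | empty =>
      intro _
      refine ⟨by simp, by simp⟩
    | insert a t hat ih =>
      intro h
      rw [Finset.coe_insert, Set.insert_subset_iff] at h
      obtain ⟨hn, hc⟩ := ih h.2
      obtain ⟨han, hac⟩ := h.1
      rw [Finset.sup_insert, id]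
      have := hn
      have := han
      exact ⟨Subgroup.sup_normal _ _, coprime_card_sup hac hc⟩
  have hfin : S.Finite := Set.toFinite _
  have := (key hfin.toFinset (by simp)).2
  rwa [Finset.sup_id_eq_sSup, Set.Finite.coe_toFinset] at this

theorem le_pPrimeCore {p : ℕ} {N : Subgroup G} (hn : N.Normal) (hc : (Nat.card N).Coprime p) :
    N ≤ Cfsg.pPrimeCore p G :=
  le_sSup ⟨hn, hc⟩

theorem odd_card_oddCore [Finite G] : Odd (Nat.card ↥(Cfsg.oddCore G)) :=
  Nat.coprime_two_right.1 (coprime_card_pPrimeCore 2)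

theorem le_oddCore {N : Subgroup G} (hn : N.Normal) (hc : Odd (Nat.card N)) : N ≤ Cfsg.oddCore G :=
  le_pPrimeCore hn (Nat.coprime_two_right.2 hc)

theorem map_pPrimeCore_equiv {H : Type*} [Group H] (p : ℕ) (e : G ≃* H) :
    (Cfsg.pPrimeCore p G).map e.toMonoidHom = Cfsg.pPrimeCore p H := by
  apply le_antisymm
  · rw [Subgroup.map_le_iff_le_comap]
    apply sSup_le
    rintro N ⟨hn, hc⟩
    rw [← Subgroup.map_le_iff_le_comap]
    refine le_pPrimeCore (Subgroup.Normal.map hn _ e.surjective) ?_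
    rwa [Nat.card_congr (N.equivMapOfInjective _ e.injective).toEquiv.symm]
  · apply sSup_le
    rintro N ⟨hn, hc⟩
    intro x hx
    refine ⟨e.symm x, ?_, e.apply_symm_apply x⟩
    have hx' : e.symm x ∈ N.map e.symm.toMonoidHom := ⟨x, hx, rfl⟩
    refine le_pPrimeCore (Subgroup.Normal.map hn _ e.symm.surjective) ?_ hx'
    rwa [Nat.card_congr (N.equivMapOfInjective _ e.symm.injective).toEquiv.symm]

theorem pPrimeCore_characteristic (p : ℕ) : (Cfsg.pPrimeCore p G).Characteristic :=
  Subgroup.characteristic_iff_map_eq.2 fun e => map_pPrimeCore_equiv p e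

/-- The `p'`-core of a subnormal subgroup lies in the `p'`-core of the whole group. -/
theorem map_pPrimeCore_le_of_isSubnormal [Finite G] (p : ℕ) {K : Subgroup G} (hK : K.IsSubnormal) :
    (Cfsg.pPrimeCore p ↥K).map K.subtype ≤ Cfsg.pPrimeCore p G := by
  induction hK with
  | top =>
    have := map_pPrimeCore_equiv p (Subgroup.topEquiv (G := G))
    exact this.le
  | step H K hle _ hN ih =>
    have := hN
    have := pPrimeCore_characteristic (G := ↥(H.subgroupOf K)) p
    let D : Subgroup ↥K := (Cfsg.pPrimeCore p ↥(H.subgroupOf K)).map (H.subgroupOf K).subtype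
    have hD : D ≤ Cfsg.pPrimeCore p ↥K := by
      refine le_pPrimeCore ?_ ?_
      · exact ConjAct.normal_of_characteristic_of_normal
      · rw [Subgroup.card_map_of_injective (H.subgroupOf K).subtype_injective]
        exact coprime_card_pPrimeCore p
    refine le_trans ?_ ((Subgroup.map_mono hD).trans ih)
    rw [← map_pPrimeCore_equiv p (Subgroup.subgroupOfEquivOfLe hle)]
    rintro x ⟨y, ⟨z, hz, rfl⟩, rfl⟩
    exact ⟨(z : ↥K), ⟨z, hz, rfl⟩, rfl⟩

theorem oddCore_eq_bot_of_isSubnormal [Finite G] (hG : Cfsg.oddCore G = ⊥) {K : Subgroup G}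
    (hK : K.IsSubnormal) : Cfsg.oddCore ↥K = ⊥ := by
  have h := map_pPrimeCore_le_of_isSubnormal 2 hK
  rw [show Cfsg.pPrimeCore 2 G = ⊥ from hG, le_bot_iff] at h
  exact (Subgroup.map_eq_bot_iff_of_injective _ K.subtype_injective).1 h

/-- A group without a nontrivial normal subgroup of odd order has a 2-group as centre. -/
theorem isPGroup_center_of_oddCore_eq_bot [Finite G] (hG : Cfsg.oddCore G = ⊥) :
    IsPGroup 2 ↥(Subgroup.center G) := by
  intro z
  obtain ⟨k, m, hm, hkm⟩ := Nat.exists_eq_two_pow_mul_odd (n := orderOf (z : G)) (orderOf_pos _).ne'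
  refine ⟨k, ?_⟩
  have hy : ((z : G) ^ 2 ^ k) ^ m = 1 := by rw [← pow_mul, ← hkm, pow_orderOf_eq_one]
  have hodd : Odd (orderOf ((z : G) ^ 2 ^ k)) :=
    hm.of_dvd_nat (orderOf_dvd_of_pow_eq_one hy)
  have hmem : (z : G) ^ 2 ^ k ∈ Subgroup.center G := pow_mem z.2 _
  have hn : (Subgroup.zpowers ((z : G) ^ 2 ^ k)).Normal := by
    refine ⟨fun a ha g => ?_⟩
    have hac : a ∈ Subgroup.center G := Subgroup.zpowers_le.2 hmem ha
    rw [Subgroup.mem_center_iff] at hac
    rwa [hac g, mul_inv_cancel_right]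
  have h1 := le_oddCore hn (by rwa [Nat.card_zpowers]) (Subgroup.mem_zpowers _)
  rw [hG, Subgroup.mem_bot] at h1
  exact Subtype.ext (by simpa using h1)

theorem oddCore_quotient_oddCore_eq_bot [Finite G] :
    Cfsg.oddCore (G ⧸ Cfsg.oddCore G) = ⊥ := by
  let f := QuotientGroup.mk' (Cfsg.oddCore G)
  let P := (Cfsg.oddCore (G ⧸ Cfsg.oddCore G)).comap f
  have hle : Cfsg.oddCore G ≤ P := by
    intro x hx
    simp only [P, Subgroup.mem_comap, f, QuotientGroup.mk'_apply,
      (QuotientGroup.eq_one_iff x).2 hx]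
    exact Subgroup.one_mem _
  have hP : Odd (Nat.card ↥P) := by
    have h1 : Nat.card ↥(Cfsg.oddCore G) * (Cfsg.oddCore G).relIndex P = Nat.card ↥P := by
      rw [← Subgroup.relIndex_bot_left (Cfsg.oddCore G), ← Subgroup.relIndex_bot_left P]
      exact Subgroup.relIndex_mul_relIndex _ _ _ bot_le hle
    have h2 : (Cfsg.oddCore G).relIndex P = Nat.card ↥(Cfsg.oddCore (G ⧸ Cfsg.oddCore G)) := by
      have : (Cfsg.oddCore G).relIndex P = ((⊥ : Subgroup (G ⧸ Cfsg.oddCore G)).comap f).relIndex P := by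
        rw [MonoidHom.comap_bot, QuotientGroup.ker_mk']
      rw [this, Subgroup.relIndex_comap, Subgroup.map_comap_eq_self_of_surjective
        (QuotientGroup.mk'_surjective _), Subgroup.relIndex_bot_left]
    rw [← h1, h2]
    exact odd_card_oddCore.mul odd_card_oddCore
  have hPn : P.Normal := Subgroup.Normal.comap inferInstance f
  have hPle := le_oddCore hPn hP
  rw [eq_bot_iff]
  intro x hx
  obtain ⟨g, rfl⟩ := QuotientGroup.mk'_surjective (Cfsg.oddCore G) x
  exact Subgroup.mem_bot.2 ((QuotientGroup.eq_one_iff g).2 (hPle hx))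

/-- In a finite simple non-abelian group the centraliser of a non-identity element is proper. -/
theorem centralizer_ne_top [IsSimpleGroup G] (hG : ¬ IsMulCommutative G) {x : G} (hx : x ≠ 1) :
    Subgroup.centralizer ({x} : Set G) ≠ ⊤ := by
  intro h
  have hxc : x ∈ Subgroup.center G := Subgroup.mem_center_iff.2 fun g =>
    Subgroup.mem_centralizer_singleton_iff.1 (h ▸ Subgroup.mem_top g)
  rcases Subgroup.Normal.eq_bot_or_eq_top (inferInstance : (Subgroup.center G).Normal) with h1 | h1
  · rw [h1, Subgroup.mem_bot] at hxc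
    exact hx hxc
  · exact hG ⟨⟨fun a b => (Subgroup.mem_center_iff.1 (h1 ▸ Subgroup.mem_top b)) a⟩⟩

end Cfsg.Agent.InvChar.Core
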