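import Mathlib

/-!
Taussky's theorem: a 2-group whose commutator quotient is a four-group has a cyclic subgroup of index 2,
and then it is dihedral, semidihedral or generalized quaternion.
-/

set_option autoImplicit false
set_option linter.all false

namespace Cfsg.Agent.InvChar.Taussky

open scoped commutatorElement

universe u

theorem exists_cyclic : ∀ (n : ℕ) {S : Type u} [Group S] [Finite S], Nat.card S = n → IsPGroup 2 S →
    (commutator S).index = 4 → (∀ x : S, x ^ 2 ∈ commutator S) → ∃ a : S, orderOf a * 2 = Nat.card S := by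
  intro n
  induction n using Nat.strong_induction_on with
  | _ n ih =>
  intro S _ _ hn h2 hidx hexp
  haveI : Fact (Nat.Prime 2) := ⟨Nat.prime_two⟩
  by_cases hbot : commutator S = ⊥
  · rw [hbot, Subgroup.index_bot] at hidx
    have : Nontrivial S := Finite.one_lt_card_iff_nontrivial.1 (by omega)
    obtain ⟨a, ha⟩ := exists_ne (1 : S)
    refine ⟨a, ?_⟩
    rw [orderOf_eq_prime (by have := hexp a; rwa [hbot, Subgroup.mem_bot] at this) ha, hidx]
  -- a central involution in the commutator subgroup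
  obtain ⟨z, hzS, hzc, hz1, hz2⟩ : ∃ z : S, z ∈ commutator S ∧ z ∈ Subgroup.center S ∧ z ≠ 1 ∧ z ^ 2 = 1 := by
    have hnt : Nontrivial (commutator S) := (Subgroup.nontrivial_iff_ne_bot _).2 hbot
    obtain ⟨k, hk⟩ := IsPGroup.iff_card.1 (h2.to_subgroup (commutator S))
    have hk0 : k ≠ 0 := fun e => by
      have := Finite.one_lt_card_iff_nontrivial.2 hnt
      rw [hk, e] at this; simp at this
    let act : MulAction (ConjAct S) (commutator S) :=
      { smul := fun g x => ⟨ConjAct.ofConjAct g * x * (ConjAct.ofConjAct g)⁻¹,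
          (inferInstance : (commutator S).Normal).conj_mem _ x.2 _⟩
        one_smul := fun x => Subtype.ext (by
          show ConjAct.ofConjAct 1 * (x : S) * (ConjAct.ofConjAct 1)⁻¹ = x; simp)
        mul_smul := fun g h x => Subtype.ext (by
          show ConjAct.ofConjAct (g * h) * (x : S) * (ConjAct.ofConjAct (g * h))⁻¹ =
            ConjAct.ofConjAct g * (ConjAct.ofConjAct h * (x : S) * (ConjAct.ofConjAct h)⁻¹) *
              (ConjAct.ofConjAct g)⁻¹
          simp only [map_mul, mul_inv_rev, mul_assoc]) }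
    have h1 : (1 : commutator S) ∈ MulAction.fixedPoints (ConjAct S) (commutator S) := fun g => Subtype.ext (by
      show ConjAct.ofConjAct g * (1 : S) * (ConjAct.ofConjAct g)⁻¹ = 1; simp)
    obtain ⟨b, hb, hb1⟩ := (h2.of_equiv ConjAct.toConjAct).exists_fixed_point_of_prime_dvd_card_of_fixed_point
      (commutator S) (hk ▸ dvd_pow_self 2 hk0) h1
    have hbc : (b : S) ∈ Subgroup.center S := Subgroup.mem_center_iff.mpr fun g =>
      mul_inv_eq_iff_eq_mul.mp (congrArg Subtype.val (hb (ConjAct.toConjAct g)))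
    obtain ⟨j, hj⟩ := IsPGroup.iff_orderOf.mp h2 (b : S)
    rcases j with _ | j
    · exact absurd (Subtype.ext (orderOf_eq_one_iff.1 (by simpa using hj))) (Ne.symm hb1)
    refine ⟨(b : S) ^ 2 ^ j, pow_mem b.2 _, pow_mem hbc _, ?_, ?_⟩
    · intro h
      have := orderOf_dvd_of_pow_eq_one h
      rw [hj, Nat.pow_dvd_pow_iff_le_right (by norm_num)] at this
      omega
    · rw [← pow_mul, ← pow_succ, ← hj, pow_orderOf_eq_one]
  have hzo : orderOf z = 2 := orderOf_eq_prime hz2 hz1
  set Z := Subgroup.zpowers z with hZ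
  have hZc : Z ≤ Subgroup.center S := Subgroup.zpowers_le.2 hzc
  haveI : Z.Normal := ⟨fun x hx g => by
    rw [Subgroup.mem_center_iff.1 (hZc hx) g, mul_inv_cancel_right]; exact hx⟩
  have hZcard : Nat.card Z = 2 := by rw [hZ, Nat.card_zpowers, hzo]
  set q := QuotientGroup.mk' Z with hq
  have hqs := QuotientGroup.mk'_surjective Z
  have hcard : Nat.card S = Nat.card (S ⧸ Z) * 2 := by rw [Z.card_eq_card_quotient_mul_card_subgroup, hZcard]
  have hcomm : (commutator S).map q = commutator (S ⧸ Z) := by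
    rw [commutator_def, commutator_def, Subgroup.map_commutator, Subgroup.map_top_of_surjective q hqs]
  have hidx' : (commutator (S ⧸ Z)).index = 4 := by
    rw [← hcomm, Subgroup.index_map, sup_eq_left.2 (by rw [hq, QuotientGroup.ker_mk']; exact Subgroup.zpowers_le.2 hzS),
      MonoidHom.range_eq_top.2 hqs, Subgroup.index_top, mul_one, hidx]
  obtain ⟨a', ha'⟩ := ih (Nat.card (S ⧸ Z)) (by have : 0 < Nat.card (S ⧸ Z) := Nat.card_pos; omega)
    rfl (h2.to_quotient Z) hidx' (fun x => by
      obtain ⟨x, rfl⟩ := hqs x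
      rw [← hcomm, ← map_pow]; exact Subgroup.mem_map_of_mem _ (hexp x))
  obtain ⟨a, rfl⟩ := hqs a'
  set A := (Subgroup.zpowers (q a)).comap q with hA
  have hAidx : A.index = 2 := by
    rw [hA, Subgroup.index_comap_of_surjective _ hqs]
    have := (Subgroup.zpowers (q a)).index_mul_card
    rw [Nat.card_zpowers, ← ha', mul_comm] at this
    exact Nat.eq_of_mul_eq_mul_left (orderOf_pos _) this
  have haA : a ∈ A := Subgroup.mem_zpowers _
  have hzA : z ∈ A := by
    rw [hA, Subgroup.mem_comap, show q z = 1 from (QuotientGroup.eq_one_iff z).2 (Subgroup.mem_zpowers z)]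
    exact one_mem _
  have hAform : ∀ u ∈ A, ∃ (i : ℤ) (w : S), w ∈ Z ∧ u = a ^ i * w := by
    intro u hu
    obtain ⟨i, hi⟩ := hu
    refine ⟨i, (a ^ i)⁻¹ * u, ?_, (mul_inv_cancel_left _ _).symm⟩
    rw [← QuotientGroup.eq]
    show q (a ^ i) = q u
    rw [map_zpow]; exact hi
  have hacomm : ∀ u ∈ A, a * u = u * a := by
    intro u hu
    obtain ⟨i, w, hw, rfl⟩ := hAform u hu
    have hwa : Commute a w := Subgroup.mem_center_iff.1 (hZc hw) a
    exact ((Commute.refl a).zpow_right i).mul_right hwa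
  haveI : A.Normal := Subgroup.normal_of_index_eq_two hAidx
  obtain ⟨x, hx⟩ : ∃ x, x ∉ A := by
    by_contra hc
    push Not at hc
    rw [(Subgroup.eq_top_iff' A).2 hc, Subgroup.index_top] at hAidx
    omega
  set s := x * a * x⁻¹ * a⁻¹ with hs
  have hsA : s ∈ A := A.mul_mem ((inferInstance : A.Normal).conj_mem a haA x) (A.inv_mem haA)
  have hsS : s ∈ commutator S := Subgroup.commutator_mem_commutator (Subgroup.mem_top x) (Subgroup.mem_top a)
  have hxs : x * s * x⁻¹ = s⁻¹ := by
    have h1 := hacomm _ (Subgroup.sq_mem_of_index_two hAidx x)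
    have h2' : x * s * x⁻¹ * s = 1 := by
      calc x * s * x⁻¹ * s = (x ^ 2 * a) * (x ^ 2)⁻¹ * a⁻¹ := by rw [hs, pow_two]; group
        _ = (a * x ^ 2) * (x ^ 2)⁻¹ * a⁻¹ := by rw [h1]
        _ = 1 := by group
    exact eq_inv_of_mul_eq_one_left h2'
  set D := Subgroup.zpowers s with hD
  have hgen : ∀ W : Subgroup S, a ∈ W → z ∈ W → x ∈ W → ∀ g, g ∈ W := by
    intro W hWa hWz hWx g
    have hAW : A ≤ W := fun u hu => by
      obtain ⟨i, w, hw, rfl⟩ := hAform u hu
      exact W.mul_mem (W.zpow_mem hWa i) (Subgroup.zpowers_le.2 hWz hw)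
    by_cases hg : g ∈ A
    · exact hAW hg
    · have hd : x⁻¹ * g ∈ A := (Subgroup.mul_mem_iff_of_index_two hAidx).2
        (iff_of_false (fun h => hx (by simpa using A.inv_mem h)) hg)
      simpa using W.mul_mem hWx (hAW hd)
  have hDn : D.Normal := by
    rw [← Subgroup.normalizer_eq_top_iff, Subgroup.eq_top_iff']
    refine hgen _ ?_ ?_ ?_ <;> rw [Subgroup.mem_normalizer_iff_map_conj_eq, hD, MonoidHom.map_zpowers]
    · congr 1
      show a * s * a⁻¹ = s
      rw [hacomm s hsA, mul_inv_cancel_right]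
    · congr 1
      show z * s * z⁻¹ = s
      rw [← Subgroup.mem_center_iff.1 hzc s, mul_inv_cancel_right]
    · show Subgroup.zpowers (x * s * x⁻¹) = _
      rw [hxs, Subgroup.zpowers_inv]
  have hle : commutator S ≤ D := by
    set π := QuotientGroup.mk' D with hπ
    have hax : π x * π a = π a * π x := by
      have : π s = 1 := (QuotientGroup.eq_one_iff s).2 (Subgroup.mem_zpowers s)
      rw [hs, map_mul, map_mul, map_mul, map_inv, map_inv] at this
      exact mul_inv_eq_iff_eq_mul.1 (mul_inv_eq_one.1 this)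
    have hzcen : ∀ u : S, π z * π u = π u * π z := fun u => by
      rw [← map_mul, ← map_mul, Subgroup.mem_center_iff.1 hzc u]
    have key : ∀ g h : S, π g * π h = π h * π g := by
      have hone : ∀ g : S, π g * π a = π a * π g ∧ π g * π x = π x * π g := fun g =>
        ⟨Subgroup.mem_centralizer_singleton_iff.1 (hgen ((Subgroup.centralizer {π a}).comap π)
          (Subgroup.mem_centralizer_singleton_iff.2 rfl) (Subgroup.mem_centralizer_singleton_iff.2 (hzcen a))
          (Subgroup.mem_centralizer_singleton_iff.2 hax) g),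
        Subgroup.mem_centralizer_singleton_iff.1 (hgen ((Subgroup.centralizer {π x}).comap π)
          (Subgroup.mem_centralizer_singleton_iff.2 hax.symm) (Subgroup.mem_centralizer_singleton_iff.2 (hzcen x))
          (Subgroup.mem_centralizer_singleton_iff.2 rfl) g)⟩
      intro g h
      exact (Subgroup.mem_centralizer_singleton_iff.1 (hgen ((Subgroup.centralizer {π g}).comap π)
        (Subgroup.mem_centralizer_singleton_iff.2 (hone g).1.symm) (Subgroup.mem_centralizer_singleton_iff.2 (hzcen g))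
        (Subgroup.mem_centralizer_singleton_iff.2 (hone g).2.symm) h)).symm
    rw [commutator_def, Subgroup.commutator_le]
    intro g _ h _
    rw [← QuotientGroup.eq_one_iff]
    show π ⁅g, h⁆ = 1
    rw [map_commutatorElement, commutatorElement_eq_one_iff_mul_comm]
    exact key g h
  have hso : orderOf s * 4 = Nat.card S := by
    have hDeq : D = commutator S := le_antisymm (Subgroup.zpowers_le.2 hsS) hle
    rw [← (commutator S).card_mul_index, hidx, ← hDeq, hD, Nat.card_zpowers]
  have hs4 : orderOf s * 4 = orderOf (q a) * 2 * 2 := by rw [hso, hcard, ha']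
  by_cases h4 : 4 ∣ orderOf s
  · have hzD : z ∈ D := hle hzS
    obtain ⟨c, hc⟩ := h4
    have hzs : z = s ^ (2 * c) := by
      obtain ⟨j, -, hj⟩ : ∃ j, j < orderOf s ∧ s ^ j = z := by
        obtain ⟨j, hj⟩ := (mem_powers_iff_mem_zpowers.2 hzD)
        exact ⟨j % orderOf s, Nat.mod_lt _ (orderOf_pos s), by rw [pow_mod_orderOf]; exact hj⟩
      have h1 : s ^ (j * 2) = 1 := by rw [pow_mul, hj, hz2]
      have hd := orderOf_dvd_of_pow_eq_one h1
      rw [hc] at hd
      obtain ⟨d, hd⟩ := hd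
      rcases Nat.even_or_odd d with ⟨e, he⟩ | ⟨e, he⟩
      · exfalso
        apply hz1
        rw [← hj, show j = orderOf s * e by rw [hc]; rw [he] at hd; linarith, pow_mul, pow_orderOf_eq_one, one_pow]
      · rw [← hj, show j = orderOf s * e + 2 * c by rw [hc]; rw [he] at hd; linarith, pow_add, pow_mul,
          pow_orderOf_eq_one, one_pow, one_mul]
    obtain ⟨i, w, hw, hsw⟩ := hAform s hsA
    have hza : z ∈ Subgroup.zpowers a := by
      have hwa : Commute (a ^ i) w := (show Commute a w from Subgroup.mem_center_iff.1 (hZc hw) a).zpow_left i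
      have hw2 : w ^ 2 = 1 := by
        obtain ⟨l, rfl⟩ := hw
        show (z ^ l) ^ (2 : ℕ) = 1
        rw [← zpow_natCast, ← zpow_mul, mul_comm, zpow_mul, zpow_natCast, hz2, one_zpow]
      rw [hzs, hsw, hwa.mul_pow, pow_mul w, hw2, one_pow, mul_one]
      exact pow_mem (zpow_mem (Subgroup.mem_zpowers a) i) _
    refine ⟨a, ?_⟩
    have hAa : A = Subgroup.zpowers a := by
      refine le_antisymm ?_ (Subgroup.zpowers_le.2 haA)
      intro u hu
      obtain ⟨i, w, hw, rfl⟩ := hAform u hu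
      exact Subgroup.mul_mem _ (zpow_mem (Subgroup.mem_zpowers a) i) (Subgroup.zpowers_le.2 hza hw)
    rw [← Nat.card_zpowers, ← hAa, ← hAidx, A.card_mul_index]
  · -- order eight
    obtain ⟨m, hm⟩ := IsPGroup.iff_orderOf.1 h2 s
    have hS8 : Nat.card S ≤ 8 := by
      rcases m with _ | _ | m
      · rw [hm] at hso; omega
      · rw [hm] at hso; omega
      · exact absurd ⟨2 ^ m, by rw [hm]; ring⟩ h4
    by_contra hno
    push Not at hno
    apply hbot
    have hsq : ∀ u : S, u * u = 1 := by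
      intro u
      obtain ⟨l, hl⟩ := IsPGroup.iff_orderOf.1 h2 u
      have h8 : orderOf u ∣ Nat.card S := orderOf_dvd_natCard u
      have hne := hno u
      obtain ⟨k, hk⟩ := IsPGroup.iff_card.1 h2
      rcases l with _ | _ | l
      · rw [pow_zero, orderOf_eq_one_iff] at hl; rw [hl, one_mul]
      · rw [zero_add, pow_one] at hl; rw [← pow_two, ← hl, pow_orderOf_eq_one]
      · exfalso
        rw [hl, hk, Nat.pow_dvd_pow_iff_le_right (by norm_num)] at h8
        rw [hl, hk] at hne
        have hk3 : k ≤ 3 := by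
          by_contra hk4
          have : 2 ^ 4 ≤ 2 ^ k := Nat.pow_le_pow_right two_pos (by omega)
          omega
        have hcyc : l + 1 + 1 = k := by
          by_contra hlt
          have hkl : k = l + 1 + 1 + 1 := by omega
          apply hne
          rw [hkl, pow_succ 2 (l + 1 + 1)]
        have : IsCyclic S := isCyclic_of_orderOf_eq_card u (by rw [hl, hk, hcyc])
        letI : CommGroup S := IsCyclic.commGroup
        exact hbot ((commutator_eq_bot_iff_center_eq_top S).2 CommGroup.center_eq_top)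
    rw [commutator_eq_bot_iff_center_eq_top, Subgroup.eq_top_iff']
    intro u
    rw [Subgroup.mem_center_iff]
    intro v
    have h1 := hsq (v * u)
    rw [← inv_eq_iff_mul_eq_one, mul_inv_rev, inv_eq_of_mul_eq_one_right (hsq u),
      inv_eq_of_mul_eq_one_right (hsq v)] at h1
    exact h1.symm

/-- The structure of such a group. -/
theorem structure_cases {S : Type u} [Group S] [Finite S] (h2 : IsPGroup 2 S)
    (hidx : (commutator S).index = 4) (hexp : ∀ x : S, x ^ 2 ∈ commutator S) :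
    Nat.card S = 4 ∨ ∃ (m : ℕ) (a y : S), orderOf a = 2 ^ (m + 2) ∧ Nat.card S = 2 ^ (m + 3) ∧
      y ∉ Subgroup.zpowers a ∧
      ((y * a * y⁻¹ = a⁻¹ ∧ y * y = 1) ∨ (y * a * y⁻¹ = a⁻¹ ∧ y * y = a ^ (2 ^ (m + 1))) ∨
        (1 ≤ m ∧ y * a * y⁻¹ = a ^ (2 ^ (m + 1) - 1) ∧ y * y = 1)) := by
  haveI : Fact (Nat.Prime 2) := ⟨Nat.prime_two⟩
  obtain ⟨a, ha⟩ := exists_cyclic (Nat.card S) rfl h2 hidx hexp
  obtain ⟨m', hm'⟩ := IsPGroup.iff_orderOf.1 h2 a
  rcases m' with _ | _ | m
  · left; rw [← (commutator S).card_mul_index, hidx] at ha ⊢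
    rw [hm'] at ha; have := Nat.card_pos (α := commutator S); omega
  · left; rw [← ha, hm']; norm_num
  right
  have hcard : Nat.card S = 2 ^ (m + 3) := by rw [← ha, hm']; ring
  set A := Subgroup.zpowers a with hA
  have hAidx : A.index = 2 := by
    have := A.card_mul_index
    rw [hA, Nat.card_zpowers, ← ha] at this
    exact Nat.eq_of_mul_eq_mul_left (orderOf_pos a) this
  haveI : A.Normal := Subgroup.normal_of_index_eq_two hAidx
  obtain ⟨x, hx⟩ : ∃ x, x ∉ A := by
    by_contra hc
    push Not at hc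
    rw [(Subgroup.eq_top_iff' A).2 hc, Subgroup.index_top] at hAidx
    omega
  obtain ⟨k, hk⟩ := (inferInstance : A.Normal).conj_mem a (Subgroup.mem_zpowers a) x
  simp only at hk
  obtain ⟨j, hj⟩ := Subgroup.sq_mem_of_index_two hAidx x
  simp only at hj
  have hconj : ∀ i : ℤ, x * a ^ i * x⁻¹ = a ^ (k * i) := fun i => by rw [← conj_zpow, ← hk, zpow_mul]
  have hN : ∀ i : ℤ, a ^ i = 1 ↔ ((2 ^ (m + 2) : ℕ) : ℤ) ∣ i := fun i => by
    rw [← hm']; exact orderOf_dvd_iff_zpow_eq_one.symm
  -- the commutator subgroup is generated by `a ^ (k - 1)`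
  set s := a ^ (k - 1) with hs
  have hsS : s ∈ commutator S := by
    have : s = ⁅x, a⁆ := by rw [commutatorElement_def, hs, ← hk, zpow_sub_one]
    rw [this]
    exact Subgroup.commutator_mem_commutator (Subgroup.mem_top x) (Subgroup.mem_top a)
  set D := Subgroup.zpowers s with hD
  have hxout : ∀ g : S, g ∈ A ∨ x⁻¹ * g ∈ A := by
    intro g
    by_cases hg : g ∈ A
    · exact Or.inl hg
    · exact Or.inr ((Subgroup.mul_mem_iff_of_index_two hAidx).2
        (iff_of_false (fun h => hx (by simpa using A.inv_mem h)) hg))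
  have hDn : D.Normal := by
    refine ⟨fun u hu g => ?_⟩
    obtain ⟨i, rfl⟩ := hu
    rcases hxout g with ⟨l, hl⟩ | ⟨l, hl⟩
    · simp only at hl
      rw [← hl]
      refine ⟨i, ?_⟩
      simp only [hs]; group
    · simp only at hl
      have hg : g = x * a ^ l := by rw [hl, mul_inv_cancel_left]
      refine ⟨i * k, ?_⟩
      simp only [hs, hg]
      rw [← zpow_mul, ← zpow_mul, mul_inv_rev]
      rw [show x * a ^ l * a ^ ((k - 1) * i) * ((a ^ l)⁻¹ * x⁻¹) = x * a ^ ((k - 1) * i) * x⁻¹ by group, hconj]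
      congr 1; ring
  have hle : commutator S ≤ D := by
    set π := QuotientGroup.mk' D with hπ
    have hax : π x * π a = π a * π x := by
      have h1 : π (x * a * x⁻¹ * a⁻¹) = 1 := by
        rw [← hk, ← zpow_sub_one]; exact (QuotientGroup.eq_one_iff s).2 (Subgroup.mem_zpowers s)
      rw [map_mul, map_mul, map_mul, map_inv, map_inv] at h1
      exact mul_inv_eq_iff_eq_mul.1 (mul_inv_eq_one.1 h1)
    have hform : ∀ g : S, ∃ (e : ℤ) (l : ℤ), π g = π x ^ e * π a ^ l := by
      intro g
      rcases hxout g with ⟨l, hl⟩ | ⟨l, hl⟩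
      · exact ⟨0, l, by simp only at hl; rw [← hl, map_zpow, zpow_zero, one_mul]⟩
      · simp only at hl
        have hg : g = x * a ^ l := by rw [hl, mul_inv_cancel_left]
        exact ⟨1, l, by rw [hg, map_mul, map_zpow, zpow_one]⟩
    rw [commutator_def, Subgroup.commutator_le]
    intro g _ h _
    rw [← QuotientGroup.eq_one_iff]
    show π ⁅g, h⁆ = 1
    rw [map_commutatorElement, commutatorElement_eq_one_iff_mul_comm]
    obtain ⟨e, l, hg⟩ := hform g
    obtain ⟨e', l', hh⟩ := hform h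
    rw [hg, hh]
    have hc : Commute (π x) (π a) := hax
    exact ((((Commute.refl (π x)).zpow_zpow e e').mul_left (hc.symm.zpow_zpow l e')).mul_right
      (((hc.zpow_zpow e l')).mul_left ((Commute.refl (π a)).zpow_zpow l l'))).eq
  have hDcard : orderOf s = 2 ^ (m + 1) := by
    have hDeq : D = commutator S := le_antisymm (Subgroup.zpowers_le.2 hsS) hle
    have := (commutator S).card_mul_index
    rw [hidx, ← hDeq, hD, Nat.card_zpowers, hcard] at this
    have : (2 : ℕ) ^ (m + 3) = 2 ^ (m + 1) * 4 := by ring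
    omega
  -- `k - 1` is twice an odd number
  have h2k : (2 : ℤ) ∣ k - 1 := by
    have h1 : s ^ ((2 ^ (m + 1) : ℕ) : ℤ) = 1 := by rw [zpow_natCast, ← hDcard, pow_orderOf_eq_one]
    rw [hs, ← zpow_mul, hN] at h1
    push_cast at h1
    rw [pow_succ (2 : ℤ) (m + 1), mul_comm (k - 1)] at h1
    exact Int.dvd_of_mul_dvd_mul_left (by positivity) h1
  obtain ⟨o, ho⟩ := h2k
  have hoodd : ¬ (2 : ℤ) ∣ o := by
    rintro ⟨o', rfl⟩
    have h1 : s ^ ((2 ^ m : ℕ) : ℤ) = 1 := by
      rw [hs, ← zpow_mul, hN]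
      exact ⟨o', by rw [ho]; push_cast; ring⟩
    rw [zpow_natCast] at h1
    have := orderOf_dvd_of_pow_eq_one h1
    rw [hDcard, Nat.pow_dvd_pow_iff_le_right (by norm_num)] at this
    omega
  have hcop : IsCoprime ((2 : ℤ) ^ (m + 1)) o :=
    ((Prime.coprime_iff_not_dvd Int.prime_two).2 hoodd).pow_left
  have hkk : ((2 ^ (m + 2) : ℕ) : ℤ) ∣ (k - 1) * (k + 1) := by
    have h1 : x ^ 2 * a * (x ^ 2)⁻¹ = a := by rw [← hj]; group
    have h2' : x ^ 2 * a * (x ^ 2)⁻¹ = a ^ (k * k) := by
      calc x ^ 2 * a * (x ^ 2)⁻¹ = x * (x * a * x⁻¹) * x⁻¹ := by rw [pow_two]; group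
        _ = x * a ^ k * x⁻¹ := by rw [hk]
        _ = _ := hconj k
    rw [← hN, show (k - 1) * (k + 1) = k * k - 1 by ring, zpow_sub_one, ← h2', h1, mul_inv_cancel]
  have hk1 : (2 : ℤ) ^ (m + 1) ∣ k + 1 := by
    rw [ho] at hkk
    push_cast at hkk
    rw [pow_succ' (2 : ℤ) (m + 1), mul_assoc] at hkk
    exact hcop.dvd_of_dvd_mul_left (Int.dvd_of_mul_dvd_mul_left (by norm_num) hkk)
  have hj2 : (2 : ℤ) ^ (m + 1) ∣ j := by
    have h1 : x * a ^ j * x⁻¹ = a ^ j := by rw [hj]; group
    rw [hconj] at h1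
    have h2' : a ^ ((k - 1) * j) = 1 := by rw [sub_one_mul, zpow_sub, h1, mul_inv_cancel]
    rw [hN, ho] at h2'
    push_cast at h2'
    rw [pow_succ' (2 : ℤ) (m + 1), mul_assoc] at h2'
    exact hcop.dvd_of_dvd_mul_left (Int.dvd_of_mul_dvd_mul_left (by norm_num) h2')
  have hhalf : ∀ i : ℤ, (2 : ℤ) ^ (m + 1) ∣ i → a ^ i = 1 ∨ a ^ i = a ^ (2 ^ (m + 1) : ℕ) := by
    rintro i ⟨c, rfl⟩
    rcases Int.even_or_odd c with ⟨e, rfl⟩ | ⟨e, rfl⟩
    · left; rw [hN]; exact ⟨e, by push_cast; ring⟩
    · right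
      rw [← zpow_natCast, show (2 : ℤ) ^ (m + 1) * (2 * e + 1) =
        ((2 ^ (m + 2) : ℕ) : ℤ) * e + ((2 ^ (m + 1) : ℕ) : ℤ) by push_cast; ring, zpow_add,
        (hN _).2 (dvd_mul_right _ _), one_mul]
  have hxx : x * x = 1 ∨ x * x = a ^ (2 ^ (m + 1) : ℕ) := by
    rw [← pow_two, ← hj]; exact hhalf j hj2
  refine ⟨m, a, ?_⟩
  rcases hhalf _ hk1 with hkc | hkc
  · have hinv : x * a * x⁻¹ = a⁻¹ := by
      rw [← hk]; exact eq_inv_of_mul_eq_one_left (by rw [← zpow_add_one]; exact hkc)
    rcases hxx with h | h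
    · exact ⟨x, hm', hcard, hx, Or.inl ⟨hinv, h⟩⟩
    · exact ⟨x, hm', hcard, hx, Or.inr (Or.inl ⟨hinv, h⟩)⟩
  · have hkv : x * a * x⁻¹ = a ^ (2 ^ (m + 1) - 1 : ℕ) := by
      rw [← hk, ← zpow_natCast, Nat.cast_sub (Nat.one_le_two_pow), Nat.cast_one, zpow_sub_one, zpow_natCast,
        ← hkc, zpow_add_one, mul_inv_cancel_right]
    have hm1 : 1 ≤ m := by
      by_contra h0
      have hm0 : m = 0 := by omega
      subst hm0
      have hz : a ^ (k - 1) = 1 := by
        rw [zpow_sub_one, hk, hkv]; simp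
      rw [← hs] at hz
      rw [hz, orderOf_one] at hDcard
      norm_num at hDcard
    rcases hxx with h | h
    · exact ⟨x, hm', hcard, hx, Or.inr (Or.inr ⟨hm1, hkv, h⟩)⟩
    · refine ⟨x * a, hm', hcard, fun hmem => hx ?_, Or.inr (Or.inr ⟨hm1, ?_, ?_⟩)⟩
      · simpa using A.mul_mem hmem (A.inv_mem (Subgroup.mem_zpowers a))
      · rw [← hkv]; group
      · calc x * a * (x * a) = (x * a * x⁻¹) * (x * x) * a := by group
          _ = a ^ (2 ^ (m + 1) - 1 : ℕ) * a ^ (2 ^ (m + 1) : ℕ) * a := by rw [hkv, h]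
          _ = a ^ (2 ^ (m + 2)) := by
            rw [← pow_add, ← pow_succ]; congr 1
            have := Nat.one_le_two_pow (n := m + 1)
            have : 2 ^ (m + 2) = 2 ^ (m + 1) * 2 := pow_succ 2 (m + 1)
            omega
          _ = 1 := by rw [← hm', pow_orderOf_eq_one]

end Cfsg.Agent.InvChar.Taussky
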