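import Cfsg.Agent.Lib.Components.Local
import Cfsg.Agent.Lib.Cores.Basic

/-!
`p`-constrained groups: criterion modulo the `p'`-core, invariance under surjections with coprime kernel,
normal subgroups, normalizers and centralizers of `p`-subgroups.
-/

set_option linter.all false

namespace Cfsg.Agent.InvChar.PConstrained

open Subgroup
open Cfsg.Agent.Components.Basic Cfsg.Agent.Components.Fitting Cfsg.Agent.Components.PComponents
  Cfsg.Agent.Components.Local

variable {G : Type*} [Group G] {H : Type*} [Group H] {p : ℕ}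

theorem iff_char [Finite G] [hp : Fact p.Prime] :
    Cfsg.IsPConstrained p G ↔ centralizer (Cfsg.pCore p (G ⧸ Cfsg.pPrimeCore p G) : Set _) ≤
      Cfsg.pCore p (G ⧸ Cfsg.pPrimeCore p G) := by
  set q := QuotientGroup.mk' (Cfsg.pPrimeCore p G)
  have key : ∀ P : Sylow p ↥(Cfsg.pPrimePCore p G),
      (centralizer (((P : Subgroup ↥(Cfsg.pPrimePCore p G)).map
        (Cfsg.pPrimePCore p G).subtype : Subgroup G) : Set G) ≤ Cfsg.pPrimePCore p G ↔
      centralizer (Cfsg.pCore p (G ⧸ Cfsg.pPrimeCore p G) : Set _) ≤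
        Cfsg.pCore p (G ⧸ Cfsg.pPrimeCore p G)) := by
    intro P
    rw [← map_sylow_pPrimePCore P,
      ← map_centralizer_eq (P.isPGroup'.map _) (Cores.pPrimeCore_card_coprime p), map_sylow_pPrimePCore P,
      Subgroup.map_le_iff_le_comap]
    rfl
  exact ⟨fun h => (key default).1 (h default), fun h P => (key P).2 h⟩

theorem char_of_equiv (e : G ≃* H) (h : centralizer (Cfsg.pCore p G : Set G) ≤ Cfsg.pCore p G) :
    centralizer (Cfsg.pCore p H : Set H) ≤ Cfsg.pCore p H := by
  intro y hy
  obtain ⟨x, rfl⟩ := e.surjective y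
  have hmap := Cores.map_pCore_eq e p
  rw [← hmap]
  refine ⟨x, h (mem_centralizer_iff.2 fun a ha => e.injective ?_), rfl⟩
  rw [map_mul, map_mul]
  exact mem_centralizer_iff.1 hy _ (hmap.le ⟨a, ha, rfl⟩)

theorem char_iff_equiv (e : G ≃* H) : centralizer (Cfsg.pCore p G : Set G) ≤ Cfsg.pCore p G ↔
    centralizer (Cfsg.pCore p H : Set H) ≤ Cfsg.pCore p H :=
  ⟨char_of_equiv e, char_of_equiv e.symm⟩

theorem core_eq_bot_of_char [Finite G] [hp : Fact p.Prime]
    (h : centralizer (Cfsg.pCore p G : Set G) ≤ Cfsg.pCore p G) : Cfsg.pPrimeCore p G = ⊥ := by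
  rw [← le_bot_iff, ← Cores.pCore_inf_pPrimeCore p]
  refine le_inf (le_trans ?_ h) le_rfl
  rw [← commutator_eq_bot_iff_le_centralizer]
  exact commutator_eq_bot_of_disjoint (disjoint_iff.mpr (by rw [inf_comm]; exact Cores.pCore_inf_pPrimeCore p))

/-- A surjection with kernel of order prime to `p` onto a group with trivial `p'`-core. -/
theorem iff_of_surjective [Finite G] [hp : Fact p.Prime] (f : G →* H) (hf : Function.Surjective f)
    (hker : (Nat.card f.ker).Coprime p) (hO : Cfsg.pPrimeCore p H = ⊥) :
    Cfsg.IsPConstrained p G ↔ centralizer (Cfsg.pCore p H : Set H) ≤ Cfsg.pCore p H := by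
  have hk : Cfsg.pPrimeCore p G = f.ker := by
    refine le_antisymm ?_ (Cores.le_pPrimeCore hker)
    rw [← Subgroup.map_eq_bot_iff, ← le_bot_iff, ← hO]
    exact Cores.map_pPrimeCore_le hf p
  exact iff_char.trans (char_iff_equiv ((QuotientGroup.quotientMulEquivOfEq hk).trans
    (QuotientGroup.quotientKerEquivOfSurjective f hf)))

theorem char_normal [Finite G] [hp : Fact p.Prime] (h : centralizer (Cfsg.pCore p G : Set G) ≤ Cfsg.pCore p G)
    (M : Subgroup G) [M.Normal] :
    centralizer (Cfsg.pCore p M : Set M) ≤ Cfsg.pCore p M := by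
  have hG : Cfsg.generalizedFittingSubgroup G ≤ Cfsg.pCore p G := by
    refine sup_le (le_trans ?_ h) ?_
    · exact layer_le_centralizer_pCore
    · rw [fitting_eq_pCore (core_eq_bot_of_char h)]
  have hM : Cfsg.generalizedFittingSubgroup M ≤ Cfsg.pCore p M := by
    rw [← map_le_map_iff_of_injective M.subtype_injective, Cores.map_pCore_subtype_eq_inf,
      ← genFitting_inf_eq_map]
    exact inf_le_inf_right M hG
  intro x hx
  refine hM (centralizer_genFitting_le ?_)
  exact centralizer_le (by exact hM) hx

theorem normal_constrained [Finite G] [hp : Fact p.Prime] (h : Cfsg.IsPConstrained p G) (M : Subgroup G)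
    [M.Normal] : Cfsg.IsPConstrained p M := by
  set q := QuotientGroup.mk' (Cfsg.pPrimeCore p G) with hq
  have hqs := QuotientGroup.mk'_surjective (Cfsg.pPrimeCore p G)
  have : (M.map q).Normal := Normal.map inferInstance q hqs
  have hc := char_normal (iff_char.1 h) (M.map q)
  refine (iff_of_surjective (q.subgroupMap M) (q.subgroupMap_surjective M) ?_
    (core_eq_bot_of_char hc)).2 hc
  refine (Cores.pPrimeCore_card_coprime (G := G) p).coprime_dvd_left ?_
  rw [← Subgroup.card_map_of_injective M.subtype_injective]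
  refine card_dvd_of_le ?_
  rintro _ ⟨x, hx, rfl⟩
  exact (QuotientGroup.eq_one_iff (x : G)).1 (congrArg Subtype.val (MonoidHom.mem_ker.1 hx))

theorem constrained_of_equiv [Finite G] [Finite H] [hp : Fact p.Prime] (e : G ≃* H)
    (h : Cfsg.IsPConstrained p G) : Cfsg.IsPConstrained p H := by
  refine (iff_of_surjective ((QuotientGroup.mk' (Cfsg.pPrimeCore p G)).comp e.symm.toMonoidHom)
    ((QuotientGroup.mk'_surjective _).comp e.symm.surjective) ?_ (Cores.pPrimeCore_quotient_self p)).2
    (iff_char.1 h)
  rw [← Subgroup.card_map_of_injective (f := e.symm.toMonoidHom) e.symm.injective]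
  refine (Cores.pPrimeCore_card_coprime (G := G) p).coprime_dvd_left (card_dvd_of_le ?_)
  rintro _ ⟨x, hx, rfl⟩
  exact (QuotientGroup.eq_one_iff (e.symm x)).1 (MonoidHom.mem_ker.1 hx)

theorem normalizer_constrained [Finite G] [hp : Fact p.Prime] (h : Cfsg.IsPConstrained p G) {P : Subgroup G}
    (hP : IsPGroup p P) : Cfsg.IsPConstrained p (normalizer (P : Set G)) := by
  set q := QuotientGroup.mk' (Cfsg.pPrimeCore p G) with hq
  have hc := iff_char.1 h
  obtain ⟨hO, hl⟩ := normalizer_of_characteristic hc (hP.map q)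
  have hchar : centralizer (Cfsg.pCore p (normalizer ((P.map q : Subgroup (G ⧸ Cfsg.pPrimeCore p G)) : Set (G ⧸ Cfsg.pPrimeCore p G))) : Set _) ≤
      Cfsg.pCore p (normalizer ((P.map q : Subgroup (G ⧸ Cfsg.pPrimeCore p G)) : Set (G ⧸ Cfsg.pPrimeCore p G))) := by
    have := centralizer_genFitting_le (G := ↥(normalizer ((P.map q : Subgroup (G ⧸ Cfsg.pPrimeCore p G)) : Set (G ⧸ Cfsg.pPrimeCore p G))))
    rwa [Cfsg.generalizedFittingSubgroup, hl, bot_sup_eq, fitting_eq_pCore hO] at this
  have e := MulEquiv.subgroupCongr (map_normalizer_eq hP (Cores.pPrimeCore_card_coprime (G := G) p))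
  refine (iff_of_surjective (e.toMonoidHom.comp (q.subgroupMap (normalizer (P : Set G))))
    (e.surjective.comp (q.subgroupMap_surjective _)) ?_ hO).2 hchar
  refine (Cores.pPrimeCore_card_coprime (G := G) p).coprime_dvd_left ?_
  rw [← Subgroup.card_map_of_injective (normalizer (P : Set G)).subtype_injective]
  refine card_dvd_of_le ?_
  rintro _ ⟨x, hx, rfl⟩
  have h1 : q.subgroupMap (normalizer (P : Set G)) x = 1 := e.injective ((MonoidHom.mem_ker.1 hx).trans e.map_one.symm)
  exact (QuotientGroup.eq_one_iff (x : G)).1 (congrArg Subtype.val h1)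

theorem centralizer_constrained [Finite G] [hp : Fact p.Prime] (h : Cfsg.IsPConstrained p G) {P : Subgroup G}
    (hP : IsPGroup p P) : Cfsg.IsPConstrained p (centralizer (P : Set G)) := by
  have := normal_constrained (normalizer_constrained h hP)
    ((centralizer (P : Set G)).subgroupOf (normalizer (P : Set G)))
  exact constrained_of_equiv (subgroupOfEquivOfLe (centralizer_le_normalizer _)) this

/-- `N(T)` is `p`-constrained as soon as `C(T)` is, for a `p`-group `T`. -/
theorem normalizer_of_centralizer [Finite G] [hp : Fact p.Prime] {T : Subgroup G} (hT : IsPGroup p T)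
    (h : Cfsg.IsPConstrained p (centralizer (T : Set G))) : Cfsg.IsPConstrained p (normalizer (T : Set G)) := by
  set N := normalizer (T : Set G) with hN
  set q := QuotientGroup.mk' (Cfsg.pPrimeCore p N) with hq
  have hqs := QuotientGroup.mk'_surjective (Cfsg.pPrimeCore p N)
  set T' := T.subgroupOf N with hT'
  have hT'p : IsPGroup p T' := hT.comap_subtype
  have : T'.Normal := normal_subgroupOf_of_le_normalizer le_rfl
  have hM : Cfsg.IsPConstrained p (centralizer (T' : Set N)) := by
    have hle : T ≤ N := le_normalizer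
    have e : centralizer (T' : Set N) = (centralizer (T : Set G)).subgroupOf N := by
      ext x
      simp only [mem_subgroupOf, mem_centralizer_iff, SetLike.mem_coe]
      exact ⟨fun hx t ht => congrArg Subtype.val (hx ⟨t, hle ht⟩ ht), fun hx t ht => Subtype.ext (hx t ht)⟩
    rw [e]
    exact constrained_of_equiv (subgroupOfEquivOfLe (centralizer_le_normalizer _)).symm h
  have : (centralizer (T' : Set N)).Normal := inferInstance
  have hmap := map_centralizer_eq hT'p (Cores.pPrimeCore_card_coprime (G := N) p)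
  have : ((centralizer (T' : Set N)).map q).Normal := Normal.map inferInstance q hqs
  have hO : Cfsg.pPrimeCore p ((centralizer (T' : Set N)).map q) = ⊥ := by
    rw [← Subgroup.map_eq_bot_iff_of_injective _ ((centralizer (T' : Set N)).map q).subtype_injective,
      Cores.map_pPrimeCore_subtype_eq_inf, Cores.pPrimeCore_quotient_self, bot_inf_eq]
  have hc : centralizer (Cfsg.pCore p ((centralizer (T' : Set N)).map q) : Set _) ≤
      Cfsg.pCore p ((centralizer (T' : Set N)).map q) := by
    refine (iff_of_surjective (q.subgroupMap _) (q.subgroupMap_surjective _) ?_ hO).1 hM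
    refine (Cores.pPrimeCore_card_coprime (G := N) p).coprime_dvd_left ?_
    rw [← Subgroup.card_map_of_injective (centralizer (T' : Set N)).subtype_injective]
    refine card_dvd_of_le ?_
    rintro _ ⟨x, hx, rfl⟩
    exact (QuotientGroup.eq_one_iff (x : N)).1 (congrArg Subtype.val (MonoidHom.mem_ker.1 hx))
  rw [iff_char]
  intro x hx
  have hle : T'.map q ≤ Cfsg.pCore p (N ⧸ Cfsg.pPrimeCore p N) :=
    (Subgroup.map_mono (Cores.le_pCore hT'p)).trans (Cores.map_pCore_le hqs p)
  have hxM : x ∈ (centralizer (T' : Set N)).map q := by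
    rw [hmap]; exact centralizer_le (by exact hle) hx
  have hxc : (⟨x, hxM⟩ : (centralizer (T' : Set N)).map q) ∈
      Cfsg.pCore p ((centralizer (T' : Set N)).map q) := by
    refine hc (mem_centralizer_iff.2 fun y hy => Subtype.ext ?_)
    exact mem_centralizer_iff.1 hx y
      (Cores.map_pCore_subtype_le p _ (mem_map_of_mem _ hy))
  exact Cores.map_pCore_subtype_le p _ (mem_map_of_mem _ hxc)

end Cfsg.Agent.InvChar.PConstrained
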