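import Mathlib
import Cfsg.Agent.Lib.Involutions.ThompsonTransfer
import Cfsg.Agent.S0848
set_option linter.all false

/-!
Groups with no subgroup of index two and a 2-central involution with dihedral centralizer of order
eight are simple, of order 168 or 360.
-/

set_option autoImplicit false

namespace Cfsg.Agent.InvChar.DihedralEightCentralizer

theorem d4_center : ∀ z : DihedralGroup 4, (∀ x, z * x = x * z) → z ≠ 1 → z = .r 2 := by decide
theorem d4_rot : ∀ x : DihedralGroup 4, x * x = 1 → x ≠ 1 → x * .r 1 = .r 1 * x → x = .r 2 := by decide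
theorem d4_gen : ∀ x : DihedralGroup 4, ∃ a b, a * a = 1 ∧ b * b = 1 ∧ x = a * b := by decide

variable {G : Type*} [Group G] [Finite G]

theorem simple_order (hG : ∀ H : Subgroup G, H.index ≠ 2) (α : G) (hα : orderOf α = 2) (S : Sylow 2 G)
    (hαc : ∀ s ∈ (S : Subgroup G), s * α = α * s)
    (e : ↥(Subgroup.centralizer ({α} : Set G)) ≃* DihedralGroup 4) :
    IsSimpleGroup G ∧ (Nat.card G = 168 ∨ Nat.card G = 360) := by
  classical
  haveI : Fact (Nat.Prime 2) := ⟨Nat.prime_two⟩
  haveI : Fintype G := Fintype.ofFinite G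
  set C := Subgroup.centralizer ({α} : Set G) with hC
  have hC8 : Nat.card ↥C = 8 := by rw [Nat.card_congr e.toEquiv, DihedralGroup.nat_card]
  have hSC : (S : Subgroup G) = C :=
    (S.3 (IsPGroup.of_card (n := 3) (by rw [hC8]; norm_num)) fun s hs => Subgroup.mem_centralizer_singleton_iff.2 (hαc s hs)).symm
  have hαC : α ∈ C := Subgroup.mem_centralizer_singleton_iff.2 rfl
  have hαm : α * α = 1 := by
    have := pow_orderOf_eq_one α
    rwa [hα, pow_two] at this
  have hα1 : α ≠ 1 := fun h => by rw [h, orderOf_one] at hα; omega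
  have heα : e ⟨α, hαC⟩ = .r 2 := d4_center _ (fun x => by
    obtain ⟨y, rfl⟩ := e.surjective x
    rw [← map_mul, ← map_mul]
    exact congrArg e (Subtype.ext (Subgroup.mem_centralizer_singleton_iff.1 y.2).symm))
    (fun h => hα1 (congrArg Subtype.val (e.injective (h.trans (map_one e).symm))))
  -- one class of involutions
  have hclass : ∀ t : G, orderOf t = 2 → ∃ g : G, g * t * g⁻¹ = α := by
    intro t ht
    obtain ⟨u, hu⟩ : ∃ u : ↥C, u = e.symm (.r 1) := ⟨_, rfl⟩
    have hu4 : orderOf u = 4 := by rw [hu, MulEquiv.orderOf_eq, DihedralGroup.orderOf_r_one]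
    have hM4 : Nat.card ↥(Subgroup.zpowers (u : G)) = 4 := by rw [Nat.card_zpowers, Subgroup.orderOf_coe, hu4]
    have hMC : Subgroup.zpowers (u : G) ≤ C := Subgroup.zpowers_le.2 u.2
    have hrel : (Subgroup.zpowers (u : G)).relIndex (S : Subgroup G) = 2 := by
      rw [hSC]
      have := ((Subgroup.zpowers (u : G)).subgroupOf C).card_mul_index
      rw [Nat.card_congr (Subgroup.subgroupOfEquivOfLe hMC).toEquiv, hM4, hC8] at this
      rw [Subgroup.relIndex]
      omega
    obtain ⟨g, hg⟩ := Involutions.ThompsonTransfer.exists_conj_mem hG S _ (hMC.trans hSC.ge) hrel t ht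
    refine ⟨g, ?_⟩
    have hgt : orderOf (g * t * g⁻¹) = 2 := by rw [show g * t * g⁻¹ = MulAut.conj g t from rfl, MulEquiv.orderOf_eq, ht]
    obtain ⟨y, hy⟩ : ∃ y : ↥C, (y : G) = g * t * g⁻¹ := ⟨⟨_, hMC hg⟩, rfl⟩
    have hcom : y * u = u * y := Subtype.ext (by
      obtain ⟨i, hi⟩ := Subgroup.mem_zpowers_iff.1 hg
      show (y : G) * u = u * y
      rw [hy, ← hi]
      exact (Commute.zpow_self (u : G) i).eq)
    have hyy : orderOf y = 2 := by rw [← Subgroup.orderOf_coe, hy, hgt]
    have hy2 : y * y = 1 := by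
      have := pow_orderOf_eq_one y
      rwa [hyy, pow_two] at this
    have hy1 : y ≠ 1 := fun h => by rw [h, orderOf_one] at hyy; omega
    have := d4_rot (e y) (by rw [← map_mul, hy2, map_one]) (fun h => hy1 (e.injective (h.trans (map_one e).symm)))
      (by
        have h := congrArg e hcom
        rwa [map_mul, map_mul, show e u = .r 1 by rw [hu, MulEquiv.apply_symm_apply]] at h)
    rw [← hy, e.injective (this.trans heα.symm)]
  -- centralizers of involutions have order eight
  have hcent : ∀ t : G, orderOf t = 2 → ∀ N : Subgroup G, N.Normal → Odd (Nat.card ↥N) →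
      ∀ x ∈ N, t * x = x * t → x = 1 := by
    intro t ht N hN hodd x hx hxt
    obtain ⟨g, hg⟩ := hclass t ht
    have hgx : g * x * g⁻¹ ∈ C := by
      refine Subgroup.mem_centralizer_singleton_iff.2 ?_
      rw [← hg]
      calc g * x * g⁻¹ * (g * t * g⁻¹) = g * (x * t) * g⁻¹ := by group
        _ = g * t * g⁻¹ * (g * x * g⁻¹) := by rw [← hxt]; group
    have h1 : orderOf (g * x * g⁻¹) ∣ 2 ^ 3 := by
      have := orderOf_dvd_natCard (⟨_, hgx⟩ : ↥C)
      rwa [← Subgroup.orderOf_coe, hC8] at this
    have h2 : orderOf (g * x * g⁻¹) ∣ Nat.card ↥N := by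
      have := orderOf_dvd_natCard (⟨_, hN.conj_mem x hx g⟩ : ↥N)
      rwa [← Subgroup.orderOf_coe] at this
    have h3 : orderOf (g * x * g⁻¹) = 1 :=
      Nat.eq_one_of_dvd_coprimes ((Nat.coprime_two_left.2 hodd).pow_left 3) h1 h2
    exact conj_eq_one_iff.1 (orderOf_eq_one_iff.1 h3)
  have hinv : ∀ t : G, orderOf t = 2 → ∀ N : Subgroup G, N.Normal → Odd (Nat.card ↥N) →
      ∀ x ∈ N, t * x * t⁻¹ = x⁻¹ := by
    intro t ht N hN hodd x hx
    have ht2 : t * t = 1 := by
      have := pow_orderOf_eq_one t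
      rwa [ht, pow_two] at this
    have key := MonoidHom.FixedPointFree.coe_eq_inv_of_involutive
      (φ := (MulAut.conjNormal t : MulAut ↥N))
      (fun y hy => by
        have h' : t * (y : G) * t⁻¹ = y := congrArg Subtype.val hy
        exact Subtype.ext (hcent t ht N hN hodd y y.2 (mul_inv_eq_iff_eq_mul.1 h')))
      (fun y => Subtype.ext (by
        show t * (t * (y : G) * t⁻¹) * t⁻¹ = y
        calc _ = (t * t) * y * (t * t)⁻¹ := by group
          _ = _ := by rw [ht2]; group))
    exact congrArg Subtype.val (congrFun key ⟨x, hx⟩)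
  obtain ⟨v, hv⟩ : ∃ v : ↥C, v = e.symm (.sr 0) := ⟨_, rfl⟩
  have hv2 : orderOf (v : G) = 2 := by rw [Subgroup.orderOf_coe, hv, MulEquiv.orderOf_eq, DihedralGroup.orderOf_sr]
  have hαv : orderOf (α * (v : G)) = 2 := by
    rw [show α * (v : G) = ((⟨α, hαC⟩ * v : ↥C) : G) from rfl, Subgroup.orderOf_coe, ← MulEquiv.orderOf_eq e,
      map_mul, heα, hv, MulEquiv.apply_symm_apply]
    exact orderOf_eq_prime (by decide) (by decide)
  have hodd : ∀ N : Subgroup G, N.Normal → Odd (Nat.card ↥N) → N = ⊥ := by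
    intro N hN hodd
    rw [eq_bot_iff]
    intro x hx
    have e1 := hinv _ hαv N hN hodd x hx
    have e2 : (α * (v : G)) * x * (α * (v : G))⁻¹ = x := by
      calc (α * (v : G)) * x * (α * (v : G))⁻¹ = α * ((v : G) * x * (v : G)⁻¹) * α⁻¹ := by group
        _ = x := by rw [hinv _ hv2 N hN hodd x hx, hinv _ hα N hN hodd x⁻¹ (inv_mem hx), inv_inv]
    have hx2 : x ^ 2 = 1 := by
      rw [pow_two]
      exact mul_eq_one_iff_eq_inv.2 (e2.symm.trans e1)
    have h2 : orderOf x ∣ Nat.card ↥N := by
      have := orderOf_dvd_natCard (⟨x, hx⟩ : ↥N)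
      rwa [← Subgroup.orderOf_coe] at this
    exact Subgroup.mem_bot.2 (orderOf_eq_one_iff.1
      (Nat.eq_one_of_dvd_coprimes (Nat.coprime_two_left.2 hodd) (orderOf_dvd_of_pow_eq_one hx2) h2))
  have hsimple : IsSimpleGroup G := by
    haveI : Nontrivial G := ⟨⟨α, 1, hα1⟩⟩
    refine ⟨fun N hN => ?_⟩
    rcases Nat.even_or_odd (Nat.card ↥N) with hev | ho
    · right
      obtain ⟨⟨s, hs⟩, hso⟩ := exists_prime_orderOf_dvd_card' (G := ↥N) 2 (even_iff_two_dvd.1 hev)
      rw [← Subgroup.orderOf_coe] at hso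
      have hinvol : ∀ t : G, orderOf t = 2 → t ∈ N := by
        intro t ht
        obtain ⟨g, hg⟩ := hclass s hso
        obtain ⟨k, hk⟩ := hclass t ht
        have e1 : t = k⁻¹ * g * s * (k⁻¹ * g)⁻¹ := by
          calc t = k⁻¹ * (k * t * k⁻¹) * k := by group
            _ = k⁻¹ * (g * s * g⁻¹) * k := by rw [hk, hg]
            _ = _ := by group
        rw [e1]
        exact hN.conj_mem s hs _
      have hSN : (S : Subgroup G) ≤ N := by
        intro x hx
        rw [hSC] at hx
        obtain ⟨a, b, ha, hb, hab⟩ := d4_gen (e ⟨x, hx⟩)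
        have hmem : ∀ a : DihedralGroup 4, a * a = 1 → ((e.symm a : ↥C) : G) ∈ N := by
          intro a ha
          rcases eq_or_ne a 1 with rfl | ha1
          · rw [map_one]; exact one_mem N
          · refine hinvol _ ?_
            rw [Subgroup.orderOf_coe, MulEquiv.orderOf_eq]
            exact orderOf_eq_prime (by rw [pow_two, ha]) ha1
        have hx' : x = ((e.symm a : ↥C) : G) * ((e.symm b : ↥C) : G) := by
          rw [← Subgroup.coe_mul, ← map_mul, ← hab, MulEquiv.symm_apply_apply]
        rw [hx']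
        exact mul_mem (hmem a ha) (hmem b hb)
      have hnorm : Subgroup.normalizer ((S : Subgroup G) : Set G) ≤ N := by
        intro g hg
        refine hSN ?_
        rw [hSC] at hg ⊢
        refine Subgroup.mem_centralizer_singleton_iff.2 ?_
        have hgα : g * α * g⁻¹ ∈ C := (Subgroup.mem_normalizer_iff.1 hg α).1 hαC
        have hz : e ⟨_, hgα⟩ = .r 2 := d4_center _ (fun z => by
          obtain ⟨y, rfl⟩ := e.surjective z
          rw [← map_mul, ← map_mul]
          refine congrArg e (Subtype.ext ?_)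
          have hy : g⁻¹ * (y : G) * g ∈ C := by
            have := (Subgroup.mem_normalizer_iff.1 (inv_mem hg) y).1 y.2
            simpa using this
          have hy' := Subgroup.mem_centralizer_singleton_iff.1 hy
          show g * α * g⁻¹ * (y : G) = (y : G) * (g * α * g⁻¹)
          calc g * α * g⁻¹ * (y : G) = g * (α * (g⁻¹ * (y : G) * g)) * g⁻¹ := by group
            _ = g * (g⁻¹ * (y : G) * g * α) * g⁻¹ := by rw [hy']
            _ = _ := by group)
          (fun h => hα1 (conj_eq_one_iff.1 (congrArg Subtype.val (e.injective (h.trans (map_one e).symm)))))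
        exact mul_inv_eq_iff_eq_mul.1 (congrArg Subtype.val (e.injective (hz.trans heα.symm)))
      haveI := hN
      have := Sylow.normalizer_sup_eq_top' S hSN
      exact top_le_iff.1 (this.ge.trans (sup_le hnorm le_rfl))
    · exact Or.inl (hodd N hN ho)
  refine ⟨hsimple, ?_⟩
  rcases (inferInstance : (commutator G).Normal).eq_bot_or_eq_top with h | h
  · exfalso
    have hab : ∀ a b : G, a * b = b * a := fun a b => by
      have := Subgroup.commutator_mem_commutator (Subgroup.mem_top a) (Subgroup.mem_top b)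
      rw [← commutator_def, h, Subgroup.mem_bot] at this
      exact commutatorElement_eq_one_iff_mul_comm.1 this
    have hnc : ¬ ∀ a b : DihedralGroup 4, a * b = b * a := by decide
    refine hnc fun a b => ?_
    obtain ⟨x, rfl⟩ := e.surjective a
    obtain ⟨y, rfl⟩ := e.surjective b
    rw [← map_mul, ← map_mul]
    exact congrArg e (Subtype.ext (hab _ _))
  · exact S0848.result h α hα e

end Cfsg.Agent.InvChar.DihedralEightCentralizer
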