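import Mathlib
import Cfsg.Agent.Lib.Characters.Counting
import Cfsg.Agent.Lib.ZStar.KleinFour

/-!
An involution outside a subgroup of index two whose centralizer has order four: the central involution
has at most four conjugates.
-/

set_option linter.all false

namespace Cfsg.Agent.InvChar.FourCentralizerCount

open Subgroup
open scoped ComplexConjugate
open Cfsg.Agent.Characters

universe u

variable {G : Type u} [Group G]

/-- The hypotheses. -/
structure Hyp (x z : G) (K : Subgroup G) : Prop where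
  hx : orderOf x = 2
  hz : orderOf z = 2
  hxz : Commute x z
  hK : K.index = 2
  hxK : x ∉ K
  hzK : z ∈ K
  hC4 : Nat.card ↥(centralizer ({x} : Set G)) = 4
  hCK : ∀ c ∈ K, Commute c x → c = 1 ∨ c = z
  hswap : ∃ g : G, g * z * g⁻¹ = z ∧ g * x * g⁻¹ = x * z

variable {x z : G} {K : Subgroup G}

/-- The number of pairs of conjugates of `x` with product `h`. -/
noncomputable def cnt (x h : G) : ℕ := Nat.card {p : G × G // p.1 * x * p.1⁻¹ * (p.2 * x * p.2⁻¹) = h}

variable [Finite G] (hyp : Hyp x z K)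

include hyp in
theorem xx : x * x = 1 := by rw [← pow_two, ← hyp.hx, pow_orderOf_eq_one]

include hyp in
theorem zz : z * z = 1 := by rw [← pow_two, ← hyp.hz, pow_orderOf_eq_one]

include hyp in
theorem z_ne : z ≠ 1 := fun e => by
  have := hyp.hz
  rw [e, orderOf_one] at this; norm_num at this

theorem card_fibre {y h : G} {a₀ : G} (ha : a₀ * y * a₀⁻¹ = h) :
    Nat.card {a : G // a * y * a⁻¹ = h} = Nat.card ↥(centralizer ({h} : Set G)) := by
  refine Nat.card_congr
    { toFun := fun a => ⟨a.1 * a₀⁻¹, mem_centralizer_singleton_iff.2 ?_⟩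
      invFun := fun c => ⟨c.1 * a₀, ?_⟩
      left_inv := fun a => Subtype.ext (inv_mul_cancel_right _ _)
      right_inv := fun c => Subtype.ext (mul_inv_cancel_right _ _) }
  · obtain ⟨a, e⟩ := a
    show a * a₀⁻¹ * h = h * (a * a₀⁻¹)
    conv_lhs => rw [← ha]
    conv_rhs => rw [← e]
    group
  · calc (c : G) * a₀ * y * ((c : G) * a₀)⁻¹ = c * (a₀ * y * a₀⁻¹) * (c : G)⁻¹ := by group
      _ = h := by rw [ha, mem_centralizer_singleton_iff.1 c.2, mul_inv_cancel_right]

include hyp in
theorem fibre_le (u : G) : Nat.card {b : G // b * x * b⁻¹ = u} ≤ 4 := by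
  rcases isEmpty_or_nonempty {b : G // b * x * b⁻¹ = u} with h | ⟨⟨b, hb⟩⟩
  · simp
  · rw [card_fibre hb, ← hyp.hC4]
    refine le_of_eq (Nat.card_congr
      { toFun := fun c => ⟨b⁻¹ * c * b, mem_centralizer_singleton_iff.2 ?_⟩
        invFun := fun c => ⟨b * c * b⁻¹, mem_centralizer_singleton_iff.2 ?_⟩
        left_inv := fun c => Subtype.ext (by group)
        right_inv := fun c => Subtype.ext (by group) })
    · have hc := mem_centralizer_singleton_iff.1 c.2
      calc b⁻¹ * c * b * x = b⁻¹ * (c * (b * x * b⁻¹)) * b := by group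
        _ = b⁻¹ * ((b * x * b⁻¹) * c) * b := by rw [hb, hc]
        _ = _ := by group
    · have hc := mem_centralizer_singleton_iff.1 c.2
      calc b * c * b⁻¹ * u = b * (c * x) * b⁻¹ := by rw [← hb]; group
        _ = b * (x * c) * b⁻¹ := by rw [hc]
        _ = _ := by rw [← hb]; group

theorem cnt_eq_sigma [Fintype G] (x h : G) :
    cnt x h = ∑ a : G, Nat.card {b : G // b * x * b⁻¹ = (a * x * a⁻¹)⁻¹ * h} := by
  rw [← Nat.card_sigma, cnt]
  exact Nat.card_congr
    { toFun := fun p => ⟨p.1.1, p.1.2, eq_inv_mul_of_mul_eq p.2⟩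
      invFun := fun q => ⟨(q.1, q.2.1), by rw [q.2.2, mul_inv_cancel_left]⟩
      left_inv := fun p => rfl
      right_inv := fun q => rfl }

include hyp in
theorem mem_L {a b h : G} (hzh : z ∈ zpowers h) (e : a * x * a⁻¹ * (b * x * b⁻¹) = h) :
    a ∈ centralizer ({z} : Set G) := by
  set u := a * x * a⁻¹ with hu
  set v := b * x * b⁻¹ with hv
  have huu : u * u = 1 := by rw [hu, show a * x * a⁻¹ * (a * x * a⁻¹) = a * (x * x) * a⁻¹ by group, xx hyp]; group
  have hvv : v * v = 1 := by rw [hv, show b * x * b⁻¹ * (b * x * b⁻¹) = b * (x * x) * b⁻¹ by group, xx hyp]; group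
  have hinv : u * h * u⁻¹ = h⁻¹ := by
    have e1 : (u * v)⁻¹ = v * u := inv_eq_of_mul_eq_one_right (by
      rw [mul_assoc, ← mul_assoc v v u, hvv, one_mul, huu])
    calc u * h * u⁻¹ = u * (u * v) * u := by rw [e, inv_eq_of_mul_eq_one_right huu]
      _ = (u * u) * (v * u) := by group
      _ = h⁻¹ := by rw [huu, one_mul, ← e1, e]
  obtain ⟨i, hi⟩ := hzh
  have huz : u * z * u⁻¹ = z := by
    rw [← hi, ← conj_zpow, hinv, inv_zpow]
    show (h ^ i)⁻¹ = h ^ i
    exact inv_eq_of_mul_eq_one_right (by rw [show h ^ i = z from hi, zz hyp])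
  have hK := normal_of_index_eq_two hyp.hK
  rw [mem_centralizer_singleton_iff]
  have hc : Commute (a⁻¹ * z * a) x := by
    show a⁻¹ * z * a * x = x * (a⁻¹ * z * a)
    calc a⁻¹ * z * a * x = a⁻¹ * (z * u) * a := by rw [hu]; group
      _ = a⁻¹ * (u * z) * a := by rw [mul_inv_eq_iff_eq_mul.1 huz]
      _ = _ := by rw [hu]; group
  have hm : a⁻¹ * z * a ∈ K := by simpa using hK.conj_mem z hyp.hzK a⁻¹
  rcases hyp.hCK _ hm hc with e1 | e1
  · exact absurd (by rw [show z = a * (a⁻¹ * z * a) * a⁻¹ by group, e1]; group) (z_ne hyp)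
  · calc a * z = a * (a⁻¹ * z * a) := by rw [e1]
      _ = z * a := by group

include hyp in
theorem cnt_le [Fintype G] {h : G} (hzh : z ∈ zpowers h) :
    cnt x h ≤ 4 * Nat.card ↥(centralizer ({z} : Set G)) := by
  classical
  rw [cnt_eq_sigma, ← Finset.sum_filter_add_sum_filter_not Finset.univ (fun a => a ∈ centralizer ({z} : Set G))]
  have h0 : ∑ a ∈ Finset.univ.filter (fun a => ¬ a ∈ centralizer ({z} : Set G)),
      Nat.card {b : G // b * x * b⁻¹ = (a * x * a⁻¹)⁻¹ * h} = 0 := by
    refine Finset.sum_eq_zero fun a ha => Nat.card_eq_zero.2 (Or.inl ⟨fun b => ?_⟩)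
    exact (Finset.mem_filter.1 ha).2 (mem_L hyp hzh (b := b.1) (by rw [b.2, mul_inv_cancel_left]))
  rw [h0, add_zero]
  refine le_trans (Finset.sum_le_card_nsmul _ _ 4 fun a _ => fibre_le hyp _) ?_
  rw [smul_eq_mul, mul_comm, Nat.card_eq_fintype_card, Fintype.card_subtype]

include hyp in
theorem cnt_z [Fintype G] : cnt x z = 4 * Nat.card ↥(centralizer ({z} : Set G)) := by
  classical
  refine le_antisymm (cnt_le hyp (mem_zpowers z)) ?_
  rw [cnt_eq_sigma]
  obtain ⟨g, hgz, hgx⟩ := hyp.hswap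
  have key : ∀ a ∈ centralizer ({z} : Set G), Nat.card {b : G // b * x * b⁻¹ = (a * x * a⁻¹)⁻¹ * z} = 4 := by
    intro a ha
    have e : (a * g) * x * (a * g)⁻¹ = (a * x * a⁻¹)⁻¹ * z := by
      rw [show (a * g) * x * (a * g)⁻¹ = a * (g * x * g⁻¹) * a⁻¹ by group, hgx]
      have hxi : x⁻¹ = x := inv_eq_of_mul_eq_one_right (xx hyp)
      calc a * (x * z) * a⁻¹ = (a * x * a⁻¹) * (a * z * a⁻¹) := by group
        _ = (a * x * a⁻¹)⁻¹ * z := by
          rw [mem_centralizer_singleton_iff.1 ha, mul_inv_cancel_right]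
          simp [hxi, mul_assoc]
    refine le_antisymm (fibre_le hyp _) ?_
    rw [card_fibre e, ← hyp.hC4]
    refine le_of_eq (Nat.card_congr
      { toFun := fun c => ⟨(a * g) * c * (a * g)⁻¹, mem_centralizer_singleton_iff.2 ?_⟩
        invFun := fun c => ⟨(a * g)⁻¹ * c * (a * g), mem_centralizer_singleton_iff.2 ?_⟩
        left_inv := fun c => Subtype.ext (by group)
        right_inv := fun c => Subtype.ext (by group) })
    · have hc := mem_centralizer_singleton_iff.1 c.2
      calc (a * g) * c * (a * g)⁻¹ * ((a * x * a⁻¹)⁻¹ * z) = (a * g) * (c * x) * (a * g)⁻¹ := by rw [← e]; group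
        _ = (a * g) * (x * c) * (a * g)⁻¹ := by rw [hc]
        _ = _ := by rw [← e]; group
    · have hc := mem_centralizer_singleton_iff.1 c.2
      calc (a * g)⁻¹ * c * (a * g) * x = (a * g)⁻¹ * (c * ((a * g) * x * (a * g)⁻¹)) * (a * g) := by group
        _ = (a * g)⁻¹ * (((a * g) * x * (a * g)⁻¹) * c) * (a * g) := by rw [e, hc]
        _ = _ := by group
  refine le_trans ?_ (Finset.sum_le_sum_of_subset (Finset.subset_univ (Finset.univ.filter fun a => a ∈ centralizer ({z} : Set G))))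
  rw [Finset.sum_congr rfl fun a ha => key a (Finset.mem_filter.1 ha).2, Finset.sum_const, smul_eq_mul, mul_comm,
    Nat.card_eq_fintype_card, Fintype.card_subtype]

/-- The class multiplication formula. -/
theorem cnt_formula [Fintype G] [Fintype (Cfsg.IrrCharacter G)] (x h : G) :
    (cnt x h : ℂ) = (Nat.card G : ℂ) * ∑ χ : Cfsg.IrrCharacter G,
      conj ((χ : G → ℂ) h) * (χ : G → ℂ) x * (χ : G → ℂ) x / (χ : G → ℂ) 1 := by
  classical
  have e1 : cnt x h = ∑ g : G, Nat.card {a : G // a * (x * (g * x * g⁻¹)) * a⁻¹ = h} := by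
    rw [← Nat.card_sigma, cnt]
    exact Nat.card_congr
      { toFun := fun p => ⟨p.1.1⁻¹ * p.1.2, p.1.1, by
          have e := p.2
          rw [show p.1.1 * (x * (p.1.1⁻¹ * p.1.2 * x * (p.1.1⁻¹ * p.1.2)⁻¹)) * p.1.1⁻¹ =
            p.1.1 * x * p.1.1⁻¹ * (p.1.2 * x * p.1.2⁻¹) by group]
          exact e⟩
        invFun := fun q => ⟨(q.2.1, q.2.1 * q.1), by
          show q.2.1 * x * q.2.1⁻¹ * ((q.2.1 * q.1) * x * (q.2.1 * q.1)⁻¹) = h
          have e := q.2.2
          rw [show q.2.1 * x * q.2.1⁻¹ * ((q.2.1 * q.1) * x * (q.2.1 * q.1)⁻¹) =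
            q.2.1 * (x * (q.1 * x * q.1⁻¹)) * q.2.1⁻¹ by group]
          exact e⟩
        left_inv := fun p => Subtype.ext (Prod.ext rfl (mul_inv_cancel_left _ _))
        right_inv := by
          rintro ⟨g, a, ha⟩
          have : a⁻¹ * (a * g) = g := inv_mul_cancel_left a g
          exact Sigma.subtype_ext this rfl }
  have e2 : ∀ g : G, (Nat.card {a : G // a * (x * (g * x * g⁻¹)) * a⁻¹ = h} : ℂ) =
      ∑ χ : Cfsg.IrrCharacter G, conj ((χ : G → ℂ) h) * (χ : G → ℂ) (x * (g * x * g⁻¹)) := by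
    intro g
    rw [Finset.sum_congr rfl fun χ _ => mul_comm _ _, second_orthogonality]
    split_ifs with hc
    · obtain ⟨a₀, ha₀⟩ := isConj_iff.1 hc
      rw [card_fibre ha₀]
    · rw [Nat.card_eq_zero.2 (Or.inl ⟨fun a => hc (isConj_iff.2 ⟨a.1, a.2⟩)⟩), Nat.cast_zero]
  rw [e1, Nat.cast_sum, Finset.sum_congr rfl fun g _ => e2 g, Finset.sum_comm, Finset.mul_sum]
  refine Finset.sum_congr rfl fun χ _ => ?_
  rw [← Finset.mul_sum, sum_mul_conjugates χ.2]
  ring

include hyp in
/-- The conjugates of `z` number at most four. -/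
theorem index_le (hodd : Odd (centralizer ({z} : Set G)).index) :
    (centralizer ({z} : Set G)).index ≤ 4 := by
  classical
  haveI := Fintype.ofFinite G
  haveI := Fintype.ofFinite (Cfsg.IrrCharacter G)
  haveI := normal_of_index_eq_two hyp.hK
  set L := centralizer ({z} : Set G) with hL
  set n := L.index with hn
  have hxx := xx hyp
  have hzz := zz hyp
  let lam : G →* ℂˣ :=
    { toFun := fun g => if g ∈ K then 1 else -1
      map_one' := if_pos K.one_mem
      map_mul' := fun a b => by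
        have := Subgroup.mul_mem_iff_of_index_two hyp.hK (a := a) (b := b)
        by_cases ha : a ∈ K <;> by_cases hb : b ∈ K <;> simp [this, ha, hb] }
  let sgn : Cfsg.IrrCharacter G := ⟨fun g => (lam g : ℂ), isIrrCharacter_linear lam⟩
  have hsK : ∀ g ∈ K, (sgn : G → ℂ) g = 1 := fun g hg => by simp [sgn, lam, hg]
  have hsx : (sgn : G → ℂ) x = -1 := by simp [sgn, lam, hyp.hxK]
  -- values at `x`
  have hint : ∀ χ : Cfsg.IrrCharacter G, ∃ a : ℤ, (χ : G → ℂ) x = (a : ℂ) := fun χ =>
    ZStar.KleinFour.exists_int_value (irr_isCharacter χ) hxx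
  choose A hA using hint
  have hne : trivIrr G ≠ sgn := fun e => by
    rw [← e] at hsx
    change (1 : ℂ) = -1 at hsx
    norm_num at hsx
  have hA1 : A (trivIrr G) = 1 := by
    have e := hA (trivIrr G)
    change (1 : ℂ) = _ at e
    exact_mod_cast e.symm
  have hAs : A sgn = -1 := by
    have e := hA sgn
    rw [hsx] at e
    exact_mod_cast e.symm
  have hsq : ∑ χ : Cfsg.IrrCharacter G, A χ * A χ = 4 := by
    have h := second_orthogonality x x
    rw [if_pos (IsConj.refl x), hyp.hC4] at h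
    simp only [hA, map_intCast] at h
    exact_mod_cast h
  set R : Finset (Cfsg.IrrCharacter G) := (Finset.univ.filter fun χ => A χ ≠ 0) \ {trivIrr G, sgn} with hR
  have hsub : ({trivIrr G, sgn} : Finset (Cfsg.IrrCharacter G)) ⊆ Finset.univ.filter fun χ => A χ ≠ 0 := by
    intro χ hχ
    simp only [Finset.mem_insert, Finset.mem_singleton] at hχ
    rcases hχ with rfl | rfl <;> simp [hA1, hAs]
  have hR2 : ∑ χ ∈ R, A χ * A χ = 2 := by
    have h1 : ∑ χ ∈ Finset.univ.filter (fun χ => A χ ≠ 0), A χ * A χ = 4 := by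
      rw [Finset.sum_filter_of_ne, hsq]
      intro χ _ h e
      rw [e] at h; simp at h
    rw [← Finset.sum_sdiff hsub, Finset.sum_pair hne, hA1, hAs] at h1
    rw [hR]; linarith
  have hge : ∀ χ ∈ R, (1 : ℤ) ≤ A χ * A χ := fun χ hχ => by
    have := (Finset.mem_filter.1 (Finset.mem_sdiff.1 hχ).1).2
    rcases lt_or_gt_of_ne this with h | h <;> nlinarith
  have hcard : R.card ≤ 2 := by
    have := Finset.card_nsmul_le_sum R (fun χ => A χ * A χ) 1 hge
    rw [nsmul_eq_mul, mul_one, hR2] at this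
    exact_mod_cast this
  obtain ⟨θ, θ', hθne, hRe⟩ : ∃ θ θ', θ ≠ θ' ∧ R = {θ, θ'} := by
    rcases Nat.lt_or_ge R.card 2 with h | h
    · exfalso
      interval_cases hc : R.card
      · rw [Finset.card_eq_zero.1 hc] at hR2; simp at hR2
      · obtain ⟨χ, hχ⟩ := Finset.card_eq_one.1 hc
        rw [hχ, Finset.sum_singleton] at hR2
        rcases le_or_gt (|A χ|) 1 with h1 | h1
        · rw [← abs_mul_abs_self] at hR2; nlinarith [abs_nonneg (A χ)]
        · rw [← abs_mul_abs_self] at hR2; nlinarith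
    · exact Finset.card_eq_two.1 (le_antisymm hcard h)
  have g1 : (1 : ℤ) ≤ A θ * A θ := hge θ (by simp [hRe])
  have g2 : (1 : ℤ) ≤ A θ' * A θ' := hge θ' (by simp [hRe])
  have hs2 : A θ * A θ + A θ' * A θ' = 2 := by
    rw [← hR2, hRe, Finset.sum_pair hθne]
  have hα : A θ * A θ = 1 := by linarith
  have hβ : A θ' * A θ' = 1 := by linarith
  have expand : ∀ F : Cfsg.IrrCharacter G → ℂ, (∀ χ, A χ = 0 → F χ = 0) →
      ∑ χ, F χ = F (trivIrr G) + F sgn + (F θ + F θ') := by
    intro F hF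
    rw [← Finset.sum_filter_of_ne (p := fun χ => A χ ≠ 0) (fun χ _ h e => h (hF χ e)),
      ← Finset.sum_sdiff hsub, Finset.sum_pair hne, ← hR, hRe, Finset.sum_pair hθne]
    ring
  have hnotx : ∀ y ∈ K, ¬ IsConj y x := fun y hy hc => by
    obtain ⟨g, hg⟩ := isConj_iff.1 hc
    exact hyp.hxK (hg ▸ (inferInstance : K.Normal).conj_mem y hy g)
  have hcol : ∀ y ∈ K, (A θ : ℂ) * (θ : G → ℂ) y + (A θ' : ℂ) * (θ' : G → ℂ) y = 0 := by
    intro y hy
    have h := second_orthogonality y x
    rw [if_neg (hnotx y hy), expand (fun χ => (χ : G → ℂ) y * conj ((χ : G → ℂ) x)) (fun χ e => by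
      show _ * conj _ = 0
      rw [hA, e]; simp)] at h
    simp only [hA, map_intCast, hA1, hAs, hsK y hy] at h
    change 1 * ((1 : ℤ) : ℂ) + 1 * ((-1 : ℤ) : ℂ) + _ = 0 at h
    push_cast at h
    linear_combination h
  obtain ⟨d, hd0, hd⟩ := irr_one_pos θ.2
  obtain ⟨d', hd0', hd'⟩ := irr_one_pos θ'.2
  have hopp : A θ' = -A θ := by
    have h := hcol 1 K.one_mem
    rw [hd, hd'] at h
    have h' : A θ * (d : ℤ) + A θ' * (d' : ℤ) = 0 := by exact_mod_cast h
    rcases mul_self_eq_mul_self_iff.1 (hβ.trans hα.symm) with e | e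
    · exfalso
      rw [e, ← mul_add] at h'
      rcases mul_eq_zero.1 h' with h0 | h0
      · rw [h0] at hα; norm_num at hα
      · omega
    · exact e
  have hval : ∀ y ∈ K, (θ' : G → ℂ) y = (θ : G → ℂ) y := by
    intro y hy
    have h := hcol y hy
    rw [hopp] at h
    push_cast at h
    have hα0 : (A θ : ℂ) ≠ 0 := by
      intro e
      have : A θ = 0 := by exact_mod_cast e
      rw [this] at hα; norm_num at hα
    have : (A θ : ℂ) * ((θ : G → ℂ) y - (θ' : G → ℂ) y) = 0 := by linear_combination h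
    exact (sub_eq_zero.1 ((mul_eq_zero.1 this).resolve_left hα0)).symm
  have hd0C : (d : ℂ) ≠ 0 := by exact_mod_cast hd0.ne'
  have hform : ∀ h ∈ K, (cnt x h : ℂ) * d = 2 * (Nat.card G : ℂ) * ((d : ℂ) + conj ((θ : G → ℂ) h)) := by
    intro h hh
    rw [cnt_formula, expand _ (fun χ e => by rw [hA, e]; simp)]
    simp only [hA, hA1, hAs, hsK h hh, hsK 1 K.one_mem, hval h hh, hval 1 K.one_mem, hd]
    change (Nat.card G : ℂ) * (conj (1 : ℂ) * ((1 : ℤ) : ℂ) * ((1 : ℤ) : ℂ) / 1 + conj (1 : ℂ) * ((-1 : ℤ) : ℂ) * ((-1 : ℤ) : ℂ) / 1 + _) * _ = _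
    rw [map_one, hopp]
    have hα' : (A θ : ℂ) * A θ = 1 := by exact_mod_cast hα
    push_cast
    field_simp
    linear_combination (2 * conj ((θ : G → ℂ) h)) * hα'
  obtain ⟨c, hc⟩ := ZStar.KleinFour.exists_int_value (irr_isCharacter θ) hzz
  have hcard2 : Nat.card G = Nat.card ↥L * n := L.card_mul_index.symm
  have hrel : (n : ℤ) * ((d : ℤ) + c) = 2 * d := by
    have h := hform z hyp.hzK
    rw [cnt_z hyp, hc, map_intCast, hcard2] at h
    push_cast at h
    have hL0 : (Nat.card ↥L : ℂ) ≠ 0 := by exact_mod_cast Nat.card_pos.ne'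
    have : (n : ℂ) * ((d : ℂ) + c) = 2 * d := mul_left_cancel₀ hL0 (by linear_combination (-1 / 2 : ℂ) * h)
    exact_mod_cast this
  by_contra hbig
  push Not at hbig
  have hn5 : (5 : ℤ) ≤ n := by exact_mod_cast hbig
  have hcneg : c < 0 := by nlinarith
  have hcbound : (n : ℤ) - 2 ≤ -c := by
    have h1 : (n : ℤ) ∣ 2 * (d : ℤ) := ⟨_, hrel.symm⟩
    have hcop : IsCoprime (n : ℤ) 2 := by
      obtain ⟨k, hk⟩ := hodd
      refine ⟨1, -(k : ℤ), ?_⟩
      rw [hk]; push_cast; ring
    obtain ⟨m, hm⟩ := hcop.dvd_of_dvd_mul_left h1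
    have hm0 : 0 < m := by nlinarith
    have : c = m * (2 - n) := by
      rw [hm] at hrel
      have : (n : ℤ) * (m * n + c) = n * (2 * m) := by linarith
      have := mul_left_cancel₀ (by omega : (n : ℤ) ≠ 0) this
      linarith
    rw [this]; nlinarith
  -- the elements with large values
  have hphi : ∀ l ∈ L, ∀ h, (h = x * (l * x * l⁻¹) ∨ h = x * (l * x * l⁻¹) * z) → z ∈ zpowers h →
      h ∈ K ∧ (c : ℝ) ^ 2 ≤ Complex.normSq ((θ : G → ℂ) h) := by
    intro l hl h hh hzh
    have hKx : x * (l * x * l⁻¹) ∈ K := (Subgroup.mul_mem_iff_of_index_two hyp.hK).2 (iff_of_false hyp.hxK (fun e => hyp.hxK (by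
      have := (inferInstance : K.Normal).conj_mem _ e l⁻¹
      simpa [mul_assoc] using this)))
    have hhK : h ∈ K := by rcases hh with rfl | rfl; exacts [hKx, K.mul_mem hKx hyp.hzK]
    refine ⟨hhK, ?_⟩
    have hle := cnt_le hyp hzh
    have h1 := hform h hhK
    have h2 := hform z hyp.hzK
    rw [hc, map_intCast, cnt_z hyp] at h2
    set t : ℝ := (cnt x h : ℝ) * d / (2 * Nat.card G) - d with ht
    have hG0 : (Nat.card G : ℝ) ≠ 0 := by exact_mod_cast Nat.card_pos.ne'
    have hGC : (Nat.card G : ℂ) ≠ 0 := by exact_mod_cast Nat.card_pos.ne'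
    have hconj : conj ((θ : G → ℂ) h) = (t : ℂ) := by
      rw [ht]; push_cast; field_simp; linear_combination -h1
    have hnorm : Complex.normSq ((θ : G → ℂ) h) = t ^ 2 := by
      rw [← Complex.normSq_conj, hconj, Complex.normSq_ofReal, sq]
    have hcR : (c : ℝ) = (4 * Nat.card ↥L : ℕ) * d / (2 * Nat.card G) - d := by
      have h2' : ((4 * Nat.card ↥L : ℕ) : ℝ) * d = 2 * (Nat.card G : ℝ) * ((d : ℝ) + c) := by exact_mod_cast h2
      rw [h2']; field_simp; ring
    have htc : t ≤ c := by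
      rw [hcR, ht]
      have : (cnt x h : ℝ) ≤ (4 * Nat.card ↥L : ℕ) := by exact_mod_cast hle
      gcongr
    have hc0 : (c : ℝ) < 0 := by exact_mod_cast hcneg
    rw [hnorm]; nlinarith
  let rep : G → G := fun g => (QuotientGroup.mk g : G ⧸ L).out
  let ll : G → G := fun g => (rep g)⁻¹ * g
  have hll : ∀ g, ll g ∈ L := fun g => QuotientGroup.eq.1 (QuotientGroup.out_eq' (QuotientGroup.mk g : G ⧸ L))
  let hh : G → G := fun l => x * (l * x * l⁻¹)
  let phi : G → G := fun l => if z ∈ zpowers (hh l) then hh l else hh l * z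
  have hphi_z : ∀ l ∈ L, z ∈ zpowers (phi l) := by
    intro l hl
    show z ∈ zpowers (if z ∈ zpowers (hh l) then hh l else hh l * z)
    split_ifs with hcase
    · exact hcase
    set h := hh l with hhdef
    have hlz : l * z = z * l := mem_centralizer_singleton_iff.1 hl
    have hu : Commute (l * x * l⁻¹) z := by
      have c1 : Commute l z := hlz
      exact ((c1.mul_left hyp.hxz).mul_left c1.inv_left)
    have hhz : Commute h z := hyp.hxz.mul_left hu
    have hoddh : ¬ 2 ∣ orderOf h := by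
      intro h2
      obtain ⟨m, hm⟩ := h2
      have hm0 : m ≠ 0 := by
        rintro rfl
        have := orderOf_pos h
        omega
      have hwo : orderOf (h ^ m) = 2 := by
        rw [orderOf_pow' _ hm0, hm, Nat.gcd_eq_right (Dvd.intro_left 2 rfl), Nat.mul_div_cancel _ (Nat.pos_of_ne_zero hm0)]
      have hinv : x * h * x⁻¹ = h⁻¹ := by
        have huu : (l * x * l⁻¹) * (l * x * l⁻¹) = 1 := by
          rw [show (l * x * l⁻¹) * (l * x * l⁻¹) = l * (x * x) * l⁻¹ by group, hxx]; group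
        simp only [hhdef, hh, mul_inv_rev, inv_eq_of_mul_eq_one_right hxx]
        rw [← mul_assoc x x, hxx, one_mul]
        congr 1
        rw [show l⁻¹⁻¹ * (x * l⁻¹) = l * x * l⁻¹ by group]
      have hwc : Commute (h ^ m) x := by
        have e : x * h ^ m * x⁻¹ = h ^ m := by
          rw [← conj_pow, hinv, inv_pow]
          exact inv_eq_of_mul_eq_one_right (by rw [← pow_two, ← hwo, pow_orderOf_eq_one])
        exact (mul_inv_eq_iff_eq_mul.1 e).symm
      have hKh : h ∈ K := (Subgroup.mul_mem_iff_of_index_two hyp.hK).2 (iff_of_false hyp.hxK (fun e => hyp.hxK (by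
        have := (inferInstance : K.Normal).conj_mem _ e l⁻¹
        simpa [mul_assoc] using this)))
      rcases hyp.hCK _ (pow_mem hKh m) hwc with e | e
      · rw [e, orderOf_one] at hwo; norm_num at hwo
      · exact hcase (e ▸ pow_mem (mem_zpowers h) m)
    refine ⟨(orderOf h : ℤ), ?_⟩
    show (h * z) ^ (orderOf h : ℤ) = z
    rw [zpow_natCast, hhz.mul_pow, pow_orderOf_eq_one, one_mul]
    obtain ⟨k, hk⟩ := Nat.odd_iff.2 (Nat.two_dvd_ne_zero.1 hoddh)
    rw [hk, pow_add, pow_mul, pow_two, hzz, one_pow, one_mul, pow_one]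
  let F : G → G := fun g => rep g * phi (ll g) * (rep g)⁻¹
  set S := Finset.univ.image F with hS
  have hFib : ∀ s ∈ S, (Finset.univ.filter fun g => F g = s).card ≤ 8 := by
    intro s hs
    obtain ⟨g₀, -, rfl⟩ := Finset.mem_image.1 hs
    set r := rep g₀ with hr
    set u₀ := ll g₀ * x * (ll g₀)⁻¹ with hu₀
    have key : ∀ g, F g = F g₀ → rep g = r ∧ (ll g * x * (ll g)⁻¹ = u₀ ∨ ll g * x * (ll g)⁻¹ = u₀ * z) := by
      intro g hg
      have h1 : rep g * z * (rep g)⁻¹ ∈ zpowers (F g) := by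
        obtain ⟨i, hi⟩ := hphi_z _ (hll g)
        refine ⟨i, ?_⟩
        show (rep g * phi (ll g) * (rep g)⁻¹) ^ i = _
        rw [conj_zpow]; exact congrArg (fun w => rep g * w * (rep g)⁻¹) hi
      have h2 : r * z * r⁻¹ ∈ zpowers (F g₀) := by
        obtain ⟨i, hi⟩ := hphi_z _ (hll g₀)
        refine ⟨i, ?_⟩
        show (r * phi (ll g₀) * r⁻¹) ^ i = _
        rw [conj_zpow]; exact congrArg (fun w => r * w * r⁻¹) hi
      rw [hg] at h1
      have ho1 : orderOf (rep g * z * (rep g)⁻¹) = 2 := (MulEquiv.orderOf_eq (MulAut.conj (rep g)) z).trans hyp.hz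
      have ho2 : orderOf (r * z * r⁻¹) = 2 := (MulEquiv.orderOf_eq (MulAut.conj r) z).trans hyp.hz
      have heq : rep g * z * (rep g)⁻¹ = r * z * r⁻¹ := by
        by_contra hne
        haveI : Fintype ↥(zpowers (F g₀)) := Fintype.ofFinite _
        have hdvd : 2 ∣ Fintype.card ↥(zpowers (F g₀)) := by
          rw [← Nat.card_eq_fintype_card, ← ho1]
          exact Subgroup.orderOf_dvd_natCard _ h1
        have hc1 := IsCyclic.card_orderOf_eq_totient (α := ↥(zpowers (F g₀))) hdvd
        have : 2 ≤ (Finset.univ.filter fun w : ↥(zpowers (F g₀)) => orderOf w = 2).card := by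
          refine Finset.one_lt_card.2 ⟨⟨_, h1⟩, ?_, ⟨_, h2⟩, ?_, fun e => hne (congrArg Subtype.val e)⟩
          · exact Finset.mem_filter.2 ⟨Finset.mem_univ _, (Subgroup.orderOf_coe ⟨_, h1⟩).symm.trans ho1⟩
          · exact Finset.mem_filter.2 ⟨Finset.mem_univ _, (Subgroup.orderOf_coe ⟨_, h2⟩).symm.trans ho2⟩
        rw [hc1, Nat.totient_two] at this
        omega
      have hrr : rep g = r := by
        have hmem : r⁻¹ * rep g ∈ L := by
          rw [hL, mem_centralizer_singleton_iff]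
          calc r⁻¹ * rep g * z = r⁻¹ * (rep g * z * (rep g)⁻¹) * rep g := by group
            _ = _ := by rw [heq]; group
        have : (QuotientGroup.mk r : G ⧸ L) = QuotientGroup.mk (rep g) := QuotientGroup.eq.2 hmem
        simp only [hr, rep, QuotientGroup.out_eq'] at this
        simp only [hr, rep, this]
      refine ⟨hrr, ?_⟩
      have hphieq : phi (ll g) = phi (ll g₀) := by
        have : rep g * phi (ll g) * (rep g)⁻¹ = r * phi (ll g₀) * r⁻¹ := hg
        rw [hrr] at this
        exact mul_left_cancel (mul_right_cancel this)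
      have hcases : ∀ l, phi l = hh l ∨ phi l = hh l * z := fun l => by
        show (if z ∈ zpowers (hh l) then hh l else hh l * z) = _ ∨ (if z ∈ zpowers (hh l) then hh l else hh l * z) = _
        split_ifs <;> simp
      have hdec : hh (ll g) = hh (ll g₀) ∨ hh (ll g) = hh (ll g₀) * z := by
        rcases hcases (ll g) with e | e <;> rcases hcases (ll g₀) with e' | e' <;> rw [e, e'] at hphieq
        · exact Or.inl hphieq
        · exact Or.inr hphieq
        · exact Or.inr (by rw [← hphieq, mul_assoc, hzz, mul_one])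
        · exact Or.inl (mul_right_cancel hphieq)
      rcases hdec with e | e
      · exact Or.inl (mul_left_cancel e)
      · exact Or.inr (mul_left_cancel (e.trans (mul_assoc _ _ _)))
    have hsubF : (Finset.univ.filter fun g => F g = F g₀) ⊆
        ((Finset.univ.filter fun l => l * x * l⁻¹ = u₀) ∪ (Finset.univ.filter fun l => l * x * l⁻¹ = u₀ * z)).image
          (fun l => r * l) := by
      intro g hg
      obtain ⟨e1, e2⟩ := key g (Finset.mem_filter.1 hg).2
      refine Finset.mem_image.2 ⟨ll g, ?_, ?_⟩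
      · rcases e2 with e | e <;> simp [e]
      · rw [← e1]; exact mul_inv_cancel_left _ _
    refine le_trans (Finset.card_le_card hsubF) (le_trans Finset.card_image_le (le_trans (Finset.card_union_le _ _) ?_))
    have f1 := fibre_le hyp u₀
    have f2 := fibre_le hyp (u₀ * z)
    rw [Nat.card_eq_fintype_card, Fintype.card_subtype] at f1 f2
    omega
  have hScard : Nat.card G ≤ 8 * S.card := by
    rw [Nat.card_eq_fintype_card]
    exact Finset.card_le_mul_card_image Finset.univ 8 hFib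
  have hSval : ∀ s ∈ S, s ∈ K ∧ s ≠ 1 ∧ (c : ℝ) ^ 2 ≤ Complex.normSq ((θ : G → ℂ) s) := by
    intro s hs
    obtain ⟨g, -, rfl⟩ := Finset.mem_image.1 hs
    have hm : phi (ll g) = hh (ll g) ∨ phi (ll g) = hh (ll g) * z := by
      show (if z ∈ zpowers (hh (ll g)) then hh (ll g) else hh (ll g) * z) = _ ∨
        (if z ∈ zpowers (hh (ll g)) then hh (ll g) else hh (ll g) * z) = _
      split_ifs <;> simp
    obtain ⟨hK', hb⟩ := hphi _ (hll g) _ hm (hphi_z _ (hll g))
    refine ⟨(inferInstance : K.Normal).conj_mem _ hK' _, fun e => ?_, ?_⟩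
    · have hz1 := hphi_z _ (hll g)
      rw [show phi (ll g) = 1 by simpa [F] using e, zpowers_one_eq_bot, mem_bot] at hz1
      exact z_ne hyp hz1
    · show _ ≤ Complex.normSq ((θ : G → ℂ) (rep g * phi (ll g) * (rep g)⁻¹))
      rw [irr_isClassFunction θ]
      exact hb
  set X := Finset.univ.image (fun g => g * x * g⁻¹) with hX
  have hXcard : Nat.card G ≤ 4 * X.card := by
    rw [Nat.card_eq_fintype_card]
    refine Finset.card_le_mul_card_image Finset.univ 4 fun s _ => ?_
    have := fibre_le hyp s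
    rwa [Nat.card_eq_fintype_card, Fintype.card_subtype] at this
  have hXout : ∀ s ∈ X, s ∉ K ∧ Complex.normSq ((θ : G → ℂ) s) = 1 := by
    intro s hs
    obtain ⟨g, -, rfl⟩ := Finset.mem_image.1 hs
    refine ⟨fun e => hyp.hxK (by simpa [mul_assoc] using (inferInstance : K.Normal).conj_mem _ e g⁻¹), ?_⟩
    rw [irr_isClassFunction θ, hA, show ((A θ : ℤ) : ℂ) = ((A θ : ℝ) : ℂ) by push_cast; rfl, Complex.normSq_ofReal]
    exact_mod_cast hα
  have hnormsum : ∑ g : G, Complex.normSq ((θ : G → ℂ) g) = (Nat.card G : ℝ) := by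
    have h := classInner_isIrr_self θ.2
    rw [classInner_def, inv_mul_eq_one₀ natCard_ne_zero] at h
    simp only [Complex.mul_conj, ← Complex.ofReal_sum] at h
    exact_mod_cast h.symm
  have h1S : (1 : G) ∉ S ∪ X := by
    intro h
    rcases Finset.mem_union.1 h with h | h
    · exact (hSval 1 h).2.1 rfl
    · exact (hXout 1 h).1 K.one_mem
  have hdisj : Disjoint S X := Finset.disjoint_left.2 fun s h1 h2 => (hXout s h2).1 (hSval s h1).1
  have hmain : (d : ℝ) ^ 2 + (S.card : ℝ) * (c : ℝ) ^ 2 + X.card ≤ Nat.card G := by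
    rw [← hnormsum]
    refine le_trans ?_ (Finset.sum_le_sum_of_subset_of_nonneg (Finset.subset_univ (insert 1 (S ∪ X)))
      fun g _ _ => Complex.normSq_nonneg _)
    rw [Finset.sum_insert h1S, Finset.sum_union hdisj, Finset.sum_congr rfl fun s hs => (hXout s hs).2,
      Finset.sum_const, nsmul_eq_mul, mul_one, hd]
    have := Finset.card_nsmul_le_sum S (fun s => Complex.normSq ((θ : G → ℂ) s)) ((c : ℝ) ^ 2) fun s hs => (hSval s hs).2.2
    rw [nsmul_eq_mul] at this
    rw [show Complex.normSq (d : ℂ) = (d : ℝ) ^ 2 by rw [Complex.normSq_natCast]; ring]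
    linarith
  have hc9 : (9 : ℝ) ≤ (c : ℝ) ^ 2 := by
    have : (3 : ℤ) ≤ -c := by omega
    have : (9 : ℤ) ≤ c ^ 2 := by nlinarith
    exact_mod_cast this
  have hS' : (Nat.card G : ℝ) ≤ 8 * S.card := by exact_mod_cast hScard
  have hX' : (Nat.card G : ℝ) ≤ 4 * X.card := by exact_mod_cast hXcard
  have hGpos : (0 : ℝ) < Nat.card G := by exact_mod_cast Nat.card_pos
  have hd2 : (0 : ℝ) ≤ (d : ℝ) ^ 2 := sq_nonneg _
  nlinarith [mul_le_mul_of_nonneg_left hc9 (Nat.cast_nonneg (α := ℝ) S.card)]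

end Cfsg.Agent.InvChar.FourCentralizerCount
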