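import Mathlib
import Cfsg.Agent.Lib.Classical.DihedralO2

/-!
A 2-group `T` of order at least `2^14` with `|Z₄(T)| = 16` whose `W = C_T(Z₃(T))` has Frattini subgroup of
order at most 8 lying in every subgroup of index at most 16.
-/

set_option linter.all false

namespace Cfsg.Agent.InvChar.RudvalisTwoGroup

open Subgroup
open scoped commutatorElement
attribute [local instance] _root_.Classical.propDecidable

/-- The hypotheses. -/
structure Hyp {T : Type*} [Group T] (W : Subgroup T) : Prop where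
  p2 : IsPGroup 2 T
  big : 2 ^ 14 ≤ Nat.card T
  z4 : Nat.card ↥(Subgroup.upperCentralSeries T 4) = 16
  def_W : W = centralizer ((Subgroup.upperCentralSeries T 3 : Subgroup T) : Set T)
  small : Nat.card ↥(frattini ↥W) ≤ 8
  low : ∀ U : Subgroup ↥W, U.index ≤ 16 → frattini ↥W ≤ U

variable {T : Type*} [Group T] [Finite T] {W : Subgroup T}

local notation "Z" => Subgroup.upperCentralSeries T

omit [Finite T] in
theorem conj_mem_Z {i : ℕ} {x : T} (hx : x ∈ Z (i + 1)) (t : T) : t * x * t⁻¹ * x⁻¹ ∈ Z i := by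
  have := (Z i).inv_mem (Subgroup.mem_upperCentralSeries_succ_iff.1 hx t)
  rwa [commutatorElement_def, mul_inv_rev, mul_inv_rev, mul_inv_rev, inv_inv, inv_inv, ← mul_assoc, ← mul_assoc] at this

omit [Finite T] in
theorem Z_le_succ (i : ℕ) : Z i ≤ Z (i + 1) := Subgroup.upperCentralSeries_mono T (Nat.le_succ i)

omit [Finite T] in
/-- A normal subgroup not inside `Z i` reaches outside `Z i` within `Z (i+1)`. -/
theorem exists_mem_succ [Group.IsNilpotent T] (N : Subgroup T) [N.Normal] {i : ℕ} (h : ¬ N ≤ Z i) :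
    ∃ x ∈ N, x ∈ Z (i + 1) ∧ x ∉ Z i := by
  obtain ⟨x, hx, hxi⟩ := SetLike.not_le_iff_exists.1 h
  obtain ⟨n, hn⟩ := Group.IsNilpotent.nilpotent T
  have : ∀ d k, k + d = n → ∀ y ∈ N, y ∈ Z k → y ∉ Z i → ∃ x ∈ N, x ∈ Z (i + 1) ∧ x ∉ Z i := by
    intro d
    induction' n using Nat.strong_induction_on with n ih generalizing d
    intro k hk y hy hyk hyi
    clear ih hk hn
    induction k generalizing y with
    | zero =>
      exfalso
      rw [Subgroup.upperCentralSeries_zero, mem_bot] at hyk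
      exact hyi (hyk ▸ one_mem _)
    | succ k ihk =>
      by_cases hki : k ≤ i
      · exact ⟨y, hy, Subgroup.upperCentralSeries_mono T (by omega) hyk, hyi⟩
      by_cases hall : ∀ t, t * y * t⁻¹ * y⁻¹ ∈ Z i
      · refine ⟨y, hy, Subgroup.mem_upperCentralSeries_succ_iff.2 fun t => ?_, hyi⟩
        have := (Z i).inv_mem (hall t)
        rwa [mul_inv_rev, mul_inv_rev, mul_inv_rev, inv_inv, inv_inv, ← mul_assoc, ← mul_assoc,
          ← commutatorElement_def] at this
      · push Not at hall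
        obtain ⟨t, ht⟩ := hall
        exact ihk _ (N.mul_mem ((inferInstance : N.Normal).conj_mem y hy t) (N.inv_mem hy)) (conj_mem_Z hyk t) ht
  exact this 0 n (by simp) x hx (hn ▸ mem_top x) hxi

namespace Hyp

variable (h : Hyp W)

include h in
theorem nilp : Group.IsNilpotent T :=
  haveI : Fact (Nat.Prime 2) := ⟨Nat.prime_two⟩
  h.p2.isNilpotent

include h in
theorem card_Z {i : ℕ} (hi : i ≤ 4) : Nat.card ↥(Z i) = 2 ^ i := by
  haveI : Fact (Nat.Prime 2) := ⟨Nat.prime_two⟩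
  haveI := h.nilp
  have hlt : ∀ j < 4, Nat.card ↥(Z j) < Nat.card ↥(Z (j + 1)) := by
    intro j hj
    have hne : ¬ (⊤ : Subgroup T) ≤ Z j := fun hh => by
      have h1 := card_le_of_le (hh.trans (Subgroup.upperCentralSeries_mono T (by omega : j ≤ 4)))
      have := h.big
      rw [card_top, h.z4] at h1
      norm_num at this
      omega
    obtain ⟨x, -, hx1, hx2⟩ := exists_mem_succ ⊤ hne
    refine lt_of_le_of_ne (card_le_of_le (Z_le_succ j)) fun e => hx2 ?_
    exact (eq_of_le_of_card_ge (Z_le_succ j) e.ge).ge hx1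
  have hpow : ∀ j, ∃ k, Nat.card ↥(Z j) = 2 ^ k := fun j => IsPGroup.iff_card.1 (h.p2.to_subgroup _)
  obtain ⟨a0, e0⟩ := hpow 0
  obtain ⟨a1, e1⟩ := hpow 1
  obtain ⟨a2, e2⟩ := hpow 2
  obtain ⟨a3, e3⟩ := hpow 3
  have t0 := hlt 0 (by norm_num)
  have t1 := hlt 1 (by norm_num)
  have t2 := hlt 2 (by norm_num)
  have t3 := hlt 3 (by norm_num)
  have e4 : Nat.card ↥(Z 4) = 2 ^ 4 := h.z4
  have l3 : a3 < 4 := (Nat.pow_lt_pow_iff_right (by norm_num : 1 < 2)).1 (e3 ▸ e4 ▸ t3)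
  have l2 : a2 < a3 := (Nat.pow_lt_pow_iff_right (by norm_num : 1 < 2)).1 (e2 ▸ e3 ▸ t2)
  have l1 : a1 < a2 := (Nat.pow_lt_pow_iff_right (by norm_num : 1 < 2)).1 (e1 ▸ e2 ▸ t1)
  have l0 : a0 < a1 := (Nat.pow_lt_pow_iff_right (by norm_num : 1 < 2)).1 (e0 ▸ e1 ▸ t0)
  interval_cases i
  · simp
  · rw [e1]; congr 1; omega
  · rw [e2]; congr 1; omega
  · rw [e3]; congr 1; omega
  · exact e4

include h in
theorem relIndex_Z {i : ℕ} (hi : i < 4) : (Z i).relIndex (Z (i + 1)) = 2 := by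
  have h1 := ((Z i).subgroupOf (Z (i + 1))).card_mul_index
  rw [Nat.card_congr (subgroupOfEquivOfLe (Z_le_succ i)).toEquiv, h.card_Z (by omega), h.card_Z hi] at h1
  have h2 : 2 ^ i * 2 = 2 ^ (i + 1) := (pow_succ 2 i).symm
  rw [← h2] at h1
  exact Nat.eq_of_mul_eq_mul_left (by positivity) h1

include h in
theorem mul_mem_Z {i : ℕ} (hi : i < 4) {x y : T} (hx : x ∈ Z (i + 1)) (hy : y ∈ Z (i + 1)) :
    x * y ∈ Z i ↔ (x ∈ Z i ↔ y ∈ Z i) :=
  Subgroup.mul_mem_iff_of_index_two (H := (Z i).subgroupOf (Z (i + 1))) (h.relIndex_Z hi) (a := ⟨x, hx⟩) (b := ⟨y, hy⟩)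

include h in
theorem exists_gen {i : ℕ} (hi : i < 4) : ∃ x ∈ Z (i + 1), x ∉ Z i := by
  by_contra hh
  push Not at hh
  have := card_le_of_le (show Z (i + 1) ≤ Z i from hh)
  rw [h.card_Z (i := i) (by omega), h.card_Z (i := i + 1) hi] at this
  exact absurd this (not_le.2 (Nat.pow_lt_pow_right (by norm_num) (by omega)))

include h in
theorem normal_le {i : ℕ} (hi : i ≤ 4) (N : Subgroup T) [N.Normal] : N ≤ Z i ∨ Z i ≤ N := by
  haveI := h.nilp
  induction i with
  | zero => exact Or.inr (by rw [Subgroup.upperCentralSeries_zero]; exact bot_le)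
  | succ j ih =>
    by_cases hN : N ≤ Z (j + 1)
    · exact Or.inl hN
    refine Or.inr ?_
    rcases ih (by omega) with h1 | h1
    · exact absurd (h1.trans (Z_le_succ j)) hN
    have hNj : ¬ N ≤ Z j := fun h2 => hN (h2.trans (Z_le_succ j))
    obtain ⟨x, hxN, hx1, hx2⟩ := exists_mem_succ N hNj
    intro y hy
    by_cases hyj : y ∈ Z j
    · exact h1 hyj
    · have := h1 ((h.mul_mem_Z (by omega) hy ((Z (j + 1)).inv_mem hx1)).2 (by simp [hyj, hx2]))
      have := N.mul_mem this hxN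
      rwa [inv_mul_cancel_right] at this

include h in
theorem z1_mem {x y : T} (hx : x ∈ Z 1) (hx1 : x ≠ 1) (hy : y ∈ Z 1) : y = 1 ∨ y = x := by
  by_cases hy1 : y = 1
  · exact Or.inl hy1
  refine Or.inr ?_
  have := (h.mul_mem_Z (i := 0) (by norm_num) hy ((Z 1).inv_mem hx)).2 (by
    simp [Subgroup.upperCentralSeries_zero, hx1, hy1])
  rw [Subgroup.upperCentralSeries_zero, mem_bot] at this
  exact mul_inv_eq_one.1 this

/-- A frame `a, b, c` for `Z 3 > Z 2 > Z 1`. -/
structure Frame (a b c : T) : Prop where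
  a3 : a ∈ Subgroup.upperCentralSeries T 3
  a2 : a ∉ Subgroup.upperCentralSeries T 2
  b2 : b ∈ Subgroup.upperCentralSeries T 2
  b1 : b ∉ Subgroup.upperCentralSeries T 1
  c1 : c ∈ Subgroup.upperCentralSeries T 1
  c0 : c ≠ 1

include h in
theorem exists_frame : ∃ a b c : T, Frame a b c := by
  obtain ⟨a, ha, ha'⟩ := h.exists_gen (i := 2) (by norm_num)
  obtain ⟨b, hb, hb'⟩ := h.exists_gen (i := 1) (by norm_num)
  obtain ⟨c, hc, hc'⟩ := h.exists_gen (i := 0) (by norm_num)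
  exact ⟨a, b, c, ha, ha', hb, hb', hc, fun e => hc' (e ▸ one_mem _)⟩

omit [Finite T] in
theorem central {c : T} (hc : c ∈ Z 1) (t : T) : t * c = c * t := by
  rw [Subgroup.upperCentralSeries_one] at hc
  exact mem_center_iff.1 hc t

include h in
theorem cases3 {a b c : T} (f : Frame a b c) {y : T} (hy : y ∈ Z 3) :
    ∃ i j k : Fin 2, y = a ^ (i : ℕ) * b ^ (j : ℕ) * c ^ (k : ℕ) := by
  obtain ⟨i, hi⟩ : ∃ i : Fin 2, (a ^ (i : ℕ))⁻¹ * y ∈ Z 2 := by
    by_cases h2 : y ∈ Z 2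
    · exact ⟨0, by simpa using h2⟩
    · exact ⟨1, by
        rw [Fin.val_one, pow_one]
        exact (h.mul_mem_Z (by norm_num) ((Z 3).inv_mem f.a3) hy).2 (by simp [f.a2, h2])⟩
  obtain ⟨j, hj⟩ : ∃ j : Fin 2, (b ^ (j : ℕ))⁻¹ * ((a ^ (i : ℕ))⁻¹ * y) ∈ Z 1 := by
    by_cases h2 : (a ^ (i : ℕ))⁻¹ * y ∈ Z 1
    · exact ⟨0, by simpa using h2⟩
    · exact ⟨1, by
        rw [Fin.val_one, pow_one]
        exact (h.mul_mem_Z (by norm_num) ((Z 2).inv_mem f.b2) hi).2 (iff_of_false (fun hh => f.b1 ((inv_mem_iff).1 hh)) h2)⟩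
  rcases h.z1_mem f.c1 f.c0 hj with e | e
  · refine ⟨i, j, 0, ?_⟩
    rw [inv_mul_eq_one, eq_inv_mul_iff_mul_eq] at e
    rw [Fin.val_zero, pow_zero, mul_one, e]
  · refine ⟨i, j, 1, ?_⟩
    rw [Fin.val_one, pow_one, ← e]; group

include h in
theorem conj_b {a b c : T} (f : Frame a b c) (t : T) : t * b * t⁻¹ = b ∨ t * b * t⁻¹ = c * b := by
  rcases h.z1_mem f.c1 f.c0 (conj_mem_Z f.b2 t) with e | e
  · exact Or.inl (mul_inv_eq_one.1 e)
  · exact Or.inr (mul_inv_eq_iff_eq_mul.1 e)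

/-- The coordinates of an element of `T` acting on the frame. -/
noncomputable def code (a b : T) (t : T) : T × T := (t * a * t⁻¹, t * b * t⁻¹)

include h in
theorem same_code {a b c : T} (f : Frame a b c) {s t : T} (e : code a b s = code a b t) : t⁻¹ * s ∈ W := by
  rw [h.def_W, mem_centralizer_iff]
  intro y hy
  obtain ⟨i, j, k, rfl⟩ := h.cases3 f hy
  have key : ∀ x, s * x * s⁻¹ = t * x * t⁻¹ → Commute x (t⁻¹ * s) := fun x hx => by
    show x * (t⁻¹ * s) = t⁻¹ * s * x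
    calc x * (t⁻¹ * s) = t⁻¹ * (t * x * t⁻¹) * s := by group
      _ = _ := by rw [← hx]; group
  have hca : Commute a (t⁻¹ * s) := key a (congrArg Prod.fst e)
  have hcb : Commute b (t⁻¹ * s) := key b (congrArg Prod.snd e)
  have hcc : Commute c (t⁻¹ * s) := (central f.c1 _).symm
  exact (((hca.pow_left _).mul_left (hcb.pow_left _)).mul_left (hcc.pow_left _)).eq

include h in
theorem code_mem {a b c : T} (f : Frame a b c) (t : T) :
    (∃ j k : Fin 2, (code a b t).1 = b ^ (j : ℕ) * c ^ (k : ℕ) * a) ∧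
      ∃ k : Fin 2, (code a b t).2 = c ^ (k : ℕ) * b := by
  refine ⟨?_, ?_⟩
  · have hm := conj_mem_Z f.a3 t
    obtain ⟨i, j, k, e⟩ := h.cases3 f (Z_le_succ 2 hm)
    have hi : i = 0 := by
      by_contra hne
      have hi1 : i = 1 := by omega
      subst hi1
      refine f.a2 ?_
      rw [show a = (t * a * t⁻¹ * a⁻¹) * (b ^ (j : ℕ) * c ^ (k : ℕ))⁻¹ by rw [e, Fin.val_one, pow_one]; group]
      exact (Z 2).mul_mem hm ((Z 2).inv_mem ((Z 2).mul_mem ((Z 2).pow_mem f.b2 _) ((Z 2).pow_mem (Z_le_succ 1 f.c1) _)))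
    subst hi
    refine ⟨j, k, ?_⟩
    rw [Fin.val_zero, pow_zero, one_mul] at e
    exact mul_inv_eq_iff_eq_mul.1 e
  · rcases h.conj_b f t with e | e
    · exact ⟨0, by simpa [code] using e⟩
    · exact ⟨1, by simpa [code] using e⟩

include h in
theorem normal_W : W.Normal := by
  rw [h.def_W]
  exact inferInstance

include h in
theorem index_W : W.index ≤ 8 := by
  obtain ⟨a, b, c, f⟩ := h.exists_frame
  classical
  haveI := h.normal_W
  let S : Finset (T × T) := Finset.univ.image fun p : Fin 2 × Fin 2 × Fin 2 =>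
    (b ^ (p.1 : ℕ) * c ^ (p.2.1 : ℕ) * a, c ^ (p.2.2 : ℕ) * b)
  have hmem : ∀ t, code a b t ∈ S := fun t => by
    obtain ⟨⟨j, k, e1⟩, k', e2⟩ := h.code_mem f t
    exact Finset.mem_image.2 ⟨(j, k, k'), Finset.mem_univ _, Prod.ext e1.symm e2.symm⟩
  rw [Subgroup.index_eq_card]
  refine le_trans (Nat.card_le_card_of_injective (fun q : T ⧸ W => (⟨code a b q.out, hmem _⟩ : S)) ?_) ?_
  · intro q q' e
    have := h.same_code f (congrArg Subtype.val e)
    rw [← QuotientGroup.out_eq' q, ← QuotientGroup.out_eq' q']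
    exact (QuotientGroup.eq.2 this).symm
  · rw [Nat.card_eq_finsetCard]
    exact Finset.card_image_le.trans (by simp)

include h in
theorem card_W_ge : 2 ^ 11 ≤ Nat.card ↥W := by
  have h1 := W.card_mul_index
  have h2 := h.index_W
  have := h.big
  have h3 : Nat.card T ≤ Nat.card ↥W * 8 := h1 ▸ Nat.mul_le_mul_left _ h2
  norm_num at this ⊢
  omega

include h in
theorem Z3_le : Z 3 ≤ W := by
  haveI := h.normal_W
  refine (h.normal_le (i := 3) (by norm_num) W).resolve_left fun hle => ?_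
  have := card_le_of_le hle
  rw [h.card_Z (by norm_num)] at this
  have := h.card_W_ge
  norm_num at this
  omega

include h in
theorem comm_W {w : T} (hw : w ∈ W) {y : T} (hy : y ∈ Z 3) : y * w = w * y := by
  rw [h.def_W, mem_centralizer_iff] at hw
  exact hw y hy

/-- The Frattini subgroup of `W`, in `T`. -/
noncomputable def phi (W : Subgroup T) : Subgroup T := (frattini ↥W).map W.subtype

include h in
theorem phi_le : phi W ≤ Z 3 := by
  haveI := h.normal_W
  have hcard : Nat.card ↥(phi W) ≤ 8 := by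
    rw [phi, card_map_of_injective W.subtype_injective]; exact h.small
  haveI : (phi W).Normal := ConjAct.normal_of_characteristic_of_normal
  rcases h.normal_le (i := 3) (by norm_num) (phi W) with h1 | h1
  · exact h1
  · exact (eq_of_le_of_card_ge h1 (by rw [h.card_Z (by norm_num)]; exact hcard)).ge

include h in
/-- Squares of `W` lie in the Frattini subgroup. -/
theorem sq_mem_phi {w : T} (hw : w ∈ W) : w * w ∈ phi W := by
  haveI : Fact (Nat.Prime 2) := ⟨Nat.prime_two⟩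
  haveI := (h.p2.to_subgroup W).isNilpotent
  refine ⟨⟨w, hw⟩ * ⟨w, hw⟩, ?_, rfl⟩
  show _ ∈ Order.radical (Subgroup ↥W)
  rw [Order.radical]
  simp only [Subgroup.mem_iInf]
  intro M hM
  haveI := Subgroup.NormalizerCondition.normal_of_coatom M Group.normalizerCondition_of_isNilpotent hM
  exact Subgroup.mul_self_mem_of_index_two (by
    obtain ⟨n, hn⟩ := (h.p2.to_subgroup W).index M
    rcases n with _ | n
    · exact absurd (Subgroup.index_eq_one.1 (by simpa using hn)) hM.1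
    obtain ⟨q, hq⟩ := exists_prime_orderOf_dvd_card' (G := ↥W ⧸ M) 2 (by
      rw [← Subgroup.index_eq_card, hn]; exact dvd_pow_self 2 (Nat.succ_ne_zero n))
    have hle : M ≤ (zpowers q).comap (QuotientGroup.mk' M) := fun x hx => by
      show QuotientGroup.mk' M x ∈ zpowers q
      rw [QuotientGroup.mk'_apply, (QuotientGroup.eq_one_iff x).2 hx]; exact one_mem _
    have htop : (zpowers q).comap (QuotientGroup.mk' M) = ⊤ := hM.2 _ (lt_of_le_of_ne hle fun e => by
      obtain ⟨x, rfl⟩ := QuotientGroup.mk'_surjective M q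
      have : x ∈ M := by rw [e]; exact mem_zpowers _
      rw [QuotientGroup.mk'_apply, (QuotientGroup.eq_one_iff x).2 this, orderOf_one] at hq
      exact absurd hq (by norm_num))
    have h2 : zpowers q = ⊤ := by
      rw [← map_comap_eq_self_of_surjective (QuotientGroup.mk'_surjective M) (zpowers q), htop,
        ← MonoidHom.range_eq_map, MonoidHom.range_eq_top.2 (QuotientGroup.mk'_surjective M)]
    rw [Subgroup.index_eq_card, ← Subgroup.card_top, ← h2, Nat.card_zpowers, hq]) _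

include h in
theorem sq_mem {w : T} (hw : w ∈ W) : w * w ∈ Z 3 := h.phi_le (h.sq_mem_phi hw)

omit [Finite T] in
theorem comm_eq_sq (x y : T) : x * y * x⁻¹ * y⁻¹ = (x * y) * (x * y) * ((y⁻¹ * x⁻¹ * y) * (y⁻¹ * x⁻¹ * y)) * (y⁻¹ * y⁻¹) := by
  group

include h in
theorem comm_mem {x y : T} (hx : x ∈ W) (hy : y ∈ W) : x * y * x⁻¹ * y⁻¹ ∈ phi W := by
  rw [comm_eq_sq]
  exact mul_mem (mul_mem (h.sq_mem_phi (W.mul_mem hx hy))
    (h.sq_mem_phi (W.mul_mem (W.mul_mem (W.inv_mem hy) (W.inv_mem hx)) hy))) (h.sq_mem_phi (W.inv_mem hy))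

include h in
theorem swap {x y : T} (hx : x ∈ W) (hy : y ∈ W) : ∃ d ∈ Z 3, x * y = d * (y * x) :=
  ⟨_, h.phi_le (h.comm_mem hx hy), by group⟩

include h in
/-- No subgroup of index at most 8 has all squares in a subgroup missing part of the Frattini subgroup. -/
theorem no_small (S N : Subgroup T) (hSW : S ≤ W) (hSi : S.relIndex W ≤ 8) (hNS : N ≤ S)
    (hsq : ∀ x ∈ S, x * x ∈ N) (hΦS : phi W ≤ S) : phi W ≤ N := by
  by_contra hno
  obtain ⟨z0, hz0, hz0N⟩ := SetLike.not_le_iff_exists.1 hno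
  obtain ⟨M, hNM, hM⟩ := (Set.toFinite {H : Subgroup ↥S | (⟨z0, hΦS hz0⟩ : ↥S) ∉ H}).exists_le_maximal
    (a := N.subgroupOf S) hz0N
  have hsqM : ∀ x : ↥S, x * x ∈ M := fun x => hNM (hsq x x.2)
  haveI hMn : M.Normal := ⟨fun n hn g => by
    have e : g * n * g⁻¹ = (g * n) * (g * n) * ((n⁻¹ * g⁻¹ * n) * (n⁻¹ * g⁻¹ * n)) * (n⁻¹ * n⁻¹) * n := by group
    rw [e]
    exact M.mul_mem (M.mul_mem (M.mul_mem (hsqM _) (hsqM _)) (hsqM _)) hn⟩
  have hidx : M.index = 2 := by
    rw [Subgroup.index_eq_two_iff]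
    refine ⟨⟨z0, hΦS hz0⟩, fun b => ?_⟩
    by_cases hb : b ∈ M
    · exact Or.inr ⟨hb, fun hh => hM.1 ((M.mul_mem_cancel_left hb).1 hh)⟩
    · refine Or.inl ⟨?_, hb⟩
      have hmem : (⟨z0, hΦS hz0⟩ : ↥S) ∈ M ⊔ Subgroup.zpowers b := by
        by_contra hc
        exact hb (hM.2 hc le_sup_left (Subgroup.mem_sup_right (Subgroup.mem_zpowers b)))
      obtain ⟨m, hm, y, hy, hmy⟩ := Subgroup.mem_sup_of_normal_left.1 hmem
      obtain ⟨i, rfl⟩ := hy
      change m * b ^ i = _ at hmy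
      have hbb : b ^ (2 : ℤ) ∈ M := by rw [zpow_two]; exact hsqM b
      rcases Int.even_or_odd i with ⟨j, hj⟩ | ⟨j, hj⟩
      · exfalso
        apply hM.1
        rw [← hmy, hj, ← two_mul, zpow_mul]
        exact M.mul_mem hm (M.zpow_mem hbb j)
      · rw [← hmy, hj, zpow_add, zpow_mul, zpow_one,
          show b * (m * ((b ^ (2 : ℤ)) ^ j * b)) = (b * m * b⁻¹) * ((b ^ (2 : ℤ)) ^ j * (b * b)) by group]
        exact M.mul_mem (hMn.conj_mem m hm b) (M.mul_mem (M.zpow_mem hbb j) (hsqM b))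
  set U := (M.map S.subtype).subgroupOf W with hU
  have hUi : U.index ≤ 16 := by
    rw [hU, ← Subgroup.relIndex, ← Subgroup.relIndex_mul_relIndex (M.map S.subtype) S W (map_subtype_le M) hSW,
      show (M.map S.subtype).relIndex S = 2 by
        rw [Subgroup.relIndex, Subgroup.subgroupOf, comap_map_eq_self_of_injective S.subtype_injective, hidx]]
    omega
  obtain ⟨w, hw, rfl⟩ := hz0
  obtain ⟨m, hm, e⟩ := h.low U hUi hw
  exact hM.1 (by rwa [show (⟨_, hΦS ⟨w, hw, rfl⟩⟩ : ↥S) = m from Subtype.ext e.symm])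

include h in
/-- A subgroup of index two in `W` whose conjugates separate the cosets of `Z i`. -/
theorem exists_profile {i : ℕ} (hi : i ≤ 3) (hΦ : phi W ≤ Z i) :
    ∃ u ∈ Z (i + 1), u ∈ W ∧ ∃ M : Subgroup T, u ∉ M ∧ M ≤ W ∧ (∀ x ∈ W, ∀ y ∈ W, x ∉ M → y ∉ M → x * y ∈ M) ∧
      (∀ x ∈ M, ∀ v ∈ W, v * x * v⁻¹ ∈ M) ∧ Z i ≤ M ∧ ∀ x, (∀ t : T, t * x * t⁻¹ ∈ M) → x ∈ Z i := by
  haveI := h.normal_W
  haveI := h.nilp
  obtain ⟨u, hu, hu'⟩ := h.exists_gen (i := i) (by omega)
  have huW : u ∈ W := by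
    by_cases hi3 : i + 1 ≤ 3
    · exact h.Z3_le (Subgroup.upperCentralSeries_mono T hi3 hu)
    · obtain rfl : i = 3 := by omega
      rcases h.normal_le (i := 3) (by norm_num) W with h1 | h1
      · have h2 := card_le_of_le h1
        rw [h.card_Z (by norm_num)] at h2
        have := h.card_W_ge
        norm_num at this
        omega
      rcases h.normal_le (i := 4) le_rfl W with h2 | h2
      · have h2 := card_le_of_le h2
        rw [h.card_Z le_rfl] at h2
        have := h.card_W_ge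
        norm_num at this
        omega
      · exact h2 hu
  obtain ⟨M, hle, hM⟩ := (Set.toFinite {H : Subgroup ↥W | (⟨u, huW⟩ : ↥W) ∉ H}).exists_le_maximal
    (a := (Z i).subgroupOf W) hu'
  have hsqM : ∀ x : ↥W, x * x ∈ M := fun x => hle (hΦ (h.sq_mem_phi x.2))
  have hcomM : ∀ x y : ↥W, x * y * x⁻¹ * y⁻¹ ∈ M := fun x y => hle (hΦ (h.comm_mem x.2 y.2))
  haveI hMn : M.Normal := ⟨fun n hn g => by
    have := M.mul_mem (hcomM g n) hn
    rwa [inv_mul_cancel_right] at this⟩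
  have hidx : ∀ x y : ↥W, x ∉ M → y ∉ M → x * y ∈ M := by
    have key : ∀ x : ↥W, x ∉ M → x * ⟨u, huW⟩ ∈ M := by
      intro b hb
      have hmem : (⟨u, huW⟩ : ↥W) ∈ M ⊔ Subgroup.zpowers b := by
        by_contra hc
        exact hb (hM.2 hc le_sup_left (Subgroup.mem_sup_right (Subgroup.mem_zpowers b)))
      obtain ⟨m, hm, y, hy, hmy⟩ := Subgroup.mem_sup_of_normal_left.1 hmem
      obtain ⟨j0, rfl⟩ := hy
      change m * b ^ j0 = _ at hmy
      have hbb : b ^ (2 : ℤ) ∈ M := by rw [zpow_two]; exact hsqM b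
      rcases Int.even_or_odd j0 with ⟨j, hj⟩ | ⟨j, hj⟩
      · exfalso
        apply hM.1
        rw [← hmy, hj, ← two_mul, zpow_mul]
        exact M.mul_mem hm (M.zpow_mem hbb j)
      · rw [← hmy, hj, zpow_add, zpow_mul, zpow_one,
          show b * (m * ((b ^ (2 : ℤ)) ^ j * b)) = (b * m * b⁻¹) * ((b ^ (2 : ℤ)) ^ j * (b * b)) by group]
        exact M.mul_mem (hMn.conj_mem m hm b) (M.mul_mem (M.zpow_mem hbb j) (hsqM b))
    intro x y hx hy
    have h1 := key x hx
    have h2 : (⟨u, huW⟩ : ↥W)⁻¹ * y ∈ M := by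
      have hyi : y⁻¹ ∉ M := fun hh => hy (by simpa using M.inv_mem hh)
      have h3 := M.inv_mem (key _ hyi)
      rwa [mul_inv_rev, inv_inv] at h3
    have := M.mul_mem h1 h2
    rwa [mul_assoc, mul_inv_cancel_left] at this
  classical
  let M' : Subgroup T := M.map W.subtype
  have hM' : ∀ w : ↥W, (w : T) ∈ M' ↔ w ∈ M := fun w => mem_map_iff_mem W.subtype_injective
  let K : Subgroup T :=
    { carrier := {x | ∀ t : T, t * x * t⁻¹ ∈ M'}
      one_mem' := fun t => by simp [M'.one_mem]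
      mul_mem' := fun {x y} hx hy t => by
        rw [show t * (x * y) * t⁻¹ = (t * x * t⁻¹) * (t * y * t⁻¹) by group]
        exact M'.mul_mem (hx t) (hy t)
      inv_mem' := fun {x} hx t => by
        rw [show t * x⁻¹ * t⁻¹ = (t * x * t⁻¹)⁻¹ by group]
        exact M'.inv_mem (hx t) }
  haveI : K.Normal := ⟨fun x hx g t => by
    rw [show t * (g * x * g⁻¹) * t⁻¹ = (t * g) * x * (t * g)⁻¹ by group]
    exact hx (t * g)⟩
  have hKle : K ≤ Z i := by
    by_contra hno
    obtain ⟨x, hxK, hx1, hx2⟩ := exists_mem_succ K hno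
    have hx' : x ∈ M' := by simpa using hxK 1
    obtain ⟨m, hm, rfl⟩ := hx'
    have h1 : (m : T)⁻¹ * u ∈ Z i := (h.mul_mem_Z (by omega) ((Z (i + 1)).inv_mem hx1) hu).2
      (iff_of_false (fun hh => hx2 ((inv_mem_iff).1 hh)) hu')
    exact hM.1 (by
      have := M.mul_mem hm (hle (show m⁻¹ * (⟨u, huW⟩ : ↥W) ∈ (Z i).subgroupOf W from h1))
      rwa [mul_inv_cancel_left] at this)
  refine ⟨u, hu, huW, M', fun hh => hM.1 ((hM' ⟨u, huW⟩).1 hh), map_subtype_le M, fun x hx y hy hxM hyM => ?_,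
    fun x hx v hv => ?_, fun x hx => ?_, fun x hx => hKle hx⟩
  · exact (hM' (⟨x, hx⟩ * ⟨y, hy⟩)).2 (hidx _ _ (fun e => hxM ((hM' ⟨x, hx⟩).2 e)) (fun e => hyM ((hM' ⟨y, hy⟩).2 e)))
  · obtain ⟨m, hm, rfl⟩ := hx
    exact (hM' (⟨v, hv⟩ * m * ⟨v, hv⟩⁻¹)).2 (hMn.conj_mem m hm ⟨v, hv⟩)
  · exact ⟨⟨x, (Subgroup.upperCentralSeries_mono T hi).trans h.Z3_le hx⟩, hle hx, rfl⟩

include h in
/-- Separating the cosets of `Z i` inside `W` by conjugates of a maximal subgroup. -/
theorem card_bound {i : ℕ} (hi : i ≤ 3) (hΦ : phi W ≤ Z i) : Nat.card ↥W ≤ 2 ^ i * 2 ^ W.index := by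
  classical
  haveI := h.normal_W
  obtain ⟨u, -, -, M', -, -, hidx, hMn, -, hKle⟩ := h.exists_profile hi hΦ
  have hcW : ∀ (t : T) (w : ↥W), t * (w : T) * t⁻¹ ∈ W := fun t w => h.normal_W.conj_mem w w.2 t
  -- the profile of an element
  let P : ↥W → (T ⧸ W → Bool) := fun w q => decide (q.out * (w : T) * q.out⁻¹ ∈ M')
  have hP : ∀ w w', P w = P w' → (w : T)⁻¹ * w' ∈ Z i := by
    intro w w' e
    refine hKle _ fun t => ?_
    obtain ⟨v, hv, ht⟩ : ∃ v ∈ W, t = v * (QuotientGroup.mk t : T ⧸ W).out := by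
      refine ⟨t * ((QuotientGroup.mk t : T ⧸ W).out)⁻¹, ?_, (inv_mul_cancel_right t _).symm⟩
      have := h.normal_W.conj_mem _ (QuotientGroup.eq.1 (QuotientGroup.out_eq' (QuotientGroup.mk t : T ⧸ W)))
        ((QuotientGroup.mk t : T ⧸ W).out)
      rwa [mul_inv_cancel_left] at this
    set s := (QuotientGroup.mk t : T ⧸ W).out
    have hiff : s * (w : T) * s⁻¹ ∈ M' ↔ s * (w' : T) * s⁻¹ ∈ M' := decide_eq_decide.1 (congrFun e (QuotientGroup.mk t))
    have h1 : (s * (w : T) * s⁻¹)⁻¹ * (s * (w' : T) * s⁻¹) ∈ M' := by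
      by_cases hm : s * (w : T) * s⁻¹ ∈ M'
      · exact M'.mul_mem (M'.inv_mem hm) (hiff.1 hm)
      · exact hidx _ (W.inv_mem (hcW s w)) _ (hcW s w') (fun hh => hm ((inv_mem_iff).1 hh)) (fun hh => hm (hiff.2 hh))
    have h2 := hMn _ h1 v hv
    convert h2 using 1
    rw [ht]; group
  haveI : Fintype (T ⧸ W) := Fintype.ofFinite _
  have hinj : Function.Injective (fun q : ↥W ⧸ (Z i).subgroupOf W => P q.out) := by
    intro q q' e
    rw [← QuotientGroup.out_eq' q, ← QuotientGroup.out_eq' q']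
    exact QuotientGroup.eq.2 (hP _ _ e)
  have h1 := Nat.card_le_card_of_injective _ hinj
  rw [← Subgroup.index_eq_card, Nat.card_fun, Nat.card_eq_fintype_card (α := Bool), Fintype.card_bool,
    ← Subgroup.index_eq_card] at h1
  have h2 := ((Z i).subgroupOf W).card_mul_index
  rw [Nat.card_congr (subgroupOfEquivOfLe ((Subgroup.upperCentralSeries_mono T hi).trans h.Z3_le)).toEquiv,
    h.card_Z (by omega)] at h2
  rw [← h2]
  exact Nat.mul_le_mul_left _ h1

include h in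
theorem index_eq : W.index = 8 := by
  refine le_antisymm h.index_W ?_
  by_contra hlt
  push Not at hlt
  have h1 := h.card_bound le_rfl h.phi_le
  have h2 : 2 ^ W.index ≤ 2 ^ 7 := Nat.pow_le_pow_right (by norm_num) (by omega)
  have h3 := h.card_W_ge
  norm_num at h1 h2 h3
  omega

include h in
theorem card_W : Nat.card ↥W = 2 ^ 11 := by
  refine le_antisymm ?_ h.card_W_ge
  have h1 := h.card_bound le_rfl h.phi_le
  rw [h.index_eq] at h1
  norm_num at h1 ⊢
  omega

include h in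
theorem phi_ge : Z 3 ≤ phi W := by
  haveI := h.normal_W
  haveI : (phi W).Normal := ConjAct.normal_of_characteristic_of_normal
  rcases h.normal_le (i := 2) (by norm_num) (phi W) with h1 | h1
  · exfalso
    have h2 := h.card_bound (i := 2) (by norm_num) h1
    rw [h.index_eq, h.card_W] at h2
    norm_num at h2
  · intro y hy
    by_contra hy'
    have h2 : phi W ≤ Z 2 := by
      intro x hx
      by_contra hx2
      have h3 := h.mul_mem_Z (i := 2) (by norm_num) hy ((Z 3).inv_mem (h.phi_le hx))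
      have hy2 : y ∉ Z 2 := fun hh => hy' (h1 hh)
      have := (phi W).mul_mem (h1 (h3.2 (by simp [hy2, hx2]))) hx
      rw [inv_mul_cancel_right] at this
      exact hy' this
    have h3 := h.card_bound (i := 2) (by norm_num) h2
    rw [h.index_eq, h.card_W] at h3
    norm_num at h3

include h in
theorem phi_eq : phi W = Z 3 := le_antisymm h.phi_le h.phi_ge

include h in
/-- `W' = Z₃`. -/
theorem commutator_eq : (commutator ↥W).map W.subtype = Z 3 := by
  haveI := h.normal_W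
  set D := (commutator ↥W).map W.subtype with hD
  haveI : D.Normal := ConjAct.normal_of_characteristic_of_normal
  have hmem : ∀ x ∈ W, ∀ y ∈ W, x * y * x⁻¹ * y⁻¹ ∈ D := fun x hx y hy =>
    ⟨⟨x, hx⟩ * ⟨y, hy⟩ * ⟨x, hx⟩⁻¹ * ⟨y, hy⟩⁻¹, by
      rw [commutator_def, ← commutatorElement_def]
      exact commutator_mem_commutator (mem_top _) (mem_top _), rfl⟩
  have hle : D ≤ Z 3 := by
    rw [hD, Subgroup.map_le_iff_le_comap, commutator_def, commutator_le]
    intro x _ y _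
    exact h.phi_le (h.comm_mem x.2 y.2)
  have hnot : ¬ D ≤ Z 2 := fun h2 => by
    have hsq : ∀ {x y}, x ∈ W → y ∈ W → (x * y * (x * y) ∈ Z 2 ↔ (x * x) * (y * y) ∈ Z 2) := by
      intro x y hx hy
      have hd : y * x * y⁻¹ * x⁻¹ ∈ Z 2 := h2 (hmem y hy x hx)
      have hc := h.comm_W hx (Z_le_succ 2 hd)
      have e : x * y * (x * y) = (y * x * y⁻¹ * x⁻¹) * ((x * x) * (y * y)) := by
        calc x * y * (x * y) = x * ((y * x * y⁻¹ * x⁻¹) * x) * y * y := by group
          _ = (x * (y * x * y⁻¹ * x⁻¹)) * x * y * y := by group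
          _ = _ := by rw [← hc]; group
      rw [e, (Z 2).mul_mem_cancel_left hd]
    have hZW : Z 2 ≤ W := (Z_le_succ 2).trans h.Z3_le
    let S : Subgroup T :=
      { carrier := {x | x ∈ W ∧ x * x ∈ Z 2}
        one_mem' := ⟨W.one_mem, by simp [one_mem]⟩
        mul_mem' := fun {x y} hx hy => ⟨W.mul_mem hx.1 hy.1, (hsq hx.1 hy.1).2 ((Z 2).mul_mem hx.2 hy.2)⟩
        inv_mem' := fun {x} hx => ⟨W.inv_mem hx.1, by rw [← mul_inv_rev]; exact (Z 2).inv_mem hx.2⟩ }
    have hidx : S.relIndex W ≤ 2 := by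
      rw [Subgroup.relIndex]
      by_cases htop : S.subgroupOf W = ⊤
      · rw [htop, Subgroup.index_top]; norm_num
      obtain ⟨x, -, hx⟩ := SetLike.exists_of_lt (lt_top_iff_ne_top.2 htop)
      refine (Subgroup.index_eq_two_iff.2 ⟨x, fun y => ?_⟩).le
      by_cases hy : y ∈ S.subgroupOf W
      · exact Or.inr ⟨hy, fun hh => hx (((S.subgroupOf W).mul_mem_cancel_left hy).1 hh)⟩
      · refine Or.inl ⟨?_, hy⟩
        simp only [Subgroup.mem_subgroupOf] at hx hy ⊢
        refine ⟨W.mul_mem y.2 x.2, (hsq y.2 x.2).2 ((h.mul_mem_Z (by norm_num) (h.sq_mem y.2) (h.sq_mem x.2)).2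
          (iff_of_false (fun hh => hy ⟨y.2, hh⟩) (fun hh => hx ⟨x.2, hh⟩)))⟩
    have hΦS : phi W ≤ S := fun y hy => by
      have hy3 := h.phi_le hy
      have hyW := h.Z3_le hy3
      exact ⟨hyW, by
        by_cases hy2 : y ∈ Z 2
        · exact (Z 2).mul_mem hy2 hy2
        · exact (h.mul_mem_Z (by norm_num) hy3 hy3).2 Iff.rfl⟩
    have := h.no_small S (Z 2) (fun x hx => hx.1) (hidx.trans (by norm_num))
      (fun x hx => ⟨hZW hx, (Z 2).mul_mem hx hx⟩) (fun x hx => hx.2) hΦS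
    rw [h.phi_eq] at this
    have h5 := card_le_of_le this
    rw [h.card_Z (by norm_num), h.card_Z (by norm_num)] at h5
    norm_num at h5
  rcases h.normal_le (i := 2) (by norm_num) D with h2 | h2
  · exact absurd h2 hnot
  · refine le_antisymm hle fun x hx => ?_
    by_contra hxD
    have hx2 : x ∉ Z 2 := fun hh => hxD (h2 hh)
    refine hnot fun y hy => ?_
    by_contra hy2
    have := D.mul_mem (h2 ((h.mul_mem_Z (i := 2) (by norm_num) hx ((Z 3).inv_mem (hle hy))).2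
      (iff_of_false hx2 fun hh => hy2 ((inv_mem_iff).1 hh)))) hy
    rw [inv_mul_cancel_right] at this
    exact hxD this

include h in
/-- `Z₃` is elementary. -/
theorem Z3_sq {x : T} (hx : x ∈ Z 3) : x * x = 1 := by
  rw [← h.commutator_eq] at hx
  obtain ⟨x, hx, rfl⟩ := hx
  rw [SetLike.mem_coe, commutator_def, Subgroup.commutator_def] at hx
  suffices x * x = 1 by rw [← map_mul, this, map_one]
  induction hx using Subgroup.closure_induction with
  | mem v hv =>
    obtain ⟨a, -, b, -, rfl⟩ := hv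
    refine Subtype.ext ?_
    show ((a : T) * b * (a : T)⁻¹ * (b : T)⁻¹) * ((a : T) * b * (a : T)⁻¹ * (b : T)⁻¹) = 1
    set d := (a : T) * b * (a : T)⁻¹ * (b : T)⁻¹ with hd
    have hd3 : d ∈ Z 3 := h.phi_le (h.comm_mem a.2 b.2)
    have hc := h.comm_W a.2 hd3
    have hs := h.comm_W b.2 (h.sq_mem a.2)
    have e1 : (a : T) * d * (a : T)⁻¹ = d := by rw [← hc, mul_inv_cancel_right]
    calc d * d = ((a : T) * d * (a : T)⁻¹) * d := by rw [e1]
      _ = ((a : T) * a * b) * ((a : T) * a)⁻¹ * (b : T)⁻¹ := by rw [hd]; group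
      _ = 1 := by rw [hs]; group
  | one => simp
  | mul u v hu hv ihu ihv =>
    have hc : u * v = v * u := by
      refine Subtype.ext (h.comm_W v.2 ?_)
      rw [← Subgroup.commutator_def, ← commutator_def] at hu
      rw [← h.commutator_eq]
      exact ⟨u, hu, rfl⟩
    rw [show u * v * (u * v) = u * (v * u) * v by group, ← hc, show u * (u * v) * v = (u * u) * (v * v) by group, ihu, ihv, one_mul]
  | inv u _ ihu => rw [← mul_inv_rev, ihu, inv_one]

include h in
theorem sq_comm {x y : T} (hx : x ∈ W) (hy : y ∈ W) : x * x * y = y * (x * x) := h.comm_W hy (h.sq_mem hx)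

include h in
theorem conj3 {t x : T} (hx : x ∈ Z 3) : t * x * t⁻¹ ∈ Z 3 := (inferInstance : (Z 3).Normal).conj_mem x hx t

include h in
theorem comm33 {x y : T} (hx : x ∈ Z 3) (hy : y ∈ Z 3) : x * y = y * x := h.comm_W (h.Z3_le hy) hx

include h in
/-- Every action on the frame occurs. -/
theorem exists_code {a b c : T} (f : Frame a b c) (j k l : Fin 2) :
    ∃ t : T, code a b t = (b ^ (j : ℕ) * c ^ (k : ℕ) * a, c ^ (l : ℕ) * b) := by
  classical
  haveI := h.normal_W
  let S : Finset (T × T) := Finset.univ.image fun p : Fin 2 × Fin 2 × Fin 2 =>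
    (b ^ (p.1 : ℕ) * c ^ (p.2.1 : ℕ) * a, c ^ (p.2.2 : ℕ) * b)
  have hmem : ∀ t, code a b t ∈ S := fun t => by
    obtain ⟨⟨j, k, e1⟩, k', e2⟩ := h.code_mem f t
    exact Finset.mem_image.2 ⟨(j, k, k'), Finset.mem_univ _, Prod.ext e1.symm e2.symm⟩
  haveI := Fintype.ofFinite (T ⧸ W)
  have hinj : Function.Injective (fun q : T ⧸ W => (⟨code a b q.out, hmem _⟩ : S)) := by
    intro q q' e
    have := h.same_code f (congrArg Subtype.val e)
    rw [← QuotientGroup.out_eq' q, ← QuotientGroup.out_eq' q']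
    exact (QuotientGroup.eq.2 this).symm
  have hS : S.card ≤ 8 := Finset.card_image_le.trans (by simp)
  have hb : Function.Bijective (fun q : T ⧸ W => (⟨code a b q.out, hmem _⟩ : S)) := by
    refine (Nat.bijective_iff_injective_and_card _).2 ⟨hinj, le_antisymm (Nat.card_le_card_of_injective _ hinj) ?_⟩
    rw [Nat.card_eq_finsetCard, ← Subgroup.index_eq_card, h.index_eq]
    exact hS
  obtain ⟨q, hq⟩ := hb.2 ⟨(b ^ (j : ℕ) * c ^ (k : ℕ) * a, c ^ (l : ℕ) * b),
    Finset.mem_image.2 ⟨(j, k, l), Finset.mem_univ _, rfl⟩⟩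
  exact ⟨q.out, congrArg Subtype.val hq⟩

include h in
theorem code_mul {a b c : T} (f : Frame a b c) {t u : T} {j k l : Fin 2} {j' k' l' : Fin 2}
    (ht : code a b t = (b ^ (j : ℕ) * c ^ (k : ℕ) * a, c ^ (l : ℕ) * b))
    (hu : code a b u = (b ^ (j' : ℕ) * c ^ (k' : ℕ) * a, c ^ (l' : ℕ) * b)) :
    code a b (t * u) = ((c ^ (l : ℕ) * b) ^ (j' : ℕ) * c ^ (k' : ℕ) * (b ^ (j : ℕ) * c ^ (k : ℕ) * a),
      c ^ (l' : ℕ) * (c ^ (l : ℕ) * b)) := by
  simp only [code, Prod.mk.injEq] at ht hu ⊢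
  have hc : ∀ n : ℕ, t * c ^ n * t⁻¹ = c ^ n := fun n => by
    rw [central ((Z 1).pow_mem f.c1 n) t, mul_inv_cancel_right]
  constructor
  · calc t * u * a * (t * u)⁻¹ = t * (u * a * u⁻¹) * t⁻¹ := by group
      _ = (t * b * t⁻¹) ^ (j' : ℕ) * (t * c ^ (k' : ℕ) * t⁻¹) * (t * a * t⁻¹) := by rw [hu.1, conj_pow]; group
      _ = _ := by rw [hc, ht.1, ht.2]
  · calc t * u * b * (t * u)⁻¹ = t * (u * b * u⁻¹) * t⁻¹ := by group
      _ = (t * c ^ (l' : ℕ) * t⁻¹) * (t * b * t⁻¹) := by rw [hu.2]; group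
      _ = _ := by rw [hc, ht.2]

/-- The rotation and the reflection. -/
structure Rot (W : Subgroup T) (a b c r s : T) : Prop where
  r1 : code a b r = (b * a, c * b)
  r2 : code a b (r * r) = (c * a, b)
  r4 : r * r * (r * r) ∈ W
  s1 : code a b s = (a, c * b)
  s2 : s * s ∈ W
  sr : (r * r * r * s)⁻¹ * (s * r) ∈ W

include h in
theorem exists_rot {a b c : T} (f : Frame a b c) : ∃ r s : T, Rot W a b c r s := by
  obtain ⟨r, hr⟩ := h.exists_code f 1 0 1
  obtain ⟨s, hs⟩ := h.exists_code f 0 0 1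
  have hbb : b * b = 1 := h.Z3_sq (Z_le_succ 2 f.b2)
  have hcc : c * c = 1 := h.Z3_sq (Z_le_succ 2 (Z_le_succ 1 f.c1))
  have hcb : c * b = b * c := (central f.c1 b).symm
  have hca : c * a = a * c := (central f.c1 a).symm
  have r1 : code a b r = (b * a, c * b) := by simpa using hr
  have s1 : code a b s = (a, c * b) := by simpa using hs
  have hrr : code a b (r * r) = (c * a, b) := by
    rw [h.code_mul f hr hr]
    simp only [Fin.val_one, Fin.val_zero, pow_one, pow_zero, mul_one, Prod.mk.injEq]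
    exact ⟨by rw [show c * b * (b * a) = c * (b * b) * a by group, hbb, mul_one], by rw [← mul_assoc, hcc, one_mul]⟩
  have hrr' : code a b (r * r) = (b ^ ((0 : Fin 2) : ℕ) * c ^ ((1 : Fin 2) : ℕ) * a, c ^ ((0 : Fin 2) : ℕ) * b) := by
    simpa using hrr
  have h1 : code a b 1 = (a, b) := by simp [code]
  have hr4 : code a b (r * r * (r * r)) = (a, b) := by
    rw [h.code_mul f hrr' hrr']
    simp only [Fin.val_one, Fin.val_zero, pow_one, pow_zero, one_mul, Prod.mk.injEq, and_true]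
    rw [← mul_assoc, hcc, one_mul]
  have hs2 : code a b (s * s) = (a, b) := by
    rw [h.code_mul f hs hs]
    simp only [Fin.val_one, Fin.val_zero, pow_one, pow_zero, one_mul, Prod.mk.injEq, true_and]
    rw [← mul_assoc, hcc, one_mul]
  have hr3 : code a b (r * r * r) = (b * (c * a), c * b) := by
    rw [h.code_mul f hrr' hr]
    simp
  have hr3' : code a b (r * r * r) = (b ^ ((1 : Fin 2) : ℕ) * c ^ ((1 : Fin 2) : ℕ) * a, c ^ ((1 : Fin 2) : ℕ) * b) := by
    rw [hr3]; simp [mul_assoc]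
  have hsr : code a b (s * r) = code a b (r * r * r * s) := by
    rw [h.code_mul f hs hr, h.code_mul f hr3' hs]
    simp [mul_assoc, hcb]

  have hone : ∀ {x : T}, code a b x = (a, b) → x ∈ W := fun {x} e => by
    have := h.same_code f (e.trans h1.symm)
    rwa [inv_one, one_mul] at this
  exact ⟨r, s, r1, hrr, hone hr4, s1, hone hs2, h.same_code f hsr⟩

omit h in
theorem code_ne {a b c : T} (f : Frame a b c) : b * a ≠ a ∧ c * a ≠ a ∧ c * b ≠ b := by
  refine ⟨fun e => f.b1 ?_, fun e => f.c0 (mul_eq_right.1 e), fun e => f.c0 (mul_eq_right.1 e)⟩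
  rw [mul_eq_right.1 e]; exact one_mem _

include h in
theorem code_quot {a b c : T} (f : Frame a b c) {x y : T} (e : (QuotientGroup.mk x : T ⧸ W) = QuotientGroup.mk y) :
    code a b x = code a b y := by
  have hw : x⁻¹ * y ∈ W := QuotientGroup.eq.1 e
  have h1 := h.comm_W hw f.a3
  have h2 := h.comm_W hw (Z_le_succ 2 f.b2)
  have hy : y = x * (x⁻¹ * y) := by group
  simp only [code, Prod.mk.injEq]
  constructor
  · calc x * a * x⁻¹ = x * (a * (x⁻¹ * y)) * y⁻¹ := by group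
      _ = x * (x⁻¹ * y * a) * y⁻¹ := by rw [h1]
      _ = _ := by group
  · calc x * b * x⁻¹ = x * (b * (x⁻¹ * y)) * y⁻¹ := by group
      _ = x * (x⁻¹ * y * b) * y⁻¹ := by rw [h2]
      _ = _ := by group

include h in
theorem dihedral : ∃ _ : W.Normal, Nonempty (T ⧸ W ≃* DihedralGroup 4) := by
  haveI := h.normal_W
  refine ⟨h.normal_W, ?_⟩
  obtain ⟨a, b, c, f⟩ := h.exists_frame
  obtain ⟨r, s, R⟩ := h.exists_rot f
  obtain ⟨nba, nca, ncb⟩ := code_ne f
  haveI : Fact (Nat.Prime 2) := ⟨Nat.prime_two⟩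
  set π := QuotientGroup.mk' W with hπ
  have h1 : code a b 1 = (a, b) := by simp [code]
  have hR4 : orderOf (π r) = 2 ^ (1 + 1) := by
    refine orderOf_eq_prime_pow (fun e => ?_) ?_
    · rw [pow_one, sq, ← map_mul] at e
      have := h.code_quot f (e.trans (map_one π).symm : π (r * r) = π 1)
      rw [R.r2, h1] at this
      exact nca (congrArg Prod.fst this)
    · show π r ^ 4 = 1
      rw [← map_pow, show r ^ 4 = r * r * (r * r) by simp only [pow_succ, pow_zero, one_mul, mul_assoc]]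
      exact (QuotientGroup.eq_one_iff _).2 R.r4
  let C := zpowers (π r)
  have hC : Nat.card C = 4 := by rw [Nat.card_zpowers, hR4]; rfl
  have hys : π s * π s = 1 := by rw [← map_mul]; exact (QuotientGroup.eq_one_iff _).2 R.s2
  have hsout : π s ∉ C := by
    intro hmem
    rw [← mem_powers_iff_mem_zpowers] at hmem
    obtain ⟨i, hi⟩ := hmem
    change π r ^ i = π s at hi
    rw [← pow_mod_orderOf, hR4] at hi
    have hlt : i % 2 ^ (1 + 1) < 4 := Nat.mod_lt _ (by norm_num)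
    generalize i % 2 ^ (1 + 1) = m at hi hlt
    rw [← map_pow] at hi
    have hq := h.code_quot f (hi : (QuotientGroup.mk (r ^ m) : T ⧸ W) = QuotientGroup.mk s)
    rw [R.s1] at hq
    interval_cases m
    · rw [pow_zero, h1] at hq; exact ncb (congrArg Prod.snd hq).symm
    · rw [pow_one, R.r1] at hq; exact nba (congrArg Prod.fst hq)
    · rw [sq, R.r2] at hq; exact nca (congrArg Prod.fst hq)
    · rw [show r ^ 3 = r * r * r by simp only [pow_succ, pow_zero, one_mul]] at hq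
      have hr2' : code a b (r * r) = (b ^ ((0 : Fin 2) : ℕ) * c ^ ((1 : Fin 2) : ℕ) * a, c ^ ((0 : Fin 2) : ℕ) * b) := by
        simpa using R.r2
      have hr' : code a b r = (b ^ ((1 : Fin 2) : ℕ) * c ^ ((0 : Fin 2) : ℕ) * a, c ^ ((1 : Fin 2) : ℕ) * b) := by
        simpa using R.r1
      rw [h.code_mul f hr2' hr'] at hq
      simp at hq
      apply f.b1
      rw [← mul_assoc] at hq
      have hbc : b = c⁻¹ := eq_inv_of_mul_eq_one_left (mul_eq_right.1 hq)
      rw [hbc]; exact inv_mem f.c1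
  have hconjr : π s * π r * (π s)⁻¹ = (π r)⁻¹ := by
    have e : π (r * r * r * s) = π (s * r) := QuotientGroup.eq.2 R.sr
    have e4 : π r * π r * π r * π r = 1 := by
      rw [← map_mul, ← map_mul, ← map_mul, show r * r * r * r = r * r * (r * r) by group]
      exact (QuotientGroup.eq_one_iff _).2 R.r4
    rw [map_mul, map_mul, map_mul, map_mul] at e
    rw [← e, mul_inv_cancel_right]
    exact eq_inv_of_mul_eq_one_left e4
  refine Classical.DihedralO2.nonempty_dihedral hC C.subtype C.subtype_injective (π s) hys ?_ ?_ ?_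
  · rintro ⟨x, i, rfl⟩
    show π s * π r ^ i * (π s)⁻¹ = (π r ^ i)⁻¹
    rw [← conj_zpow, hconjr, inv_zpow]
  · exact fun x e => hsout (e ▸ x.2)
  · have hidx : C.index = 2 := by
      have := C.card_mul_index
      rw [hC, ← Subgroup.index_eq_card, h.index_eq] at this
      omega
    intro g
    by_cases hg : g ∈ C
    · exact ⟨⟨g, hg⟩, Or.inl rfl⟩
    · exact ⟨⟨g * (π s)⁻¹, (Subgroup.mul_mem_iff_of_index_two hidx).2
        (iff_of_false hg fun hh => hsout ((inv_mem_iff).1 hh))⟩, Or.inr (inv_mul_cancel_right g _).symm⟩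

/-- The nontrivial value. -/
def o : Multiplicative (ZMod 2) := Multiplicative.ofAdd 1

omit h in
theorem o_sq : o * o = 1 := by decide

omit h in
theorem o_ne : o ≠ 1 := by decide

omit h in
theorem all_sq : ∀ x : Multiplicative (ZMod 2), x * x = 1 := by decide

omit h in
theorem three_forms : ∀ p q r u v w : Multiplicative (ZMod 2),
    p = 1 ∨ q = 1 ∨ r = 1 ∨ p * q * u = 1 ∨ p * r * v = 1 ∨ q * r * w = 1 ∨ (p * q * u) * r * (v * w) = 1 := by decide

/-- Whether a point of `Z₃` lies in `Z₂`. -/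
noncomputable def φ (x : T) : Multiplicative (ZMod 2) := if x ∈ Subgroup.upperCentralSeries T 2 then 1 else o

/-- The commutator form. -/
noncomputable def B (x y : T) : Multiplicative (ZMod 2) := φ (x * y * x⁻¹ * y⁻¹)

include h in
theorem φ_mul {x y : T} (hx : x ∈ Z 3) (hy : y ∈ Z 3) : φ (x * y) = φ x * φ y := by
  have := h.mul_mem_Z (i := 2) (by norm_num) hx hy
  by_cases h1 : x ∈ Z 2 <;> by_cases h2 : y ∈ Z 2 <;> simp [φ, this, h1, h2, o_sq]

omit h in
theorem φ_eq_one {x : T} : φ x = 1 ↔ x ∈ Z 2 := by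
  unfold φ
  split_ifs with h <;> simp [h, o_ne]

include h in
theorem φ_conj {x : T} (hx : x ∈ Z 3) (t : T) : φ (t * x * t⁻¹) = φ x := by
  rw [show t * x * t⁻¹ = (t * x * t⁻¹ * x⁻¹) * x by group, h.φ_mul (Z_le_succ 2 (conj_mem_Z hx t)) hx,
    φ_eq_one.2 (conj_mem_Z hx t), one_mul]

include h in
theorem B_mem {x y : T} (hx : x ∈ W) (hy : y ∈ W) : x * y * x⁻¹ * y⁻¹ ∈ Z 3 := h.phi_le (h.comm_mem hx hy)

include h in
theorem B_swap {x y : T} (hx : x ∈ W) (hy : y ∈ W) : B y x = B x y := by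
  unfold B
  have h3 := h.B_mem hx hy
  rw [show y * x * y⁻¹ * x⁻¹ = (x * y * x⁻¹ * y⁻¹)⁻¹ by group, inv_eq_of_mul_eq_one_right (h.Z3_sq h3)]

include h in
theorem B_mul {x y y' : T} (hx : x ∈ W) (hy : y ∈ W) (hy' : y' ∈ W) : B x (y * y') = B x y * B x y' := by
  unfold B
  rw [← h.φ_mul (h.B_mem hx hy) (h.B_mem hx hy')]
  congr 1
  calc x * (y * y') * x⁻¹ * (y * y')⁻¹ = (x * y * x⁻¹ * y⁻¹) * (y * (x * y' * x⁻¹ * y'⁻¹) * y⁻¹) := by group
    _ = _ := by rw [← h.comm_W hy (h.B_mem hx hy'), mul_inv_cancel_right]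

include h in
theorem B_conj {x y : T} (hx : x ∈ W) (hy : y ∈ W) (t : T) : B (t * x * t⁻¹) (t * y * t⁻¹) = B x y := by
  unfold B
  rw [← h.φ_conj (h.B_mem hx hy) t]
  congr 1
  group

include h in
theorem B_central {x y : T} (hx : x ∈ W) (hy : y ∈ Z 3) : B x y = 1 := by
  unfold B
  rw [← h.comm_W hx hy, mul_inv_cancel_right, mul_inv_cancel]
  exact φ_eq_one.2 (one_mem _)

omit h in
theorem B_self (x : T) : B x x = 1 := φ_eq_one.2 (by simp [one_mem])

include h in
theorem q_mul {x y : T} (hx : x ∈ W) (hy : y ∈ W) : φ (x * y * (x * y)) = φ (x * x) * φ (y * y) * B x y := by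
  have h1 := h.B_mem hy hx
  rw [← h.B_swap hx hy]
  unfold B
  rw [← h.φ_mul (h.sq_mem hx) (h.sq_mem hy), ← h.φ_mul ((Z 3).mul_mem (h.sq_mem hx) (h.sq_mem hy)) h1]
  congr 1
  have hc := h.comm_W hx h1
  rw [h.comm33 ((Z 3).mul_mem (h.sq_mem hx) (h.sq_mem hy)) h1]
  calc x * y * (x * y) = x * ((y * x * y⁻¹ * x⁻¹) * x) * y * y := by group
    _ = (x * (y * x * y⁻¹ * x⁻¹)) * x * y * y := by group
    _ = _ := by rw [← hc]; group

omit h in
theorem card_sup_le_two_mul {P : Type*} [Group P] [Finite P] (S : Subgroup P) [S.Normal] (hsq : ∀ x : P, x * x ∈ S) (y : P) :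
    S.index ≤ 2 * (S ⊔ zpowers y).index := by
  have h1 := Subgroup.relIndex_mul_index (le_sup_left : S ≤ S ⊔ zpowers y)
  rw [← h1]
  refine Nat.mul_le_mul_right _ ?_
  rw [Subgroup.relIndex, Subgroup.index_eq_card]
  have hy : y ∈ S ⊔ zpowers y := mem_sup_right (mem_zpowers y)
  refine le_trans (Nat.card_le_card_of_surjective (fun i : Fin 2 =>
    (QuotientGroup.mk (⟨y, hy⟩ ^ (i : ℕ)) : ↥(S ⊔ zpowers y) ⧸ S.subgroupOf (S ⊔ zpowers y))) fun q => ?_)
    (by rw [Nat.card_fin])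
  obtain ⟨⟨x, hx⟩, rfl⟩ := QuotientGroup.mk_surjective q
  obtain ⟨u, hu, v, hv, rfl⟩ := Subgroup.mem_sup_of_normal_left.1 hx
  obtain ⟨i, rfl⟩ := hv
  have hmem : ∀ {e : ℕ}, (y ^ e)⁻¹ * y ^ i ∈ S → (y ^ e)⁻¹ * (u * y ^ i) ∈ S := fun {e} he => by
    rw [show (y ^ e)⁻¹ * (u * y ^ i) = ((y ^ e)⁻¹ * u * (y ^ e)⁻¹⁻¹) * ((y ^ e)⁻¹ * y ^ i) by group]
    exact S.mul_mem ((inferInstance : S.Normal).conj_mem u hu _) he
  have h2 : ∀ j : ℤ, y ^ (j + j) ∈ S := fun j => by
    rw [← two_mul, zpow_mul, zpow_two]; exact S.zpow_mem (hsq y) j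
  rcases Int.even_or_odd i with ⟨j, rfl⟩ | ⟨j, rfl⟩
  · exact ⟨0, QuotientGroup.eq.2 (hmem (by rw [Fin.val_zero, pow_zero, inv_one, one_mul]; exact h2 j))⟩
  · exact ⟨1, QuotientGroup.eq.2 (hmem (by
      rw [Fin.val_one, pow_one, ← zpow_neg_one, ← zpow_add, show (-1 : ℤ) + (2 * j + 1) = j + j by ring]
      exact h2 j))⟩

include h in
theorem center_eq : (Subgroup.center ↥W).map W.subtype = Z 3 := by
  classical
  haveI := h.normal_W
  set C := (Subgroup.center ↥W).map W.subtype with hCdef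
  haveI : C.Normal := ConjAct.normal_of_characteristic_of_normal
  have hC : ∀ {x y}, x ∈ C → y ∈ W → x * y = y * x := by
    rintro _ y ⟨x, hx, rfl⟩ hy
    exact (congrArg Subtype.val (mem_center_iff.1 hx ⟨y, hy⟩)).symm
  have h3C : Z 3 ≤ C := fun x hx => ⟨⟨x, h.Z3_le hx⟩,
    mem_center_iff.2 fun y => Subtype.ext (h.comm_W y.2 hx).symm, rfl⟩
  refine le_antisymm ?_ h3C
  intro x0 hx0
  by_contra hx03
  have h4C : Z 4 ≤ C := (h.normal_le (i := 4) le_rfl C).elim (fun hle => by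
    have hlt : Nat.card ↥(Z 3) < Nat.card ↥C := lt_of_le_of_ne (card_le_of_le h3C) fun e =>
      hx03 ((eq_of_le_of_card_ge h3C e.ge).ge hx0)
    rw [h.card_Z (by norm_num)] at hlt
    obtain ⟨k, hk⟩ := (haveI : Fact (Nat.Prime 2) := ⟨Nat.prime_two⟩; IsPGroup.iff_card.1 (h.p2.to_subgroup C))
    rw [hk] at hlt
    have hk4 : 4 ≤ k := (Nat.pow_lt_pow_iff_right (by norm_num : 1 < 2)).1 hlt
    exact (eq_of_le_of_card_ge hle (by
      rw [h.card_Z le_rfl, hk]; exact Nat.pow_le_pow_right (by norm_num) hk4)).ge) id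
  obtain ⟨u, hu, huW, M, huM, hMW, hidx, hMn, hZM, hKle⟩ := h.exists_profile le_rfl h.phi_le
  have huC : u ∈ C := h4C hu
  have hcW : ∀ {t w : T}, w ∈ W → t * w * t⁻¹ ∈ W := fun {t w} hw => h.normal_W.conj_mem w hw t
  let μ : T → Multiplicative (ZMod 2) := fun w => if w ∈ M then 1 else o
  have hμ : ∀ {x y}, x ∈ W → y ∈ W → μ (x * y) = μ x * μ y := by
    intro x y hx hy
    by_cases h1 : x ∈ M <;> by_cases h2 : y ∈ M
    · simp [μ, h1, h2, M.mul_mem h1 h2]
    · simp [μ, h1, h2, M.mul_mem_cancel_left h1]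
    · simp [μ, h1, h2, M.mul_mem_cancel_right h2]
    · simp [μ, h1, h2, hidx x hx y hy h1 h2, o_sq]
  let Ψ : ↥W →* (T ⧸ W → Multiplicative (ZMod 2)) :=
    { toFun := fun w q => μ (q.out * w * q.out⁻¹)
      map_one' := funext fun q => by simp [μ, M.one_mem]
      map_mul' := fun x y => funext fun q => by
        show μ _ = μ _ * μ _
        rw [← hμ (hcW x.2) (hcW y.2)]
        congr 1
        simp only [Subgroup.coe_mul]; group }
  have hker : ∀ w : ↥W, Ψ w = 1 → (w : T) ∈ Z 3 := by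
    intro w e
    refine hKle _ fun t => ?_
    set s := (QuotientGroup.mk t : T ⧸ W).out with hs
    have h1 : μ (s * w * s⁻¹) = 1 := congrFun e (QuotientGroup.mk t)
    have h2 : s * (w : T) * s⁻¹ ∈ M := by
      by_contra hh
      exact o_ne (by simpa [μ, hh] using h1)
    have hv : t * s⁻¹ ∈ W := by
      have := h.normal_W.conj_mem _ (QuotientGroup.eq.1 (QuotientGroup.out_eq' (QuotientGroup.mk t : T ⧸ W))) s
      rwa [mul_inv_cancel_left] at this
    have h3 := hMn _ h2 _ hv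
    rwa [show t * s⁻¹ * (s * (w : T) * s⁻¹) * (t * s⁻¹)⁻¹ = t * w * t⁻¹ by group] at h3
  have hΨ : Function.Surjective Ψ := by
    rw [← MonoidHom.range_eq_top, ← Subgroup.index_eq_one]
    have h1 : Nat.card Ψ.ker ≤ 8 := by
      have := card_le_of_le (show Ψ.ker.map W.subtype ≤ Z 3 by rintro _ ⟨w, hw, rfl⟩; exact hker w hw)
      rwa [card_map_of_injective W.subtype_injective, h.card_Z (by norm_num)] at this
    have h2 := Ψ.ker.card_mul_index
    rw [Subgroup.index_ker, h.card_W] at h2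
    have h3 := Ψ.range.card_mul_index
    haveI := Fintype.ofFinite (T ⧸ W)
    have h5 : Nat.card (T ⧸ W → Multiplicative (ZMod 2)) = 256 := by
      rw [Nat.card_fun, ← Subgroup.index_eq_card, h.index_eq,
        show Nat.card (Multiplicative (ZMod 2)) = 2 from Nat.card_zmod 2]
      rfl
    rw [h5] at h3
    rw [show (2 : ℕ) ^ 11 = 2048 by norm_num] at h2
    have h6 : 256 ≤ Nat.card Ψ.range := by
      by_contra hh
      have := Nat.mul_le_mul h1 (show Nat.card Ψ.range ≤ 255 by omega)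
      omega
    have h7 : Nat.card Ψ.range ≠ 0 := Nat.card_pos.ne'
    nlinarith [Nat.pos_of_ne_zero (Subgroup.index_ne_zero_of_finite (H := Ψ.range))]
  obtain ⟨w0', hw0'⟩ := hΨ (Pi.mulSingle 1 o)
  set w0 : T := (w0' : T)
  let wg : T → T := fun g => g * w0 * g⁻¹
  have hwg : ∀ g, wg g ∈ W := fun g => hcW w0'.2
  have hΨg : ∀ g q, μ (q.out * wg g * q.out⁻¹) = if q * (g : T ⧸ W) = 1 then o else 1 := by
    intro g q
    set q' := q * (g : T ⧸ W) with hq'
    have h1 : μ (q'.out * w0 * q'.out⁻¹) = if q' = 1 then o else 1 := by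
      have := congrFun hw0' q'
      rw [Pi.mulSingle_apply] at this
      exact this
    rw [← h1]
    have hv : q.out * g * q'.out⁻¹ ∈ W := by
      have he : (QuotientGroup.mk (q.out * g) : T ⧸ W) = QuotientGroup.mk q'.out := by
        rw [QuotientGroup.mk_mul, QuotientGroup.out_eq', QuotientGroup.out_eq', hq']
      have := h.normal_W.conj_mem _ (QuotientGroup.eq.1 he.symm) q'.out
      rwa [mul_inv_cancel_left] at this
    have e : q.out * wg g * q.out⁻¹ = (q.out * g * q'.out⁻¹) * (q'.out * w0 * q'.out⁻¹) * (q.out * g * q'.out⁻¹)⁻¹ := by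
      simp only [wg]; group
    rw [e]
    simp only [μ]
    by_cases hm : q'.out * w0 * q'.out⁻¹ ∈ M
    · rw [if_pos hm, if_pos (hMn _ hm _ hv)]
    · rw [if_neg hm, if_neg fun hh => hm (by
        have := hMn _ hh _ (W.inv_mem hv)
        simpa [mul_assoc] using this)]
  -- generation
  have hgen : ∀ y ∈ W, y ∈ Subgroup.closure ((Z 3 : Set T) ∪ Set.range wg) := by
    intro y hy
    set H := Subgroup.closure ((Z 3 : Set T) ∪ Set.range wg) with hH
    obtain ⟨y', hy', e⟩ : ∃ y' ∈ H.subgroupOf W, Ψ y' = Ψ ⟨y, hy⟩ := by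
      refine Subgroup.pi_mem_of_mulSingle_mem (H := (H.subgroupOf W).map Ψ) (Ψ ⟨y, hy⟩) fun q => ?_
      generalize Ψ ⟨y, hy⟩ q = val
      rcases (show val = 1 ∨ val = o by revert val; decide) with rfl | rfl
      · rw [Pi.mulSingle_one]; exact one_mem _
      refine ⟨⟨wg q.out⁻¹, hwg _⟩, Subgroup.subset_closure (Or.inr ⟨_, rfl⟩), funext fun q' => ?_⟩
      show μ (q'.out * wg q.out⁻¹ * q'.out⁻¹) = _
      rw [hΨg, Pi.mulSingle_apply, QuotientGroup.mk_inv, QuotientGroup.out_eq']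
      simp only [mul_inv_eq_one]
    have h3 : ((y'⁻¹ * ⟨y, hy⟩ : ↥W) : T) ∈ Z 3 := hker _ (by rw [map_mul, map_inv, e, inv_mul_cancel])
    have hmem := H.mul_mem hy' (Subgroup.subset_closure (Or.inl h3) : ((y'⁻¹ * ⟨y, hy⟩ : ↥W) : T) ∈ H)
    simpa using hmem
  -- the function on cosets
  let f : T → Multiplicative (ZMod 2) := fun g => B w0 (wg g)
  have hf : ∀ {g g' : T}, (g : T ⧸ W) = g' → f g' = f g := by
    intro g g' e
    have hv : g⁻¹ * g' ∈ W := QuotientGroup.eq.1 e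
    set v := g⁻¹ * g'
    have hd : v * w0 * v⁻¹ * w0⁻¹ ∈ Z 3 := h.B_mem hv w0'.2
    have e2 : wg g' = (g * (v * w0 * v⁻¹ * w0⁻¹) * g⁻¹) * wg g := by simp only [wg, v]; group
    show B w0 (wg g') = B w0 (wg g)
    rw [e2, h.B_mul w0'.2 (h.Z3_le (h.conj3 hd)) (hwg g), h.B_central w0'.2 (h.conj3 hd), one_mul]
  have hBf : ∀ g g', B (wg g) (wg g') = f (g⁻¹ * g') := by
    intro g g'
    show B (wg g) (wg g') = B w0 (wg (g⁻¹ * g'))
    rw [← h.B_conj w0'.2 (hwg (g⁻¹ * g')) g]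
    congr 1
    simp only [wg]; group
  have hfinv : ∀ g, f g⁻¹ = f g := fun g => by
    have h1 := hBf g 1
    have e1 : wg 1 = w0 := by simp [wg]
    rw [mul_one, e1, h.B_swap w0'.2 (hwg g)] at h1
    exact h1.symm
  obtain ⟨a, b, c, fr⟩ := h.exists_frame
  obtain ⟨r, s, R⟩ := h.exists_rot fr
  obtain ⟨nba, nca, ncb⟩ := code_ne fr
  have hbb : b * b = 1 := h.Z3_sq (Z_le_succ 2 fr.b2)
  have hcc : c * c = 1 := h.Z3_sq (Z_le_succ 2 (Z_le_succ 1 fr.c1))
  have hfix : ∀ g, g * g ∈ W → (code a b g).2 = b → (code a b g).1 ≠ a → f g = 1 := by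
    intro g hgg hb ha
    have h1 : (code a b g).2 = b := hb
    set x := w0 * wg g * w0⁻¹ * (wg g)⁻¹ with hx
    have hx3 : x ∈ Z 3 := h.B_mem w0'.2 (hwg g)
    have e : g * x * g⁻¹ = x := by
      have hd : (g * g) * w0 * (g * g)⁻¹ * w0⁻¹ ∈ Z 3 := h.B_mem hgg w0'.2
      set d := (g * g) * w0 * (g * g)⁻¹ * w0⁻¹
      have hdw : ∀ v ∈ W, d * v = v * d := fun v hv => h.comm_W hv hd
      have hxi : x⁻¹ = x := inv_eq_of_mul_eq_one_right (h.Z3_sq hx3)
      calc g * x * g⁻¹ = wg g * (d * w0) * (wg g)⁻¹ * (d * w0)⁻¹ := by simp only [hx, wg, d]; group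
        _ = wg g * (d * w0) * (wg g)⁻¹ * (w0⁻¹ * d⁻¹) := by group
        _ = (wg g * d) * (w0 * (wg g)⁻¹ * w0⁻¹) * d⁻¹ := by group
        _ = (d * wg g) * (w0 * (wg g)⁻¹ * w0⁻¹) * d⁻¹ := by rw [hdw _ (hwg g)]
        _ = d * x⁻¹ * d⁻¹ := by rw [hx]; group
        _ = x⁻¹ * d * d⁻¹ := by rw [h.comm33 hd ((Z 3).inv_mem hx3)]
        _ = x := by rw [mul_inv_cancel_right, hxi]
    show φ x = 1
    rw [φ_eq_one]
    obtain ⟨i, j, k, hxe⟩ := h.cases3 fr hx3
    have hc : ∀ n : ℕ, g * c ^ n * g⁻¹ = c ^ n := fun n => by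
      rw [central ((Z 1).pow_mem fr.c1 n) g, mul_inv_cancel_right]
    have e' : g * x * g⁻¹ = (g * a * g⁻¹) ^ (i : ℕ) * b ^ (j : ℕ) * c ^ (k : ℕ) := by
      rw [hxe]
      calc g * (a ^ (i : ℕ) * b ^ (j : ℕ) * c ^ (k : ℕ)) * g⁻¹ =
          (g * a * g⁻¹) ^ (i : ℕ) * (g * b * g⁻¹) ^ (j : ℕ) * (g * c ^ (k : ℕ) * g⁻¹) := by
            rw [conj_pow, conj_pow]; group
        _ = _ := by rw [hc, show g * b * g⁻¹ = b from h1]
    rw [e, hxe] at e'
    have e2 := mul_right_cancel (mul_right_cancel e')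
    fin_cases i
    · rw [hxe]; simp only [pow_zero, one_mul]
      exact (Z 2).mul_mem ((Z 2).pow_mem fr.b2 _) ((Z 2).pow_mem (Z_le_succ 1 fr.c1) _)
    · exact absurd (by simpa [code] using e2.symm) ha
  let ρ := r * r
  have hmk : ∀ {x y : T}, (x⁻¹ * y ∈ W) → (x : T ⧸ W) = y := fun {x y} hxy => QuotientGroup.eq.2 hxy
  have hr4 : ((r : T ⧸ W)) * r * (r * r) = 1 := by
    rw [← QuotientGroup.mk_mul, ← QuotientGroup.mk_mul]; exact (QuotientGroup.eq_one_iff _).2 R.r4
  have hs2 : (s : T ⧸ W) * s = 1 := by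
    rw [← QuotientGroup.mk_mul]; exact (QuotientGroup.eq_one_iff _).2 R.s2
  have hsr : (s : T ⧸ W) * r = r * r * r * s := by
    rw [← QuotientGroup.mk_mul, ← QuotientGroup.mk_mul, ← QuotientGroup.mk_mul, ← QuotientGroup.mk_mul]
    exact (QuotientGroup.eq.2 R.sr).symm
  have hrsr : (r : T ⧸ W) * (s * r) = s := by
    rw [hsr, ← mul_assoc, show (r : T ⧸ W) * (r * r * r) = r * r * (r * r) by group, hr4, one_mul]
  have f1 : f 1 = 1 := by
    show B w0 (wg 1) = 1
    rw [show wg 1 = w0 by simp [wg]]; exact B_self w0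
  have fρ : f ρ = 1 := hfix ρ R.r4 (congrArg Prod.snd R.r2) (by rw [R.r2]; exact nca)
  have hr' : code a b r = (b ^ ((1 : Fin 2) : ℕ) * c ^ ((0 : Fin 2) : ℕ) * a, c ^ ((1 : Fin 2) : ℕ) * b) := by
    simpa using R.r1
  have hs' : code a b s = (b ^ ((0 : Fin 2) : ℕ) * c ^ ((0 : Fin 2) : ℕ) * a, c ^ ((1 : Fin 2) : ℕ) * b) := by
    simpa using R.s1
  have hcodesr : code a b (s * r) = (c * b * a, b) := by
    rw [h.code_mul fr hs' hr']
    simp [← mul_assoc, hcc]
  have hcba : c * b * a ≠ a := fun e => fr.b1 (by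
    rw [show b = c⁻¹ by rw [eq_inv_of_mul_eq_one_right (mul_eq_right.1 e)]]
    exact inv_mem fr.c1)
  have hinvol : ∀ {g : T}, ((g : T ⧸ W)) * g = 1 → g * g ∈ W := fun {g} e =>
    (QuotientGroup.eq_one_iff _).1 (by rw [QuotientGroup.mk_mul]; exact e)
  have fsr : f (s * r) = 1 := hfix _ (hinvol (by
      rw [QuotientGroup.mk_mul, mul_assoc, hrsr, hs2])) (congrArg Prod.snd hcodesr) (by rw [hcodesr]; exact hcba)
  have fsr3 : f (s * r * ρ) = 1 := by
    have e : code a b (s * r * ρ) = (b * a, b) := by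
      have h1' : code a b (s * r) = (b ^ ((1 : Fin 2) : ℕ) * c ^ ((1 : Fin 2) : ℕ) * a, c ^ ((0 : Fin 2) : ℕ) * b) := by
        rw [hcodesr]; simp [central fr.c1 b]
      have h2' : code a b ρ = (b ^ ((0 : Fin 2) : ℕ) * c ^ ((1 : Fin 2) : ℕ) * a, c ^ ((0 : Fin 2) : ℕ) * b) := by
        simpa using R.r2
      rw [h.code_mul fr h1' h2']
      simp only [Fin.val_one, Fin.val_zero, pow_one, pow_zero, one_mul, Prod.mk.injEq, and_true]
      rw [← mul_assoc, ← mul_assoc, ← central fr.c1 b, mul_assoc b c c, hcc, mul_one]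
    refine hfix _ (hinvol ?_) (congrArg Prod.snd e) (by rw [e]; exact nba)
    have hx : (s : T ⧸ W) * r * (r * r) = s * r * r * r := by group
    rw [QuotientGroup.mk_mul, QuotientGroup.mk_mul, QuotientGroup.mk_mul]
    calc (s : T ⧸ W) * r * (r * r) * (s * r * (r * r)) = s * (r * r * (r * (s * r))) * (r * r) := by group
      _ = (s * r) * (r * s * r) * r := by rw [hrsr]; group
      _ = (s * r) * (r * (s * r)) * r := by group
      _ = (s * r) * s * r := by rw [hrsr]
      _ = s * (r * (s * r)) := by group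
      _ = 1 := by rw [hrsr, hs2]
  have fr3 : f (r * ρ) = f r := by
    rw [← hfinv r]
    refine hf ?_
    rw [QuotientGroup.mk_inv, QuotientGroup.mk_mul, QuotientGroup.mk_mul]
    exact (eq_inv_of_mul_eq_one_right (by rw [← mul_assoc]; exact hr4)).symm
  let reps : Fin 8 → T := ![1, r, ρ, r * ρ, s, s * r, s * ρ, s * r * ρ]
  have hreps : Function.Bijective (fun i => (reps i : T ⧸ W)) := by
    haveI := Fintype.ofFinite (T ⧸ W)
    refine (Nat.bijective_iff_injective_and_card _).2 ⟨?_, by rw [Nat.card_fin, ← Subgroup.index_eq_card, h.index_eq]⟩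
    intro i j e
    have ec := h.code_quot fr e
    have h2' : code a b ρ = (b ^ ((0 : Fin 2) : ℕ) * c ^ ((1 : Fin 2) : ℕ) * a, c ^ ((0 : Fin 2) : ℕ) * b) := by
      simpa using R.r2
    have k0 : code a b 1 = (a, b) := by simp [code]
    have k3 : code a b (r * ρ) = (c * (b * a), c * b) := by
      rw [h.code_mul fr hr' h2']; simp
    have k5 := hcodesr
    have k6 : code a b (s * ρ) = (c * a, c * b) := by
      rw [h.code_mul fr hs' h2']; simp
    have k7 : code a b (s * r * ρ) = (b * a, b) := by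
      have h1' : code a b (s * r) = (b ^ ((1 : Fin 2) : ℕ) * c ^ ((1 : Fin 2) : ℕ) * a, c ^ ((0 : Fin 2) : ℕ) * b) := by
        rw [hcodesr]; simp [central fr.c1 b]
      rw [h.code_mul fr h1' h2']
      simp only [Fin.val_one, Fin.val_zero, pow_one, pow_zero, one_mul, Prod.mk.injEq, and_true]
      rw [← mul_assoc, ← mul_assoc, ← central fr.c1 b, mul_assoc b c c, hcc, mul_one]
    have n1 : b ≠ 1 := fun e => fr.b1 (e ▸ one_mem _)
    have n2 : b ≠ c := fun e => fr.b1 (e ▸ fr.c1)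
    have n3 : c * b ≠ 1 := fun e => n2 ((eq_inv_of_mul_eq_one_right e).trans (inv_eq_of_mul_eq_one_right hcc))
    have n4 : c * b ≠ c := fun e => n1 (mul_eq_left.1 e)
    have k2 : code a b ρ = (c * a, b) := R.r2
    fin_cases i <;> fin_cases j <;>
      simp [reps, k0, k2, k3, k5, k6, k7, R.r1, R.s1, ← mul_assoc, fr.c0, n1, n2, n3, n4, Ne.symm n1, Ne.symm n2,
        Ne.symm n3, Ne.symm n4, Ne.symm fr.c0] at ec ⊢
  have fs : f (s * ρ) = f s := by
    let L : List T := List.ofFn fun i => wg (reps i)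
    have hLW : ∀ (l : List T), (∀ x ∈ l, x ∈ W) → l.prod ∈ W := fun l hl => W.list_prod_mem hl
    have hall : ∀ x ∈ L, x ∈ W := fun x hx => by
      obtain ⟨i, rfl⟩ := List.mem_ofFn.1 hx; exact hwg _
    have hBL : ∀ (l : List T), (∀ x ∈ l, x ∈ W) → B w0 l.prod = (l.map (B w0)).prod := by
      intro l hl
      induction l with
      | nil => simpa using h.B_central w0'.2 (one_mem _)
      | cons x l ih =>
        rw [List.prod_cons, h.B_mul w0'.2 (hl x (List.mem_cons_self ..)) (hLW l fun y hy => hl y (List.mem_cons_of_mem _ hy)),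
          ih fun y hy => hl y (List.mem_cons_of_mem _ hy), List.map_cons, List.prod_cons]
    have hΨL : Ψ ⟨L.prod, hLW L hall⟩ = Ψ ⟨u, huW⟩ := by
      funext q
      show μ (q.out * L.prod * q.out⁻¹) = μ (q.out * u * q.out⁻¹)
      have h1 : ∀ (l : List T), (∀ x ∈ l, x ∈ W) →
          μ (q.out * l.prod * q.out⁻¹) = (l.map fun x => μ (q.out * x * q.out⁻¹)).prod := by
        intro l hl
        induction l with
        | nil => simp [μ, M.one_mem]
        | cons x l ih =>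
          rw [List.prod_cons, List.map_cons, List.prod_cons, ← ih fun y hy => hl y (List.mem_cons_of_mem _ hy),
            ← hμ (hcW (hl x (List.mem_cons_self ..))) (hcW (hLW l fun y hy => hl y (List.mem_cons_of_mem _ hy)))]
          congr 1
          group
      have h2 : μ (q.out * u * q.out⁻¹) = o := by
        simp only [μ]
        rw [if_neg fun hh => huM ?_]
        have hz := hZM (conj_mem_Z hu q.out)
        have := M.mul_mem (M.inv_mem hz) hh
        rwa [show (q.out * u * q.out⁻¹ * u⁻¹)⁻¹ * (q.out * u * q.out⁻¹) = u by group] at this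
      rw [h2, h1 L hall, List.map_ofFn, List.prod_ofFn]
      simp only [Function.comp_def, hΨg]
      obtain ⟨i, hi⟩ := hreps.2 q⁻¹
      rw [Finset.prod_eq_single i (fun j _ hj => if_neg fun e => hj (hreps.1 ((eq_inv_of_mul_eq_one_right e).trans hi.symm)))
        (fun hh => absurd (Finset.mem_univ i) hh), if_pos (show q * (reps i : T ⧸ W) = 1 by rw [show (reps i : T ⧸ W) = q⁻¹ from hi, mul_inv_cancel])]
    have hd : ((⟨u, huW⟩⁻¹ * ⟨L.prod, hLW L hall⟩ : ↥W) : T) ∈ Z 3 :=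
      hker _ (by rw [map_mul, map_inv, hΨL, inv_mul_cancel])
    have hB1 : B w0 L.prod = 1 := by
      have e : L.prod = u * (u⁻¹ * L.prod) := by group
      have hd' : u⁻¹ * L.prod ∈ Z 3 := by simpa using hd
      rw [e, h.B_mul w0'.2 huW (h.Z3_le hd'), h.B_central w0'.2 hd', mul_one]
      unfold B
      rw [← hC huC w0'.2, mul_inv_cancel_right, mul_inv_cancel]
      exact φ_eq_one.2 (one_mem _)
    rw [hBL L hall, List.map_ofFn, List.prod_ofFn] at hB1
    change ∏ i, f (reps i) = 1 at hB1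
    simp only [Fin.prod_univ_eight, reps, Matrix.cons_val] at hB1
    rw [f1, fρ, fr3, fsr, fsr3] at hB1
    simp only [one_mul, mul_one, all_sq (f r)] at hB1
    calc f (s * ρ) = (f s * f s) * f (s * ρ) := by rw [all_sq, one_mul]
      _ = f s := by rw [mul_assoc, hB1, mul_one]
  have hper : ∀ g, f (g * ρ) = f g := by
    intro g
    obtain ⟨i, hi⟩ := hreps.2 (g : T ⧸ W)
    change (reps i : T ⧸ W) = g at hi
    have e1 : f g = f (reps i) := hf hi
    have e2 : f (g * ρ) = f (reps i * ρ) := hf (by simp only [QuotientGroup.mk_mul, hi])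
    have hρρ : ∀ x, f (x * ρ * ρ) = f x := fun x => hf (by
      refine QuotientGroup.eq.2 ?_
      rw [show x⁻¹ * (x * ρ * ρ) = ρ * ρ by group]
      exact R.r4)
    rw [e1, e2]
    fin_cases i <;> simp only [reps, Fin.zero_eta, Fin.mk_one, Fin.reduceFinMk, Matrix.cons_val, one_mul, hρρ] <;>
      first
        | (show f ρ = f 1; rw [f1, fρ]) | (show f 1 = f ρ; rw [f1, fρ])
        | (rw [f1, fρ]) | (rw [fρ, f1]) | (have h0 := hρρ 1; rw [one_mul] at h0; rw [h0, f1, fρ]) | exact fr3 | exact fr3.symm | exact fs | exact fs.symm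
        | (rw [fsr, fsr3]) | (rw [fsr3, fsr])
  -- a large subgroup with squares in Z 2
  let P : T → T := fun g => wg g * wg (g * ρ)
  have hPW : ∀ g, P g ∈ W := fun g => W.mul_mem (hwg g) (hwg _)
  have hBP : ∀ y ∈ W, ∀ g, B y (P g) = 1 := by
    intro y hy g
    have := hgen y hy
    suffices y ∈ W ∧ B y (P g) = 1 from this.2
    clear hy
    induction this using Subgroup.closure_induction with
    | mem x hx =>
      rcases hx with hx | ⟨g', rfl⟩
      · exact ⟨h.Z3_le hx, by rw [← h.B_swap (h.Z3_le hx) (hPW g)]; exact h.B_central (hPW g) hx⟩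
      · refine ⟨hwg g', ?_⟩
        rw [h.B_mul (hwg g') (hwg g) (hwg _), hBf, hBf, ← mul_assoc, hper, all_sq]
    | one => exact ⟨W.one_mem, by rw [← h.B_swap W.one_mem (hPW g)]; exact h.B_central (hPW g) (one_mem _)⟩
    | mul x x' _ _ ih ih' =>
      refine ⟨W.mul_mem ih.1 ih'.1, ?_⟩
      rw [← h.B_swap (W.mul_mem ih.1 ih'.1) (hPW g), h.B_mul (hPW g) ih.1 ih'.1, h.B_swap ih.1 (hPW g),
        h.B_swap ih'.1 (hPW g), ih.2, ih'.2, one_mul]
    | inv x _ ih =>
      refine ⟨W.inv_mem ih.1, ?_⟩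
      have e := h.B_mul (hPW g) ih.1 (W.inv_mem ih.1)
      rw [mul_inv_cancel, h.B_central (hPW g) (one_mem _), h.B_swap ih.1 (hPW g), ih.2, one_mul] at e
      rw [← h.B_swap (W.inv_mem ih.1) (hPW g), ← e]
  have hq : ∀ g, φ (wg g * wg g) = φ (w0 * w0) := fun g => by
    rw [← h.φ_conj (h.sq_mem w0'.2) g]; congr 1; simp only [wg, w0]; group
  have hqP : ∀ g, φ (P g * P g) = 1 := fun g => by
    rw [h.q_mul (hwg g) (hwg _), hq, hq, all_sq, one_mul, hBf, ← mul_assoc, inv_mul_cancel, one_mul, fρ]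
  obtain ⟨x, hxW, hqx, hxg⟩ : ∃ x, x ∈ W ∧ φ (x * x) = 1 ∧
      ∀ H : Subgroup T, x ∈ H → ∃ y1 y2, wg 1 ∈ H ⊔ zpowers y1 ⊔ zpowers y2 ∧ wg r ∈ H ⊔ zpowers y1 ⊔ zpowers y2 ∧
        wg s ∈ H ⊔ zpowers y1 ⊔ zpowers y2 ∧ y1 ∈ W ∧ y2 ∈ W := by
    have hA := hwg 1
    have hB := hwg r
    have hC' := hwg s
    rcases three_forms (φ (wg 1 * wg 1)) (φ (wg r * wg r)) (φ (wg s * wg s)) (B (wg 1) (wg r)) (B (wg 1) (wg s))
      (B (wg r) (wg s)) with e | e | e | e | e | e | e
    · exact ⟨wg 1, hA, e, fun H hH => ⟨wg r, wg s, mem_sup_left (mem_sup_left hH),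
        mem_sup_left (mem_sup_right (mem_zpowers _)), mem_sup_right (mem_zpowers _), hB, hC'⟩⟩
    · exact ⟨wg r, hB, e, fun H hH => ⟨wg 1, wg s, mem_sup_left (mem_sup_right (mem_zpowers _)),
        mem_sup_left (mem_sup_left hH), mem_sup_right (mem_zpowers _), hA, hC'⟩⟩
    · exact ⟨wg s, hC', e, fun H hH => ⟨wg 1, wg r, mem_sup_left (mem_sup_right (mem_zpowers _)),
        mem_sup_right (mem_zpowers _), mem_sup_left (mem_sup_left hH), hA, hB⟩⟩
    · refine ⟨wg 1 * wg r, W.mul_mem hA hB, by rw [h.q_mul hA hB]; exact e, fun H hH => ⟨wg r, wg s, ?_,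
        mem_sup_left (mem_sup_right (mem_zpowers _)), mem_sup_right (mem_zpowers _), hB, hC'⟩⟩
      have := mul_mem_sup hH ((zpowers (wg r)).inv_mem (mem_zpowers _))
      rw [mul_inv_cancel_right] at this
      exact mem_sup_left this
    · refine ⟨wg 1 * wg s, W.mul_mem hA hC', by rw [h.q_mul hA hC']; exact e, fun H hH => ⟨wg r, wg s, ?_,
        mem_sup_left (mem_sup_right (mem_zpowers _)), mem_sup_right (mem_zpowers _), hB, hC'⟩⟩
      have := mul_mem_sup (S := H ⊔ zpowers (wg r)) (mem_sup_left hH) ((zpowers (wg s)).inv_mem (mem_zpowers _))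
      rwa [mul_inv_cancel_right] at this
    · refine ⟨wg r * wg s, W.mul_mem hB hC', by rw [h.q_mul hB hC']; exact e, fun H hH => ⟨wg 1, wg s,
        mem_sup_left (mem_sup_right (mem_zpowers _)), ?_, mem_sup_right (mem_zpowers _), hA, hC'⟩⟩
      have := mul_mem_sup (S := H ⊔ zpowers (wg 1)) (mem_sup_left hH) ((zpowers (wg s)).inv_mem (mem_zpowers _))
      rwa [mul_inv_cancel_right] at this
    · refine ⟨wg 1 * wg r * wg s, W.mul_mem (W.mul_mem hA hB) hC', ?_, fun H hH => ⟨wg r, wg s, ?_,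
        mem_sup_left (mem_sup_right (mem_zpowers _)), mem_sup_right (mem_zpowers _), hB, hC'⟩⟩
      · rw [h.q_mul (W.mul_mem hA hB) hC', h.q_mul hA hB, ← h.B_swap (W.mul_mem hA hB) hC',
          h.B_mul hC' hA hB, h.B_swap hA hC', h.B_swap hB hC']
        exact e
      · have hsm : wg s ∈ H ⊔ zpowers (wg r) ⊔ zpowers (wg s) := mem_sup_right (mem_zpowers _)
        have hrm : wg r ∈ H ⊔ zpowers (wg r) ⊔ zpowers (wg s) := mem_sup_left (mem_sup_right (mem_zpowers _))
        have hxm : wg 1 * wg r * wg s ∈ H ⊔ zpowers (wg r) ⊔ zpowers (wg s) := mem_sup_left (mem_sup_left hH)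
        have := mul_mem (mul_mem hxm (inv_mem hsm)) (inv_mem hrm)
        rwa [mul_inv_cancel_right, mul_inv_cancel_right] at this
  set G0 : Set T := (Z 3 : Set T) ∪ Set.range P ∪ {x}
  set S := Subgroup.closure G0 with hSdef
  have hSW : S ≤ W := by
    rw [hSdef, Subgroup.closure_le]
    rintro y ((hy | ⟨g, rfl⟩) | rfl)
    · exact h.Z3_le hy
    · exact hPW g
    · exact hxW
  have h3S : Z 3 ≤ S := fun y hy => Subgroup.subset_closure (Or.inl (Or.inl hy))
  have hBG : ∀ y ∈ G0, ∀ y' ∈ G0, B y y' = 1 := by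
    intro y hy y' hy'
    have hyW : y ∈ W := hSW (Subgroup.subset_closure hy)
    rcases hy' with (hy' | ⟨g, rfl⟩) | hy'
    · exact h.B_central hyW hy'
    · exact hBP y hyW g
    · rcases hy with (hy | ⟨g, rfl⟩) | hy
      · rw [hy', ← h.B_swap (h.Z3_le hy) hxW]; exact h.B_central hxW hy
      · rw [hy', ← h.B_swap (hPW g) hxW]; exact hBP x hxW g
      · rw [hy', hy]; exact B_self x
  have hBS : ∀ y ∈ G0, ∀ y' ∈ S, B y y' = 1 := by
    intro y hy y' hy'
    have hyW : y ∈ W := hSW (Subgroup.subset_closure hy)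
    induction hy' using Subgroup.closure_induction with
    | mem v hv => exact hBG y hy v hv
    | one => exact h.B_central hyW (one_mem _)
    | mul v v' hv hv' ih ih' => rw [h.B_mul hyW (hSW hv) (hSW hv'), ih, ih', one_mul]
    | inv v hv ih =>
      have e := h.B_mul hyW (hSW hv) (W.inv_mem (hSW hv))
      rw [mul_inv_cancel, h.B_central hyW (one_mem _), ih, one_mul] at e
      exact e.symm
  have hBSS : ∀ y ∈ S, ∀ y' ∈ S, B y y' = 1 := by
    intro y hy y' hy'
    induction hy using Subgroup.closure_induction with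
    | mem v hv => exact hBS v hv y' hy'
    | one => rw [← h.B_swap W.one_mem (hSW hy')]; exact h.B_central (hSW hy') (one_mem _)
    | mul v v' hv hv' ih ih' =>
      rw [← h.B_swap (W.mul_mem (hSW hv) (hSW hv')) (hSW hy'), h.B_mul (hSW hy') (hSW hv) (hSW hv'),
        h.B_swap (hSW hv) (hSW hy'), h.B_swap (hSW hv') (hSW hy'), ih, ih', one_mul]
    | inv v hv ih =>
      have e := h.B_mul (hSW hy') (hSW hv) (W.inv_mem (hSW hv))
      rw [mul_inv_cancel, h.B_central (hSW hy') (one_mem _), h.B_swap (hSW hv) (hSW hy'), ih, one_mul] at e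
      rw [← h.B_swap (W.inv_mem (hSW hv)) (hSW hy'), ← e]
  have hSq : ∀ y ∈ S, y * y ∈ Z 2 := by
    intro y hy
    induction hy using Subgroup.closure_induction with
    | mem v hv =>
      rcases hv with (hv | ⟨g, rfl⟩) | hv
      · rw [h.Z3_sq hv]; exact one_mem _
      · exact φ_eq_one.1 (hqP g)
      · rw [hv]; exact φ_eq_one.1 hqx
    | one => simp [one_mem]
    | mul v v' hv hv' ih ih' =>
      rw [← φ_eq_one, h.q_mul (hSW hv) (hSW hv'), φ_eq_one.2 ih, φ_eq_one.2 ih', hBSS v hv v' hv', one_mul, one_mul]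
    | inv v _ ih => rw [← mul_inv_rev]; exact (Z 2).inv_mem ih
  have hSi : S.relIndex W ≤ 8 := by
    rw [Subgroup.relIndex]
    set S' := S.subgroupOf W with hS'
    have hsq' : ∀ v : ↥W, v * v ∈ S' := fun v => h3S (h.sq_mem v.2)
    have hnorm : ∀ K : Subgroup ↥W, S' ≤ K → K.Normal := fun K hK => ⟨fun v hv g => by
      have h1 : g * v * g⁻¹ * v⁻¹ ∈ K := hK (h3S (h.B_mem g.2 v.2))
      have := K.mul_mem h1 hv
      rwa [inv_mul_cancel_right] at this⟩
    obtain ⟨y1, y2, hA, hB, hC', hy1, hy2⟩ := hxg S (Subgroup.subset_closure (Or.inr rfl))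
    let z4 : ↥W := ⟨wg (s * r), hwg _⟩
    haveI := hnorm S' le_rfl
    haveI := hnorm (S' ⊔ zpowers ⟨y1, hy1⟩) le_sup_left
    haveI := hnorm (S' ⊔ zpowers ⟨y1, hy1⟩ ⊔ zpowers ⟨y2, hy2⟩) (le_sup_left.trans le_sup_left)
    have i1 := card_sup_le_two_mul S' hsq' ⟨y1, hy1⟩
    have i2 := card_sup_le_two_mul (S' ⊔ zpowers ⟨y1, hy1⟩) (fun v => mem_sup_left (hsq' v)) ⟨y2, hy2⟩
    have i3 := card_sup_le_two_mul (S' ⊔ zpowers ⟨y1, hy1⟩ ⊔ zpowers ⟨y2, hy2⟩)
      (fun v => mem_sup_left (mem_sup_left (hsq' v))) z4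
    set K := S' ⊔ zpowers ⟨y1, hy1⟩ ⊔ zpowers ⟨y2, hy2⟩ ⊔ zpowers z4 with hK
    have htop : K = ⊤ := by
      refine eq_top_iff.2 fun v _ => ?_
      have hKm : ∀ {y : T}, y ∈ S ⊔ zpowers y1 ⊔ zpowers y2 → y ∈ K.map W.subtype := by
        intro y hy
        refine (sup_le (sup_le ?_ ?_) ?_ : S ⊔ zpowers y1 ⊔ zpowers y2 ≤ K.map W.subtype) hy
        · exact fun z hz => ⟨⟨z, hSW hz⟩, mem_sup_left (mem_sup_left (mem_sup_left hz)), rfl⟩
        · rw [zpowers_le]; exact ⟨⟨y1, hy1⟩, mem_sup_left (mem_sup_left (mem_sup_right (mem_zpowers _))), rfl⟩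
        · rw [zpowers_le]; exact ⟨⟨y2, hy2⟩, mem_sup_left (mem_sup_right (mem_zpowers _)), rfl⟩
      have hmem : ∀ {g g' : T}, (g : T ⧸ W) = g' → wg g ∈ K.map W.subtype → wg g' ∈ K.map W.subtype := by
        intro g g' e hg
        have hv : g⁻¹ * g' ∈ W := QuotientGroup.eq.1 e
        set w := g⁻¹ * g'
        have hd : g * (w * w0 * w⁻¹ * w0⁻¹) * g⁻¹ ∈ S ⊔ zpowers y1 ⊔ zpowers y2 :=
          mem_sup_left (mem_sup_left (h3S (h.conj3 (h.B_mem hv w0'.2))))
        have := mul_mem (hKm hd) hg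
        rwa [show g * (w * w0 * w⁻¹ * w0⁻¹) * g⁻¹ * wg g = wg g' by simp only [wg, w]; group] at this
      have hPm : ∀ g, wg g ∈ K.map W.subtype → wg (g * ρ) ∈ K.map W.subtype := by
        intro g hg
        have hP' : P g ∈ K.map W.subtype := hKm (mem_sup_left (mem_sup_left (Subgroup.subset_closure (Or.inl (Or.inr ⟨g, rfl⟩)))))
        have := mul_mem (inv_mem hg) hP'
        rwa [inv_mul_cancel_left] at this
      have h1 : wg 1 ∈ K.map W.subtype := hKm hA
      have h2 : wg r ∈ K.map W.subtype := hKm hB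
      have h5 : wg s ∈ K.map W.subtype := hKm hC'
      have h6 : wg (s * r) ∈ K.map W.subtype := ⟨z4, mem_sup_right (mem_zpowers _), rfl⟩
      have hallg : ∀ g, wg g ∈ K.map W.subtype := by
        intro g
        obtain ⟨i, hi⟩ := hreps.2 (g : T ⧸ W)
        refine hmem hi ?_
        fin_cases i
        · exact h1
        · exact h2
        · simpa [reps, ρ] using hPm 1 h1
        · exact hPm r h2
        · exact h5
        · exact h6
        · exact hPm s h5
        · exact hPm _ h6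
      have hv := hgen v v.2
      have : (v : T) ∈ K.map W.subtype := by
        refine (Subgroup.closure_le _).2 ?_ hv
        rintro y (hy | ⟨g, rfl⟩)
        · exact hKm (mem_sup_left (mem_sup_left (h3S hy)))
        · exact hallg g
      exact (mem_map_iff_mem W.subtype_injective).1 this
    rw [htop, Subgroup.index_top] at i3
    omega
  have := h.no_small S (Z 2) hSW hSi ((Z_le_succ 2).trans h3S) hSq (h.phi_eq ▸ h3S)
  rw [h.phi_eq] at this
  exact fr.a2 (this fr.a3)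

end Hyp
end Cfsg.Agent.InvChar.RudvalisTwoGroup
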