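import Mathlib
import Cfsg.Agent.InvChar.RudvalisTwoGroup

/-!
A 2-group without normal four-subgroup has a cyclic subgroup of index at most two.
-/

set_option linter.all false

namespace Cfsg.Agent.InvChar.NormalFourOrCyclic

open Subgroup

variable {T : Type*} [Group T] [Finite T]

theorem exists_four_or_cyclic [Nontrivial T] (hT : IsPGroup 2 T) :
    (∃ A : Subgroup T, A.Normal ∧ Nat.card ↥A = 4 ∧ (∀ a ∈ A, a * a = 1)) ∨
      ∃ y : T, (zpowers y).index ≤ 2 := by
  classical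
  haveI : Fact (Nat.Prime 2) := ⟨Nat.prime_two⟩
  obtain ⟨Y, ⟨hYn, hYc⟩, hmax⟩ := (Set.toFinite {Y : Subgroup T | Y.Normal ∧ IsCyclic ↥Y}).exists_maximal
    ⟨⊥, (inferInstance : (⊥ : Subgroup T).Normal), inferInstance⟩
  haveI := hYn
  obtain ⟨y, hy⟩ := Subgroup.isCyclic_iff_exists_zpowers_eq_top Y |>.1 hYc
  subst hy
  obtain ⟨n, hn⟩ := IsPGroup.iff_orderOf.1 hT y
  have hyo : orderOf y = 2 ^ n := hn
  have hconj : ∀ t : T, ∃ e : ℤ, t * y * t⁻¹ = y ^ e := fun t => by
    obtain ⟨e, he⟩ := hYn.conj_mem y (mem_zpowers y) t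
    exact ⟨e, he.symm⟩
  -- the centre makes the subgroup nontrivial
  have hn0 : n ≠ 0 := by
    rintro rfl
    have hy1 : y = 1 := orderOf_eq_one_iff.1 hyo
    haveI := hT.center_nontrivial
    obtain ⟨⟨c, hc⟩, hc1⟩ := exists_ne (1 : ↥(Subgroup.center T))
    have hcn : (zpowers c).Normal := ⟨fun a ha g => by
      obtain ⟨i, rfl⟩ := ha
      rw [(show Commute g (c ^ i) from (Commute.zpow_right (mem_center_iff.1 hc g) i)).eq, mul_inv_cancel_right]
      exact ⟨i, rfl⟩⟩
    have hle : zpowers y ≤ zpowers c := by rw [hy1]; simp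
    have := hmax ⟨hcn, inferInstance⟩ hle (mem_zpowers c)
    rw [hy1, zpowers_one_eq_bot, mem_bot] at this
    exact hc1 (Subtype.ext this)
  set q := 2 ^ (n - 2) with hq
  set v := y ^ q with hv
  by_cases hK : centralizer ({v} : Set T) = zpowers y
  · right
    refine ⟨y, ?_⟩
    rw [← hK]
    have h2 : ∀ a b : T, a ∉ centralizer ({v} : Set T) → b ∉ centralizer ({v} : Set T) →
        a * b ∈ centralizer ({v} : Set T) := by
      intro a b ha hb
      simp only [mem_centralizer_singleton_iff] at ha hb ⊢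
      have hn2 : 2 ≤ n := by
        by_contra hlt
        apply ha
        obtain ⟨e, he⟩ := hconj a
        have hn1 : n = 1 := by omega
        subst hn1
        have hee : a * y * a⁻¹ = y := by
          have h1 : (a * y * a⁻¹) ≠ 1 := fun e => by
            have : y = 1 := by simpa using e
            rw [this, orderOf_one] at hyo; norm_num at hyo
          rcases Int.even_or_odd e with ⟨j, rfl⟩ | ⟨j, rfl⟩
          · exact absurd (by rw [he, ← two_mul, zpow_mul, zpow_two, ← pow_two, show y ^ 2 = 1 from by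
              simpa [hyo] using pow_orderOf_eq_one y, one_zpow]) h1
          · rw [he, zpow_add, zpow_mul, zpow_two, ← pow_two, show y ^ 2 = 1 from by
              simpa [hyo] using pow_orderOf_eq_one y, one_zpow, one_mul, zpow_one]
        have hvy : v = y := by simp [hv, hq]
        rw [hvy]
        exact mul_inv_eq_iff_eq_mul.1 hee
      have hv4 : orderOf v = 4 := by
        rw [hv, orderOf_pow, hyo, hq, Nat.gcd_eq_right (pow_dvd_pow 2 (Nat.sub_le n 2)),
          Nat.pow_div (Nat.sub_le n 2) (by norm_num), show n - (n - 2) = 2 by omega]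
      have flip : ∀ t : T, t * v ≠ v * t → t * v * t⁻¹ = v⁻¹ := by
        intro t ht
        obtain ⟨e, he⟩ := hconj t
        have hte : t * v * t⁻¹ = v ^ e := by
          rw [hv, ← conj_pow, he, ← zpow_natCast y q, ← zpow_natCast (y ^ e) q, ← zpow_mul, ← zpow_mul, mul_comm]
        rw [zpow_mod_orderOf v e |>.symm, hv4] at hte
        have h0 : 0 ≤ e % (4 : ℕ) := Int.emod_nonneg _ (by norm_num)
        have h4 : e % (4 : ℕ) < 4 := Int.emod_lt_of_pos _ (by norm_num)
        obtain ⟨m, hm⟩ := Int.eq_ofNat_of_zero_le h0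
        rw [hm] at hte h4
        have hm4 : m < 4 := by omega
        rw [zpow_natCast] at hte
        have hv' : v ^ 4 = 1 := hv4 ▸ pow_orderOf_eq_one v
        have ho : orderOf (t * v * t⁻¹) = 4 := by
          rw [show t * v * t⁻¹ = MulAut.conj t v from rfl, MulEquiv.orderOf_eq, hv4]
        interval_cases m
        · rw [hte, pow_zero, orderOf_one] at ho; norm_num at ho
        · exact absurd (mul_inv_eq_iff_eq_mul.1 (hte.trans (pow_one v))) ht
        · have : (v ^ 2) ^ 2 = 1 := by rw [← pow_mul]; exact hv'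
          have hd := orderOf_dvd_of_pow_eq_one this
          rw [← hte, ho] at hd; norm_num at hd
        · rw [hte]; exact eq_inv_of_mul_eq_one_left (by rw [← pow_succ]; exact hv')
      have ha' := flip a ha
      have hb' := flip b hb
      refine mul_inv_eq_iff_eq_mul.1 ?_
      calc a * b * v * (a * b)⁻¹ = a * (b * v * b⁻¹) * a⁻¹ := by group
        _ = (a * v * a⁻¹)⁻¹ := by rw [hb']; group
        _ = v := by rw [ha', inv_inv]
    by_cases htop : centralizer ({v} : Set T) = ⊤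
    · rw [htop, Subgroup.index_top]; norm_num
    obtain ⟨a, -, ha⟩ := SetLike.exists_of_lt (lt_top_iff_ne_top.2 htop)
    refine (Subgroup.index_eq_two_iff.2 ⟨a, fun b => ?_⟩).le
    by_cases hb : b ∈ centralizer ({v} : Set T)
    · exact Or.inr ⟨hb, fun hh => ha (((centralizer ({v} : Set T)).mul_mem_cancel_left hb).1 hh)⟩
    · exact Or.inl ⟨h2 b a hb ha, hb⟩
  left
  have hYK : zpowers y ≤ centralizer ({v} : Set T) := by
    rw [zpowers_le, mem_centralizer_singleton_iff]
    exact ((Commute.refl y).pow_right q).eq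
  haveI hKn : (centralizer ({v} : Set T)).Normal := ⟨fun k hk g => by
    rw [mem_centralizer_singleton_iff] at hk ⊢
    obtain ⟨e, he⟩ := hconj g⁻¹
    have hge : g⁻¹ * v * g = v ^ e := by
      have : g⁻¹ * v * g⁻¹⁻¹ = v ^ e := by
        rw [hv, ← conj_pow, he, ← zpow_natCast y q, ← zpow_natCast (y ^ e) q, ← zpow_mul, ← zpow_mul, mul_comm]
      rwa [inv_inv] at this
    have hc : k * v ^ e = v ^ e * k := (Commute.zpow_right hk e).eq
    rw [← hge] at hc
    calc g * k * g⁻¹ * v = g * (k * (g⁻¹ * v * g)) * g⁻¹ := by group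
      _ = g * (g⁻¹ * v * g * k) * g⁻¹ := by rw [hc]
      _ = _ := by group⟩
  let π := QuotientGroup.mk' (zpowers y)
  have hne : (centralizer ({v} : Set T)).map π ≠ ⊥ := fun e => hK (le_antisymm (fun k hk => by
    have : π k ∈ (⊥ : Subgroup (T ⧸ zpowers y)) := e ▸ mem_map_of_mem π hk
    exact (QuotientGroup.eq_one_iff k).1 (mem_bot.1 this)) hYK)
  haveI : ((centralizer ({v} : Set T)).map π).Normal := hKn.map π (QuotientGroup.mk'_surjective _)
  haveI : Nontrivial ↥((centralizer ({v} : Set T)).map π) := (Subgroup.nontrivial_iff_ne_bot _).2 hne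
  obtain ⟨w, hwK, hwY, hw2, hwc⟩ : ∃ w, w ∈ centralizer ({v} : Set T) ∧ w ∉ zpowers y ∧ w * w ∈ zpowers y ∧
      ∀ t, t * w * t⁻¹ * w⁻¹ ∈ zpowers y := by
    have hq' : IsPGroup 2 (T ⧸ zpowers y) := hT.to_quotient _
    haveI := hq'.isNilpotent
    obtain ⟨c, hcN, hc1, hc0⟩ := RudvalisTwoGroup.exists_mem_succ ((centralizer ({v} : Set T)).map π) (i := 0) (by
      rw [Subgroup.upperCentralSeries_zero, le_bot_iff]; exact hne)
    rw [Subgroup.upperCentralSeries_one] at hc1
    rw [Subgroup.upperCentralSeries_zero, mem_bot] at hc0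
    obtain ⟨m, hm⟩ := IsPGroup.iff_orderOf.1 hq' c
    have hm0 : m ≠ 0 := fun e => hc0 (orderOf_eq_one_iff.1 (by rw [hm, e, pow_zero]))
    have hc' : c ^ 2 ^ (m - 1) ∈ (centralizer ({v} : Set T)).map π := Subgroup.pow_mem _ hcN _
    have hc2 : c ^ 2 ^ (m - 1) ∈ Subgroup.center (T ⧸ zpowers y) := Subgroup.pow_mem _ hc1 _
    obtain ⟨w, hw, e⟩ := hc'
    have hco' : orderOf (π w) = 2 := by
      rw [e, orderOf_pow, hm, Nat.gcd_eq_right (pow_dvd_pow 2 (Nat.sub_le m 1)),
        Nat.pow_div (Nat.sub_le m 1) (by norm_num), show m - (m - 1) = 1 by omega, pow_one]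
    rw [← e] at hc2
    refine ⟨w, hw, fun hh => ?_, ?_, fun t => ?_⟩
    · rw [show π w = 1 from (QuotientGroup.eq_one_iff w).2 hh, orderOf_one] at hco'
      norm_num at hco'
    · refine (QuotientGroup.eq_one_iff _).1 ?_
      show π (w * w) = 1
      rw [map_mul, ← pow_two, ← hco', pow_orderOf_eq_one]
    · refine (QuotientGroup.eq_one_iff _).1 ?_
      show π (t * w * t⁻¹ * w⁻¹) = 1
      rw [map_mul, map_mul, map_mul, map_inv, map_inv, (mem_center_iff.1 hc2 (π t)), mul_inv_cancel_right,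
        mul_inv_cancel]
  obtain ⟨k, hk⟩ := hw2
  change y ^ k = w * w at hk
  obtain ⟨e, he, ho⟩ : ∃ e : ℤ, w * y * w⁻¹ = y ^ e ∧ ∃ o : ℤ, e + 1 = 2 * (2 * o + 1) := by
    obtain ⟨e, he⟩ := hconj w
    rw [mem_centralizer_singleton_iff] at hwK
    by_cases hn2 : 2 ≤ n
    · refine ⟨e, he, ?_⟩
      have hv4 : orderOf v = 4 := by
        rw [hv, orderOf_pow, hyo, hq, Nat.gcd_eq_right (pow_dvd_pow 2 (Nat.sub_le n 2)),
          Nat.pow_div (Nat.sub_le n 2) (by norm_num), show n - (n - 2) = 2 by omega]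
      have hve : v ^ e = v := by
        rw [hv, ← zpow_natCast y q, ← zpow_mul, mul_comm, zpow_mul, ← he, zpow_natCast, conj_pow, ← hv, hwK,
          mul_inv_cancel_right, hv, zpow_natCast]
      have : v ^ (e - 1) = 1 := by rw [zpow_sub, hve, zpow_one, mul_inv_cancel]
      have hd := orderOf_dvd_iff_zpow_eq_one.2 this
      rw [hv4] at hd
      obtain ⟨o, ho⟩ := hd
      exact ⟨o, by push_cast at ho; linarith⟩
    · have hvy : v = y := by
        rw [hv, hq, show n - 2 = 0 by omega, pow_zero, pow_one]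
      exact ⟨1, by rw [zpow_one, ← hvy]; exact mul_inv_eq_iff_eq_mul.2 hwK, 0, by norm_num⟩
  have hsq : ∀ i : ℤ, (w * y ^ i) * (w * y ^ i) = y ^ (e * i + k + i) := fun i => by
    calc (w * y ^ i) * (w * y ^ i) = (w * y ^ i * w⁻¹) * (w * w) * y ^ i := by group
      _ = _ := by rw [← conj_zpow, he, ← hk, ← zpow_mul, ← zpow_add, ← zpow_add]
  have hkeven : Even k := by
    by_contra hk'
    obtain ⟨j, hj⟩ := Int.not_even_iff_odd.1 hk'
    have hyw : y ∈ zpowers w := by
      have h2 : y ^ k ∈ zpowers w := hk ▸ mul_mem (mem_zpowers w) (mem_zpowers w)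
      have hc : IsCoprime k ((orderOf y : ℕ) : ℤ) := by
        rw [hyo]; push_cast
        refine IsCoprime.pow_right ?_
        exact ⟨1, -j, by rw [hj]; ring⟩
      obtain ⟨a, b, hab⟩ := hc
      have : y = (y ^ k) ^ a := by
        rw [← zpow_mul]
        conv_lhs => rw [← zpow_one y, ← hab, zpow_add, mul_comm b, zpow_mul y ((orderOf y : ℕ) : ℤ), zpow_natCast,
          pow_orderOf_eq_one, one_zpow, mul_one, mul_comm a k]
      rw [this]; exact (zpowers w).zpow_mem h2 a
    have hwn : (zpowers w).Normal := ⟨fun a ha g => by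
      obtain ⟨i, rfl⟩ := ha
      show g * w ^ i * g⁻¹ ∈ zpowers w
      rw [← conj_zpow]
      refine zpow_mem ?_ i
      have h1 : g * w * g⁻¹ * w⁻¹ ∈ zpowers w := (zpowers_le.2 hyw) (hwc g)
      have := mul_mem h1 (mem_zpowers w)
      rwa [inv_mul_cancel_right] at this⟩
    exact hwY ((hmax ⟨hwn, inferInstance⟩ (zpowers_le.2 hyw)) (mem_zpowers w))
  obtain ⟨o, ho⟩ := ho
  have hcop : IsCoprime (2 * o + 1) ((2 : ℤ) ^ n) := IsCoprime.pow_right ⟨1, -o, by ring⟩
  obtain ⟨a, b, hab⟩ := hcop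
  obtain ⟨j, hj⟩ := hkeven
  set t := w * y ^ (-(j * a)) with htdef
  have ht2 : t * t = 1 := by
    rw [htdef, hsq, show e * -(j * a) + k + -(j * a) = (2 : ℤ) ^ n * (2 * j * b) by
      rw [hj, show e = 2 * (2 * o + 1) - 1 by linarith]
      linear_combination (-2 * j) * hab]
    rw [zpow_mul, show ((2 : ℤ) ^ n) = ((2 ^ n : ℕ) : ℤ) by push_cast; rfl, zpow_natCast, ← hyo, pow_orderOf_eq_one, one_zpow]
  have htY : t ∉ zpowers y := fun hh => hwY (by
    have := mul_mem hh (zpow_mem (mem_zpowers y) (j * a))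
    rwa [htdef, mul_assoc, ← zpow_add, neg_add_cancel, zpow_zero, mul_one] at this)
  set z0 := y ^ (2 ^ (n - 1)) with hz0
  have hz2 : z0 * z0 = 1 := by
    rw [hz0, ← pow_add, ← two_mul, ← pow_succ', Nat.sub_add_cancel (Nat.one_le_iff_ne_zero.2 hn0), ← hyo,
      pow_orderOf_eq_one]
  have hz1 : z0 ≠ 1 := fun hh => by
    have := orderOf_dvd_of_pow_eq_one (hz0 ▸ hh)
    rw [hyo, Nat.pow_dvd_pow_iff_le_right (by norm_num)] at this
    omega
  -- square roots of one in the cyclic group and in its other coset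
  have hYsq : ∀ i : ℤ, y ^ (2 * i) = 1 → y ^ i = 1 ∨ y ^ i = z0 := by
    intro i hi
    have hd := orderOf_dvd_iff_zpow_eq_one.2 hi
    rw [hyo] at hd
    have hd' : ((2 : ℤ) ^ (n - 1)) ∣ i := by
      have : (2 : ℤ) * 2 ^ (n - 1) ∣ 2 * i := by
        rw [← pow_succ', Nat.sub_add_cancel (Nat.one_le_iff_ne_zero.2 hn0)]; exact_mod_cast hd
      exact Int.dvd_of_mul_dvd_mul_left (by norm_num) this
    obtain ⟨m, rfl⟩ := hd'
    rw [show ((2 : ℤ) ^ (n - 1)) = ((2 ^ (n - 1) : ℕ) : ℤ) by push_cast; rfl, zpow_mul, zpow_natCast, ← hz0]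
    rcases Int.even_or_odd m with ⟨r, rfl⟩ | ⟨r, rfl⟩
    · left; rw [← two_mul, zpow_mul, zpow_two, hz2, one_zpow]
    · right; rw [zpow_add, zpow_mul, zpow_two, hz2, one_zpow, one_mul, zpow_one]
  have htz : Commute t z0 := by
    show t * z0 = z0 * t
    have hzy : z0 ∈ zpowers y := pow_mem (mem_zpowers y) _
    obtain ⟨i, hi⟩ := hYn.conj_mem z0 hzy t
    change y ^ i = t * z0 * t⁻¹ at hi
    have : y ^ (2 * i) = 1 := by
      rw [two_mul, zpow_add, hi, show t * z0 * t⁻¹ * (t * z0 * t⁻¹) = t * (z0 * z0) * t⁻¹ by group, hz2]; group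
    rcases hYsq i this with h1 | h1
    · exact absurd (by rw [h1] at hi; simpa using hi.symm) hz1
    · rw [h1] at hi; exact mul_inv_eq_iff_eq_mul.1 hi.symm
  -- all involutions of the two cosets
  have hW : ∀ u, (∃ i : ℤ, u = y ^ i ∨ u = t * y ^ i) → u * u = 1 → u = 1 ∨ u = z0 ∨ u = t ∨ u = t * z0 := by
    rintro u ⟨i, rfl | rfl⟩ hu
    · rw [← zpow_add, ← two_mul] at hu
      rcases hYsq i hu with h1 | h1 <;> simp [h1]
    · rw [show t * y ^ i = w * y ^ (-(j * a) + i) by rw [htdef, mul_assoc, ← zpow_add]] at hu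
      have e1 := hsq (-(j * a) + i)
      rw [hu] at e1
      have e2 : (y ^ (2 * i)) ^ (2 * o + 1) = 1 := by
        rw [htdef, hsq] at ht2
        rw [← zpow_mul]
        have : e * (-(j * a) + i) + k + (-(j * a) + i) = (e * -(j * a) + k + -(j * a)) + 2 * i * (2 * o + 1) := by
          linear_combination i * ho
        rw [this, zpow_add, ht2, one_mul] at e1
        exact e1.symm
      have e3 : y ^ (2 * i) = 1 := by
        have h5 : (y ^ (2 * i)) ^ ((2 : ℤ) ^ n) = 1 := by
          rw [← zpow_mul, mul_comm, zpow_mul, show ((2 : ℤ) ^ n) = ((2 ^ n : ℕ) : ℤ) by push_cast; rfl, zpow_natCast,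
            ← hyo, pow_orderOf_eq_one, one_zpow]
        generalize y ^ (2 * i) = q' at e2 h5 ⊢
        rw [← zpow_one q', ← hab, zpow_add, mul_comm a, mul_comm b, zpow_mul, zpow_mul, e2, h5,
          one_zpow, one_zpow, one_mul]
      rcases hYsq i e3 with h1 | h1 <;> simp [h1]
  let A : Subgroup T :=
    { carrier := {u | u = 1 ∨ u = z0 ∨ u = t ∨ u = t * z0}
      one_mem' := Or.inl rfl
      mul_mem' := by
        have e1 : z0 * t = t * z0 := htz.eq.symm
        have e2 : ∀ a, t * (t * a) = a := fun a => by rw [← mul_assoc, ht2, one_mul]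
        have e3 : ∀ a, z0 * (t * a) = t * (z0 * a) := fun a => by rw [← mul_assoc, e1, mul_assoc]
        have e4 : ∀ a, z0 * (z0 * a) = a := fun a => by rw [← mul_assoc, hz2, one_mul]
        rintro _ _ (rfl | rfl | rfl | rfl) (rfl | rfl | rfl | rfl) <;>
          simp [mul_assoc, ht2, hz2, e1, e2, e3, e4]
      inv_mem' := by
        have i1 := inv_eq_of_mul_eq_one_right ht2
        have i2 := inv_eq_of_mul_eq_one_right hz2
        rintro _ (rfl | rfl | rfl | rfl) <;> simp [i1, i2, htz.eq.symm] }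
  have hA2 : ∀ u ∈ A, u * u = 1 := by
    rintro _ (rfl | rfl | rfl | rfl)
    · simp
    · exact hz2
    · exact ht2
    · rw [htz.symm.mul_mul_mul_comm, ht2, hz2, one_mul]
  refine ⟨A, ⟨fun u hu g => ?_⟩, ?_, hA2⟩
  · have h2 : (g * u * g⁻¹) * (g * u * g⁻¹) = 1 := by
      rw [show (g * u * g⁻¹) * (g * u * g⁻¹) = g * (u * u) * g⁻¹ by group, hA2 u hu]; group
    refine hW _ ?_ h2
    have hwg : ∀ i : ℤ, ∃ i' : ℤ, g * (t * y ^ i) * g⁻¹ = t * y ^ i' := by
      intro i
      have h1 : t⁻¹ * (g * (t * y ^ i) * g⁻¹) ∈ zpowers y := by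
        rw [htdef]
        have hc := hwc g
        have hYi : ∀ i : ℤ, g * y ^ i * g⁻¹ ∈ zpowers y := fun i => hYn.conj_mem _ (zpow_mem (mem_zpowers y) i) g
        have hm : g * w * g⁻¹ * w⁻¹ ∈ zpowers y := hc
        have hm' : w⁻¹ * (g * w * g⁻¹) ∈ zpowers y := by
          have := hYn.conj_mem _ hm w⁻¹
          rwa [show w⁻¹ * (g * w * g⁻¹ * w⁻¹) * w⁻¹⁻¹ = w⁻¹ * (g * w * g⁻¹) by group] at this
        rw [show (w * y ^ (-(j * a)))⁻¹ * (g * (w * y ^ (-(j * a)) * y ^ i) * g⁻¹) =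
          y ^ (j * a) * (w⁻¹ * (g * w * g⁻¹)) * (g * y ^ (-(j * a)) * g⁻¹) * (g * y ^ i * g⁻¹) by group]
        exact mul_mem (mul_mem (mul_mem (zpow_mem (mem_zpowers y) _) hm') (hYi _)) (hYi _)
      obtain ⟨i', hi'⟩ := h1
      change y ^ i' = _ at hi'
      exact ⟨i', by rw [hi', mul_inv_cancel_left]⟩
    rcases hu with rfl | rfl | rfl | rfl
    · exact ⟨0, Or.inl (by simp)⟩
    · obtain ⟨i', hi'⟩ := hYn.conj_mem _ (pow_mem (mem_zpowers y) (2 ^ (n - 1))) g
      exact ⟨i', Or.inl hi'.symm⟩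
    · obtain ⟨i', hi'⟩ := hwg 0
      rw [zpow_zero, mul_one] at hi'
      exact ⟨i', Or.inr hi'⟩
    · obtain ⟨i', hi'⟩ := hwg ((2 ^ (n - 1) : ℕ) : ℤ)
      rw [zpow_natCast] at hi'
      exact ⟨i', Or.inr hi'⟩
  · have hzY : z0 ∈ zpowers y := pow_mem (mem_zpowers y) _
    have d1 : t ≠ 1 := fun h => htY (h ▸ one_mem _)
    have d2 : t ≠ z0 := fun h => htY (h ▸ hzY)
    have d3 : t * z0 ≠ 1 := fun h => d2 ((eq_inv_of_mul_eq_one_left h).trans (inv_eq_of_mul_eq_one_right hz2))
    have d4 : t * z0 ≠ z0 := fun h => d1 (mul_eq_right.1 h)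
    have d5 : t * z0 ≠ t := fun h => hz1 (mul_eq_left.1 h)
    have hA : (A : Set T) = {1, z0, t, t * z0} := by
      ext u
      show (u = 1 ∨ u = z0 ∨ u = t ∨ u = t * z0) ↔ _
      simp
    show Nat.card ↥A = 4
    rw [← SetLike.coe_sort_coe, Nat.card_coe_set_eq, hA,
      Set.ncard_insert_of_notMem (by simp [hz1.symm, d1.symm, d3.symm]),
      Set.ncard_insert_of_notMem (by simp [d2.symm, d4.symm]), Set.ncard_pair d5.symm]

end Cfsg.Agent.InvChar.NormalFourOrCyclic
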