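import Mathlib
import Cfsg.Agent.Lib.ZStar.Main
import Cfsg.Agent.Lib.Involutions.ThompsonTransfer
import Cfsg.Agent.Lib.Involutions.TwoGroups
import Cfsg.Agent.InvChar.NormalFourOrCyclic

/-!
An involution whose centralizer has at most three involutions, in a group without subgroups of index two
and without isolated involutions, lies in the centre of a Sylow 2-subgroup.
-/

set_option linter.all false

namespace Cfsg.Agent.InvChar.ThreeInvolutions

open Subgroup

variable {G : Type*} [Group G] [Finite G]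

/-- An involution commuting with another and different from it. -/
theorem mul_ne {a b : G} (ha : orderOf a = 2) (hb : orderOf b = 2) (hne : a ≠ b) : a * b ≠ 1 := fun h =>
  hne (by rw [eq_inv_of_mul_eq_one_left h]; exact inv_eq_of_mul_eq_one_right (by rw [← pow_two, ← hb, pow_orderOf_eq_one]))

omit [Finite G] in
theorem orderOf_conj' (g x : G) : orderOf (g * x * g⁻¹) = orderOf x :=
  MulEquiv.orderOf_eq (MulAut.conj g) x

/-- The set up. -/
structure Hyp (x : G) : Prop where
  hx : orderOf x = 2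
  three : Nat.card {u : ↥(centralizer ({x} : Set G)) // orderOf u = 2} ≤ 3
  noIndex : ∀ H : Subgroup G, H.index ≠ 2
  moves : ∀ z : G, orderOf z = 2 → ∃ g : G, Commute z (g * z * g⁻¹) ∧ g * z * g⁻¹ ≠ z

variable {x : G} (h : Hyp x)

include h in
/-- The involutions of the centralizer of a conjugate of `x`. -/
theorem invs {a : G} (ha : ∃ g, g * x * g⁻¹ = a) {z u : G} (hz : orderOf z = 2) (hzc : Commute a z) (hza : z ≠ a)
    (hu : orderOf u = 2) (huc : Commute a u) : u = a ∨ u = z ∨ u = a * z := by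
  classical
  obtain ⟨g, rfl⟩ := ha
  by_contra hno
  push Not at hno
  obtain ⟨h1, h2, h3⟩ := hno
  set a := g * x * g⁻¹ with hadef
  have hao : orderOf a = 2 := by rw [hadef, orderOf_conj', h.hx]
  have haz : orderOf (a * z) = 2 := orderOf_eq_prime (by
    rw [pow_two, hzc.symm.mul_mul_mul_comm, ← pow_two a, ← pow_two z]
    nth_rewrite 1 [← hao]
    rw [pow_orderOf_eq_one, ← hz, pow_orderOf_eq_one, one_mul]) (mul_ne hao hz hza.symm)
  let f : G → G := fun v => g⁻¹ * v * g
  have hf : Function.Injective f := fun v w e => mul_left_cancel (mul_right_cancel e)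
  have hmem : ∀ v ∈ ({a, z, a * z, u} : Finset G), f v ∈ centralizer ({x} : Set G) ∧ orderOf (f v) = 2 := by
    intro v hv
    have hvc : Commute a v ∧ orderOf v = 2 := by
      simp only [Finset.mem_insert, Finset.mem_singleton] at hv
      rcases hv with rfl | rfl | rfl | rfl
      · exact ⟨Commute.refl a, hao⟩
      · exact ⟨hzc, hz⟩
      · exact ⟨(Commute.refl a).mul_right hzc, haz⟩
      · exact ⟨huc, hu⟩
    refine ⟨mem_centralizer_singleton_iff.2 ?_, ?_⟩
    · calc f v * x = g⁻¹ * (v * a) * g := by simp only [f, hadef]; group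
        _ = g⁻¹ * (a * v) * g := by rw [hvc.1.eq]
        _ = _ := by simp only [f, hadef]; group
    · have := orderOf_conj' g⁻¹ v
      rw [inv_inv] at this
      rw [this, hvc.2]
  have hcard : ({a, z, a * z, u} : Finset G).card = 4 := by
    have e1 : a ≠ a * z := fun e => by rw [left_eq_mul.1 e, orderOf_one] at hz; norm_num at hz
    have e2 : z ≠ a * z := fun e => by rw [right_eq_mul.1 e, orderOf_one] at hao; norm_num at hao
    rw [Finset.card_insert_of_notMem (by simp [hza.symm, e1, h1.symm]),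
      Finset.card_insert_of_notMem (by simp [e2, h2.symm]), Finset.card_pair h3.symm]
  have h4 := Nat.card_le_card_of_injective
    (fun v : ↥({a, z, a * z, u} : Finset G) =>
      (⟨⟨f v, (hmem v v.2).1⟩, by rw [← Subgroup.orderOf_coe]; exact (hmem v v.2).2⟩ :
        {u : ↥(centralizer ({x} : Set G)) // orderOf u = 2}))
    (fun v w e => Subtype.ext (hf (congrArg (fun q => ((q.1 : ↥(centralizer ({x} : Set G))) : G)) e)))
  rw [Nat.card_eq_finsetCard, hcard] at h4
  have := h.three
  omega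

/-- 2-subgroups are conjugate into a given Sylow subgroup. -/
theorem exists_conj_le (T : Sylow 2 G) (P : Subgroup G) (hP : IsPGroup 2 P) :
    ∃ g : G, ∀ p ∈ P, g * p * g⁻¹ ∈ (T : Subgroup G) := by
  haveI : Fact (Nat.Prime 2) := ⟨Nat.prime_two⟩
  obtain ⟨Q, hQ⟩ := hP.exists_le_sylow
  obtain ⟨g, rfl⟩ := MulAction.exists_smul_eq G Q T
  exact ⟨g, fun p hp => ⟨p, hQ hp, rfl⟩⟩

theorem isPGroup_zpowers {u : G} (hu : u * u = 1) : IsPGroup 2 ↥(zpowers u) := by
  rintro ⟨v, i, rfl⟩
  exact ⟨1, Subtype.ext (by show (u ^ i) ^ 2 = 1; rw [pow_two, ← zpow_add, ← two_mul, zpow_mul, zpow_two, hu, one_zpow])⟩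

/-- Two commuting involutions are simultaneously conjugate into a Sylow subgroup. -/
theorem exists_conj_pair (T : Sylow 2 G) {u v : G} (hu : orderOf u = 2) (hv : orderOf v = 2) (huv : Commute u v) :
    ∃ g : G, g * u * g⁻¹ ∈ (T : Subgroup G) ∧ g * v * g⁻¹ ∈ (T : Subgroup G) := by
  haveI : Fact (Nat.Prime 2) := ⟨Nat.prime_two⟩
  have hP : IsPGroup 2 ↥(zpowers u ⊔ zpowers v : Subgroup G) :=
    (isPGroup_zpowers (by rw [← pow_two, ← hu, pow_orderOf_eq_one])).to_sup_of_normal_right'
      (isPGroup_zpowers (by rw [← pow_two, ← hv, pow_orderOf_eq_one])) (by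
        rw [zpowers_le, mem_normalizer_iff]
        intro w
        have hc : ∀ w ∈ zpowers v, u * w * u⁻¹ = w := by
          rintro _ ⟨i, rfl⟩
          rw [(huv.zpow_right i).eq, mul_inv_cancel_right]
        refine ⟨fun hw => by rw [hc w hw]; exact hw, fun hw => ?_⟩
        have := hc _ hw
        rw [show w = u * w * u⁻¹ from (mul_left_cancel (mul_right_cancel this)).symm]
        exact hw)
  obtain ⟨g, hg⟩ := exists_conj_le T _ hP
  exact ⟨g, hg u (mem_sup_left (mem_zpowers u)), hg v (mem_sup_right (mem_zpowers v))⟩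

include h in
/-- The core argument: no conjugate of `x` in `T` has a centralizer of index two. -/
theorem index_two_false (T : Sylow 2 G) (hno : ∀ S : Sylow 2 G, ¬ (S : Subgroup G) ≤ centralizer ({x} : Set G))
    {z : G} (hzT : z ∈ (T : Subgroup G)) (hz : orderOf z = 2) (hzc : ∀ t ∈ (T : Subgroup G), Commute t z)
    {a : G} (ha : ∃ g, g * x * g⁻¹ = a) (haT : a ∈ (T : Subgroup G)) {n : G} (hn : n ∈ (T : Subgroup G))
    (hna : ¬ Commute n a)
    (h2 : ∀ p ∈ (T : Subgroup G), ∀ q ∈ (T : Subgroup G), ¬ Commute p a → ¬ Commute q a → Commute (p * q) a) : False := by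
  classical
  haveI : Fact (Nat.Prime 2) := ⟨Nat.prime_two⟩
  have hao : orderOf a = 2 := by obtain ⟨g, rfl⟩ := ha; rw [orderOf_conj', h.hx]
  -- `z` is not conjugate to `x`
  have hnc : ∀ g, g * x * g⁻¹ ≠ z := by
    intro g e
    obtain ⟨S, hS⟩ : ∃ S : Sylow 2 G, ∀ s ∈ (S : Subgroup G), g * s * g⁻¹ ∈ (T : Subgroup G) := by
      refine ⟨g⁻¹ • T, fun s hs => ?_⟩
      obtain ⟨t, ht, rfl⟩ := hs
      show g * (g⁻¹ * t * g⁻¹⁻¹) * g⁻¹ ∈ _
      rwa [show g * (g⁻¹ * t * g⁻¹⁻¹) * g⁻¹ = t by group]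
    refine hno S fun s hs => mem_centralizer_singleton_iff.2 ?_
    have := (hzc _ (hS s hs)).eq
    rw [← e] at this
    calc s * x = g⁻¹ * (g * s * g⁻¹ * (g * x * g⁻¹)) * g := by group
      _ = g⁻¹ * (g * x * g⁻¹ * (g * s * g⁻¹)) * g := by rw [this]
      _ = x * s := by group
  have hza : z ≠ a := fun e => by obtain ⟨g, hg⟩ := ha; exact hnc g (hg.trans e.symm)
  have haz : Commute a z := hzc a haT
  -- `n` swaps `a` and `a z`
  have hnn : n * a * n⁻¹ = a * z := by
    have hc : Commute a (n * a * n⁻¹) := by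
      by_contra hc
      have hnaT := mul_mem (mul_mem hn haT) (inv_mem hn)
      have h3 : ¬ Commute (n * a) a := fun e => hna (by
        have := e.mul_left (Commute.refl a).inv_left; rwa [mul_inv_cancel_right] at this)
      have h4 : ¬ Commute n⁻¹ a := fun e => hna (by simpa using e.inv_left)
      exact hc (h2 _ (mul_mem hn haT) _ (inv_mem hn) h3 h4).symm
    rcases invs h ha hz haz hza (by rw [orderOf_conj', hao]) hc with e | e | e
    · exact absurd (mul_inv_eq_iff_eq_mul.1 e) hna
    · obtain ⟨g, hg⟩ := ha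
      exact absurd (show (n * g) * x * (n * g)⁻¹ = z by rw [← e, ← hg]; group) (hnc _)
    · exact e
  have hazx : ∃ g, g * x * g⁻¹ = a * z := by
    obtain ⟨g, hg⟩ := ha; exact ⟨n * g, by rw [← hnn, ← hg]; group⟩
  have notconj : ∀ {u}, (∃ k, k * z * k⁻¹ = u) → u ≠ a ∧ u ≠ a * z := by
    intro u ⟨k, hk⟩
    constructor <;> intro e
    · obtain ⟨g, hg⟩ := ha
      exact hnc (k⁻¹ * g) (by rw [show k⁻¹ * g * x * (k⁻¹ * g)⁻¹ = k⁻¹ * (g * x * g⁻¹) * k by group, hg, ← e, ← hk]; group)
    · obtain ⟨g, hg⟩ := hazx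
      exact hnc (k⁻¹ * g) (by rw [show k⁻¹ * g * x * (k⁻¹ * g)⁻¹ = k⁻¹ * (g * x * g⁻¹) * k by group, hg, ← e, ← hk]; group)
  -- conjugates of `z` in `T` other than `z` are outside the centralizer of `a`
  have out : ∀ {u}, u ∈ (T : Subgroup G) → (∃ k, k * z * k⁻¹ = u) → u ≠ z → ¬ Commute u a := by
    intro u huT hk hne hc
    have huo : orderOf u = 2 := by obtain ⟨k, rfl⟩ := hk; rw [orderOf_conj', hz]
    rcases invs h ha hz haz hza huo hc.symm with e | e | e
    · exact (notconj hk).1 e
    · exact hne e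
    · exact (notconj hk).2 e
  -- a conjugate of `z` in `T`
  obtain ⟨g, hgc, hgne⟩ := h.moves z hz
  let C := centralizer ({z} : Set G)
  have hTC : (T : Subgroup G) ≤ C := fun t ht => mem_centralizer_singleton_iff.2 (hzc t ht)
  have intoT : ∀ P : Subgroup G, P ≤ C → IsPGroup 2 P → ∃ c ∈ C, ∀ p ∈ P, c * p * c⁻¹ ∈ (T : Subgroup G) := by
    intro P hPC hP
    obtain ⟨c, hc⟩ := exists_conj_le (T.subtype hTC) (P.subgroupOf C) (hP.of_equiv (subgroupOfEquivOfLe hPC).symm)
    exact ⟨c, c.2, fun p hp => hc ⟨p, hPC hp⟩ hp⟩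
  obtain ⟨c0, hc0, hc0'⟩ := intoT (zpowers (g * z * g⁻¹))
    (zpowers_le.2 (mem_centralizer_singleton_iff.2 hgc.eq.symm))
    (isPGroup_zpowers (by rw [← pow_two, ← hz, ← orderOf_conj' g z, pow_orderOf_eq_one]))
  set z1 := c0 * (g * z * g⁻¹) * c0⁻¹ with hz1def
  have hz1T : z1 ∈ (T : Subgroup G) := hc0' _ (mem_zpowers _)
  have hc0z : c0 * z * c0⁻¹ = z := by rw [mem_centralizer_singleton_iff.1 hc0, mul_inv_cancel_right]
  have hz1k : ∃ k, k * z * k⁻¹ = z1 := ⟨c0 * g, by rw [hz1def]; group⟩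
  have hz1ne : z1 ≠ z := fun e => hgne (by
    rw [hz1def] at e
    nth_rewrite 2 [← hc0z] at e
    exact mul_left_cancel (mul_right_cancel e))
  have hz1o : orderOf z1 = 2 := by obtain ⟨k, hk⟩ := hz1k; rw [← hk, orderOf_conj', hz]
  have hz1a : ¬ Commute z1 a := out hz1T hz1k hz1ne
  have hz11 : z1 * z1 = 1 := by rw [← pow_two, ← hz1o, pow_orderOf_eq_one]
  -- move `z1` to `z` keeping its centralizer in `T`
  obtain ⟨k, hk⟩ := hz1k
  obtain ⟨c1, hc1, hc1'⟩ := intoT
    (((T : Subgroup G) ⊓ centralizer ({z1} : Set G)).map (MulAut.conj k⁻¹).toMonoidHom) (by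
      rintro _ ⟨s, hs, rfl⟩
      refine mem_centralizer_singleton_iff.2 ?_
      show k⁻¹ * s * k⁻¹⁻¹ * z = z * (k⁻¹ * s * k⁻¹⁻¹)
      calc k⁻¹ * s * k⁻¹⁻¹ * z = k⁻¹ * (s * (k * z * k⁻¹)) * k := by group
        _ = k⁻¹ * ((k * z * k⁻¹) * s) * k := by rw [hk, mem_centralizer_singleton_iff.1 hs.2]
        _ = _ := by group)
    ((T.2.to_le inf_le_left).map _)
  set m := c1 * k⁻¹ with hm
  have hmT : ∀ s ∈ (T : Subgroup G), Commute s z1 → m * s * m⁻¹ ∈ (T : Subgroup G) := by
    intro s hs hsc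
    have := hc1' _ ⟨s, ⟨hs, mem_centralizer_singleton_iff.2 hsc.eq⟩, rfl⟩
    convert this using 1
    show m * s * m⁻¹ = c1 * (k⁻¹ * s * k⁻¹⁻¹) * c1⁻¹
    rw [hm]; group
  have hmz1 : m * z1 * m⁻¹ = z := by
    rw [hm, ← hk, show c1 * k⁻¹ * (k * z * k⁻¹) * (c1 * k⁻¹)⁻¹ = c1 * z * c1⁻¹ by group,
      mem_centralizer_singleton_iff.1 hc1, mul_inv_cancel_right]
  have hz2T : m * z * m⁻¹ ∈ (T : Subgroup G) := hmT z hzT (hzc z1 hz1T).symm
  have hz2a : ¬ Commute (m * z * m⁻¹) a := out hz2T ⟨m, rfl⟩ fun e => hz1ne (by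
    nth_rewrite 2 [← hmz1] at e
    exact (mul_left_cancel (mul_right_cancel e)).symm)
  have nosq : ∀ u ∈ (T : Subgroup G), Commute u z1 → u * u ≠ z := by
    intro u hu huc e
    have hv := hmT u hu huc
    apply hz2a
    rw [← e, show m * (u * u) * m⁻¹ = (m * u * m⁻¹) * (m * u * m⁻¹) by group]
    by_cases hva : Commute (m * u * m⁻¹) a
    · exact hva.mul_left hva
    · exact h2 _ hv _ hv hva hva
  -- only `1` and `z` commute with `z1` and `a`
  have fixed : ∀ u ∈ (T : Subgroup G), Commute u a → Commute u z1 → u = 1 ∨ u = z := by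
    have inv : ∀ u ∈ (T : Subgroup G), Commute u a → Commute u z1 → orderOf u = 2 → u = z := by
      intro u hu hua huz huo
      rcases invs h ha hz haz hza huo hua.symm with e | e | e
      · rw [e] at huz; exact absurd huz.symm hz1a
      · exact e
      · rw [e] at huz
        exact absurd (show Commute z1 a by
          have := (huz.mul_left (hzc z1 hz1T).symm.inv_left).symm
          rwa [mul_inv_cancel_right] at this) hz1a
    intro u hu hua huz
    obtain ⟨i, hi⟩ := IsPGroup.iff_orderOf.1 T.2 ⟨u, hu⟩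
    rw [← Subgroup.orderOf_coe] at hi
    change orderOf u = 2 ^ i at hi
    rcases i with _ | _ | i
    · exact Or.inl (orderOf_eq_one_iff.1 (by simpa using hi))
    · exact Or.inr (inv u hu hua huz (by simpa using hi))
    · exfalso
      have ho : orderOf (u ^ 2 ^ (i + 1)) = 2 := by
        rw [orderOf_pow, hi, Nat.gcd_eq_right (pow_dvd_pow 2 (by omega)), Nat.pow_div (by omega) (by norm_num),
          show i + 1 + 1 - (i + 1) = 1 by omega, pow_one]
      have := inv _ (pow_mem hu _) (hua.pow_left _) (huz.pow_left _) ho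
      refine nosq (u ^ 2 ^ i) (pow_mem hu _) (huz.pow_left _) ?_
      rw [← this, ← pow_add, ← two_mul, ← pow_succ']
  -- the four group of `a`
  have hzz : z * z = 1 := by rw [← pow_two, ← hz, pow_orderOf_eq_one]
  have haa : a * a = 1 := by rw [← pow_two, ← hao, pow_orderOf_eq_one]
  have hz1inv : z1⁻¹ = z1 := inv_eq_of_mul_eq_one_right hz11
  have hz1az : z1 * a * z1 = a * z := by
    have hp : Commute (z1⁻¹ * n) a := h2 _ (inv_mem hz1T) _ hn (fun e => hz1a (by simpa using e.inv_left)) hna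
    calc z1 * a * z1 = z1 * a * z1⁻¹ := by rw [hz1inv]
      _ = z1 * ((z1⁻¹ * n) * a * (z1⁻¹ * n)⁻¹) * z1⁻¹ := by rw [hp.eq, mul_inv_cancel_right]
      _ = n * a * n⁻¹ := by group
      _ = _ := hnn
  set A : Set G := {1, z, a, a * z} with hA
  have aconj : ∀ v ∈ A, z1 * v * z1 ∈ A := by
    rintro v (e | e | e | e) <;> rw [e]
    · left; rw [mul_one, hz11]
    · right; left; rw [(hzc z1 hz1T).eq, mul_assoc, hz11, mul_one]
    · right; right; right; exact hz1az
    · right; right; left
      rw [show z1 * (a * z) * z1 = z1 * a * (z * z1) by group, ← (hzc z1 hz1T).eq, ← mul_assoc, hz1az, mul_assoc, hzz, mul_one]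
  have hAa : ∀ {p}, p ∈ A → p ∈ (T : Subgroup G) ∧ Commute p a := by
    rintro p (e | e | e | e) <;> rw [e]
    · exact ⟨one_mem _, Commute.one_left a⟩
    · exact ⟨hzT, haz.symm⟩
    · exact ⟨haT, Commute.refl a⟩
    · exact ⟨mul_mem haT hzT, (Commute.refl a).mul_left haz.symm⟩
  have hAi : ∀ {p}, p ∈ A → p⁻¹ = p := by
    rintro p (e | e | e | e) <;> rw [e] <;> refine inv_eq_of_mul_eq_one_right ?_
    · exact one_mul 1
    · exact hzz
    · exact haa
    · rw [haz.symm.mul_mul_mul_comm, haa, hzz, one_mul]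
  have hAm : ∀ {p q}, p ∈ A → q ∈ A → p * q ∈ A := by
    have e1 : z * a = a * z := haz.eq.symm
    have e2 : ∀ b, a * (a * b) = b := fun b => by rw [← mul_assoc, haa, one_mul]
    have e3 : ∀ b, z * (a * b) = a * (z * b) := fun b => by rw [← mul_assoc, e1, mul_assoc]
    rintro p q (h1 | h1 | h1 | h1) (h2 | h2 | h2 | h2) <;> rw [h1, h2] <;>
      simp [hA, mul_assoc, haa, hzz, e1, e2, e3]
  have step : ∀ u ∈ (T : Subgroup G), Commute u a → u⁻¹ * (z1 * u * z1) ∈ A → u ∈ A := by
    intro u hu hua hα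
    generalize hαd : u⁻¹ * (z1 * u * z1) = α at hα
    have e1 : z1 * u * z1 = u * α := by rw [← hαd, mul_inv_cancel_left]
    have key : u = u * α * (z1 * α * z1) := by
      calc u = (z1 * z1) * u * (z1 * z1) := by rw [hz11, one_mul, mul_one]
        _ = z1 * (z1 * u * z1) * z1 := by group
        _ = z1 * u * (z1 * z1) * α * z1 := by rw [e1, hz11]; group
        _ = z1 * u * z1 * (z1 * α * z1) := by group
        _ = _ := by rw [e1]
    have fin : z1 * u * z1 = u → u = 1 ∨ u = z := fun e => fixed u hu hua (show Commute u z1 from by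
      show u * z1 = z1 * u
      nth_rewrite 1 [← e]
      rw [mul_assoc, hz11, mul_one])
    rcases hα with hα | hα | hα | hα <;> rw [hα] at e1 key
    · rw [mul_one] at e1
      rcases fin e1 with e | e <;> simp [hA, e]
    · have e2 : z1 * (u * a) * z1 = u * a := by
        calc z1 * (u * a) * z1 = z1 * u * (z1 * z1) * a * z1 := by rw [hz11]; group
          _ = (z1 * u * z1) * (z1 * a * z1) := by group
          _ = u * a * (z * z) := by rw [e1, hz1az, mul_assoc, ← mul_assoc z a z, ← haz.eq, mul_assoc a z z]; group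
          _ = _ := by rw [hzz, mul_one]
      have hua2 : Commute (u * a) a := hua.mul_left (Commute.refl a)
      have : u * a = 1 ∨ u * a = z := fixed _ (mul_mem hu haT) hua2 (show Commute (u * a) z1 from by
        show u * a * z1 = z1 * (u * a)
        nth_rewrite 1 [← e2]
        rw [mul_assoc, hz11, mul_one])
      rcases this with e | e
      · rw [eq_inv_of_mul_eq_one_left e, hAi (show a ∈ A by simp [hA])]; simp [hA]
      · rw [eq_mul_inv_of_mul_eq e, hAi (show a ∈ A by simp [hA]), ← haz.eq]; simp [hA]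
    · rw [mul_assoc, hz1az, ← mul_assoc a a z, haa, one_mul] at key
      exact absurd (left_eq_mul.1 key) (fun e => by rw [e, orderOf_one] at hz; norm_num at hz)
    · rw [show z1 * (a * z) * z1 = a by
        rw [show z1 * (a * z) * z1 = z1 * a * (z * z1) by group, ← (hzc z1 hz1T).eq, ← mul_assoc, hz1az, mul_assoc, hzz, mul_one],
        mul_assoc u, haz.eq, mul_assoc z a a, haa, mul_one] at key
      exact absurd (left_eq_mul.1 key) (fun e => by rw [e, orderOf_one] at hz; norm_num at hz)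
  have hconjA : ∀ u ∈ (T : Subgroup G), Commute u a → Commute (z1 * u * z1) a := by
    intro u hu hua
    have hzc' : z1 * (a * z) * z1 = a := by
      rw [show z1 * (a * z) * z1 = z1 * a * (z * z1) by group, ← (hzc z1 hz1T).eq, ← mul_assoc, hz1az, mul_assoc, hzz, mul_one]
    have hu2 : Commute u (a * z) := hua.mul_right (hzc u hu)
    show z1 * u * z1 * a = a * (z1 * u * z1)
    calc z1 * u * z1 * a = z1 * u * z1 * (z1 * (a * z) * z1) := by rw [hzc']
      _ = z1 * (u * (z1 * z1) * (a * z)) * z1 := by group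
      _ = z1 * ((a * z) * (z1 * z1) * u) * z1 := by rw [hz11, mul_one, mul_one, hu2.eq]
      _ = (z1 * (a * z) * z1) * (z1 * u * z1) := by group
      _ = _ := by rw [hzc']
  have allA : ∀ d : ℕ, ∀ u : G, ∀ hu : u ∈ (T : Subgroup G), Commute u a → (⟨u, hu⟩ : ↥(T : Subgroup G)) ∈
      Subgroup.upperCentralSeries ↥(T : Subgroup G) d → u ∈ A := by
    intro d
    induction d with
    | zero =>
      intro u hu hua hd
      rw [Subgroup.upperCentralSeries_zero, mem_bot] at hd
      rw [show u = 1 from congrArg Subtype.val hd]; simp [hA]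
    | succ d ih =>
      intro u hu hua hd
      refine step u hu hua ?_
      refine ih _ (mul_mem (inv_mem hu) (mul_mem (mul_mem hz1T hu) hz1T)) (hua.inv_left.mul_left (hconjA u hu hua)) ?_
      have := Subgroup.mem_upperCentralSeries_succ_iff.1 ((Subgroup.upperCentralSeries _ (d + 1)).inv_mem hd) ⟨z1, hz1T⟩
      convert this using 1
      refine Subtype.ext ?_
      show u⁻¹ * (z1 * u * z1) = _
      simp [commutatorElement_def, hz1inv, mul_assoc]
  haveI := T.2.isNilpotent
  have hM : ∀ u ∈ (T : Subgroup G), Commute u a → u ∈ A := by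
    obtain ⟨d, hd⟩ := Group.IsNilpotent.nilpotent ↥(T : Subgroup G)
    exact fun u hu hua => allA d u hu hua (hd ▸ mem_top _)
  -- transfer into the second four-group
  let B : Subgroup G :=
    { carrier := {u | u = 1 ∨ u = z ∨ u = z1 ∨ u = z1 * z}
      one_mem' := Or.inl rfl
      mul_mem' := by
        have e1 : z * z1 = z1 * z := (hzc z1 hz1T).eq.symm
        have e2 : ∀ b, z1 * (z1 * b) = b := fun b => by rw [← mul_assoc, hz11, one_mul]
        have e3 : ∀ b, z * (z1 * b) = z1 * (z * b) := fun b => by rw [← mul_assoc, e1, mul_assoc]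
        rintro _ _ (rfl | rfl | rfl | rfl) (rfl | rfl | rfl | rfl) <;>
          simp [mul_assoc, hz11, hzz, e1, e2, e3]
      inv_mem' := by
        have i2 := inv_eq_of_mul_eq_one_right hzz
        rintro _ (rfl | rfl | rfl | rfl) <;> simp [hz1inv, i2, (hzc z1 hz1T).eq.symm] }
  have hBT : B ≤ (T : Subgroup G) := by
    rintro _ (rfl | rfl | rfl | rfl)
    · exact one_mem _
    · exact hzT
    · exact hz1T
    · exact mul_mem hz1T hzT
  have hBrel : B.relIndex (T : Subgroup G) = 2 := by
    rw [Subgroup.relIndex]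
    have haB : a ∉ B := by
      rintro (e | e | e | e)
      · rw [e, orderOf_one] at hao; norm_num at hao
      · exact hza e.symm
      · exact hz1a (e ▸ Commute.refl z1)
      · exact hz1a (e ▸ (Commute.refl z1).mul_right (hzc z1 hz1T))
    refine Subgroup.index_eq_two_iff.2 ⟨⟨a, haT⟩, fun u => ?_⟩
    by_cases huB : (u : G) ∈ B
    · exact Or.inr ⟨huB, fun hh => haB ((B.mul_mem_cancel_left huB).1 hh)⟩
    · refine Or.inl ⟨?_, huB⟩
      show (u : G) * a ∈ B
      by_cases hua : Commute (u : G) a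
      · rcases hM u u.2 hua with e | e | e | e
        · exact absurd (e ▸ one_mem B) huB
        · exact absurd (e ▸ (Or.inr (Or.inl rfl) : z ∈ B)) huB
        · rw [e, haa]; exact one_mem B
        · rw [e]
          right; left
          calc a * z * a = z * a * a := by rw [haz.eq]
            _ = z := by rw [mul_assoc, haa, mul_one]
      · have hp := h2 _ hz1T _ u.2 hz1a hua
        have e' : (u : G) = z1 * (z1 * u) := by rw [← mul_assoc, hz11, one_mul]
        rcases hM _ (mul_mem hz1T u.2) hp with e | e | e | e <;> rw [e] at e' <;> rw [e'] at huB ⊢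
        · exact absurd (Or.inr (Or.inr (Or.inl (mul_one _)))) huB
        · exact absurd (Or.inr (Or.inr (Or.inr rfl))) huB
        · right; right; left; rw [mul_assoc, haa, mul_one]
        · right; right; right
          calc z1 * (a * z) * a = z1 * (z * (a * a)) := by rw [haz.eq, mul_assoc z1, mul_assoc z]
            _ = z1 * z := by rw [haa, mul_one]
  obtain ⟨q, hq⟩ := Involutions.ThompsonTransfer.exists_conj_mem h.noIndex T B hBT hBrel a hao
  obtain ⟨g0, hg0⟩ := ha
  rcases hq with e | e | e | e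
  · rw [← orderOf_conj' q, e, orderOf_one] at hao; norm_num at hao
  · exact hnc (q * g0) (by rw [← e, ← hg0]; group)
  · exact hnc (k⁻¹ * (q * g0)) (by
      rw [show k⁻¹ * (q * g0) * x * (k⁻¹ * (q * g0))⁻¹ = k⁻¹ * (q * (g0 * x * g0⁻¹) * q⁻¹) * k by group, hg0, e, ← hk]; group)
  · -- `z1 * z` is conjugate to `z1` by `a`
    have e2 : a * z1 * a = z1 * z := by
      calc a * z1 * a = (z1 * z1) * a * z1 * a := by rw [hz11, one_mul]
        _ = z1 * (z1 * a * z1) * a := by group
        _ = _ := by rw [hz1az, haz.eq, ← mul_assoc z1 z a, mul_assoc (z1 * z) a a, haa, mul_one]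
    exact hnc (k⁻¹ * (a * (q * g0))) (by
      rw [show k⁻¹ * (a * (q * g0)) * x * (k⁻¹ * (a * (q * g0)))⁻¹ =
        k⁻¹ * (a * (q * (g0 * x * g0⁻¹) * q⁻¹) * a⁻¹) * k by group, hg0, e, ← e2,
        show a * (a * z1 * a) * a⁻¹ = (a * a) * z1 by group, haa, one_mul, ← hk]
      group)

include h in
/-- Some Sylow subgroup centralizes `x`. -/
theorem exists_sylow : ∃ S : Sylow 2 G, (S : Subgroup G) ≤ centralizer ({x} : Set G) := by
  classical
  haveI : Fact (Nat.Prime 2) := ⟨Nat.prime_two⟩
  by_contra hno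
  push Not at hno
  obtain ⟨T, hT⟩ := (isPGroup_zpowers (show x * x = 1 by rw [← pow_two, ← h.hx, pow_orderOf_eq_one])).exists_le_sylow
  have hxT : x ∈ (T : Subgroup G) := hT (mem_zpowers x)
  haveI : Nontrivial ↥(T : Subgroup G) := ⟨⟨1, one_mem _⟩, ⟨x, hxT⟩, fun e => by
    have e' : x = 1 := (congrArg Subtype.val e).symm
    have := h.hx; rw [e', orderOf_one] at this; norm_num at this⟩
  obtain ⟨⟨z, hzT⟩, hz', hzc'⟩ := Involutions.TwoGroups.exists_central_involution T.2
  have hz : orderOf z = 2 := by rw [← hz', ← Subgroup.orderOf_coe]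
  have hzc : ∀ t ∈ (T : Subgroup G), Commute t z := fun t ht => by
    have := congrArg Subtype.val (hzc' ⟨t, ht⟩)
    first | exact this | exact this.symm
  have hxz : Commute x z := hzc x hxT
  have hzx : z ≠ x := fun e => hno T fun t ht => mem_centralizer_singleton_iff.2 (e ▸ hzc t ht).eq
  have hxx : ∃ g, g * x * g⁻¹ = x := ⟨1, by group⟩
  -- the only central involution
  have zuniq : ∀ u ∈ (T : Subgroup G), orderOf u = 2 → (∀ t ∈ (T : Subgroup G), Commute t u) → u = z := by
    intro u hu huo huc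
    rcases invs h hxx hz hxz hzx huo (huc x hxT) with e | e | e
    · exact absurd (fun t ht => mem_centralizer_singleton_iff.2 (e ▸ huc t ht).eq) (hno T)
    · exact e
    · refine absurd (fun t ht => mem_centralizer_singleton_iff.2 ?_) (hno T)
      have := (e ▸ huc t ht : Commute t (x * z)).mul_right (hzc t ht).inv_right
      rw [mul_inv_cancel_right] at this
      exact this.eq
  have hzz : z * z = 1 := by rw [← pow_two, ← hz, pow_orderOf_eq_one]
  rcases InvChar.NormalFourOrCyclic.exists_four_or_cyclic T.2 with ⟨A, hAn, hA4, hA2⟩ | ⟨⟨y, hyT⟩, hy⟩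
  · -- a normal four-group
    have ho : ∀ u ∈ A, u ≠ 1 → orderOf (u : G) = 2 := fun u hu hu1 => orderOf_eq_prime
      (by rw [pow_two]; exact congrArg Subtype.val (hA2 u hu)) (fun e => hu1 (Subtype.ext e))
    haveI := T.2.isNilpotent
    have hA1 : ¬ A ≤ Subgroup.upperCentralSeries ↥(T : Subgroup G) 0 := by
      rw [Subgroup.upperCentralSeries_zero, le_bot_iff]
      rintro rfl
      simp at hA4
    obtain ⟨u0, hu0A, hu0c, hu01⟩ := InvChar.RudvalisTwoGroup.exists_mem_succ A hA1
    rw [Subgroup.upperCentralSeries_zero, mem_bot] at hu01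
    rw [Subgroup.upperCentralSeries_one] at hu0c
    have hu0z : (u0 : G) = z := zuniq _ u0.2 (ho u0 hu0A hu01) fun t ht =>
      congrArg Subtype.val (mem_center_iff.1 hu0c ⟨t, ht⟩)
    have hzA : (⟨z, hzT⟩ : ↥(T : Subgroup G)) ∈ A := by
      rw [show (⟨z, hzT⟩ : ↥(T : Subgroup G)) = u0 from Subtype.ext hu0z.symm]; exact hu0A
    have hAc : ∀ a ∈ A, ∀ b ∈ A, a * b = b * a := fun a ha b hb => by
      have h1 := inv_eq_of_mul_eq_one_right (hA2 _ (mul_mem ha hb))
      rw [mul_inv_rev, inv_eq_of_mul_eq_one_right (hA2 a ha), inv_eq_of_mul_eq_one_right (hA2 b hb)] at h1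
      exact h1.symm
    obtain ⟨⟨a, haT⟩, haA, ha1, haz'⟩ : ∃ a ∈ A, a ≠ 1 ∧ a ≠ ⟨z, hzT⟩ := by
      by_contra hh
      push Not at hh
      have hs : (A : Set ↥(T : Subgroup G)) ⊆ {1, ⟨z, hzT⟩} := fun a ha => by
        by_cases e : a = 1
        · exact Or.inl e
        · exact Or.inr (hh a ha e)
      have := Set.ncard_le_ncard hs (Set.toFinite _)
      rw [← Nat.card_coe_set_eq, SetLike.coe_sort_coe, hA4] at this
      have h2 := Set.ncard_insert_le (1 : ↥(T : Subgroup G)) {⟨z, hzT⟩}
      rw [Set.ncard_singleton] at h2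
      omega
    have hao : orderOf a = 2 := ho _ haA ha1
    have haz : a ≠ z := fun e => haz' (Subtype.ext e)
    -- `T` acts on the other two involutions
    have hact : ∀ t ∈ (T : Subgroup G), t * a * t⁻¹ = a ∨ t * a * t⁻¹ = a * z := by
      intro t ht
      have hm := hAn.conj_mem _ haA ⟨t, ht⟩
      set b : ↥(T : Subgroup G) := ⟨t, ht⟩ * ⟨a, haT⟩ * ⟨t, ht⟩⁻¹ with hb
      have hbv : (b : G) = t * a * t⁻¹ := by simp [hb]
      by_contra hh
      push Not at hh
      have hs : ({1, ⟨z, hzT⟩, ⟨a, haT⟩, ⟨a, haT⟩ * ⟨z, hzT⟩, b} : Set ↥(T : Subgroup G)) ⊆ A := by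
        rintro v (rfl | rfl | rfl | rfl | rfl)
        · exact one_mem _
        · exact hzA
        · exact haA
        · exact mul_mem haA hzA
        · exact hm
      have := Set.ncard_le_ncard hs (Set.toFinite _)
      have hz1 : z ≠ 1 := fun e => by rw [e, orderOf_one] at hz; norm_num at hz
      have ha1' : a ≠ 1 := fun e => by rw [e, orderOf_one] at hao; norm_num at hao
      have hb1 : t * a * t⁻¹ ≠ 1 := fun e => ha1' (by simpa using e)
      have hbz : t * a * t⁻¹ ≠ z := fun e => haz (by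
        rw [show a = t⁻¹ * (t * a * t⁻¹) * t by group, e, mul_assoc, ← (hzc t ht).eq, inv_mul_cancel_left])
      have haz1 : a * z ≠ 1 := mul_ne hao hz haz
      rw [← Nat.card_coe_set_eq (A : Set ↥(T : Subgroup G)), SetLike.coe_sort_coe, hA4,
        Set.ncard_insert_of_notMem (by simp [Subtype.ext_iff, hz1.symm, ha1'.symm, haz1.symm, hbv, hb1.symm]),
        Set.ncard_insert_of_notMem (by simp [Subtype.ext_iff, haz.symm, hbv, hbz.symm, ha1']),
        Set.ncard_insert_of_notMem (by simp [Subtype.ext_iff, hbv, hh.1.symm, hz1]),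
        Set.ncard_pair (by simp [Subtype.ext_iff, hbv, hh.2.symm])] at this
      omega
    have hazc : Commute a z := hzc a haT
    have h2 : ∀ b, (b = a ∨ b = a * z) → ∀ p ∈ (T : Subgroup G), ∀ q ∈ (T : Subgroup G),
        ¬ Commute p b → ¬ Commute q b → Commute (p * q) b := by
      have swap : ∀ p ∈ (T : Subgroup G), ¬ Commute p a → p * a * p⁻¹ = a * z := fun p hp hpa =>
        (hact p hp).resolve_left fun e => hpa (mul_inv_eq_iff_eq_mul.1 e)
      have main : ∀ p ∈ (T : Subgroup G), ∀ q ∈ (T : Subgroup G), ¬ Commute p a → ¬ Commute q a → Commute (p * q) a := by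
        intro p hp q hq hpa hqa
        refine mul_inv_eq_iff_eq_mul.1 ?_
        calc p * q * a * (p * q)⁻¹ = p * (q * a * q⁻¹) * p⁻¹ := by group
          _ = (p * a * p⁻¹) * (p * z * p⁻¹) := by rw [swap q hq hqa]; group
          _ = a * (z * z) := by rw [swap p hp hpa, (hzc p hp).eq, mul_inv_cancel_right]; group
          _ = a := by rw [hzz, mul_one]
      rintro b (rfl | rfl) p hp q hq hpb hqb
      · exact main p hp q hq hpb hqb
      · exact (main p hp q hq (fun e => hpb (e.mul_right (hzc p hp))) (fun e => hqb (e.mul_right (hzc q hq)))).mul_right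
          (hzc _ (mul_mem hp hq))
    obtain ⟨n, hn, hna⟩ : ∃ n ∈ (T : Subgroup G), ¬ Commute n a := by
      by_contra hh
      push Not at hh
      exact haz (zuniq a haT hao hh)
    have fin : ∀ b, (b = a ∨ b = a * z) → (∃ g, g * x * g⁻¹ = b) → False := fun b hb hbx =>
      index_two_false h T hno hzT hz hzc hbx (by rcases hb with rfl | rfl; exacts [haT, mul_mem haT hzT]) hn
        (by
          rcases hb with rfl | rfl
          · exact hna
          · exact fun e => hna (by simpa using e.mul_right (hzc n hn).inv_right))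
        (h2 b hb)
    by_cases hxc : Commute x a
    · rcases invs h hxx hz hxz hzx hao hxc with e | e | e
      · exact fin a (Or.inl rfl) ⟨1, by rw [e]; group⟩
      · exact haz e
      · exact fin (a * z) (Or.inr rfl) ⟨1, by rw [e, mul_assoc x z z, hzz, mul_one]; group⟩
    · have hrel : ((T : Subgroup G) ⊓ centralizer ({a} : Set G)).relIndex (T : Subgroup G) = 2 := by
        rw [Subgroup.relIndex]
        refine Subgroup.index_eq_two_iff.2 ⟨⟨x, hxT⟩, fun t => ?_⟩
        simp only [Subgroup.mem_subgroupOf, Subgroup.mem_inf, Subgroup.coe_mul, mem_centralizer_singleton_iff]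
        by_cases hta : Commute (t : G) a
        · refine Or.inr ⟨⟨t.2, hta.eq⟩, fun hh => hxc ?_⟩
          have := (hta.inv_left.mul_left (show Commute ((t : G) * x) a from hh.2))
          rwa [inv_mul_cancel_left] at this
        · exact Or.inl ⟨⟨mul_mem t.2 hxT, (h2 a (Or.inl rfl) _ t.2 _ hxT hta hxc).eq⟩, fun hh => hta hh.2⟩
      obtain ⟨g, hgT, hgC⟩ := Involutions.ThompsonTransfer.exists_conj_mem h.noIndex T _ inf_le_left hrel x h.hx
      have hgo : orderOf (g * x * g⁻¹) = 2 := by rw [orderOf_conj', h.hx]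
      have hgc : Commute (g * x * g⁻¹) a := mem_centralizer_singleton_iff.1 hgC
      have hgzc : Commute (g * x * g⁻¹) z := hzc _ hgT
      by_cases hgz : z = g * x * g⁻¹
      · refine hno (g⁻¹ • T) fun s hs => ?_
        obtain ⟨t, ht, rfl⟩ := hs
        refine mem_centralizer_singleton_iff.2 ?_
        show g⁻¹ * t * g⁻¹⁻¹ * x = x * (g⁻¹ * t * g⁻¹⁻¹)
        calc g⁻¹ * t * g⁻¹⁻¹ * x = g⁻¹ * (t * (g * x * g⁻¹)) * g := by group
          _ = g⁻¹ * ((g * x * g⁻¹) * t) * g := by rw [← hgz, (hzc t ht).eq]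
          _ = _ := by group
      rcases invs h ⟨g, rfl⟩ hz hgzc hgz hao hgc with e | e | e
      · exact fin a (Or.inl rfl) ⟨g, e.symm⟩
      · exact haz e
      · exact fin (a * z) (Or.inr rfl) ⟨g, by rw [e, mul_assoc _ z z, hzz, mul_one]⟩
  · -- a cyclic subgroup of index at most two
    set Y := zpowers y with hY
    have hYT : Y ≤ (T : Subgroup G) := zpowers_le.2 hyT
    have huY : ∀ u ∈ Y, ∀ v ∈ Y, orderOf u = 2 → orderOf v = 2 → u = v := by
      intro u hu v hv huo hvo
      haveI : IsCyclic ↥Y := inferInstance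
      haveI := Fintype.ofFinite ↥Y
      have hsub := IsCyclic.card_orderOf_eq_totient (α := ↥Y) (d := 2) (by
        have := Subgroup.orderOf_dvd_natCard Y hu
        rwa [huo, Nat.card_eq_fintype_card] at this)
      by_contra hne
      have : 2 ≤ Nat.card {q : ↥Y // orderOf q = 2} := by
        have hi := Nat.card_le_card_of_injective (fun i : Fin 2 => (if i = 0 then
          (⟨⟨u, hu⟩, by rw [← Subgroup.orderOf_coe]; exact huo⟩ : {q : ↥Y // orderOf q = 2}) else
          ⟨⟨v, hv⟩, by rw [← Subgroup.orderOf_coe]; exact hvo⟩)) (by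
            intro i j
            fin_cases i <;> fin_cases j <;> simp [hne, Ne.symm hne])
        simpa using hi
      rw [Nat.card_eq_fintype_card, Fintype.card_subtype, hsub] at this
      norm_num [Nat.totient_two] at this
    have hYs : (Y.subgroupOf (T : Subgroup G)) = zpowers (⟨y, hyT⟩ : ↥(T : Subgroup G)) := by
      ext t
      rw [mem_subgroupOf]
      constructor
      · rintro ⟨i, hi⟩; exact ⟨i, Subtype.ext hi⟩
      · rintro ⟨i, rfl⟩; exact ⟨i, by simp⟩
    have hle : Y.relIndex (T : Subgroup G) = 1 ∨ Y.relIndex (T : Subgroup G) = 2 := by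
      rw [Subgroup.relIndex, hYs]
      have := Nat.pos_of_ne_zero (Subgroup.index_ne_zero_of_finite (H := zpowers (⟨y, hyT⟩ : ↥(T : Subgroup G))))
      omega
    rcases hle with e | e
    · rw [Subgroup.relIndex_eq_one] at e
      exact hzx (huY z (e hzT) x (e hxT) hz h.hx)
    · obtain ⟨g, hg⟩ := Involutions.ThompsonTransfer.exists_conj_mem h.noIndex T Y hYT e x h.hx
      obtain ⟨g', hg'⟩ := Involutions.ThompsonTransfer.exists_conj_mem h.noIndex T Y hYT e z hz
      have e2 := huY _ hg _ hg' (by rw [orderOf_conj', h.hx]) (by rw [orderOf_conj', hz])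
      have hconj : (g'⁻¹ * g) * x * (g'⁻¹ * g)⁻¹ = z := by
        rw [show (g'⁻¹ * g) * x * (g'⁻¹ * g)⁻¹ = g'⁻¹ * (g * x * g⁻¹) * g' by group, e2]; group
      refine hno ((g'⁻¹ * g)⁻¹ • T) fun s hs => ?_
      obtain ⟨t, ht, rfl⟩ := hs
      refine mem_centralizer_singleton_iff.2 ?_
      set q := g'⁻¹ * g
      show q⁻¹ * t * q⁻¹⁻¹ * x = x * (q⁻¹ * t * q⁻¹⁻¹)
      calc q⁻¹ * t * q⁻¹⁻¹ * x = q⁻¹ * (t * (q * x * q⁻¹)) * q := by group
        _ = q⁻¹ * ((q * x * q⁻¹) * t) * q := by rw [hconj, (hzc t ht).eq]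
        _ = _ := by group

include h in
/-- All involutions are conjugate. -/
theorem all_conj (u v : G) (hu : orderOf u = 2) (hv : orderOf v = 2) : IsConj u v := by
  classical
  haveI : Fact (Nat.Prime 2) := ⟨Nat.prime_two⟩
  obtain ⟨T, hT⟩ := exists_sylow h
  have hxc : ∀ t ∈ (T : Subgroup G), Commute x t := fun t ht => (mem_centralizer_singleton_iff.1 (hT ht)).symm
  have hxT : x ∈ (T : Subgroup G) := by
    have hP : IsPGroup 2 ↥(zpowers x) := isPGroup_zpowers (by rw [← pow_two, ← h.hx, pow_orderOf_eq_one])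
    have hle : zpowers x ≤ Subgroup.normalizer ((T : Subgroup G) : Set G) := zpowers_le.2 (mem_normalizer_iff.2 fun w =>
      ⟨fun hw => by rw [(hxc w hw).eq, mul_inv_cancel_right]; exact hw,
        fun hw => by
          have h1 : x * (x * w * x⁻¹) * x⁻¹ = x * w * x⁻¹ := by rw [(hxc _ hw).eq, mul_inv_cancel_right]
          rw [show w = x * w * x⁻¹ from (mul_left_cancel (mul_right_cancel h1)).symm]
          exact hw⟩)
    have := T.3 (hP.to_sup_of_normal_right' T.2 hle) le_sup_right
    exact this.le (mem_sup_left (mem_zpowers x))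
  suffices key : ∀ w ∈ (T : Subgroup G), orderOf w = 2 → IsConj x w by
    have : ∀ w, orderOf w = 2 → IsConj x w := by
      intro w hw
      obtain ⟨g, hg⟩ := exists_conj_le T _ (isPGroup_zpowers (show w * w = 1 by rw [← pow_two, ← hw, pow_orderOf_eq_one]))
      exact (key _ (hg w (mem_zpowers w)) (by rw [orderOf_conj', hw])).trans (isConj_iff.2 ⟨g, rfl⟩).symm
    exact (this u hu).symm.trans (this v hv)
  intro w hwT hw
  by_cases hwx : w = x
  · rw [hwx]
  have hxx : ∃ g, g * x * g⁻¹ = x := ⟨1, by group⟩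
  have all3 : ∀ a ∈ (T : Subgroup G), orderOf a = 2 → a = x ∨ a = w ∨ a = x * w := fun a ha hao =>
    invs h hxx hw (hxc w hwT) hwx hao (hxc a ha)
  have hxw : orderOf (x * w) = 2 := orderOf_eq_prime (by
    rw [pow_two, (hxc w hwT).symm.mul_mul_mul_comm, ← pow_two x, ← pow_two w]
    nth_rewrite 1 [← h.hx]
    rw [pow_orderOf_eq_one, ← hw, pow_orderOf_eq_one, one_mul]) (mul_ne h.hx hw (Ne.symm hwx))
  have two : ∀ a, orderOf a = 2 → ∃ b c, b ∈ (T : Subgroup G) ∧ c ∈ (T : Subgroup G) ∧ b ≠ c ∧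
      IsConj a b ∧ IsConj a c ∧ orderOf b = 2 ∧ orderOf c = 2 := by
    intro a ha
    obtain ⟨g, hgc, hgne⟩ := h.moves a ha
    obtain ⟨d, hd1, hd2⟩ := exists_conj_pair T ha (by rw [orderOf_conj', ha]) hgc
    refine ⟨_, _, hd1, hd2, fun e => hgne (mul_left_cancel (mul_right_cancel e)).symm, isConj_iff.2 ⟨d, rfl⟩,
      (isConj_iff.2 ⟨g, rfl⟩).trans (isConj_iff.2 ⟨d, rfl⟩), by rw [orderOf_conj', ha], by rw [orderOf_conj', orderOf_conj', ha]⟩
  by_contra hnc
  obtain ⟨b, c, hb, hc, hbc, hxb, hxc', hbo, hco⟩ := two x h.hx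
  obtain ⟨b', c', hb', hc', hbc', hwb, hwc, hbo', hco'⟩ := two w hw
  have sep : ∀ {p q : G}, IsConj x p → IsConj w q → p ≠ q := fun hp hq e => hnc (hp.trans (e ▸ hq.symm))
  have d1 := sep hxb hwb
  have d2 := sep hxb hwc
  have d3 := sep hxc' hwb
  have d4 := sep hxc' hwc
  have hsub : ({b, c, b', c'} : Finset G) ⊆ {x, w, x * w} := by
    intro q hq
    simp only [Finset.mem_insert, Finset.mem_singleton] at hq ⊢
    rcases hq with rfl | rfl | rfl | rfl
    · exact all3 _ hb hbo
    · exact all3 _ hc hco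
    · exact all3 _ hb' hbo'
    · exact all3 _ hc' hco'
  have h4 := Finset.card_le_card hsub
  rw [Finset.card_insert_of_notMem (by simp [hbc, d1, d2]), Finset.card_insert_of_notMem (by simp [d3, d4]),
    Finset.card_pair hbc'] at h4
  have h3 := (Finset.card_le_three : ({x, w, x * w} : Finset G).card ≤ 3)
  omega

end Cfsg.Agent.InvChar.ThreeInvolutions
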