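import Mathlib
import Cfsg.Prelude.Def_Transfer
import Cfsg.Agent.InvChar.FourCentralizerCount
import Cfsg.Agent.InvChar.NormalFourOrCyclic
import Cfsg.Agent.InvChar.ThreeInvolutions
import Cfsg.Agent.Lib.Involutions.TwoGroups
import Cfsg.Agent.Lib.Involutions.ThompsonTransfer

/-!
An involution with four-group centralizer: unless the Sylow 2-subgroup has order four there is a normal
subgroup of order two or a normal four-group.
-/

set_option linter.all false

namespace Cfsg.Agent.InvChar.FourCentralizerFusion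

open Subgroup

variable {G : Type*} [Group G] [Finite G]

theorem ne_one_of_two {u : G} (hu : orderOf u = 2) : u ≠ 1 := fun e => by
  rw [e, orderOf_one] at hu; norm_num at hu

/-- A group of order four: the listed four elements are all of it. -/
theorem mem_of_card_four (V : Subgroup G) (hV : Nat.card ↥V = 4) {a b c : G} (ha : a ∈ V) (hb : b ∈ V) (hc : c ∈ V)
    (h1 : a ≠ 1) (h2 : b ≠ 1) (h3 : c ≠ 1) (h12 : a ≠ b) (h13 : a ≠ c) (h23 : b ≠ c) {v : G} (hv : v ∈ V) :
    v = 1 ∨ v = a ∨ v = b ∨ v = c := by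
  classical
  have hset : ({1, a, b, c} : Set G) = (V : Set G) := by
    refine Set.eq_of_subset_of_ncard_le ?_ ?_ (Set.toFinite _)
    · rintro w (rfl | rfl | rfl | rfl)
      exacts [one_mem _, ha, hb, hc]
    · rw [← Nat.card_coe_set_eq, SetLike.coe_sort_coe, hV, Set.ncard_insert_of_notMem (by simp [h1.symm, h2.symm, h3.symm]),
        Set.ncard_insert_of_notMem (by simp [h12, h13]), Set.ncard_pair h23]
  have : v ∈ ({1, a, b, c} : Set G) := hset.symm ▸ hv
  simpa using this

theorem isPGroup_four {V : Subgroup G} (hV : ∀ c ∈ V, c ^ 2 = 1) : IsPGroup 2 ↥V :=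
  fun c => ⟨1, Subtype.ext (by simpa using hV c c.2)⟩

/-- The conjugates of `z` with one more element form a normal four-group, or `z` is central. -/
theorem exists_normal {x z : G} {K : Subgroup G} (hyp : FourCentralizerCount.Hyp x z K)
    (T : Sylow 2 G) (hxT : x ∈ (T : Subgroup G)) (hzc : ∀ t ∈ (T : Subgroup G), Commute t z) :
    ∃ E : Subgroup G, E.Normal ∧ Cfsg.IsElementaryAbelian 2 E ∧ (Nat.card ↥E = 2 ∨ Nat.card ↥E = 4) := by
  classical
  haveI : Fact (Nat.Prime 2) := ⟨Nat.prime_two⟩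
  set L := centralizer ({z} : Set G) with hL
  have hTL : (T : Subgroup G) ≤ L := fun t ht => mem_centralizer_singleton_iff.2 (hzc t ht).eq
  have hodd : Odd L.index := by
    have h1 : ¬ 2 ∣ L.index := fun hh => T.not_dvd_index (hh.trans (Subgroup.index_dvd_of_le hTL))
    exact Nat.odd_iff.2 (Nat.two_dvd_ne_zero.1 h1)
  have hle := FourCentralizerCount.index_le hyp hodd
  have hzz : z * z = 1 := FourCentralizerCount.zz hyp
  have hxx : x * x = 1 := FourCentralizerCount.xx hyp
  haveI hKn := normal_of_index_eq_two hyp.hK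
  by_cases hn1 : L.index = 1
  · have htop : ∀ g, g * z = z * g := fun g =>
      mem_centralizer_singleton_iff.1 ((Subgroup.index_eq_one.1 hn1).symm ▸ mem_top g : g ∈ L)
    refine ⟨zpowers z, ⟨fun a ha g => ?_⟩, ⟨inferInstance, fun a ha => ?_⟩, Or.inl (by rw [Nat.card_zpowers, hyp.hz])⟩
    · obtain ⟨i, rfl⟩ := ha
      show g * z ^ i * g⁻¹ ∈ zpowers z
      rw [(show Commute g (z ^ i) from Commute.zpow_right (htop g) i).eq, mul_inv_cancel_right]
      exact ⟨i, rfl⟩
    · obtain ⟨i, rfl⟩ := ha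
      show (z ^ i) ^ 2 = 1
      rw [pow_two, ← zpow_add, ← two_mul, zpow_mul, zpow_two, hzz, one_zpow]
  have hn3 : L.index = 3 := by
    obtain ⟨k, hk⟩ := hodd
    change L.index ≤ 4 at hle
    omega
  -- the three conjugates
  set Cl : Set G := Set.range fun g : G => g * z * g⁻¹ with hCl
  have hClK : ∀ u ∈ Cl, u ∈ K := by rintro _ ⟨g, rfl⟩; exact hKn.conj_mem z hyp.hzK g
  have hCl2 : ∀ u ∈ Cl, orderOf u = 2 := by
    rintro _ ⟨g, rfl⟩; exact (MulEquiv.orderOf_eq (MulAut.conj g) z).trans hyp.hz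
  have hClconj : ∀ u ∈ Cl, ∀ g : G, g * u * g⁻¹ ∈ Cl := by
    rintro _ ⟨g, rfl⟩ k
    exact ⟨k * g, by show (k * g) * z * (k * g)⁻¹ = k * (g * z * g⁻¹) * k⁻¹; group⟩
  have hClcard : Cl.ncard = 3 := by
    rw [← hn3, Subgroup.index_eq_card, ← Nat.card_coe_set_eq]
    refine (Nat.card_congr (Equiv.ofBijective (fun q : G ⧸ L => (⟨q.out * z * q.out⁻¹, ⟨q.out, rfl⟩⟩ : Cl)) ⟨?_, ?_⟩)).symm
    · intro q q' e
      have e' : q.out * z * q.out⁻¹ = q'.out * z * q'.out⁻¹ := congrArg Subtype.val e
      rw [← QuotientGroup.out_eq' q, ← QuotientGroup.out_eq' q']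
      refine QuotientGroup.eq.2 (mem_centralizer_singleton_iff.2 ?_)
      calc q.out⁻¹ * q'.out * z = q.out⁻¹ * (q'.out * z * q'.out⁻¹) * q'.out := by group
        _ = _ := by rw [← e']; group
    · rintro ⟨_, g, rfl⟩
      refine ⟨QuotientGroup.mk g, Subtype.ext ?_⟩
      have hm := mem_centralizer_singleton_iff.1 (QuotientGroup.eq.1 (QuotientGroup.out_eq' (QuotientGroup.mk g : G ⧸ L)))
      set r := (QuotientGroup.mk g : G ⧸ L).out
      show r * z * r⁻¹ = g * z * g⁻¹
      calc r * z * r⁻¹ = r * (z * (r⁻¹ * g)) * g⁻¹ := by group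
        _ = r * (r⁻¹ * g * z) * g⁻¹ := by rw [hm]
        _ = _ := by group
  have hzCl : z ∈ Cl := ⟨1, by show 1 * z * 1⁻¹ = z; group⟩
  obtain ⟨u, hu, huz⟩ : ∃ u ∈ Cl, u ≠ z := by
    by_contra hh
    push Not at hh
    have : Cl ⊆ {z} := fun u hu => hh u hu
    have := Set.ncard_le_ncard this (Set.toFinite _)
    rw [hClcard, Set.ncard_singleton] at this
    omega
  have hu1 : u ≠ 1 := ne_one_of_two (hCl2 u hu)
  have hxu : ¬ Commute u x := fun hc => by
    rcases hyp.hCK u (hClK u hu) hc with e | e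
    exacts [hu1 e, huz e]
  set u' := x * u * x⁻¹ with hu'
  have hu'Cl : u' ∈ Cl := hClconj u hu x
  have hu'z : u' ≠ z := fun e => huz (by
    have h0 : u = x⁻¹ * u' * x := by rw [hu']; group
    rw [h0, e, mul_assoc, ← hyp.hxz.eq, inv_mul_cancel_left])
  have hu'u : u' ≠ u := fun e => hxu (mul_inv_eq_iff_eq_mul.1 e).symm
  have hClset : Cl = {z, u, u'} := by
    refine (Set.eq_of_subset_of_ncard_le ?_ ?_ (Set.toFinite _)).symm
    · rintro w (rfl | rfl | rfl)
      exacts [hzCl, hu, hu'Cl]
    · rw [hClcard, Set.ncard_insert_of_notMem (by simp [huz.symm, hu'z.symm]), Set.ncard_pair hu'u.symm]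
  -- `z` commutes with its conjugates
  have hzu : Commute z u := by
    have hm := hClconj u hu z
    rw [hClset] at hm
    rcases hm with e | e | e
    · exact absurd (by
        calc u = z⁻¹ * (z * u * z⁻¹) * z := by group
          _ = z := by rw [e]; group) huz
    · exact mul_inv_eq_iff_eq_mul.1 e
    · exfalso
      obtain ⟨g, hgz, hgx⟩ := hyp.hswap
      have hc : Commute u (x * z) := by
        show u * (x * z) = x * z * u
        have e' : z * u * z⁻¹ = x * u * x⁻¹ := e
        have hxi : x⁻¹ = x := inv_eq_of_mul_eq_one_right hxx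
        calc u * (x * z) = x⁻¹ * (x * u * x⁻¹) * (x * x) * z := by group
          _ = x⁻¹ * (z * u * z⁻¹) * z := by rw [← e', hxx, mul_one]
          _ = x * z * u := by rw [hxi]; group
      have hv : g⁻¹ * u * g ∈ Cl := by simpa using hClconj u hu g⁻¹
      have hvc : Commute (g⁻¹ * u * g) x := by
        show g⁻¹ * u * g * x = x * (g⁻¹ * u * g)
        calc g⁻¹ * u * g * x = g⁻¹ * (u * (g * x * g⁻¹)) * g := by group
          _ = g⁻¹ * ((g * x * g⁻¹) * u) * g := by rw [hgx, hc.eq]
          _ = _ := by group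
      rcases hyp.hCK _ (hClK _ hv) hvc with e1 | e1
      · exact ne_one_of_two (hCl2 _ hv) e1
      · exact huz (by
          calc u = g * (g⁻¹ * u * g) * g⁻¹ := by group
            _ = z := by rw [e1, hgz])
  have hzall : ∀ w ∈ Cl, Commute z w := by
    intro w hw
    rw [hClset] at hw
    rcases hw with rfl | rfl | rfl
    · exact Commute.refl _
    · exact hzu
    · have := hzu.eq
      show z * (x * u * x⁻¹) = x * u * x⁻¹ * z
      calc z * (x * u * x⁻¹) = (z * x) * u * x⁻¹ := by group
        _ = x * (z * u) * x⁻¹ := by rw [← hyp.hxz.eq]; group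
        _ = x * u * (z * x⁻¹) := by rw [this]; group
        _ = _ := by rw [← (hyp.hxz.inv_left).eq]; group
  have hcom : ∀ v ∈ Cl, ∀ w ∈ Cl, Commute v w := by
    rintro _ ⟨g, rfl⟩ w hw
    have hh : g⁻¹ * w * g ∈ Cl := by simpa using hClconj w hw g⁻¹
    have := (hzall _ hh).eq
    show g * z * g⁻¹ * w = w * (g * z * g⁻¹)
    calc g * z * g⁻¹ * w = g * (z * (g⁻¹ * w * g)) * g⁻¹ := by group
      _ = g * ((g⁻¹ * w * g) * z) * g⁻¹ := by rw [this]
      _ = _ := by group
  have huu : u * u = 1 := by rw [← pow_two, ← hCl2 u hu, pow_orderOf_eq_one]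
  have hu'u' : u' * u' = 1 := by rw [← pow_two, ← hCl2 u' hu'Cl, pow_orderOf_eq_one]
  have hprod : u * u' = z := by
    have hm : u * u' ∈ K := K.mul_mem (hClK u hu) (hClK u' hu'Cl)
    have hc : Commute (u * u') x := by
      show u * u' * x = x * (u * u')
      have hxi : x⁻¹ = x := inv_eq_of_mul_eq_one_right hxx
      have e1 : x * (u * u') * x⁻¹ = u' * u := by
        rw [hu']
        calc x * (u * (x * u * x⁻¹)) * x⁻¹ = (x * u * x) * u * (x⁻¹ * x⁻¹) := by group
          _ = (x * u * x⁻¹) * u := by rw [hxi, hxx, mul_one]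
      rw [(hcom u' hu'Cl u hu).eq] at e1
      exact (mul_inv_eq_iff_eq_mul.1 e1).symm
    refine (hyp.hCK _ hm hc).resolve_left fun e => hu'u ?_
    rw [eq_inv_of_mul_eq_one_right e, inv_eq_of_mul_eq_one_right huu]
  have p1 : z * u = u' := by rw [← hprod, mul_assoc, (hcom u' hu'Cl u hu).eq, ← mul_assoc, huu, one_mul]
  have p2 : z * u' = u := by rw [← hprod, mul_assoc, hu'u', mul_one]
  have hu'1 : u' ≠ 1 := ne_one_of_two (hCl2 u' hu'Cl)
  let E : Subgroup G :=
    { carrier := insert 1 Cl
      one_mem' := Set.mem_insert _ _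
      mul_mem' := by
        intro a b ha hb
        rw [Set.mem_insert_iff, hClset] at ha hb
        rw [Set.mem_insert_iff, hClset]
        simp only [Set.mem_insert_iff, Set.mem_singleton_iff] at ha hb ⊢
        have q1 := (hcom u hu z hzCl).eq
        have q2 := (hcom u' hu'Cl z hzCl).eq
        have q3 := (hcom u' hu'Cl u hu).eq
        rcases ha with rfl | rfl | rfl | rfl <;> rcases hb with rfl | rfl | rfl | rfl <;>
          simp [hzz, huu, hu'u', p1, p2, hprod, q1, q2, q3]
      inv_mem' := by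
        intro a ha
        rw [Set.mem_insert_iff] at ha ⊢
        rcases ha with rfl | ha
        · exact Or.inl inv_one
        · refine Or.inr ?_
          rw [inv_eq_of_mul_eq_one_right (show a * a = 1 by rw [← pow_two, ← hCl2 a ha, pow_orderOf_eq_one])]
          exact ha }
  refine ⟨E, ⟨fun a ha g => ?_⟩, ⟨⟨⟨fun a b => Subtype.ext ?_⟩⟩, fun a ha => ?_⟩, Or.inr ?_⟩
  · rcases ha with rfl | ha
    · exact Or.inl (by group)
    · exact Or.inr (hClconj a ha g)
  · rcases a.2 with ea | ha <;> rcases b.2 with eb | hb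
    · simp [ea, eb]
    · simp [ea]
    · simp [eb]
    · exact (hcom _ ha _ hb).eq
  · rcases ha with rfl | ha
    · exact one_pow 2
    · rw [← hCl2 a ha, pow_orderOf_eq_one]
  · show Nat.card ↥(insert (1 : G) Cl) = 4
    rw [Nat.card_coe_set_eq, hClset,
      Set.ncard_insert_of_notMem (by simp [(FourCentralizerCount.z_ne hyp).symm, hu1.symm, hu'1.symm]),
      Set.ncard_insert_of_notMem (by simp [huz.symm, hu'z.symm]), Set.ncard_pair hu'u.symm]

/-- An index two subgroup of a Sylow subgroup avoiding the class of `x`. -/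
theorem exists_avoid {x z : G} (hx : orderOf x = 2) (hC4 : Nat.card ↥(centralizer ({x} : Set G)) = 4)
    (T : Sylow 2 G) (hxT : x ∈ (T : Subgroup G)) (hzT : z ∈ (T : Subgroup G)) (hz : orderOf z = 2)
    (hzx : z ≠ x) (hzc : ∀ t ∈ (T : Subgroup G), Commute t z) (hnc : ∀ g, g * x * g⁻¹ ≠ z)
    (hxcen : ¬ ∀ t ∈ (T : Subgroup G), Commute t x) (hbig : 4 < Nat.card ↥(T : Subgroup G)) :
    ∃ M : Subgroup G, M ≤ (T : Subgroup G) ∧ M.relIndex (T : Subgroup G) = 2 ∧ ∀ g : G, g * x * g⁻¹ ∉ M := by
  classical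
  haveI : Fact (Nat.Prime 2) := ⟨Nat.prime_two⟩
  have hzz : z * z = 1 := by rw [← pow_two, ← hz, pow_orderOf_eq_one]
  have hcyc : ∀ y : ↥(T : Subgroup G), (zpowers y).index ≤ 2 →
      ∃ M : Subgroup G, M ≤ (T : Subgroup G) ∧ M.relIndex (T : Subgroup G) = 2 ∧ ∀ g : G, g * x * g⁻¹ ∉ M := by
    intro y hy
    have huniq : ∀ a ∈ zpowers y, ∀ b ∈ zpowers y, orderOf a = 2 → orderOf b = 2 → a = b := by
      intro a ha b hb hao hbo
      haveI := Fintype.ofFinite ↥(zpowers y)
      have hd : 2 ∣ Fintype.card ↥(zpowers y) := by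
        rw [← Nat.card_eq_fintype_card]
        have := Subgroup.orderOf_dvd_natCard _ ha
        rwa [hao] at this
      have h1 := IsCyclic.card_orderOf_eq_totient (α := ↥(zpowers y)) hd
      rw [Nat.totient_two] at h1
      have := Finset.card_le_one.1 h1.le ⟨a, ha⟩ (Finset.mem_filter.2 ⟨Finset.mem_univ _, (Subgroup.orderOf_coe ⟨a, ha⟩).symm.trans hao⟩)
        ⟨b, hb⟩ (Finset.mem_filter.2 ⟨Finset.mem_univ _, (Subgroup.orderOf_coe ⟨b, hb⟩).symm.trans hbo⟩)
      exact congrArg Subtype.val this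
    have hoz : orderOf (⟨z, hzT⟩ : ↥(T : Subgroup G)) = 2 := (Subgroup.orderOf_coe _).symm.trans hz
    have hzY : (⟨z, hzT⟩ : ↥(T : Subgroup G)) ∈ zpowers y := by
      by_contra hzY
      have h2 : (zpowers y).index = 2 := by
        have h0 : (zpowers y).index ≠ 0 := Subgroup.index_ne_zero_of_finite
        have h1 : (zpowers y).index ≠ 1 := fun e => hzY (Subgroup.index_eq_one.1 e ▸ mem_top _)
        omega
      -- then `T` would be abelian
      refine hxcen fun t ht => ?_
      have hzC : ∀ w : ↥(T : Subgroup G), w * ⟨z, hzT⟩ = ⟨z, hzT⟩ * w := fun w => Subtype.ext (hzc w w.2).eq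
      have hab : ∀ v : ↥(T : Subgroup G), v * y = y * v := by
        intro v
        by_cases hv : v ∈ zpowers y
        · obtain ⟨i, rfl⟩ := hv; exact (Commute.zpow_left (Commute.refl y) i).eq
        · have hm : v * ⟨z, hzT⟩ ∈ zpowers y := (Subgroup.mul_mem_iff_of_index_two h2).2 (iff_of_false hv hzY)
          obtain ⟨i, hi⟩ := hm
          have hvz : v = y ^ i * ⟨z, hzT⟩ := by
            rw [show y ^ i = v * ⟨z, hzT⟩ from hi, mul_assoc, show (⟨z, hzT⟩ : ↥(T : Subgroup G)) * ⟨z, hzT⟩ = 1 from Subtype.ext hzz, mul_one]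
          rw [hvz]
          exact ((Commute.zpow_left (Commute.refl y) i).mul_left (show Commute (⟨z, hzT⟩ : ↥(T : Subgroup G)) y from (hzC y).symm)).eq
      have hall : ∀ v w : ↥(T : Subgroup G), v * w = w * v := by
        intro v w
        by_cases hw : w ∈ zpowers y
        · obtain ⟨i, rfl⟩ := hw; exact (Commute.zpow_right (hab v) i).eq
        · obtain ⟨i, hi⟩ := (Subgroup.mul_mem_iff_of_index_two h2).2 (iff_of_false hw hzY)
          have hwz : w = y ^ i * ⟨z, hzT⟩ := by
            rw [show y ^ i = w * ⟨z, hzT⟩ from hi, mul_assoc, show (⟨z, hzT⟩ : ↥(T : Subgroup G)) * ⟨z, hzT⟩ = 1 from Subtype.ext hzz, mul_one]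
          rw [hwz]
          exact ((Commute.zpow_right (hab v) i).mul_right (hzC v)).eq
      exact congrArg Subtype.val (hall ⟨t, ht⟩ ⟨x, hxT⟩)
    refine ⟨(zpowers y).map (T : Subgroup G).subtype, map_subtype_le _, ?_, fun g hg => ?_⟩
    · rw [Subgroup.relIndex, Subgroup.subgroupOf, comap_map_eq_self_of_injective (T : Subgroup G).subtype_injective]
      have h0 : (zpowers y).index ≠ 0 := Subgroup.index_ne_zero_of_finite
      have h1 : (zpowers y).index ≠ 1 := fun e => hzx (congrArg Subtype.val (huniq ⟨z, hzT⟩ hzY ⟨x, hxT⟩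
        (Subgroup.index_eq_one.1 e ▸ mem_top _) hoz ((Subgroup.orderOf_coe _).symm.trans hx)))
      omega
    · obtain ⟨w, hw, e⟩ := hg
      have hwo : orderOf w = 2 := by
        rw [← Subgroup.orderOf_coe, show (w : G) = g * x * g⁻¹ from e, ThreeInvolutions.orderOf_conj', hx]
      exact hnc g (e.symm.trans (congrArg Subtype.val (huniq w hw _ hzY hwo hoz)))
  by_cases h8 : Nat.card ↥(T : Subgroup G) = 8
  · obtain ⟨r, hr⟩ : ∃ r : ↥(T : Subgroup G), r ^ 2 ≠ 1 := by
      by_contra hh
      push Not at hh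
      refine hxcen fun t ht => ?_
      have sq1 : ∀ w : ↥(T : Subgroup G), w⁻¹ = w := fun w => inv_eq_of_mul_eq_one_right (by rw [← pow_two]; exact hh w)
      have := sq1 (⟨t, ht⟩ * ⟨x, hxT⟩)
      rw [mul_inv_rev, sq1, sq1] at this
      exact (congrArg Subtype.val this).symm
    refine hcyc r ?_
    have h1 := (zpowers r).card_mul_index
    rw [h8, Nat.card_zpowers] at h1
    have h4 : 4 ≤ orderOf r := by
      by_contra hlt
      have hd := orderOf_dvd_natCard r
      rw [h8] at hd
      have hpos := orderOf_pos r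
      apply hr
      rcases (show orderOf r = 1 ∨ orderOf r = 2 ∨ orderOf r = 3 by omega) with e | e | e
      · rw [orderOf_eq_one_iff.1 e, one_pow]
      · exact (congrArg (r ^ ·) e.symm).trans (pow_orderOf_eq_one r)
      · rw [e] at hd; norm_num at hd
    by_contra hlt
    have : 4 * 3 ≤ orderOf r * (zpowers r).index := Nat.mul_le_mul h4 (by omega)
    omega
  haveI : Nontrivial ↥(T : Subgroup G) := ⟨⟨1, one_mem _⟩, ⟨x, hxT⟩, fun e => ne_one_of_two hx (congrArg Subtype.val e).symm⟩
  rcases NormalFourOrCyclic.exists_four_or_cyclic T.2 with ⟨A, hAn, hA4, hA2⟩ | ⟨y, hy⟩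
  swap; exact hcyc y hy
  set A' := A.map (T : Subgroup G).subtype with hA'
  have hA'4 : Nat.card ↥A' = 4 := by rw [hA', card_map_of_injective (T : Subgroup G).subtype_injective, hA4]
  set D := centralizer (A : Set ↥(T : Subgroup G)) with hD
  haveI := hAn
  have hDidx : D.index = 2 := by
    -- the centre of `T` has a single involution
    have zuniq : ∀ u : ↥(T : Subgroup G), u * u = 1 → u ≠ 1 → (∀ t, Commute t u) → (u : G) = z := by
      intro u hu hu1 huc
      have hxz : Commute x z := hzc x hxT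
      have hV : ∀ v : G, v ∈ centralizer ({x} : Set G) → v = 1 ∨ v = x ∨ v = z ∨ v = x * z := fun v hv =>
        mem_of_card_four _ hC4 (mem_centralizer_singleton_iff.2 rfl) (mem_centralizer_singleton_iff.2 hxz.eq.symm)
          (mem_centralizer_singleton_iff.2 (((Commute.refl x).mul_right hxz).eq.symm)) (ne_one_of_two hx) (ne_one_of_two hz)
          (ThreeInvolutions.mul_ne hx hz hzx.symm) hzx.symm
          (fun e => ne_one_of_two hz (left_eq_mul.1 e)) (fun e => ne_one_of_two hx (right_eq_mul.1 e)) hv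
      rcases hV u (mem_centralizer_singleton_iff.2 (congrArg Subtype.val (huc ⟨x, hxT⟩).eq).symm) with e | e | e | e
      · exact absurd (Subtype.ext e) hu1
      · exact absurd (fun t ht => by
          have := congrArg Subtype.val (huc ⟨t, ht⟩).eq
          show t * x = x * t
          rw [← e]; exact this) hxcen
      · exact e
      · refine absurd (fun t ht => ?_) hxcen
        have h' : Commute t (x * z) := by
          have := congrArg Subtype.val (huc ⟨t, ht⟩).eq
          show t * (x * z) = x * z * t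
          rw [← e]; exact this
        have := h'.mul_right (hzc t ht).inv_right
        rwa [mul_inv_cancel_right] at this
    have hzA : (⟨z, hzT⟩ : ↥(T : Subgroup G)) ∈ A := by
      haveI := T.2.isNilpotent
      obtain ⟨u0, hu0A, hu0c, hu01⟩ := RudvalisTwoGroup.exists_mem_succ A (i := 0) (by
        rw [Subgroup.upperCentralSeries_zero, le_bot_iff]; rintro rfl; simp at hA4)
      rw [Subgroup.upperCentralSeries_zero, mem_bot] at hu01
      rw [Subgroup.upperCentralSeries_one] at hu0c
      have h1 : (⟨z, hzT⟩ : ↥(T : Subgroup G)) = u0 :=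
        Subtype.ext (zuniq u0 (hA2 u0 hu0A) hu01 fun t => (mem_center_iff.1 hu0c t)).symm
      rw [h1]; exact hu0A
    set z0 : ↥(T : Subgroup G) := ⟨z, hzT⟩ with hz0
    have hz01 : z0 ≠ 1 := fun e => ne_one_of_two hz (congrArg Subtype.val e)
    obtain ⟨a, haA, ha1, haz⟩ : ∃ a ∈ A, a ≠ 1 ∧ a ≠ z0 := by
      by_contra hh
      push Not at hh
      have hs : (A : Set ↥(T : Subgroup G)) ⊆ {1, z0} := fun a ha => by
        by_cases e : a = 1
        · exact Or.inl e
        · exact Or.inr (hh a ha e)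
      have := Set.ncard_le_ncard hs (Set.toFinite _)
      rw [← Nat.card_coe_set_eq, SetLike.coe_sort_coe, hA4] at this
      have h2 := Set.ncard_insert_le (1 : ↥(T : Subgroup G)) {z0}
      rw [Set.ncard_singleton] at h2
      omega
    have hAmem : ∀ v ∈ A, v = 1 ∨ v = z0 ∨ v = a ∨ v = a * z0 := fun v hv =>
      mem_of_card_four A hA4 hzA haA (A.mul_mem haA hzA) hz01 ha1
        (fun e => haz (by rw [eq_inv_of_mul_eq_one_left e, inv_eq_of_mul_eq_one_right (hA2 _ hzA)])) (Ne.symm haz)
        (fun e => ha1 (right_eq_mul.1 e)) (fun e => hz01 (left_eq_mul.1 e)) hv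
    have hz0c : ∀ t : ↥(T : Subgroup G), Commute t z0 := fun t => Subtype.ext (hzc t t.2).eq
    have hmemD : ∀ t, t ∈ D ↔ Commute t a := by
      intro t
      rw [hD, mem_centralizer_iff]
      refine ⟨fun h => (h a haA).symm, fun h v hv => ?_⟩
      rcases hAmem v hv with rfl | rfl | rfl | rfl
      · simp
      · exact (hz0c t).eq.symm
      · exact h.eq.symm
      · exact (h.mul_right (hz0c t)).eq.symm
    have flip : ∀ t, t ∉ D → t * a * t⁻¹ = a * z0 := by
      intro t ht
      rw [hmemD] at ht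
      rcases hAmem _ (hAn.conj_mem a haA t) with e | e | e | e
      · exact absurd (conj_eq_one_iff.1 e) ha1
      · exact absurd (by rw [show a = t⁻¹ * (t * a * t⁻¹) * t by group, e, mul_assoc, ← (hz0c t).eq, inv_mul_cancel_left]) haz
      · exact absurd (mul_inv_eq_iff_eq_mul.1 e) ht
      · exact e
    obtain ⟨n, hn⟩ : ∃ n, n ∉ D := by
      by_contra hh
      push Not at hh
      exact haz (Subtype.ext ((zuniq a (hA2 a haA) ha1 fun t => (hmemD t).1 (hh t))))
    refine Subgroup.index_eq_two_iff.2 ⟨n, fun t => ?_⟩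
    by_cases ht : t ∈ D
    · exact Or.inr ⟨ht, fun hh => hn ((D.mul_mem_cancel_left ht).1 hh)⟩
    · refine Or.inl ⟨(hmemD _).2 (mul_inv_eq_iff_eq_mul.1 ?_), ht⟩
      calc t * n * a * (t * n)⁻¹ = t * (n * a * n⁻¹) * t⁻¹ := by group
        _ = (t * a * t⁻¹) * (t * z0 * t⁻¹) := by rw [flip n hn]; group
        _ = a * (z0 * z0) := by rw [flip t ht, (hz0c t).eq, mul_inv_cancel_right]; group
        _ = a := by rw [hA2 _ hzA, mul_one]
  refine ⟨D.map (T : Subgroup G).subtype, map_subtype_le _, ?_, fun g hg => ?_⟩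
  · rw [Subgroup.relIndex, Subgroup.subgroupOf, comap_map_eq_self_of_injective (T : Subgroup G).subtype_injective, hDidx]
  · -- no conjugate of `x` centralizes the four-group
    obtain ⟨w, hwD, e⟩ := hg
    set C' := centralizer ({g * x * g⁻¹} : Set G) with hC'
    have hC'4 : Nat.card ↥C' = 4 := by
      rw [← hC4]
      exact Nat.card_congr
        { toFun := fun c => ⟨g⁻¹ * c * g, mem_centralizer_singleton_iff.2 (by
            have hc := mem_centralizer_singleton_iff.1 c.2
            calc g⁻¹ * c * g * x = g⁻¹ * (c * (g * x * g⁻¹)) * g := by group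
              _ = g⁻¹ * ((g * x * g⁻¹) * c) * g := by rw [hc]
              _ = _ := by group)⟩
          invFun := fun c => ⟨g * c * g⁻¹, mem_centralizer_singleton_iff.2 (by
            have hc := mem_centralizer_singleton_iff.1 c.2
            calc g * c * g⁻¹ * (g * x * g⁻¹) = g * (c * x) * g⁻¹ := by group
              _ = g * (x * c) * g⁻¹ := by rw [hc]
              _ = _ := by group)⟩
          left_inv := fun c => Subtype.ext (by group)
          right_inv := fun c => Subtype.ext (by group) }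
    have hwe : (w : G) = g * x * g⁻¹ := e
    have hAC : A' ≤ C' := by
      rintro _ ⟨v, hv, rfl⟩
      refine mem_centralizer_singleton_iff.2 ?_
      rw [← hwe]
      exact congrArg Subtype.val ((mem_centralizer_iff.1 hwD) v hv)
    have hAeq : A' = C' := Subgroup.eq_of_le_of_card_ge hAC (le_of_eq (hC'4.trans hA'4.symm))
    have hwA : g * x * g⁻¹ ∈ A' := hAeq ▸ mem_centralizer_singleton_iff.2 rfl
    have hDC : D.map (T : Subgroup G).subtype ≤ C' := by
      rintro _ ⟨d, hd, rfl⟩
      refine mem_centralizer_singleton_iff.2 ?_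
      obtain ⟨v, hv, hve⟩ := hwA
      rw [← hve]
      exact (congrArg Subtype.val ((mem_centralizer_iff.1 hd) v hv)).symm
    have hD4 : Nat.card ↥D ≤ 4 := by
      have := Subgroup.card_le_of_le hDC
      rwa [card_map_of_injective (T : Subgroup G).subtype_injective, hC'4] at this
    obtain ⟨k, hk⟩ := IsPGroup.iff_card.1 T.2
    have h2 : D.index ≤ 2 := hDidx.le
    have hT8 : Nat.card ↥(T : Subgroup G) ≤ 8 := by
      rw [← D.card_mul_index]; exact le_trans (Nat.mul_le_mul hD4 h2) (by norm_num)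
    have hk3 : k ≤ 3 := by
      by_contra hh
      have : 2 ^ 4 ≤ 2 ^ k := Nat.pow_le_pow_right (by norm_num) (by omega)
      omega
    have hk2 : 2 < k := by
      by_contra hh
      have : 2 ^ k ≤ 2 ^ 2 := Nat.pow_le_pow_right (by norm_num) (by omega)
      omega
    have : k = 3 := by omega
    rw [this] at hk
    exact h8 hk

/-- The main statement. -/
theorem sylow_four (x : G) (hx : orderOf x = 2) (hC4 : Nat.card ↥(centralizer ({x} : Set G)) = 4)
    (hne : ∀ E : Subgroup G, E.Normal → Cfsg.IsElementaryAbelian 2 E → Nat.card ↥E ≠ 2 ∧ Nat.card ↥E ≠ 4)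
    (hCe : ∀ c ∈ centralizer ({x} : Set G), c ^ 2 = 1) :
    ∃ T : Sylow 2 G, (T : Subgroup G) = centralizer ({x} : Set G) := by
  classical
  haveI : Fact (Nat.Prime 2) := ⟨Nat.prime_two⟩
  set V := centralizer ({x} : Set G) with hV
  obtain ⟨T, hVT⟩ := (isPGroup_four hCe).exists_le_sylow
  refine ⟨T, ?_⟩
  by_contra hTV
  have hbig : 4 < Nat.card ↥(T : Subgroup G) := by
    rw [← hC4]
    exact lt_of_le_of_ne (card_le_of_le hVT) fun e => hTV (Subgroup.eq_of_le_of_card_ge hVT e.ge).symm
  have hxT : x ∈ (T : Subgroup G) := hVT (mem_centralizer_singleton_iff.2 rfl)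
  haveI : Nontrivial ↥(T : Subgroup G) := ⟨⟨1, one_mem _⟩, ⟨x, hxT⟩, fun e => ne_one_of_two hx (congrArg Subtype.val e).symm⟩
  obtain ⟨⟨z, hzT⟩, hz', hzc'⟩ := Involutions.TwoGroups.exists_central_involution T.2
  have hz : orderOf z = 2 := by rw [← hz', ← Subgroup.orderOf_coe]
  have hzc : ∀ t ∈ (T : Subgroup G), Commute t z := fun t ht => by
    have := congrArg Subtype.val (hzc' ⟨t, ht⟩)
    first | exact this | exact this.symm
  have hxcen : ¬ ∀ t ∈ (T : Subgroup G), Commute t x := fun hh => by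
    have : (T : Subgroup G) ≤ V := fun t ht => mem_centralizer_singleton_iff.2 (hh t ht).eq
    have := card_le_of_le this
    omega
  have hzx : z ≠ x := fun e => hxcen fun t ht => e ▸ hzc t ht
  have hnc : ∀ g, g * x * g⁻¹ ≠ z := by
    intro g e
    have hsub : ∀ t : ↥(T : Subgroup G), g⁻¹ * t * g ∈ V := fun t => mem_centralizer_singleton_iff.2 (by
      have := (hzc t t.2).eq
      rw [← e] at this
      calc g⁻¹ * t * g * x = g⁻¹ * ((t : G) * (g * x * g⁻¹)) * g := by group
        _ = g⁻¹ * ((g * x * g⁻¹) * t) * g := by rw [this]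
        _ = _ := by group)
    have := Nat.card_le_card_of_injective (fun t => (⟨_, hsub t⟩ : ↥V)) fun s t e' =>
      Subtype.ext (mul_left_cancel (mul_right_cancel (congrArg Subtype.val e')))
    omega
  have hxz : Commute x z := hzc x hxT
  have hV4 : ∀ v ∈ V, v = 1 ∨ v = x ∨ v = z ∨ v = x * z := fun v hv =>
    mem_of_card_four V hC4 (mem_centralizer_singleton_iff.2 rfl) (mem_centralizer_singleton_iff.2 hxz.eq.symm)
      (mem_centralizer_singleton_iff.2 (((Commute.refl x).mul_right hxz).eq.symm)) (ne_one_of_two hx) (ne_one_of_two hz)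
      (ThreeInvolutions.mul_ne hx hz hzx.symm) hzx.symm
      (fun e => ne_one_of_two hz (left_eq_mul.1 e)) (fun e => ne_one_of_two hx (right_eq_mul.1 e)) hv
  -- an element swapping `x` and `x z`
  obtain ⟨n, hnT, hnx⟩ : ∃ n ∈ (T : Subgroup G), n * x * n⁻¹ = x * z := by
    haveI := T.2.isNilpotent
    have hlt : V.subgroupOf (T : Subgroup G) < ⊤ := lt_top_iff_ne_top.2 fun e => hTV (le_antisymm (Subgroup.subgroupOf_eq_top.1 e) hVT)
    obtain ⟨n, hn, hnV⟩ := SetLike.exists_of_lt ((Group.normalizerCondition_of_isNilpotent (G := ↥(T : Subgroup G))) _ hlt)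
    refine ⟨n, n.2, ?_⟩
    have hm : (n : G) * x * (n : G)⁻¹ ∈ V :=
      (mem_normalizer_iff.1 hn ⟨x, hxT⟩).1 (mem_centralizer_singleton_iff.2 rfl)
    rcases hV4 _ hm with e | e | e | e
    · exact absurd (conj_eq_one_iff.1 e) (ne_one_of_two hx)
    · exact absurd (mem_centralizer_singleton_iff.2 (mul_inv_eq_iff_eq_mul.1 e)) hnV
    · exact absurd e (hnc _)
    · exact e
  obtain ⟨M, hMT, hMrel, hMx⟩ := exists_avoid hx hC4 T hxT hzT hz hzx hzc hnc hxcen hbig
  obtain ⟨K, hK, hxK⟩ := Involutions.ThompsonTransfer.exists_index_two_of_no_conj M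
    (Involutions.ThompsonTransfer.index_mod_four hMT hMrel (Nat.odd_iff.mpr (Nat.two_dvd_ne_zero.mp T.not_dvd_index))) x hx hMx
  haveI := normal_of_index_eq_two hK
  have hzK : z ∈ K := by
    by_contra hzK
    have hm : x * z ∈ K := (Subgroup.mul_mem_iff_of_index_two hK).2 (iff_of_false hxK hzK)
    rw [← hnx] at hm
    exact hxK (by simpa [mul_assoc] using (inferInstance : K.Normal).conj_mem _ hm n⁻¹)
  have hyp : FourCentralizerCount.Hyp x z K :=
    { hx := hx, hz := hz, hxz := hxz, hK := hK, hxK := hxK, hzK := hzK, hC4 := hC4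
      hCK := fun c hc hcx => by
        rcases hV4 c (mem_centralizer_singleton_iff.2 hcx.eq) with e | e | e | e
        · exact Or.inl e
        · exact absurd (e ▸ hc) hxK
        · exact Or.inr e
        · exact absurd ((Subgroup.mul_mem_cancel_right _ hzK).1 (e ▸ hc)) hxK
      hswap := ⟨n, by rw [(hzc n hnT).eq, mul_inv_cancel_right], hnx⟩ }
  obtain ⟨E, hEn, hEe, hEc⟩ := exists_normal hyp T hxT hzc
  rcases hEc with e | e
  · exact (hne E hEn hEe).1 e
  · exact (hne E hEn hEe).2 e

end Cfsg.Agent.InvChar.FourCentralizerFusion
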