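import Mathlib

/-!
Counts in the alternating group of degree five.
-/

set_option linter.all false

namespace Cfsg.Agent.InvChar.AltFiveFacts

theorem card_involutions :
    (Finset.univ.filter fun x : alternatingGroup (Fin 5) => x ^ 2 = 1 ∧ x ≠ 1).card = 15 := by decide +kernel

theorem card_pairs :
    (Finset.univ.filter fun p : alternatingGroup (Fin 5) × alternatingGroup (Fin 5) =>
      p.1 ^ 2 = 1 ∧ p.1 ≠ 1 ∧ p.2 ^ 2 = 1 ∧ (p.1 * p.2) ^ 15 = 1).card = 195 := by decide +kernel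

theorem exists_inverted : ∀ x : alternatingGroup (Fin 5), x ^ 2 = 1 → x ≠ 1 →
    ∃ g : alternatingGroup (Fin 5), g ^ 5 = 1 ∧ g ≠ 1 ∧ x * g * x = g⁻¹ := by decide +kernel

theorem exists_five : ∃ g : alternatingGroup (Fin 5), g ^ 5 = 1 ∧ g ≠ 1 := by decide +kernel

theorem orders : ∀ x : alternatingGroup (Fin 5), x ^ 2 = 1 ∨ x ^ 15 = 1 := by decide +kernel

end Cfsg.Agent.InvChar.AltFiveFacts
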