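import Mathlib
set_option linter.all false

/-!
An automorphism of the alternating group of degree six fixing an element of order three permutes
the point stabilizers.
-/

set_option autoImplicit false

namespace Cfsg.Agent.InvChar.AltSixAut

open Equiv

def x₀ : Perm (Fin 6) := swap 0 1 * swap 1 2
def y₀ : Perm (Fin 6) := swap 2 3 * swap 3 4

def words : List (List Bool) := [[], [true], [false], [true, true], [true, false], [false, true], [false, false], [true, true, false], [true, false, true], [true, false, false], [false, true, true], [false, true, false], [false, false, true], [true, true, false, true], [true, true, false, false], [true, false, true, true], [true, false, true, false], [true, false, false, true], [false, true, true, false], [false, true, false, true], [false, true, false, false], [false, false, true, true], [false, false, true, false], [true, true, false, true, true], [true, true, false, true, false], [true, true, false, false, true], [true, false, true, true, false], [true, false, true, false, true], [true, false, true, false, false], [true,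 false, false, true, true], [true, false, false, true, false], [false, true, true, false, true], [false, true, true, false, false], [false, true, false, true, true], [false, true, false, false, true], [false, false, true, true, false], [false, false, true, false, true], [false, false, true, false, false], [true, true, false, true, true, false], [true, true, false, true, false, true], [true, true, false, true, false, false], [true, true, false, false, true, true], [true, true, false, false, true, false], [true, false, true, true, false, false], [true, false, true, false, true, true], [true, false, false, true, true, false], [true, false, false, true, false, false], [false, true, true, false, true, true], [false, true, true, false, false, true], [false, true, false, false, true, true], [false, false, true, true, false, true], [false, false, true, true, false, false], [false, false, true, false, true, true], [false, false, true, false, false, true], [true, false, true, true, false, false, true], [true, false, false, true, true, false, true], [true, false, false,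 true, false, false, true], [false, true, true, false, false, true, false], [false, true, false, false, true, true, false], [true, false, true, true, false, false, true, false]]

def gen : Bool → Perm (Fin 6)
  | true => x₀
  | false => y₀

theorem stab_words : ∀ σ : Perm (Fin 6), Perm.sign σ = 1 → σ 5 = 5 →
    ∃ w ∈ words, σ = (w.map gen).prod := by decide +kernel

theorem order_three : ∀ σ : Perm (Fin 6), σ * σ * σ = 1 → σ ≠ 1 →
    σ.support.card = 3 ∨ σ.support.card = 6 := by decide +kernel

theorem double_prod : ∀ q : Perm (Fin 6), q * (x₀ * (swap 3 4 * swap 4 5)) = (x₀ * (swap 3 4 * swap 4 5)) * q →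
    q * q * q = 1 → q.support.card = 6 → q ≠ x₀ * (swap 3 4 * swap 4 5) →
    q * (x₀ * (swap 3 4 * swap 4 5)) ≠ 1 → ((x₀ * (swap 3 4 * swap 4 5)) * q).support.card ≠ 6 := by decide +kernel

theorem cycle_three : x₀.support.card = 3 ∧ y₀.support.card = 3 ∧ x₀ * y₀ ≠ y₀ * x₀ ∧
    x₀ * x₀ * x₀ = 1 ∧ y₀ * y₀ * y₀ = 1 ∧ Perm.sign x₀ = 1 ∧ Perm.sign y₀ = 1 ∧ x₀ 5 = 5 ∧ y₀ 5 = 5 := by
  decide

theorem cube_cycleType {p : Perm (Fin 6)} (hp : p * p * p = 1) (hp1 : p ≠ 1) :
    p.cycleType = Multiset.replicate (p.support.card / 3) 3 := by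
  haveI : Fact (Nat.Prime 3) := ⟨Nat.prime_three⟩
  have ho : orderOf p = 3 := orderOf_eq_prime (by rw [pow_succ, pow_two, hp]) hp1
  obtain ⟨m, hm⟩ := Perm.cycleType_prime_order (σ := p) (by rw [ho]; exact Nat.prime_three)
  have hs := Perm.sum_cycleType p
  rw [hm, ho, Multiset.sum_replicate, smul_eq_mul] at hs
  rw [hm, ho, ← hs, Nat.mul_div_cancel _ (by norm_num)]

theorem isConj_of_support {p q : Perm (Fin 6)} (hp : p * p * p = 1) (hp1 : p ≠ 1) (hq : q * q * q = 1)
    (hq1 : q ≠ 1) (h : p.support.card = q.support.card) : IsConj p q := by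
  rw [Perm.isConj_iff_cycleType_eq, cube_cycleType hp hp1, cube_cycleType hq hq1, h]

theorem support_conj (π p : Perm (Fin 6)) : (π * p * π⁻¹).support.card = p.support.card := by
  rw [← Perm.sum_cycleType, ← Perm.sum_cycleType, Perm.cycleType_conj]

abbrev A6 : Type := ↥(alternatingGroup (Fin 6))

/-- The support of a permutation in `A₆`. -/
noncomputable def sc (a : A6) : ℕ := (a : Perm (Fin 6)).support.card

theorem sc_conj (g a : A6) : sc (g * a * g⁻¹) = sc a := support_conj _ _

theorem sc_three_conj {a b : A6} (ha : sc a = 3) (hb : sc b = 3) : ∃ g : A6, g * a * g⁻¹ = b :=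
  isConj_iff.1 (alternatingGroup.isThreeCycle_isConj (by simp) (card_support_eq_three_iff.1 ha)
    (card_support_eq_three_iff.1 hb))

theorem cube_map (τ : A6 ≃* A6) {a : A6} (h : a * a * a = 1) : τ a * τ a * τ a = 1 := by
  rw [← map_mul, ← map_mul, h, map_one]

/-- An automorphism fixing an element of order three maps three-cycles to three-cycles. -/
theorem preserves_three (τ : A6 ≃* A6) {c : A6} (hc3 : c * c * c = 1) (hc1 : c ≠ 1) (hτ : τ c = c)
    {a : A6} (ha : sc a = 3) : sc (τ a) = 3 := by
  classical
  have hcube : ∀ u : A6, u * u * u = 1 → u ≠ 1 → sc u = 3 ∨ sc u = 6 := fun u hu hu1 =>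
    order_three u.1 (congrArg Subtype.val hu) (fun e => hu1 (Subtype.ext e))
  have ha3 : a * a * a = 1 := by
    have := (card_support_eq_three_iff.1 ha).orderOf
    rw [Subgroup.orderOf_coe] at this
    have h := pow_orderOf_eq_one a
    rwa [this, pow_succ, pow_two] at h
  have ha1 : a ≠ 1 := by rintro rfl; simp [sc] at ha
  by_contra hcon
  have hall : ∀ u : A6, sc u = 3 → sc (τ u) = 6 := by
    intro u hu
    obtain ⟨g, hg⟩ := sc_three_conj ha hu
    rw [← hg, map_mul, map_mul, map_inv, sc_conj]
    exact (hcube _ (cube_map τ ha3) (fun e => ha1 (τ.injective (e.trans (map_one τ).symm)))).resolve_left hcon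
  rcases hcube c hc3 hc1 with h | h
  · have := hall c h
    rw [hτ, h] at this
    omega
  · -- `c` is a product of two commuting three-cycles
    obtain ⟨π, hπ⟩ := isConj_iff.1 (isConj_of_support (p := x₀ * (swap 3 4 * swap 4 5)) (q := (c : Perm (Fin 6)))
      (by decide) (by decide) (congrArg Subtype.val hc3) (fun e => hc1 (Subtype.ext e))
      (by rw [show (c : Perm (Fin 6)).support.card = 6 from h]; decide))
    let u : A6 := ⟨π * x₀ * π⁻¹, Perm.mem_alternatingGroup.2 (by simp [x₀])⟩
    let v : A6 := ⟨π * (swap 3 4 * swap 4 5) * π⁻¹, Perm.mem_alternatingGroup.2 (by simp)⟩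
    have hu : sc u = 3 := by show (π * x₀ * π⁻¹).support.card = 3; rw [support_conj]; decide
    have hv : sc v = 3 := by show (π * (swap 3 4 * swap 4 5) * π⁻¹).support.card = 3; rw [support_conj]; decide
    have huv : u * v = c := Subtype.ext (by rw [← hπ]; show π * x₀ * π⁻¹ * (π * _ * π⁻¹) = _; group)
    have hcomm : u * v = v * u := Subtype.ext (by
      show π * x₀ * π⁻¹ * (π * _ * π⁻¹) = π * _ * π⁻¹ * (π * x₀ * π⁻¹)
      have e : x₀ * (swap 3 4 * swap 4 5) = (swap 3 4 * swap 4 5) * x₀ := by decide
      calc _ = π * (x₀ * (swap 3 4 * swap 4 5)) * π⁻¹ := by group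
        _ = _ := by rw [e]; group)
    have hu3 : u * u * u = 1 := Subtype.ext (by
      show π * x₀ * π⁻¹ * (π * x₀ * π⁻¹) * (π * x₀ * π⁻¹) = 1
      calc _ = π * (x₀ * x₀ * x₀) * π⁻¹ := by group
        _ = 1 := by rw [show x₀ * x₀ * x₀ = 1 by decide]; group)
    have hv3 : v * v * v = 1 := Subtype.ext (by
      show π * (swap 3 4 * swap 4 5) * π⁻¹ * (π * _ * π⁻¹) * (π * _ * π⁻¹) = 1
      calc _ = π * ((swap (3 : Fin 6) 4 * swap 4 5) * (swap 3 4 * swap 4 5) * (swap 3 4 * swap 4 5)) * π⁻¹ := by group
        _ = 1 := by rw [show ((swap (3 : Fin 6) 4 * swap 4 5) * (swap 3 4 * swap 4 5) * (swap 3 4 * swap 4 5)) = 1 by decide]; group)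
    have hpu := hall u hu
    have hpv := hall v hv
    -- bring the image of `u` to standard position
    obtain ⟨ρ, hρ⟩ := isConj_iff.1 (isConj_of_support (p := (τ u : Perm (Fin 6))) (q := x₀ * (swap 3 4 * swap 4 5))
      (congrArg Subtype.val (cube_map τ hu3))
      (fun e => by rw [sc, e] at hpu; simp at hpu)
      (by decide) (by decide) (by rw [show (τ u : Perm (Fin 6)).support.card = 6 from hpu]; decide))
    refine double_prod (ρ * (τ v : Perm (Fin 6)) * ρ⁻¹) ?_ ?_ ?_ ?_ ?_ ?_
    · rw [← hρ]
      have e : (τ v : Perm (Fin 6)) * τ u = τ u * τ v := by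
        have := congrArg τ hcomm.symm
        rw [map_mul, map_mul] at this
        exact congrArg Subtype.val this
      calc _ = ρ * ((τ v : Perm (Fin 6)) * τ u) * ρ⁻¹ := by group
        _ = _ := by rw [e]; group
    · have e : (τ v : Perm (Fin 6)) * τ v * τ v = 1 := congrArg Subtype.val (cube_map τ hv3)
      calc _ = ρ * ((τ v : Perm (Fin 6)) * τ v * τ v) * ρ⁻¹ := by group
        _ = 1 := by rw [e]; group
    · rw [support_conj]; exact hpv
    · rw [← hρ]
      intro e
      have : v = u := τ.injective (Subtype.ext (mul_left_cancel (mul_right_cancel e)))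
      exact absurd (congrArg (fun a : A6 => (a : Perm (Fin 6))) this) (fun e' => by
        have := mul_left_cancel (mul_right_cancel e')
        exact absurd this (by decide))
    · rw [← hρ]
      intro e
      have e' : ρ * ((τ v : Perm (Fin 6)) * τ u) * ρ⁻¹ = 1 := by rw [← e]; group
      have : v * u = 1 := τ.injective (Subtype.ext (by
        rw [map_mul, map_one]; exact conj_eq_one_iff.1 e'))
      rw [← hcomm, huv] at this
      exact hc1 this
    · rw [← hρ, show ρ * (τ u : Perm (Fin 6)) * ρ⁻¹ * (ρ * τ v * ρ⁻¹) = ρ * (τ (u * v) : Perm (Fin 6)) * ρ⁻¹ by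
        rw [map_mul]; show _ = ρ * ((τ u : Perm (Fin 6)) * τ v) * ρ⁻¹; group, support_conj, huv, hτ]
      exact h

/-- The stabilizer of a point in `A₆`. -/
def stab (i : Fin 6) : Subgroup A6 := MulAction.stabilizer A6 i

theorem mem_stab {i : Fin 6} {a : A6} : a ∈ stab i ↔ (a : Perm (Fin 6)) i = i := Iff.rfl

theorem stab_five : stab 5 ≤ Subgroup.closure {⟨x₀, Perm.mem_alternatingGroup.2 cycle_three.2.2.2.2.2.1⟩,
    ⟨y₀, Perm.mem_alternatingGroup.2 cycle_three.2.2.2.2.2.2.1⟩} := by
  intro a ha
  obtain ⟨w, -, hw⟩ := stab_words a.1 (Perm.mem_alternatingGroup.1 a.2) ha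
  have e : ∀ l : List Bool, ∃ h : (l.map gen).prod ∈ alternatingGroup (Fin 6), (⟨_, h⟩ : A6) ∈ Subgroup.closure
      {⟨x₀, Perm.mem_alternatingGroup.2 cycle_three.2.2.2.2.2.1⟩, ⟨y₀, Perm.mem_alternatingGroup.2 cycle_three.2.2.2.2.2.2.1⟩} := by
    intro l
    induction l with
    | nil => exact ⟨one_mem _, Subgroup.one_mem _⟩
    | cons b l ih =>
      obtain ⟨h, hm⟩ := ih
      have hg : gen b ∈ alternatingGroup (Fin 6) := by
        cases b
        · exact Perm.mem_alternatingGroup.2 cycle_three.2.2.2.2.2.2.1
        · exact Perm.mem_alternatingGroup.2 cycle_three.2.2.2.2.2.1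
      refine ⟨by rw [List.map_cons, List.prod_cons]; exact mul_mem hg h, ?_⟩
      have := Subgroup.mul_mem (Subgroup.closure _) (show (⟨gen b, hg⟩ : A6) ∈ _ from Subgroup.subset_closure (by cases b <;> simp [gen])) hm
      exact this
  obtain ⟨h, hm⟩ := e w
  rwa [show a = ⟨_, h⟩ from Subtype.ext hw]

theorem stab_conj (g : A6) (i : Fin 6) : (stab i).map (MulAut.conj g).toMonoidHom = stab ((g : Perm (Fin 6)) i) :=
  (MulAction.stabilizer_smul_eq_stabilizer_map_conj g i).symm

/-- An automorphism fixing an element of order three permutes the point stabilizers. -/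
theorem map_stab (τ : A6 ≃* A6) {c : A6} (hc3 : c * c * c = 1) (hc1 : c ≠ 1) (hτ : τ c = c) (i : Fin 6) :
    ∃ j, (stab i).map τ.toMonoidHom = stab j := by
  classical
  haveI : MulAction.IsPretransitive A6 (Fin 6) :=
    alternatingGroup.isPretransitive_of_three_le_card (Fin 6) (by rw [Nat.card_fin]; norm_num)
  let X : A6 := ⟨x₀, Perm.mem_alternatingGroup.2 cycle_three.2.2.2.2.2.1⟩
  let Y : A6 := ⟨y₀, Perm.mem_alternatingGroup.2 cycle_three.2.2.2.2.2.2.1⟩
  obtain ⟨j, hj⟩ : ∃ j, (τ X : Perm (Fin 6)) j = j ∧ (τ Y : Perm (Fin 6)) j = j := by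
    by_contra hno
    push Not at hno
    have hu : (τ X : Perm (Fin 6)).support ∪ (τ Y : Perm (Fin 6)).support = Finset.univ := by
      ext k
      simp only [Finset.mem_union, Perm.mem_support, Finset.mem_univ, iff_true]
      rcases em ((τ X : Perm (Fin 6)) k = k) with h | h
      · exact Or.inr (hno k h)
      · exact Or.inl h
    have h1 : (τ X : Perm (Fin 6)).support.card = 3 := preserves_three τ hc3 hc1 hτ cycle_three.1
    have h2 : (τ Y : Perm (Fin 6)).support.card = 3 := preserves_three τ hc3 hc1 hτ cycle_three.2.1
    have hd : Disjoint (τ X : Perm (Fin 6)).support (τ Y : Perm (Fin 6)).support := by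
      rw [← Finset.card_union_eq_card_add_card, hu, h1, h2]
      simp
    have hc := (Perm.disjoint_iff_disjoint_support.2 hd).commute.eq
    have : X * Y = Y * X := τ.injective (Subtype.ext (by rw [map_mul, map_mul]; exact hc))
    exact cycle_three.2.2.1 (congrArg Subtype.val this)
  obtain ⟨g, hg⟩ := MulAction.exists_smul_eq A6 (5 : Fin 6) i
  have h5 : (stab 5).map τ.toMonoidHom = stab j := by
    refine Subgroup.eq_of_le_of_card_ge ?_ ?_
    · refine (Subgroup.map_mono stab_five).trans ?_
      rw [MonoidHom.map_closure, Subgroup.closure_le]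
      rintro _ ⟨a, rfl | rfl, rfl⟩
      · exact hj.1
      · exact hj.2
    · rw [Nat.card_congr ((stab 5).equivMapOfInjective _ τ.injective).toEquiv.symm]
      refine le_of_eq ?_
      obtain ⟨k, hk⟩ := MulAction.exists_smul_eq A6 (5 : Fin 6) j
      rw [← hk]
      exact (Nat.card_congr (MulAction.stabilizerEquivStabilizer (g := k) rfl).toEquiv).symm
  refine ⟨(τ g : Perm (Fin 6)) j, ?_⟩
  have hi : stab i = (stab 5).map (MulAut.conj g).toMonoidHom := by rw [stab_conj, ← hg]; rfl
  rw [hi, ← stab_conj, ← h5, Subgroup.map_map, Subgroup.map_map]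
  congr 1
  ext a
  simp

end Cfsg.Agent.InvChar.AltSixAut
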