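import Mathlib
import Cfsg.Prelude.Def_CaseTheorems
import Cfsg.Agent.Lib.ZStar.Main
import Cfsg.Agent.Lib.Involutions.Isolated
set_option linter.all false

/-!
Canonical central involutions of Sylow subgroups in a group whose Sylow intersections are central
in some Sylow subgroup.
-/

set_option autoImplicit false

namespace Cfsg.Agent.InvChar.CentralIntersections

open scoped Pointwise

variable {G : Type*} [Group G]

/-- `c` is the image of `c₀` in the Sylow subgroup `T` conjugate to `S`. -/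
def IsImage (S : Sylow 2 G) (c₀ : G) (T : Sylow 2 G) (c : G) : Prop :=
  ∃ g : G, T = g • S ∧ c = g * c₀ * g⁻¹

variable {S : Sylow 2 G} {c₀ : G}

theorem image_smul {T : Sylow 2 G} {c : G} (h : IsImage S c₀ T c) (n : G) :
    IsImage S c₀ (n • T) (n * c * n⁻¹) := by
  obtain ⟨g, rfl, rfl⟩ := h
  exact ⟨n * g, by rw [mul_smul], by group⟩

theorem exists_image [Finite G] (T : Sylow 2 G) : ∃ c, IsImage S c₀ T c := by
  obtain ⟨g, hg⟩ := MulAction.exists_smul_eq G S T
  exact ⟨_, g, hg.symm, rfl⟩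

theorem image_unique
    (hfix : ∀ g ∈ Subgroup.normalizer ((S : Subgroup G) : Set G), g * c₀ * g⁻¹ = c₀)
    {T : Sylow 2 G} {c d : G} (hc : IsImage S c₀ T c) (hd : IsImage S c₀ T d) : c = d := by
  obtain ⟨g, rfl, rfl⟩ := hc
  obtain ⟨h, he, rfl⟩ := hd
  have hm : (h⁻¹ * g) • S = S := by rw [mul_smul, he, ← mul_smul, inv_mul_cancel, one_smul]
  have := hfix _ (Sylow.smul_eq_iff_mem_normalizer.1 hm)
  calc g * c₀ * g⁻¹ = h * ((h⁻¹ * g) * c₀ * (h⁻¹ * g)⁻¹) * h⁻¹ := by group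
    _ = _ := by rw [this]

theorem image_mem (hc₀ : c₀ ∈ (S : Subgroup G)) {T : Sylow 2 G} {c : G} (h : IsImage S c₀ T c) :
    c ∈ (T : Subgroup G) := by
  obtain ⟨g, rfl, rfl⟩ := h
  rw [Sylow.coe_subgroup_smul]
  exact Subgroup.mem_pointwise_smul_iff_inv_smul_mem.2 (by simpa [MulAut.smul_def, mul_assoc] using hc₀)

theorem centralizer_conj_le {D : Subgroup G} {n : G} (hn : n ∈ Subgroup.normalizer (D : Set G))
    {U : Sylow 2 G} (hU : (U : Subgroup G) ≤ Subgroup.centralizer (D : Set G)) :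
    ((n • U : Sylow 2 G) : Subgroup G) ≤ Subgroup.centralizer (D : Set G) := by
  intro x hx
  rw [Sylow.coe_subgroup_smul, Subgroup.mem_pointwise_smul_iff_inv_smul_mem] at hx
  have hx' : n⁻¹ * x * n ∈ Subgroup.centralizer (D : Set G) := hU (by simpa [MulAut.smul_def] using hx)
  rw [Subgroup.mem_centralizer_iff] at hx' ⊢
  intro d hd
  have hd' : n⁻¹ * d * n ∈ (D : Set G) := by
    have := (Subgroup.mem_normalizer_iff.1 (inv_mem hn) d).1 hd
    simpa using this
  have e := hx' _ hd'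
  calc d * x = n * ((n⁻¹ * d * n) * (n⁻¹ * x * n)) * n⁻¹ := by group
    _ = n * ((n⁻¹ * x * n) * (n⁻¹ * d * n)) * n⁻¹ := by rw [e]
    _ = x * d := by group

/-- A Sylow subgroup centralizing `D` whose intersection with `S₁` is larger than `D`. -/
theorem exists_larger [Finite G] {D : Subgroup G} {S₁ : Sylow 2 G} (hD : D < (S₁ : Subgroup G))
    {U : Sylow 2 G} (hU : (U : Subgroup G) ≤ Subgroup.centralizer (D : Set G)) :
    ∃ W : Sylow 2 G, (W : Subgroup G) ≤ Subgroup.centralizer (D : Set G) ∧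
      D < (S₁ : Subgroup G) ⊓ (W : Subgroup G) := by
  classical
  haveI : Fact (Nat.Prime 2) := ⟨Nat.prime_two⟩
  set N := Subgroup.normalizer (D : Set G) with hN
  have hUN : (U : Subgroup G) ≤ N := by
    intro u hu
    have hc := Subgroup.mem_centralizer_iff.1 (hU hu)
    rw [hN, Subgroup.mem_normalizer_iff]
    intro d
    constructor
    · intro hd; rwa [← hc d hd, mul_inv_cancel_right]
    · intro hd
      have := hc _ hd
      have e : u * d * u⁻¹ = d := by
        have e1 : u * d = u * (u * d * u⁻¹) := by rw [← this]; group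
        exact (mul_left_cancel e1).symm
      rwa [e] at hd
  have hlt : D < (S₁ : Subgroup G) ⊓ N := by
    haveI : Group.IsNilpotent ↥(S₁ : Subgroup G) := S₁.2.isNilpotent
    have hne : D.subgroupOf (S₁ : Subgroup G) < ⊤ := lt_top_iff_ne_top.2 fun h =>
      (not_le_of_gt hD) (Subgroup.subgroupOf_eq_top.1 h)
    obtain ⟨⟨x, hxS⟩, hx, hxD⟩ := SetLike.exists_of_lt (normalizerCondition_of_isNilpotent _ hne)
    refine lt_of_le_of_ne (le_inf hD.le Subgroup.le_normalizer) fun h => hxD ?_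
    show x ∈ D
    rw [h]
    refine ⟨hxS, Subgroup.mem_normalizer_iff.2 fun d => ?_⟩
    by_cases hd : d ∈ (S₁ : Subgroup G)
    · exact Subgroup.mem_normalizer_iff.1 hx ⟨d, hd⟩
    · refine ⟨fun hdD => absurd (hD.le hdD) hd, fun hdD => absurd ?_ hd⟩
      have := mul_mem (mul_mem (inv_mem hxS) (hD.le hdD)) hxS
      simpa [mul_assoc] using this
  set U' : Sylow 2 ↥N := U.subtype hUN
  obtain ⟨Q, hQ⟩ := (show IsPGroup 2 ↥(((S₁ : Subgroup G) ⊓ N).subgroupOf N) from
    (S₁.2.to_le (inf_le_left)).comap_of_injective N.subtype Subtype.val_injective).exists_le_sylow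
  obtain ⟨n, hn⟩ := MulAction.exists_smul_eq ↥N U' Q
  refine ⟨(n : G) • U, centralizer_conj_le n.2 hU, lt_of_lt_of_le hlt (le_inf inf_le_left ?_)⟩
  intro x hx
  have hxQ : (⟨x, hx.2⟩ : ↥N) ∈ (Q : Subgroup ↥N) := hQ (Subgroup.mem_subgroupOf.2 hx)
  rw [← hn, Sylow.coe_subgroup_smul, Subgroup.mem_pointwise_smul_iff_inv_smul_mem] at hxQ
  rw [Sylow.coe_subgroup_smul, Subgroup.mem_pointwise_smul_iff_inv_smul_mem]
  exact hxQ

theorem image_of_mem [Finite G]
    (hCI : ∀ S T : Sylow 2 G, S ≠ T → ∃ U : Sylow 2 G,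
      (S : Subgroup G) ⊓ (T : Subgroup G) ≤ (Subgroup.center ↥(U : Subgroup G)).map (U : Subgroup G).subtype)
    (hc₀ : c₀ ∈ (S : Subgroup G))
    (hfix : ∀ g ∈ Subgroup.normalizer ((S : Subgroup G) : Set G), g * c₀ * g⁻¹ = c₀) :
    ∀ (k : ℕ) (S₁ T : Sylow 2 G) (c : G),
      Nat.card G - Nat.card ↥((S₁ : Subgroup G) ⊓ (T : Subgroup G)) = k →
      IsImage S c₀ S₁ c → c ∈ (T : Subgroup G) → IsImage S c₀ T c := by
  classical
  haveI : Fact (Nat.Prime 2) := ⟨Nat.prime_two⟩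
  intro k
  induction k using Nat.strong_induction_on with
  | _ k ih =>
  intro S₁ T c hk hc hcT
  by_cases hST : S₁ = T
  · exact hST ▸ hc
  set D := (S₁ : Subgroup G) ⊓ (T : Subgroup G) with hD
  obtain ⟨U, hU⟩ := hCI S₁ T hST
  have hUC : (U : Subgroup G) ≤ Subgroup.centralizer (D : Set G) := by
    intro u hu
    rw [Subgroup.mem_centralizer_iff]
    intro d hd
    obtain ⟨z, hz, rfl⟩ := hU hd
    exact congrArg Subtype.val (Subgroup.mem_center_iff.1 hz ⟨u, hu⟩).symm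
  have hlt₁ : D < (S₁ : Subgroup G) := lt_of_le_of_ne inf_le_left fun h =>
    hST (S₁.ext (S₁.3 T.2 (inf_eq_left.1 h)).symm)
  have hlt₂ : D < (T : Subgroup G) := lt_of_le_of_ne inf_le_right fun h =>
    hST (S₁.ext (T.3 S₁.2 (inf_eq_right.1 h)))
  have hle : ∀ E : Subgroup G, D < E → Nat.card G - Nat.card ↥E < k := by
    intro E hE
    have h1 : Nat.card ↥D < Nat.card ↥E := by
      refine lt_of_le_of_ne (Subgroup.card_le_of_le hE.le) fun h => hE.ne ?_
      exact Subgroup.eq_of_le_of_card_ge hE.le h.ge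
    have h2 := E.card_le_card_group
    omega
  have hcD : c ∈ D := ⟨image_mem hc₀ hc, hcT⟩
  obtain ⟨W, hWC, hW⟩ := exists_larger hlt₁ hUC
  obtain ⟨W', hWC', hW'⟩ := exists_larger hlt₂ hUC
  have hcW : IsImage S c₀ W c := ih _ (hle _ hW) S₁ W c rfl hc (hW.le hcD).2
  obtain ⟨⟨m, hm⟩, hme⟩ := MulAction.exists_smul_eq ↥(Subgroup.centralizer (D : Set G))
    (W.subtype hWC) (W'.subtype hWC')
  rw [Sylow.smul_subtype] at hme
  have hmW : m • W = W' := Sylow.subtype_injective hme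
  have hcW' : IsImage S c₀ W' c := by
    have := image_smul hcW m
    rwa [hmW, show m * c * m⁻¹ = c by
      rw [← Subgroup.mem_centralizer_iff.1 hm c hcD]; group] at this
  exact ih _ (hle _ (by rw [inf_comm]; exact hW')) W' T c rfl hcW' hcT

theorem isolated [Finite G]
    (hCI : ∀ S T : Sylow 2 G, S ≠ T → ∃ U : Sylow 2 G,
      (S : Subgroup G) ⊓ (T : Subgroup G) ≤ (Subgroup.center ↥(U : Subgroup G)).map (U : Subgroup G).subtype)
    (hc₀ : c₀ ∈ (S : Subgroup G)) (h2 : orderOf c₀ = 2)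
    (hfix : ∀ g ∈ Subgroup.normalizer ((S : Subgroup G) : Set G), g * c₀ * g⁻¹ = c₀) :
    Cfsg.IsIsolatedInvolution c₀ := by
  refine (Agent.Involutions.Isolated.iff_unique_in_sylow S h2 hc₀).2 fun g hg => ?_
  exact image_unique hfix (image_of_mem hCI hc₀ hfix _ (g • S) S _ rfl ⟨g, rfl, rfl⟩ hg) ⟨1, by simp, by simp⟩

end Cfsg.Agent.InvChar.CentralIntersections
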