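import Mathlib
import Cfsg.Agent.Lib.CharP.CharP
import Cfsg.Agent.Lib.CharP.SubnormalResidual
import Cfsg.Agent.Lib.Transfer.Frobenius
import Cfsg.Agent.Lib.Coprime.Commutator
import Cfsg.Agent.Lib.Cores.Subnormal
import Cfsg.Agent.InvChar.PConstrained
import Cfsg.Prelude.Def_QuasithinSetup

/-!
Groups of even characteristic: overgroups of a Sylow 2-subgroup, normalizers of 2-subgroups over a subgroup
with normalizer of characteristic 2, members of `calL`.
-/

set_option linter.all false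
set_option autoImplicit false

namespace Cfsg.Agent.InvChar.EvenChar

open Subgroup Cfsg.Agent.CharP
open scoped commutatorElement

variable {G : Type*} [Group G] [Finite G]

theorem charP_of_sylow_le (hE : Cfsg.IsOfEvenCharacteristic G) (T : Sylow 2 G) {X : Subgroup G}
    (hT : (T : Subgroup G) ≤ X) (hX : Cfsg.pCoreOf 2 X ≠ ⊥) : IsCharP 2 X := by
  haveI : Fact (Nat.Prime 2) := ⟨Nat.prime_two⟩
  set R := Cfsg.pCoreOf 2 X with hR
  set M := normalizer (R : Set G) with hM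
  have hXM : X ≤ M := le_normalizer_pCoreOf 2 X
  have hMc : IsCharP 2 M :=
    (isCharP_iff _).2 (hE M ⟨R, isPGroup_pCoreOf 2 X, hX, rfl⟩ ⟨T, hT.trans hXM⟩)
  have hS : Cfsg.pCoreOf 2 M ≤ (T : Subgroup G) :=
    pCoreOf_le_of_isSylIn ((isSylIn_top_iff.2 ⟨T, rfl⟩).mono (hT.trans hXM) le_top)
  have e : Cfsg.pCoreOf 2 M ≤ R :=
    le_pCoreOf (hS.trans hT) (hXM.trans (le_normalizer_pCoreOf 2 M)) (isPGroup_pCoreOf 2 M)
  rintro x ⟨hx, hxc⟩
  exact e (hMc ⟨hXM hx, centralizer_le (SetLike.coe_subset_coe.2 e) hxc⟩)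

theorem normalizer_mono {U : Subgroup G} (hU : IsPGroup 2 U) :
    ∀ X : Subgroup G, X ≤ U → IsCharP 2 (normalizer (X : Set G)) → IsCharP 2 (normalizer (U : Set G)) := by
  haveI : Fact (Nat.Prime 2) := ⟨Nat.prime_two⟩
  intro X
  induction X using WellFoundedGT.induction with
  | _ X ih =>
    intro hXU h
    rcases eq_or_lt_of_le hXU with rfl | hlt
    · exact h
    · have hY := Cfsg.Agent.Transfer.Frobenius.lt_inf_normalizer hU hlt
      exact ih _ hY inf_le_left (isCharP_normalizer h (hU.to_le inf_le_left) inf_le_right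
        ((centralizer_le (SetLike.coe_subset_coe.2 hY.le)).trans (centralizer_le_normalizer _)))

omit [Finite G] in
theorem perfect_of_calC {L S : Subgroup G} (h : L.subgroupOf (L ⊔ S) ∈ Cfsg.calC ↥(L ⊔ S)) :
    L ≠ ⊥ ∧ ⁅L, L⁆ = L := by
  obtain ⟨h1, h2, -, -⟩ := h
  constructor
  · intro e
    exact h1 (by simp [e])
  · have := congrArg (Subgroup.map (L ⊔ S).subtype) h2
    rwa [map_commutator, subgroupOf_map_subtype, inf_eq_left.2 le_sup_left] at this

theorem normalizes {L S : Subgroup G} (h : L.subgroupOf (L ⊔ S) ∈ Cfsg.calC ↥(L ⊔ S)) :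
    Cfsg.pCoreOf 2 (L ⊔ S) ≤ normalizer (L : Set G) := by
  haveI : Fact (Nat.Prime 2) := ⟨Nat.prime_two⟩
  obtain ⟨-, h2, h3, -⟩ := h
  have hres : resOf 2 (L.subgroupOf (L ⊔ S)) = L.subgroupOf (L ⊔ S) :=
    le_antisymm (resOf_le 2 _) (Cfsg.Agent.Components.Local.le_of_pPrime_mem_of_perfect (p := 2) h2
      fun x hx hc => mem_resOf_of_coprime hx hc)
  have := le_normalizer_of_resOf_eq (L := Cfsg.pCore 2 ↥(L ⊔ S)) (isPGroup_pCore 2 _) h3 hres
  rw [← subgroupOf_normalizer_eq le_sup_left] at this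
  rintro _ ⟨y, hy, rfl⟩
  exact this hy

theorem mem_calX (hE : Cfsg.IsOfEvenCharacteristic G) (T : Sylow 2 G) {K : Subgroup G}
    (hK : K ∈ Cfsg.calL (T : Subgroup G)) : K ∈ Cfsg.calX G := by
  haveI : Fact (Nat.Prime 2) := ⟨Nat.prime_two⟩
  obtain ⟨hC, -, hO⟩ := hK
  obtain ⟨hne, hperf⟩ := perfect_of_calC hC
  refine ⟨hne, ?_, ?_⟩
  · exact le_antisymm ((closure_le _).2 fun x hx => hx.1)
      (Cfsg.Agent.Components.Local.le_of_pPrime_mem_of_perfect (p := 2) hperf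
        fun x hx hc => subset_closure ⟨hx, Nat.coprime_two_right.1 hc⟩)
  · have hX : IsCharP 2 (K ⊔ (T : Subgroup G)) := charP_of_sylow_le hE T le_sup_right fun e =>
      hO ((map_eq_bot_iff_of_injective _ (K ⊔ (T : Subgroup G)).subtype_injective).1 e)
    have h1 := (isCharP_iff _).1 (isCharP_of_isSubnormal ((isCharP_iff _).1 hX) hC.2.2.1)
    exact genFitting_eq_pCore_iff.2
      (InvChar.PConstrained.char_of_equiv (subgroupOfEquivOfLe le_sup_left) h1)

/-- In an abelian subgroup `omegaOne` consists of the elements of exponent dividing two. -/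
theorem omega_iff {W : Subgroup G} (hW : ∀ a ∈ W, ∀ b ∈ W, a * b = b * a) {x : G} :
    x ∈ Cfsg.omegaOne 2 W ↔ x ∈ W ∧ x ^ 2 = 1 := by
  refine ⟨fun hx => ?_, fun hx => subset_closure hx⟩
  induction hx using closure_induction with
  | mem x hx => exact hx
  | one => exact ⟨W.one_mem, one_pow 2⟩
  | mul a b _ _ ha hb =>
    exact ⟨W.mul_mem ha.1 hb.1, by rw [(show Commute a b from hW a ha.1 b hb.1).mul_pow, ha.2, hb.2, one_mul]⟩
  | inv a _ ha => exact ⟨W.inv_mem ha.1, by rw [inv_pow, ha.2, inv_one]⟩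

/-- The module `Ω₁ Z(P)`. -/
def zone (P : Subgroup G) : Subgroup G := Cfsg.omegaOne 2 (P ⊓ centralizer (P : Set G))

theorem mem_zone {P : Subgroup G} {x : G} :
    x ∈ zone P ↔ (x ∈ P ∧ x ∈ centralizer (P : Set G)) ∧ x ^ 2 = 1 :=
  omega_iff (W := P ⊓ centralizer (P : Set G)) (fun a ha b hb => hb.2 a ha.1)

theorem zone_le (P : Subgroup G) : zone P ≤ P := fun _ hx => (mem_zone.1 hx).1.1

theorem le_normalizer_zone {P N : Subgroup G} (h : N ≤ normalizer (P : Set G)) :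
    N ≤ normalizer (zone P : Set G) := by
  refine Subgroup.le_normalizer_iff.2 fun g hg z hz => ?_
  obtain ⟨⟨hzP, hzC⟩, hz2⟩ := mem_zone.1 hz
  refine mem_zone.2 ⟨⟨Subgroup.le_normalizer_iff.1 h g hg z hzP, fun y hy => ?_⟩, ?_⟩
  · have h1 := Subgroup.le_normalizer_iff.1 h g⁻¹ (inv_mem hg) y hy
    rw [inv_inv] at h1
    calc y * (g * z * g⁻¹) = g * ((g⁻¹ * y * g) * z) * g⁻¹ := by group
      _ = g * (z * (g⁻¹ * y * g)) * g⁻¹ := by rw [hzC _ h1]
      _ = g * z * g⁻¹ * y := by group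
  · rw [conj_pow, hz2, mul_one, mul_inv_cancel]

theorem pCoreOf_le_of_mem_calC {L S : Subgroup G} (h : L.subgroupOf (L ⊔ S) ∈ Cfsg.calC ↥(L ⊔ S)) :
    Cfsg.pCoreOf 2 L ≤ Cfsg.pCoreOf 2 (L ⊔ S) := by
  have h1 := Cfsg.Agent.Cores.map_pCore_le_of_isSubnormal 2 h.2.2.1
  show (Cfsg.pCore 2 ↥L).map L.subtype ≤ _
  rw [← Cfsg.Agent.Cores.map_pCore_eq (subgroupOfEquivOfLe (le_sup_left : L ≤ L ⊔ S)) 2]
  rintro _ ⟨_, ⟨y, hy, rfl⟩, rfl⟩
  exact ⟨(y : ↥(L ⊔ S)), h1 (mem_map_of_mem _ hy), rfl⟩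

/-- Faithfulness of the module passes to larger members of `calL`. -/
theorem moduleV_ne_bot (hE : Cfsg.IsOfEvenCharacteristic G) (T : Sylow 2 G) {L K : Subgroup G}
    (hL : L ∈ Cfsg.calL (T : Subgroup G)) (hK : K ∈ Cfsg.calL (T : Subgroup G)) (hLK : L ≤ K)
    (hV : Cfsg.moduleV L ≠ ⊥) : Cfsg.moduleV K ≠ ⊥ := by
  haveI : Fact (Nat.Prime 2) := ⟨Nat.prime_two⟩
  change ⁅zone (Cfsg.pCoreOf 2 L), L⁆ ≠ ⊥ at hV
  change ⁅zone (Cfsg.pCoreOf 2 K), K⁆ ≠ ⊥
  set Y := L ⊔ (T : Subgroup G) with hY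
  set X := K ⊔ (T : Subgroup G) with hX
  set Q := Cfsg.pCoreOf 2 Y with hQ
  set R := Cfsg.pCoreOf 2 X with hR
  set P := Cfsg.pCoreOf 2 L with hP
  set Z := zone P with hZ
  intro hVK
  apply hV
  have hXc : IsCharP 2 X := charP_of_sylow_le hE T le_sup_right fun e =>
    hK.2.2 ((map_eq_bot_iff_of_injective _ X.subtype_injective).1 e)
  have hYX : Y ≤ X := sup_le_sup_right hLK _
  have hRT : R ≤ (T : Subgroup G) :=
    pCoreOf_le_of_isSylIn ((isSylIn_top_iff.2 ⟨T, rfl⟩).mono le_sup_right le_top)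
  have hRQ : R ≤ Q := le_pCoreOf (hRT.trans le_sup_right) (hYX.trans (le_normalizer_pCoreOf 2 X))
    (isPGroup_pCoreOf 2 X)
  have hRK : R ≤ normalizer (K : Set G) := normalizes hK.1
  have hQL : Q ≤ normalizer (L : Set G) := normalizes hL.1
  have hKA : K ≤ centralizer (zone R : Set G) := by
    have hc1 : ⁅⁅zone R, K⁆, K⁆ = ⊥ := by
      rw [← le_bot_iff, ← hVK]
      refine commutator_mono (commutator_le.2 fun a ha k hk => ?_) le_rfl
      have hc : ⁅a, k⁆ ∈ zone R := by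
        have h1 := Subgroup.le_normalizer_iff.1
          (le_normalizer_zone (le_normalizer_pCoreOf 2 X) : X ≤ _) k
          ((le_sup_left : K ≤ X) hk) a⁻¹ (inv_mem ha)
        have h2 := (zone R).mul_mem ha h1
        rwa [show a * (k * a⁻¹ * k⁻¹) = ⁅a, k⁆ by rw [commutatorElement_def]; group] at h2
      have hcK : ⁅a, k⁆ ∈ K := by
        rw [commutatorElement_def]
        exact K.mul_mem (Subgroup.le_normalizer_iff.1 hRK a (zone_le R ha) k hk) (K.inv_mem hk)
      obtain ⟨⟨hcR, hcC⟩, hc2⟩ := mem_zone.1 hc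
      refine mem_zone.2 ⟨⟨?_, centralizer_le (SetLike.coe_subset_coe.2 (pCoreOf_le_of_mem_calC hK.1)) hcC⟩, hc2⟩
      exact le_pCoreOf (inf_le_right : R ⊓ K ≤ K)
        (le_trans (le_inf ((le_sup_left : K ≤ X).trans (le_normalizer_pCoreOf 2 X)) le_normalizer)
          inf_normalizer_le_normalizer_inf)
        ((isPGroup_pCoreOf 2 X).to_le inf_le_left) ⟨hcR, hcK⟩
    have hc2 : ⁅⁅K, zone R⁆, K⁆ = ⊥ := by rw [commutator_comm K (zone R), hc1]
    have hc3 := commutator_commutator_eq_bot_of_rotate hc2 hc1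
    rw [(perfect_of_calC hK.1).2] at hc3
    exact commutator_eq_bot_iff_le_centralizer.1 hc3
  have hPQ : P ≤ Q := pCoreOf_le_of_mem_calC hL.1
  have hLW : ∀ b ∈ Z, b ∈ centralizer (Q : Set G) → ∀ y ∈ L, b * y = y * b := by
    intro b hb hbQ y hy
    refine (hKA (hLK hy) b (mem_zone.2 ⟨⟨?_, ?_⟩, (mem_zone.1 hb).2⟩))
    · refine hXc ⟨?_, centralizer_le (SetLike.coe_subset_coe.2 hRQ) hbQ⟩
      exact (le_sup_left : K ≤ X) (hLK (pCoreOf_le 2 L (zone_le P hb)))
    · exact centralizer_le (SetLike.coe_subset_coe.2 hRQ) hbQ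
  have hQP : Q ≤ normalizer (P : Set G) := by
    refine Subgroup.le_normalizer_iff.2 fun g hg x hx => ?_
    have h1 : L.map (MulAut.conj g).toMonoidHom = L := (mem_normalizer_iff_map_conj_eq).1 (hQL hg)
    have h2 := pCoreOf_conj (p := 2) g L
    rw [h1] at h2
    rw [hP, h2]
    exact ⟨x, hx, rfl⟩
  rw [commutator_eq_bot_iff_le_centralizer, le_centralizer_iff]
  refine Cfsg.Agent.Components.Local.le_of_pPrime_mem_of_perfect (p := 2) (perfect_of_calC hL.1).2
    fun y hy hcop => ?_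
  haveI : IsMulCommutative Z :=
    ⟨⟨fun a b => Subtype.ext ((mem_zone.1 b.2).1.2 _ (zone_le P a.2))⟩⟩
  have hyN : zpowers y ≤ normalizer (Z : Set G) :=
    zpowers_le.2 (le_normalizer_zone (le_normalizer_pCoreOf 2 L) hy)
  set B := ⁅Z, zpowers y⁆ with hB
  have hBZ : B ≤ Z := Cfsg.Agent.Coprime.commutator_le_of_le_normalizer hyN
  have hcard : (Nat.card (zpowers y)).Coprime (Nat.card Z) := by
    obtain ⟨k, hk⟩ := IsPGroup.iff_card.1 ((isPGroup_pCoreOf 2 L).to_le (zone_le P))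
    rw [hk, Nat.card_zpowers]
    exact hcop.pow_right k
  have hBbot : B = ⊥ := by
    by_contra hne
    have hQB : Q ≤ normalizer (B : Set G) := by
      refine Subgroup.le_normalizer_iff.2 fun g hg b hb => ?_
      have hle : B ≤ B.comap (MulAut.conj g).toMonoidHom := by
        refine commutator_le.2 fun z hz a ha => ?_
        show g * ⁅z, a⁆ * g⁻¹ ∈ B
        have hz' : g * z * g⁻¹ ∈ Z := Subgroup.le_normalizer_iff.1 (le_normalizer_zone hQP) g hg z hz
        have haL : a ∈ L := (zpowers_le.2 hy) ha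
        set c := g * a * g⁻¹ * a⁻¹ with hc
        have hcP : c ∈ P := by
          refine le_pCoreOf (inf_le_right : Q ⊓ L ≤ L)
            (le_trans (le_inf ((le_sup_left : L ≤ Y).trans (le_normalizer_pCoreOf 2 Y)) le_normalizer)
              inf_normalizer_le_normalizer_inf)
            ((isPGroup_pCoreOf 2 Y).to_le inf_le_left) ⟨?_, ?_⟩
          · rw [hc, mul_assoc, mul_assoc, ← mul_assoc a]
            exact Q.mul_mem hg (Subgroup.le_normalizer_iff.1 (le_normalizer_pCoreOf 2 Y) a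
              ((le_sup_left : L ≤ Y) haL) g⁻¹ (inv_mem hg))
          · exact L.mul_mem (Subgroup.le_normalizer_iff.1 hQL g hg a haL) (L.inv_mem haL)
        have hcz : ∀ w ∈ Z, c * w = w * c := fun w hw => (mem_zone.1 hw).1.2 c hcP
        have hm : ⁅g * z * g⁻¹, a⁆ ∈ B := commutator_mem_commutator hz' ha
        have heq : g * ⁅z, a⁆ * g⁻¹ = c * ⁅g * z * g⁻¹, a⁆ * c⁻¹ := by
          have h1 : g * a * g⁻¹ = c * a := by rw [hc]; group
          calc g * ⁅z, a⁆ * g⁻¹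
              = (g * z * g⁻¹) * (g * a * g⁻¹) * (g * z * g⁻¹)⁻¹ * (g * a * g⁻¹)⁻¹ := by
                rw [commutatorElement_def]; group
            _ = ((g * z * g⁻¹) * c) * (a * (g * z * g⁻¹)⁻¹ * a⁻¹) * c⁻¹ := by rw [h1]; group
            _ = c * ⁅g * z * g⁻¹, a⁆ * c⁻¹ := by
                rw [← hcz _ hz', commutatorElement_def]; group
        rw [heq, hcz _ (hBZ hm), mul_inv_cancel_right]
        exact hm
      exact hle hb
    obtain ⟨b, hbB, hbo, hbQ⟩ := exists_order_prime_central (isPGroup_pCoreOf 2 Y)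
      (hBZ.trans ((zone_le P).trans hPQ)) hQB hne
    have h0 : b ∈ (Z ⊓ centralizer ((zpowers y : Subgroup G) : Set G)) ⊓ ⁅Z, zpowers y⁆ := by
      refine ⟨⟨hBZ hbB, ?_⟩, hbB⟩
      rintro _ ⟨i, rfl⟩
      exact ((show Commute b y from hLW b (hBZ hbB) hbQ y hy).zpow_right i).eq.symm
    rw [Cfsg.Agent.Coprime.inf_centralizer_inf_commutator hyN hcard, mem_bot] at h0
    rw [h0, orderOf_one] at hbo
    omega
  exact le_centralizer_iff.1 (commutator_eq_bot_iff_le_centralizer.1 hBbot) (mem_zpowers y)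

end Cfsg.Agent.InvChar.EvenChar
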