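import Mathlib
import Cfsg.Prelude.Def_Transfer

/-!
Duality in groups with commutators in a central subgroup of order two.
-/

set_option autoImplicit false
set_option linter.all false

namespace Cfsg.Agent.InvChar.Extraspecial

theorem exists_dual {Q : Type*} [Group Q] [Finite Q] (z : Q) (hzC : z ∈ Subgroup.center Q) (hz1 : z ≠ 1)
    (hcomm : ∀ u v : Q, u * v = v * u ∨ u * v = z * (v * u))
    (C : Subgroup Q) (hC : C.index = 2) (hZC : Subgroup.center Q ≤ C) :
    ∃ u : Q, (∀ v ∈ C, u * v = v * u) ∧ ∀ v, v ∉ C → u * v = z * (v * u) := by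
  classical
  haveI : Fintype Q := Fintype.ofFinite Q
  have hzc : ∀ w, w * z = z * w := Subgroup.mem_center_iff.1 hzC
  have hz2 : z ^ 2 = 1 := by
    obtain ⟨u, v, huv⟩ : ∃ u v : Q, u * v ≠ v * u := by
      by_contra hc
      push Not at hc
      have : C = ⊤ := (Subgroup.eq_top_iff' C).2 fun g => hZC (Subgroup.mem_center_iff.2 fun h => hc h g)
      rw [this, Subgroup.index_top] at hC
      omega
    have h1 := (hcomm u v).resolve_left huv
    have h2 := (hcomm v u).resolve_left (Ne.symm huv)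
    rw [h2, ← mul_assoc] at h1
    rw [pow_two]
    exact mul_eq_right.1 h1.symm
  let β : Q → Q → ℤ := fun u v => if u * v = v * u then 1 else -1
  let ψ : Q → ℤ := fun v => if v ∈ C then 1 else -1
  have hβ : ∀ u v w, β u (v * w) = β u v * β u w := by
    intro u v w
    rcases hcomm u v with h1 | h1 <;> rcases hcomm u w with h2 | h2
    · have : u * (v * w) = v * w * u := by rw [← mul_assoc, h1, mul_assoc, h2, ← mul_assoc]
      simp only [β, if_pos h1, if_pos h2, if_pos this, mul_one]
    · have e : u * (v * w) = z * (v * w * u) := by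
        rw [← mul_assoc, h1, mul_assoc, h2, ← mul_assoc, hzc, mul_assoc, mul_assoc]
      have hne : ∀ a : Q, z * a ≠ a := fun a h => hz1 (mul_eq_right.1 h)
      have h3 : u * (v * w) ≠ v * w * u := e ▸ hne _
      have h4 : u * w ≠ w * u := h2 ▸ hne _
      simp only [β, if_pos h1, if_neg h4, if_neg h3, one_mul]
    · have e : u * (v * w) = z * (v * w * u) := by
        rw [← mul_assoc, h1, mul_assoc, mul_assoc, h2, ← mul_assoc v w u]
      have hne : ∀ a : Q, z * a ≠ a := fun a h => hz1 (mul_eq_right.1 h)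
      have h3 : u * (v * w) ≠ v * w * u := e ▸ hne _
      have h4 : u * v ≠ v * u := h1 ▸ hne _
      simp only [β, if_neg h4, if_pos h2, if_neg h3, mul_one]
    · have e : u * (v * w) = v * w * u := by
        rw [← mul_assoc, h1, mul_assoc, mul_assoc, h2, ← mul_assoc v z, hzc v, mul_assoc z v, ← mul_assoc z z,
          ← pow_two, hz2, one_mul, ← mul_assoc v w u]
      have hne : ∀ a : Q, z * a ≠ a := fun a h => hz1 (mul_eq_right.1 h)
      have h4 : u * v ≠ v * u := h1 ▸ hne _
      have h5 : u * w ≠ w * u := h2 ▸ hne _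
      simp only [β, if_neg h4, if_neg h5, if_pos e]
      norm_num
  have hψ : ∀ v w, ψ (v * w) = ψ v * ψ w := by
    intro v w
    have h := Subgroup.mul_mem_iff_of_index_two hC (a := v) (b := w)
    by_cases hv : v ∈ C <;> by_cases hw : w ∈ C <;> simp [ψ, hv, hw, h]
  have hsym : ∀ u v, β u v = β v u := by
    intro u v
    simp only [β, eq_comm (a := u * v)]
  suffices h : ∃ u, ∀ v, β u v = ψ v by
    obtain ⟨u, hu⟩ := h
    refine ⟨u, fun v hv => ?_, fun v hv => ?_⟩
    · have h := hu v
      by_contra hne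
      simp only [β, ψ, if_neg hne, if_pos hv] at h
      omega
    · refine (hcomm u v).resolve_left fun he => ?_
      have h := hu v
      simp only [β, ψ, if_pos he, if_neg hv] at h
      omega
  by_contra hc
  push Not at hc
  have hzero : ∀ u, ∑ v, β u v * ψ v = 0 := by
    intro u
    obtain ⟨v₀, hv₀⟩ := hc u
    have hneg : β u v₀ * ψ v₀ = -1 := by
      simp only [β, ψ] at hv₀ ⊢
      split_ifs at hv₀ ⊢ <;> simp_all
    have h := (Equiv.sum_comp (Equiv.mulRight v₀) (fun v => β u v * ψ v)).symm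
    simp only [Equiv.coe_mulRight, hβ, hψ] at h
    have h2 : ∑ v, β u v * ψ v = (∑ v, β u v * ψ v) * (β u v₀ * ψ v₀) := by
      rw [Finset.sum_mul]
      rw [h]
      exact Finset.sum_congr rfl fun v _ => by ring
    rw [hneg] at h2
    omega
  have htot : ∑ v, ψ v * ∑ u, β u v = 0 := by
    have : ∀ v, ψ v * ∑ u, β u v = ∑ u, β u v * ψ v := fun v => by
      rw [Finset.mul_sum]; exact Finset.sum_congr rfl fun u _ => mul_comm _ _
    rw [Finset.sum_congr rfl fun v _ => this v, Finset.sum_comm]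
    exact Finset.sum_eq_zero fun u _ => hzero u
  have hterm : ∀ v, ψ v * ∑ u, β u v = if v ∈ Subgroup.center Q then (Fintype.card Q : ℤ) else 0 := by
    intro v
    by_cases hv : v ∈ Subgroup.center Q
    · have h1 : ∀ u, β u v = 1 := fun u => if_pos (Subgroup.mem_center_iff.1 hv u)
      simp [ψ, hZC hv, hv, h1]
    · obtain ⟨u₀, hu₀⟩ : ∃ u₀, u₀ * v ≠ v * u₀ := by
        rw [Subgroup.mem_center_iff] at hv
        push Not at hv
        exact hv
      have hneg : β u₀ v = -1 := if_neg hu₀
      have h := (Equiv.sum_comp (Equiv.mulRight u₀) (fun u => β u v)).symm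
      simp only [Equiv.coe_mulRight] at h
      have h2 : ∑ u, β (u * u₀) v = ∑ u, - β u v := Finset.sum_congr rfl fun u _ => by
        rw [hsym, hβ, hsym v u, hsym v u₀, hneg]; ring
      rw [h2, Finset.sum_neg_distrib] at h
      have h0 : ∑ u, β u v = 0 := by omega
      rw [h0, mul_zero, if_neg hv]
  rw [Finset.sum_congr rfl fun v _ => hterm v] at htot
  have hpos : (0 : ℤ) < ∑ v, if v ∈ Subgroup.center Q then (Fintype.card Q : ℤ) else 0 := by
    refine Finset.sum_pos' (fun v _ => by split_ifs <;> omega) ⟨1, Finset.mem_univ _, ?_⟩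
    rw [if_pos (Subgroup.one_mem _)]
    exact_mod_cast Fintype.card_pos
  omega

/-- The data shared by extraspecial 2-groups. -/
theorem facts {Q : Type*} [Group Q] [Finite Q] (hQ : Cfsg.IsExtraspecial 2 Q) {z : Q} (hzC : z ∈ Subgroup.center Q)
    (hz1 : z ≠ 1) :
    (∀ w ∈ Subgroup.center Q, w = 1 ∨ w = z) ∧ z * z = 1 ∧ (∀ u v : Q, u * v = v * u ∨ u * v = z * (v * u)) ∧
      ∀ q : Q, q * q ∈ Subgroup.center Q := by
  classical
  haveI : Fact (Nat.Prime 2) := ⟨Nat.prime_two⟩
  obtain ⟨⟨h2, hΦ, hder⟩, hZ2⟩ := hQ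
  have hall : ∀ w ∈ Subgroup.center Q, w = 1 ∨ w = z := by
    intro w hw
    by_contra hc
    push Not at hc
    haveI := Fintype.ofFinite (Subgroup.center Q)
    rw [Nat.card_eq_fintype_card] at hZ2
    have h3 : ({1, ⟨z, hzC⟩, ⟨w, hw⟩} : Finset (Subgroup.center Q)).card = 3 :=
      Finset.card_eq_three.2 ⟨1, ⟨z, hzC⟩, ⟨w, hw⟩, fun e => hz1 (congrArg Subtype.val e).symm,
        fun e => hc.1 (congrArg Subtype.val e).symm, fun e => hc.2 (congrArg Subtype.val e).symm, rfl⟩
    have := Finset.card_le_univ ({1, ⟨z, hzC⟩, ⟨w, hw⟩} : Finset (Subgroup.center Q))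
    omega
  refine ⟨hall, ?_, fun u v => ?_, fun q => ?_⟩
  · rcases hall _ ((Subgroup.center Q).mul_mem hzC hzC) with h | h
    · exact h
    · exact absurd (mul_eq_right.1 h) hz1
  · have hmem : u * v * u⁻¹ * v⁻¹ ∈ Subgroup.center Q := hder.le (by
      rw [commutator_def]
      exact Subgroup.commutator_mem_commutator (Subgroup.mem_top u) (Subgroup.mem_top v))
    rcases hall _ hmem with h | h
    · exact Or.inl (mul_inv_eq_iff_eq_mul.1 (mul_inv_eq_one.1 h))
    · refine Or.inr ?_
      rw [← h]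
      group
  · refine hΦ.le ?_
    haveI := h2.isNilpotent
    change q * q ∈ Order.radical (Subgroup Q)
    rw [Order.radical]
    simp only [Subgroup.mem_iInf]
    intro M hM
    haveI := Subgroup.NormalizerCondition.normal_of_coatom M Group.normalizerCondition_of_isNilpotent hM
    by_contra hc
    have htop : M ⊔ Subgroup.zpowers (q * q) = ⊤ := hM.2 _ (lt_of_le_of_ne le_sup_left fun h =>
      hc (h.ge (Subgroup.mem_sup_right (Subgroup.mem_zpowers _))))
    obtain ⟨m, hm, y, hy, hmy⟩ := Subgroup.mem_sup_of_normal_left.1 (htop.ge (Subgroup.mem_top q))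
    obtain ⟨i, rfl⟩ := hy
    simp only [] at hmy
    have hma : q ^ (1 - 2 * i) ∈ M := by
      rw [zpow_sub, zpow_one, zpow_mul, zpow_ofNat, pow_two]
      nth_rewrite 1 [← hmy]
      rwa [mul_inv_cancel_right]
    obtain ⟨k, hk⟩ := h2 q
    have hcop : IsCoprime (1 - 2 * i) ((2 : ℤ) ^ k) := IsCoprime.pow_right ⟨1, i, by ring⟩
    obtain ⟨u, v, huv⟩ := hcop
    have hqM : q ∈ M := by
      have h : q ^ ((2 : ℤ) ^ k) = 1 := by exact_mod_cast hk
      have h2 := M.zpow_mem hma u
      rw [← zpow_mul, mul_comm, ← mul_one (q ^ (u * (1 - 2 * i))),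
        show (1 : Q) = q ^ (v * (2 : ℤ) ^ k) by rw [mul_comm v, zpow_mul, h, one_zpow],
        ← zpow_add, huv, zpow_one] at h2
      exact h2
    exact hc (M.mul_mem hqM hqM)

/-- A subgroup containing the centre is the centralizer of its centralizer, when all commutators lie
in a central subgroup of order two and all squares are central. -/
theorem exists_separating_of_comm {Q : Type*} [Group Q] [Finite Q] {z : Q} (hzC : z ∈ Subgroup.center Q)
    (hz1 : z ≠ 1) (hcomm : ∀ u v : Q, u * v = v * u ∨ u * v = z * (v * u))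
    (hsq : ∀ q : Q, q * q ∈ Subgroup.center Q) (N : Subgroup Q) (hN : Subgroup.center Q ≤ N) {u : Q}
    (hu : u ∉ N) : ∃ v : Q, (∀ n ∈ N, v * n = n * v) ∧ v * u ≠ u * v := by
  classical
  obtain ⟨C, hNC, hC⟩ := (Set.toFinite {H : Subgroup Q | u ∉ H}).exists_le_maximal (a := N) hu
  have hCn : C.Normal := ⟨fun c hc g => by
    rcases hcomm g c with h | h
    · rw [h, mul_inv_cancel_right]; exact hc
    · rw [h, ← mul_assoc, mul_inv_cancel_right]
      exact C.mul_mem (hN.trans hNC hzC) hc⟩
  have hidx : C.index = 2 := by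
    rw [Subgroup.index_eq_two_iff]
    refine ⟨u, fun b => ?_⟩
    by_cases hb : b ∈ C
    · refine Or.inr ⟨hb, fun h => hC.1 ?_⟩
      exact (C.mul_mem_cancel_left hb).1 h
    · refine Or.inl ⟨?_, hb⟩
      haveI := hCn
      have hmem : u ∈ C ⊔ Subgroup.zpowers b := by
        by_contra hc
        exact hb (hC.2 hc le_sup_left (Subgroup.mem_sup_right (Subgroup.mem_zpowers b)))
      obtain ⟨c, hc, y, hy, hcy⟩ := Subgroup.mem_sup_of_normal_left.1 hmem
      obtain ⟨i, rfl⟩ := hy
      simp only [] at hcy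
      have hbb : b * b ∈ C := (hN.trans hNC) (hsq b)
      have hz2 : b ^ (2 : ℤ) ∈ C := by rw [zpow_ofNat, pow_two]; exact hbb
      rcases Int.even_or_odd i with ⟨j, hj⟩ | ⟨j, hj⟩
      · exfalso
        apply hC.1
        rw [← hcy, hj, ← two_mul, zpow_mul]
        exact C.mul_mem hc (C.zpow_mem hz2 j)
      · have e : b * u = (b * c * b⁻¹) * ((b ^ (2 : ℤ)) ^ j * (b * b)) := by
          rw [← hcy, hj, zpow_add, zpow_mul, zpow_one]
          group
        rw [e]
        exact C.mul_mem (hCn.conj_mem c hc b) (C.mul_mem (C.zpow_mem hz2 j) hbb)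
  obtain ⟨v, hv1, hv2⟩ := exists_dual z hzC hz1 hcomm C hidx (hN.trans hNC)
  refine ⟨v, fun n hn => hv1 n (hNC hn), fun h => hz1 ?_⟩
  have h2 := hv2 u hC.1
  rw [h] at h2
  exact mul_eq_right.1 h2.symm

/-- A subgroup of an extraspecial group containing the centre is the centralizer of its centralizer. -/
theorem exists_separating {Q : Type*} [Group Q] [Finite Q] (hQ : Cfsg.IsExtraspecial 2 Q) {z : Q}
    (hzC : z ∈ Subgroup.center Q) (hz1 : z ≠ 1) (N : Subgroup Q) (hN : Subgroup.center Q ≤ N) {u : Q}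
    (hu : u ∉ N) : ∃ v : Q, (∀ n ∈ N, v * n = n * v) ∧ v * u ≠ u * v := by
  obtain ⟨-, -, hcomm, hsq⟩ := facts hQ hzC hz1
  exact exists_separating_of_comm hzC hz1 hcomm hsq N hN hu

end Cfsg.Agent.InvChar.Extraspecial
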