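import Mathlib
import Cfsg.Agent.InvChar.Extraspecial

/-!
Transfer restricted to an extraspecial 2-subgroup: orbits without fixed points contribute squares up to
elements of order two.
-/

set_option linter.all false

namespace Cfsg.Agent.InvChar.ExtraspecialTransfer

open Subgroup MulAction
open scoped Classical

/-- A maximal subgroup of a finite 2-group has index two. -/
theorem coatom_index_two {S : Type*} [Group S] [Finite S] (hS : IsPGroup 2 S) {M : Subgroup S} (hM : IsCoatom M)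
    [M.Normal] : M.index = 2 := by
  haveI : Fact (Nat.Prime 2) := ⟨Nat.prime_two⟩
  obtain ⟨n, hn⟩ := hS.index M
  have h1 : M.index ≠ 1 := fun h => hM.1 (Subgroup.index_eq_one.1 h)
  have hn1 : 1 ≤ n := by
    rcases n with _ | n
    · exact absurd hn (by simpa using h1)
    · omega
  obtain ⟨q, hq⟩ := exists_prime_orderOf_dvd_card' (G := S ⧸ M) 2 (by
    rw [← Subgroup.index_eq_card, hn]; exact dvd_pow_self 2 (by omega))
  have hMle : M < (zpowers q).comap (QuotientGroup.mk' M) := by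
    refine lt_of_le_of_ne (fun a ha => ?_) fun h => ?_
    · show (QuotientGroup.mk' M) a ∈ zpowers q
      rw [QuotientGroup.mk'_apply, (QuotientGroup.eq_one_iff a).2 ha]; exact one_mem _
    · obtain ⟨a, rfl⟩ := QuotientGroup.mk'_surjective M q
      have : a ∈ M := by rw [h]; exact mem_zpowers _
      rw [QuotientGroup.mk'_apply, (QuotientGroup.eq_one_iff a).2 this, orderOf_one] at hq
      exact absurd hq (by norm_num)
  have htop := hM.2 _ hMle
  have h2 : zpowers q = ⊤ := by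
    rw [← map_comap_eq_self_of_surjective (QuotientGroup.mk'_surjective M) (zpowers q), htop,
      ← MonoidHom.range_eq_map, MonoidHom.range_eq_top.2 (QuotientGroup.mk'_surjective M)]
  rw [Subgroup.index_eq_card, ← Subgroup.card_top, ← h2, Nat.card_zpowers, hq]

variable {X : Type*} [Group X] {Ω : Type*} [MulAction X Ω] {A : Type*} [CommGroup A]

/-- `E` behaves like an extraspecial group with central involution `z`. -/
structure Good (E : Subgroup X) (z : X) : Prop where
  sq : ∀ e ∈ E, e * e = 1 ∨ e * e = z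
  comm : ∀ a ∈ E, ∀ b ∈ E, a * b = b * a ∨ a * b = z * (b * a)
  nonab : ∀ M : Subgroup X, M ≤ E → M.relIndex E = 2 → ∃ a ∈ M, ∃ b ∈ M, a * b ≠ b * a

variable (c : X → Ω → A)

/-- The product of a cocycle over a finite set. -/
noncomputable def F (S : Finset Ω) (x : X) : A := ∏ q ∈ S, c x q

variable (hc : ∀ x y q, c (x * y) q = c x (y • q) * c y q)

theorem prod_smul {S : Finset Ω} {y : X} (hy : ∀ q, y • q ∈ S ↔ q ∈ S) (f : Ω → A) :
    ∏ q ∈ S, f (y • q) = ∏ q ∈ S, f q :=
  Finset.prod_equiv (MulAction.toPerm y) (fun q => (hy q).symm) (fun q _ => rfl)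

include hc in
theorem F_mul {S : Finset Ω} (x : X) {y : X} (hy : ∀ q, y • q ∈ S ↔ q ∈ S) :
    F c S (x * y) = F c S x * F c S y := by
  unfold F
  rw [Finset.prod_congr rfl fun q _ => hc x y q, Finset.prod_mul_distrib, prod_smul hy (c x)]

variable [Finite Ω]

noncomputable instance : Fintype Ω := Fintype.ofFinite Ω

/-- A finset orbit. -/
noncomputable def orb (M : Subgroup X) (q0 : Ω) : Finset Ω :=
  Finset.univ.filter fun q => ∃ m ∈ M, m • q0 = q

theorem mem_orb {M : Subgroup X} {q0 q : Ω} : q ∈ orb M q0 ↔ ∃ m ∈ M, m • q0 = q := by simp [orb]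

theorem orb_inv {M : Subgroup X} {q0 : Ω} {y : X} (hy : y ∈ M) (q : Ω) : y • q ∈ orb M q0 ↔ q ∈ orb M q0 := by
  simp only [mem_orb]
  constructor
  · rintro ⟨m, hm, e⟩
    exact ⟨y⁻¹ * m, M.mul_mem (M.inv_mem hy) hm, by rw [mul_smul, e, inv_smul_smul]⟩
  · rintro ⟨m, hm, rfl⟩
    exact ⟨y * m, M.mul_mem hy hm, mul_smul _ _ _⟩

/-- Splitting an orbit along a normal subgroup of index two containing the stabiliser. -/
theorem split {P M : Subgroup X} (hMP : M ≤ P) (hidx : M.relIndex P = 2) {q0 : Ω}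
    (hst : ∀ p ∈ P, p • q0 = q0 → p ∈ M) {e : X} (heP : e ∈ P) (heM : e ∉ M) (f : Ω → A) :
    ∏ q ∈ orb P q0, f q = (∏ q ∈ orb M q0, f q) * ∏ q ∈ orb M q0, f (e • q) := by
  have hmem : ∀ {a b : X}, a ∈ P → b ∈ P → (a * b ∈ M ↔ (a ∈ M ↔ b ∈ M)) := by
    intro a b ha hb
    exact Subgroup.mul_mem_iff_of_index_two (H := M.subgroupOf P) hidx (a := ⟨a, ha⟩) (b := ⟨b, hb⟩)
  have hU : orb P q0 = orb M q0 ∪ (orb M q0).image (e • ·) := by
    ext q
    simp only [Finset.mem_union, Finset.mem_image, mem_orb]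
    constructor
    · rintro ⟨p, hp, rfl⟩
      by_cases hpM : p ∈ M
      · exact Or.inl ⟨p, hpM, rfl⟩
      · refine Or.inr ⟨(e⁻¹ * p) • q0, ⟨e⁻¹ * p, (hmem (P.inv_mem heP) hp).2 ?_, rfl⟩, by
          rw [← mul_smul, mul_inv_cancel_left]⟩
        simp [hpM, heM]
    · rintro (⟨m, hm, rfl⟩ | ⟨_, ⟨m, hm, rfl⟩, rfl⟩)
      · exact ⟨m, hMP hm, rfl⟩
      · exact ⟨e * m, P.mul_mem heP (hMP hm), mul_smul _ _ _⟩
  have hD : Disjoint (orb M q0) ((orb M q0).image (e • ·)) := by
    rw [Finset.disjoint_left]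
    intro q hq hq'
    obtain ⟨m, hm, rfl⟩ := mem_orb.1 hq
    obtain ⟨r, hr, he⟩ := Finset.mem_image.1 hq'
    obtain ⟨m', hm', rfl⟩ := mem_orb.1 hr
    have hs : (m⁻¹ * (e * m')) • q0 = q0 := by
      rw [mul_smul, mul_smul, he, inv_smul_smul]
    have h := hst _ (P.mul_mem (P.inv_mem (hMP hm)) (P.mul_mem heP (hMP hm'))) hs
    rw [M.mul_mem_cancel_left (M.inv_mem hm), M.mul_mem_cancel_right hm'] at h
    exact heM h
  rw [hU, Finset.prod_union hD, Finset.prod_image fun a _ b _ h => smul_left_cancel _ h]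

variable [Finite X] {E : Subgroup X} {z : X} (hE : Good E z)

include hE in
theorem z_mem (M : Subgroup X) (hME : M ≤ E) (hidx : M.relIndex E = 2) : z ∈ M := by
  obtain ⟨a, ha, b, hb, hab⟩ := hE.nonab M hME hidx
  have h := (hE.comm a (hME ha) b (hME hb)).resolve_left hab
  rw [show z = a * b * (b * a)⁻¹ by rw [h, mul_inv_cancel_right]]
  exact M.mul_mem (M.mul_mem ha hb) (M.inv_mem (M.mul_mem hb ha))

include hc hE in
theorem F_z (M M0 : Subgroup X) (hM0 : M0 ≤ M) (hME : M0 ≤ E) (hidx : M0.relIndex E = 2) (q0 : Ω) :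
    F c (orb M q0) z = 1 := by
  obtain ⟨a, ha, b, hb, hab⟩ := hE.nonab M0 hME hidx
  have h := (hE.comm a (hME ha) b (hME hb)).resolve_left hab
  have e : F c (orb M q0) (a * b) = F c (orb M q0) z * F c (orb M q0) (b * a) := by
    rw [h, F_mul c hc z fun q => orb_inv (M.mul_mem (hM0 hb) (hM0 ha)) q]
  rw [F_mul c hc a fun q => orb_inv (hM0 hb) q, F_mul c hc b fun q => orb_inv (hM0 ha) q, mul_comm] at e
  exact mul_eq_right.1 e.symm

include hE in
theorem isPGroup : IsPGroup 2 E := by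
  intro e
  rcases hE.sq e e.2 with h | h
  · exact ⟨1, Subtype.ext (by rw [SubmonoidClass.coe_pow, pow_one, sq]; exact h)⟩
  · -- z is a square, hence in E, so its square is 1 or z
    have hzE : z ∈ E := h ▸ E.mul_mem e.2 e.2
    rcases hE.sq z hzE with h' | h'
    · exact ⟨2, Subtype.ext (by
        rw [SubmonoidClass.coe_pow, show (2 : ℕ) ^ 2 = 2 * 2 from rfl, pow_mul, sq (e : X), h, sq, h']; rfl)⟩
    · have hz1 : z = 1 := mul_eq_left.1 h'
      exact ⟨1, Subtype.ext (by rw [SubmonoidClass.coe_pow, pow_one, sq, h, hz1]; rfl)⟩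

include hc hE in
theorem killE {q0 : Ω} (hne : ∃ e ∈ E, e • q0 ≠ q0) {e : X} (he : e ∈ E) : F c (orb E q0) e = 1 := by
  haveI : Fact (Nat.Prime 2) := ⟨Nat.prime_two⟩
  have hstab : (stabilizer X q0).subgroupOf E ≠ ⊤ := by
    intro h
    obtain ⟨a, ha, hne⟩ := hne
    exact hne (subgroupOf_eq_top.1 h ha)
  obtain ⟨M', hM', hle⟩ := (eq_top_or_exists_le_coatom ((stabilizer X q0).subgroupOf E)).resolve_left hstab
  have hP := isPGroup hE
  haveI := hP.isNilpotent
  haveI : M'.Normal := Subgroup.NormalizerCondition.normal_of_coatom M' Group.normalizerCondition_of_isNilpotent hM'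
  have hidx' : M'.index = 2 := coatom_index_two hP hM'
  set M := M'.map E.subtype with hM
  have hME : M ≤ E := map_subtype_le M'
  have hidx : M.relIndex E = 2 := by
    rw [Subgroup.relIndex, hM, Subgroup.subgroupOf, Subgroup.comap_map_eq_self_of_injective E.subtype_injective, hidx']
  have hst : ∀ p ∈ E, p • q0 = q0 → p ∈ M := fun p hp hs => ⟨⟨p, hp⟩, hle hs, rfl⟩
  obtain ⟨y, hy, hyM⟩ : ∃ y ∈ E, y ∉ M := by
    by_contra h
    push Not at h
    rw [Subgroup.relIndex_eq_one.2 (show E ≤ M from h)] at hidx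
    omega
  have hzM := z_mem hE M hME hidx
  have hF0 : ∀ a, a ∈ M → ∀ b, b ∈ M → F c (orb M q0) (a * b) = F c (orb M q0) a * F c (orb M q0) b :=
    fun a _ b hb => F_mul c hc a fun q => orb_inv hb q
  have hFz := F_z c hc hE M M le_rfl hME hidx q0
  have hsq1 : ∀ a ∈ E, a * a ∈ M → F c (orb M q0) (a * a) = 1 := by
    intro a ha ha2
    rcases hE.sq a ha with h | h <;> rw [h]
    · have := hF0 1 M.one_mem 1 M.one_mem
      rw [mul_one] at this
      exact mul_eq_left.1 this.symm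
    · exact hFz
  have hyM' : F c (orb E q0) y = 1 := by
    have e1 : F c (orb E q0) y = (∏ q ∈ orb M q0, c y (y • q)) * ∏ q ∈ orb M q0, c y q := by
      unfold F; rw [split hME hidx hst hy hyM (c y), mul_comm]
    rw [e1, ← Finset.prod_mul_distrib, ← Finset.prod_congr rfl fun q _ => hc y y q]
    refine hsq1 y hy ?_
    rcases hE.sq y hy with h | h <;> rw [h]
    · exact M.one_mem
    · exact hzM
  have hin : ∀ x ∈ M, F c (orb E q0) x = 1 := by
    intro x hx
    have hx' : y⁻¹ * x * y ∈ M ∧ (y⁻¹ * x * y = x ∨ y⁻¹ * x * y = z * x) := by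
      rcases hE.comm (y⁻¹ * x) (E.mul_mem (E.inv_mem hy) (hME hx)) y hy with h | h
      · rw [h, mul_inv_cancel_left]; exact ⟨hx, Or.inl rfl⟩
      · rw [h, mul_inv_cancel_left]; exact ⟨M.mul_mem hzM hx, Or.inr rfl⟩
    have hy2 : ∏ q ∈ orb M q0, c x (y • q) = F c (orb M q0) (y⁻¹ * x * y) := by
      have h1 : ∀ q, c x (y • q) * c y q = c y ((y⁻¹ * x * y) • q) * c (y⁻¹ * x * y) q := by
        intro q
        rw [← hc, ← hc, show y * (y⁻¹ * x * y) = x * y by group]
      have h2 := Finset.prod_congr rfl (fun q (_ : q ∈ orb M q0) => h1 q)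
      rw [Finset.prod_mul_distrib, Finset.prod_mul_distrib, prod_smul (fun q => orb_inv hx'.1 q) (c y),
        mul_comm (∏ q ∈ orb M q0, c y q)] at h2
      exact mul_right_cancel h2
    unfold F
    rw [split hME hidx hst hy hyM (c x), hy2]
    show F c (orb M q0) x * F c (orb M q0) (y⁻¹ * x * y) = 1
    rcases hx'.2 with h | h <;> rw [h]
    · rw [← hF0 x hx x hx]; exact hsq1 x (hME hx) (M.mul_mem hx hx)
    · rw [hF0 z hzM x hx, hFz, one_mul, ← hF0 x hx x hx]; exact hsq1 x (hME hx) (M.mul_mem hx hx)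
  by_cases heM : e ∈ M
  · exact hin e heM
  · have hye : y⁻¹ * e ∈ M := by
      obtain h := Subgroup.mul_mem_iff_of_index_two (H := M.subgroupOf E) hidx (a := ⟨y⁻¹, E.inv_mem hy⟩) (b := ⟨e, he⟩)
      refine h.2 ?_
      simp [Subgroup.mem_subgroupOf, hyM, heM]
    rw [show e = y * (y⁻¹ * e) by group, F_mul c hc y fun q => orb_inv (hME hye) q, hyM', hin _ hye, one_mul]

/-- Squares times elements of order dividing two. -/
def sqTwo (A : Type*) [CommGroup A] : Subgroup A := (powMonoidHom 2 : A →* A).range ⊔ (powMonoidHom 2 : A →* A).ker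

include hc hE in
theorem transitive_case {x : X} (hx : x ∈ normalizer (E : Set X)) (hx2 : ∃ k, x ^ 2 ^ k = 1) {q0 : Ω}
    (hne : ∃ e ∈ E, e • q0 ≠ q0) (hxq : x • q0 ∈ orb E q0) : F c (orb E q0) x ∈ sqTwo A := by
  haveI : Fact (Nat.Prime 2) := ⟨Nat.prime_two⟩
  set P := E ⊔ zpowers x with hPdef
  have hzx : zpowers x ≤ normalizer (E : Set X) := zpowers_le.2 hx
  have hxP : x ∈ P := mem_sup_right (mem_zpowers x)
  have hPn : P ≤ normalizer (E : Set X) := sup_le le_normalizer hzx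
  have hP : IsPGroup 2 P := by
    have hz : IsPGroup 2 (zpowers x) := by
      obtain ⟨k, hk⟩ := hx2
      obtain ⟨i, -, hi⟩ := (Nat.dvd_prime_pow Nat.prime_two).1 (orderOf_dvd_of_pow_eq_one hk)
      exact IsPGroup.of_card (n := i) (by rw [Nat.card_zpowers, hi])
    rw [hPdef, sup_comm]
    exact hz.to_sup_of_normal_right' (isPGroup hE) hzx
  have horb : orb P q0 = orb E q0 := by
    obtain ⟨a, ha, hax⟩ := mem_orb.1 hxq
    have hfix : (a⁻¹ * x) • q0 = q0 := by rw [mul_smul, ← hax, inv_smul_smul]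
    have hPle : P ≤ E ⊔ zpowers (a⁻¹ * x) := sup_le le_sup_left (zpowers_le.2 (by
      have := mul_mem_sup (T := zpowers (a⁻¹ * x)) ha (mem_zpowers (a⁻¹ * x))
      rwa [mul_inv_cancel_left] at this))
    have hn : zpowers (a⁻¹ * x) ≤ normalizer (E : Set X) :=
      zpowers_le.2 (mul_mem (inv_mem (le_normalizer ha)) hx)
    ext q
    simp only [mem_orb]
    constructor
    · rintro ⟨p, hp, rfl⟩
      have hp' := hPle hp
      rw [← SetLike.mem_coe, coe_mul_of_right_le_normalizer_left E _ hn] at hp'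
      obtain ⟨b, hb, d, hd, rfl⟩ := hp'
      refine ⟨b, hb, ?_⟩
      obtain ⟨i, rfl⟩ := hd
      show b • q0 = (b * (a⁻¹ * x) ^ i) • q0
      rw [mul_smul, show (a⁻¹ * x) ^ i • q0 = q0 from
        ((stabilizer X q0).zpow_mem (show a⁻¹ * x ∈ stabilizer X q0 from hfix) i)]
    · rintro ⟨b, hb, rfl⟩
      exact ⟨b, mem_sup_left hb, rfl⟩
  have hstab : (stabilizer X q0).subgroupOf P ≠ ⊤ := by
    intro h
    obtain ⟨a, ha, hne⟩ := hne
    exact hne (subgroupOf_eq_top.1 h (mem_sup_left ha))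
  obtain ⟨M', hM', hle⟩ := (eq_top_or_exists_le_coatom ((stabilizer X q0).subgroupOf P)).resolve_left hstab
  haveI := hP.isNilpotent
  haveI hM'n : M'.Normal := Subgroup.NormalizerCondition.normal_of_coatom M' Group.normalizerCondition_of_isNilpotent hM'
  have hidx' : M'.index = 2 := coatom_index_two hP hM'
  set M := M'.map P.subtype with hM
  have hMP : M ≤ P := map_subtype_le M'
  have hidx : M.relIndex P = 2 := by
    rw [Subgroup.relIndex, hM, Subgroup.subgroupOf, Subgroup.comap_map_eq_self_of_injective P.subtype_injective, hidx']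
  have hst : ∀ p ∈ P, p • q0 = q0 → p ∈ M := fun p hp hs => ⟨⟨p, hp⟩, hle hs, rfl⟩
  have hmem : ∀ {a b : X}, a ∈ P → b ∈ P → (a * b ∈ M ↔ (a ∈ M ↔ b ∈ M)) := by
    intro a b ha hb
    exact Subgroup.mul_mem_iff_of_index_two (H := M.subgroupOf P) hidx (a := ⟨a, ha⟩) (b := ⟨b, hb⟩)
  obtain ⟨y, hy, hyM⟩ : ∃ y ∈ E, y ∉ M := by
    by_contra h
    push Not at h
    obtain ⟨p, hp, hpM⟩ : ∃ p ∈ P, p ∉ M := by
      by_contra h'
      push Not at h'
      rw [Subgroup.relIndex_eq_one.2 (show P ≤ M from h')] at hidx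
      omega
    have : p • q0 ∈ orb E q0 := horb ▸ mem_orb.2 ⟨p, hp, rfl⟩
    obtain ⟨b, hb, hbp⟩ := mem_orb.1 this
    refine hpM ?_
    have hs : b⁻¹ * p ∈ M := hst _ (P.mul_mem (P.inv_mem (mem_sup_left hb)) hp) (by rw [mul_smul, ← hbp, inv_smul_smul])
    have := M.mul_mem (h b hb) hs
    rwa [mul_inv_cancel_left] at this
  have hyP : y ∈ P := mem_sup_left hy
  have hidx0 : (M ⊓ E).relIndex E = 2 := by
    rw [Subgroup.inf_relIndex_right, Subgroup.relIndex, Subgroup.index_eq_two_iff]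
    refine ⟨⟨y, hy⟩, fun b => ?_⟩
    simp only [Subgroup.mem_subgroupOf, Subgroup.coe_mul]
    rw [hmem (mem_sup_left b.2) hyP]
    by_cases hb : (b : X) ∈ M <;> simp [hb, hyM, Xor']
  have hFz := F_z c hc hE M (M ⊓ E) inf_le_left inf_le_right hidx0 q0
  have hzM : z ∈ M := (z_mem hE (M ⊓ E) inf_le_right hidx0).1
  have hF0 : ∀ a, ∀ b ∈ M, F c (orb M q0) (a * b) = F c (orb M q0) a * F c (orb M q0) b :=
    fun a b hb => F_mul c hc a fun q => orb_inv hb q
  have hin : ∀ m ∈ M, F c (orb E q0) m ∈ sqTwo A := by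
    intro m hm
    have hconj : y⁻¹ * m * y ∈ M := by
      obtain ⟨m', hm', rfl⟩ := hm
      refine ⟨(⟨y, hyP⟩ : P)⁻¹ * m' * ⟨y, hyP⟩, ?_, rfl⟩
      simpa using hM'n.conj_mem m' hm' (⟨y, hyP⟩ : P)⁻¹
    have hy2 : ∏ q ∈ orb M q0, c m (y • q) = F c (orb M q0) (y⁻¹ * m * y) := by
      have h1 : ∀ q, c m (y • q) * c y q = c y ((y⁻¹ * m * y) • q) * c (y⁻¹ * m * y) q := by
        intro q
        rw [← hc, ← hc, show y * (y⁻¹ * m * y) = m * y by group]
      have h2 := Finset.prod_congr rfl (fun q (_ : q ∈ orb M q0) => h1 q)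
      rw [Finset.prod_mul_distrib, Finset.prod_mul_distrib, prod_smul (fun q => orb_inv hconj q) (c y),
        mul_comm (∏ q ∈ orb M q0, c y q)] at h2
      exact mul_right_cancel h2
    set d := m⁻¹ * (y⁻¹ * m * y) with hd
    have hdM : d ∈ M := M.mul_mem (M.inv_mem hm) hconj
    have hdE : d ∈ E := by
      have h1 : m⁻¹ * y⁻¹ * m ∈ E := by
        have := (mem_normalizer_iff''.1 (hPn (hMP hm)) y⁻¹).1 (E.inv_mem hy)
        exact this
      rw [hd, show m⁻¹ * (y⁻¹ * m * y) = (m⁻¹ * y⁻¹ * m) * y by group]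
      exact E.mul_mem h1 hy
    have hd2 : F c (orb M q0) d ^ 2 = 1 := by
      rw [sq, ← hF0 d d hdM]
      rcases hE.sq d hdE with h | h <;> rw [h]
      · have := hF0 1 1 M.one_mem
        rw [mul_one] at this
        exact mul_eq_left.1 this.symm
      · exact hFz
    unfold F
    rw [← horb, split hMP hidx hst hyP hyM (c m), hy2]
    show F c (orb M q0) m * F c (orb M q0) (y⁻¹ * m * y) ∈ sqTwo A
    rw [show y⁻¹ * m * y = m * d by rw [hd, mul_inv_cancel_left], hF0 m d hdM, ← mul_assoc, ← sq]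
    exact mul_mem_sup ⟨_, rfl⟩ hd2
  by_cases hxM : x ∈ M
  · exact hin x hxM
  · have hxy : x * y ∈ M := (hmem hxP hyP).2 (by simp [hxM, hyM])
    have hyi : ∀ q, y⁻¹ • q ∈ orb E q0 ↔ q ∈ orb E q0 := fun q => orb_inv (E.inv_mem hy) q
    rw [show x = x * y * y⁻¹ by group, F_mul c hc _ hyi, killE c hc hE hne (E.inv_mem hy), mul_one]
    exact hin _ hxy

include hc hE in
/-- An invariant set without `E`-fixed points contributes a square times an element of order two. -/
theorem F_mem_sqTwo {x : X} (hx : x ∈ normalizer (E : Set X)) (hx2 : ∃ k, x ^ 2 ^ k = 1) (S : Finset Ω)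
    (hSx : ∀ q, x • q ∈ S ↔ q ∈ S) (hSE : ∀ e ∈ E, ∀ q, e • q ∈ S ↔ q ∈ S)
    (hne : ∀ q ∈ S, ∃ e ∈ E, e • q ≠ q) : F c S x ∈ sqTwo A := by
  induction S using Finset.strongInduction with
  | H S ih =>
    by_cases h0 : S = ∅
    · rw [h0]; simp [F]
    obtain ⟨q0, hq0⟩ := Finset.nonempty_iff_ne_empty.2 h0
    have hxE : ∀ (j : ℕ) (q : Ω) (q' : Ω), q' ∈ orb E q ↔ x ^ j • q' ∈ orb E (x ^ j • q) := by
      intro j q q'
      have hxj : x ^ j ∈ normalizer (E : Set X) := pow_mem hx j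
      simp only [mem_orb]
      constructor
      · rintro ⟨e, he, rfl⟩
        refine ⟨x ^ j * e * (x ^ j)⁻¹, (mem_normalizer_iff.1 hxj e).1 he, ?_⟩
        rw [← mul_smul, ← mul_smul, inv_mul_cancel_right]
      · rintro ⟨e, he, h⟩
        refine ⟨(x ^ j)⁻¹ * e * x ^ j, (mem_normalizer_iff''.1 hxj e).1 he, ?_⟩
        rw [mul_smul, mul_smul, h, inv_smul_smul]
    have horbeq : ∀ {q q' : Ω}, q' ∈ orb E q → orb E q' = orb E q := by
      intro q q' h
      obtain ⟨e, he, rfl⟩ := mem_orb.1 h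
      ext w
      simp only [mem_orb]
      constructor
      · rintro ⟨a, ha, rfl⟩; exact ⟨a * e, E.mul_mem ha he, mul_smul _ _ _⟩
      · rintro ⟨a, ha, rfl⟩; exact ⟨a * e⁻¹, E.mul_mem ha (E.inv_mem he), by rw [mul_smul, inv_smul_smul]⟩
    have hself : ∀ q : Ω, q ∈ orb E q := fun q => mem_orb.2 ⟨1, E.one_mem, one_smul _ _⟩
    have hex : ∃ j, 0 < j ∧ x ^ j • q0 ∈ orb E q0 :=
      ⟨orderOf x, orderOf_pos x, by rw [pow_orderOf_eq_one, one_smul]; exact hself q0⟩
    obtain ⟨r, hr0, hrmem, hrmin⟩ : ∃ r, 0 < r ∧ x ^ r • q0 ∈ orb E q0 ∧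
        ∀ j < r, 0 < j → x ^ j • q0 ∉ orb E q0 :=
      ⟨Nat.find hex, (Nat.find_spec hex).1, (Nat.find_spec hex).2, fun j hj hj0 h => Nat.find_min hex hj ⟨hj0, h⟩⟩
    let O : Finset Ω := (Finset.range r).biUnion fun j => orb E (x ^ j • q0)
    have hpS : ∀ (j : ℕ) (q : Ω), x ^ j • q ∈ S ↔ q ∈ S := by
      intro j
      induction j with
      | zero => intro q; simp
      | succ j ihj => intro q; rw [pow_succ', mul_smul, hSx, ihj]
    have hOS : O ⊆ S := by
      intro q hq
      obtain ⟨j, -, hj⟩ := Finset.mem_biUnion.1 hq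
      obtain ⟨e, he, rfl⟩ := mem_orb.1 hj
      exact (hSE e he _).2 ((hpS j q0).2 hq0)
    have hd : ∀ i < r, ∀ j < r, i < j → Disjoint (orb E (x ^ i • q0)) (orb E (x ^ j • q0)) := by
      intro i hi j hj hij
      rw [Finset.disjoint_left]
      intro q hqi hqj
      have h1 : x ^ j • q0 ∈ orb E (x ^ i • q0) := by
        rw [← horbeq hqi, horbeq hqj]; exact hself _
      rw [show j = i + (j - i) by omega, pow_add, mul_smul, ← hxE] at h1
      exact hrmin (j - i) (by omega) (by omega) h1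
    have hdis : (Set.univ ∩ (Finset.range r : Set ℕ)).PairwiseDisjoint fun j => orb E (x ^ j • q0) := by
      intro i hi j hj hij
      simp only [Set.univ_inter, Finset.coe_range, Set.mem_Iio] at hi hj
      rcases lt_or_gt_of_ne hij with h | h
      · exact hd i hi j hj h
      · exact (hd j hj i hi h).symm
    have hOx : ∀ q, x • q ∈ O → q ∈ O → True := fun _ _ _ => trivial
    have hOinvE : ∀ e ∈ E, ∀ q, e • q ∈ O ↔ q ∈ O := fun e he q => by
      simp only [O, Finset.mem_biUnion, orb_inv he]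
    have hOmem : ∀ q, q ∈ O → x • q ∈ O := by
      intro q hq
      obtain ⟨j, hj, hjq⟩ := Finset.mem_biUnion.1 hq
      rw [Finset.mem_range] at hj
      have h1 : x • q ∈ orb E (x ^ (j + 1) • q0) := by
        rw [pow_succ', mul_smul]
        simpa using (hxE 1 (x ^ j • q0) q).1 hjq
      refine Finset.mem_biUnion.2 ?_
      by_cases hjr : j + 1 < r
      · exact ⟨j + 1, Finset.mem_range.2 hjr, h1⟩
      · refine ⟨0, Finset.mem_range.2 hr0, ?_⟩
        rw [show j + 1 = r by omega, horbeq hrmem] at h1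
        simpa using h1
    have hOinvx : ∀ q, x • q ∈ O ↔ q ∈ O := by
      intro q
      refine ⟨fun h => ?_, hOmem q⟩
      have hall : ∀ j, x ^ j • (x • q) ∈ O := by
        intro j
        induction j with
        | zero => simpa using h
        | succ j ihj => rw [pow_succ', mul_smul]; exact hOmem _ ihj
      have := hall (orderOf x - 1)
      rwa [← mul_smul, ← pow_succ, Nat.sub_add_cancel (orderOf_pos x), pow_orderOf_eq_one, one_smul] at this
    have hq0O : q0 ∈ O := Finset.mem_biUnion.2 ⟨0, Finset.mem_range.2 hr0, by rw [pow_zero, one_smul]; exact hself q0⟩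
    have hsplit : F c S x = F c O x * F c (S \ O) x := by
      unfold F; rw [mul_comm, Finset.prod_sdiff hOS]
    have hrest : F c (S \ O) x ∈ sqTwo A := by
      refine ih _ (Finset.sdiff_ssubset hOS ⟨q0, hq0O⟩) (fun q => ?_) (fun e he q => ?_) fun q hq => hne q (Finset.mem_sdiff.1 hq).1
      · simp only [Finset.mem_sdiff, hSx, hOinvx]
      · simp only [Finset.mem_sdiff, hSE e he, hOinvE e he]
    have hOF : F c O x = F c (orb E q0) (x ^ r) := by
      have hstep : ∀ n q, c (x ^ (n + 1)) q = ∏ j ∈ Finset.range (n + 1), c x (x ^ j • q) := by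
        intro n
        induction n with
        | zero => intro q; simp
        | succ n ihn =>
          intro q
          rw [pow_succ' x (n + 1), hc, ihn q, Finset.prod_range_succ _ (n + 1), mul_comm]
      unfold F
      rw [Finset.prod_biUnion (by simpa using hdis)]
      obtain ⟨n, rfl⟩ : ∃ n, r = n + 1 := ⟨r - 1, by omega⟩
      rw [Finset.prod_congr rfl fun q _ => hstep n q, Finset.prod_comm (s := orb E q0)]
      refine Finset.prod_congr rfl fun j hj => ?_
      refine (Finset.prod_equiv (MulAction.toPerm (x ^ j)) (fun q => hxE j q0 q) (fun q _ => rfl)).symm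
    rw [hsplit, hOF]
    obtain ⟨k, hk⟩ := hx2
    exact mul_mem (transitive_case c hc hE (pow_mem hx r)
      ⟨k, by rw [← pow_mul, mul_comm, pow_mul, hk, one_pow]⟩ (hne q0 hq0) hrmem) hrest

include hc hE in
/-- An element of `E` contributes nothing. -/
theorem F_eq_one {e : X} (he : e ∈ E) (S : Finset Ω) (hSE : ∀ a ∈ E, ∀ q, a • q ∈ S ↔ q ∈ S)
    (hne : ∀ q ∈ S, ∃ a ∈ E, a • q ≠ q) : F c S e = 1 := by
  induction S using Finset.strongInduction with
  | H S ih =>
    by_cases h0 : S = ∅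
    · rw [h0]; simp [F]
    obtain ⟨q0, hq0⟩ := Finset.nonempty_iff_ne_empty.2 h0
    have hOS : orb E q0 ⊆ S := fun q hq => by
      obtain ⟨a, ha, rfl⟩ := mem_orb.1 hq; exact (hSE a ha _).2 hq0
    have hq : q0 ∈ orb E q0 := mem_orb.2 ⟨1, E.one_mem, one_smul _ _⟩
    have h1 := ih _ (Finset.sdiff_ssubset hOS ⟨q0, hq⟩) (fun a ha q => by
      simp only [Finset.mem_sdiff, hSE a ha, orb_inv ha]) fun q hq => hne q (Finset.mem_sdiff.1 hq).1
    have h2 : F c S e = F c (orb E q0) e * F c (S \ orb E q0) e := by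
      unfold F; rw [mul_comm, Finset.prod_sdiff hOS]
    rw [h2, h1, killE c hc hE (hne q0 hq0) he, one_mul]

end Cfsg.Agent.InvChar.ExtraspecialTransfer
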