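import Mathlib
import Cfsg.Agent.InvChar.ExtraspecialTransfer

/-!
Transfer restricted to an extraspecial 2-subgroup whose maximal subgroups fix no point, exponent two.
-/

set_option linter.all false

namespace Cfsg.Agent.InvChar.ExtraspecialTransfer

open Subgroup MulAction
open scoped Classical

variable {X : Type*} [Group X] {Ω : Type*} [MulAction X Ω] {A : Type*} [CommGroup A] [Finite Ω]
variable (c : X → Ω → A) (hc : ∀ x y q, c (x * y) q = c x (y • q) * c y q)
variable [Finite X] {E : Subgroup X} {z : X} (hE : Good E z)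

include hc hE in
theorem transitive_two {x : X} (hx : x ∈ normalizer (E : Set X)) (hx2 : ∃ k, x ^ 2 ^ k = 1) {q0 : Ω}
    (hne : ∃ e ∈ E, e • q0 ≠ q0) (hxq : x • q0 ∈ orb E q0) (hA : ∀ a : A, a * a = 1)
    (h4 : ∀ M0 : Subgroup X, M0 ≤ E → M0.relIndex E = 2 → Good M0 z ∧ ∀ q ∈ orb E q0, ∃ e ∈ M0, e • q ≠ q) :
    F c (orb E q0) x = 1 := by
  haveI : Fact (Nat.Prime 2) := ⟨Nat.prime_two⟩
  set P := E ⊔ zpowers x with hPdef
  have hzx : zpowers x ≤ normalizer (E : Set X) := zpowers_le.2 hx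
  have hxP : x ∈ P := mem_sup_right (mem_zpowers x)
  have hPn : P ≤ normalizer (E : Set X) := sup_le le_normalizer hzx
  have hP : IsPGroup 2 P := by
    have hz : IsPGroup 2 (zpowers x) := by
      obtain ⟨k, hk⟩ := hx2
      obtain ⟨i, -, hi⟩ := (Nat.dvd_prime_pow Nat.prime_two).1 (orderOf_dvd_of_pow_eq_one hk)
      exact IsPGroup.of_card (n := i) (by rw [Nat.card_zpowers, hi])
    rw [hPdef, sup_comm]
    exact hz.to_sup_of_normal_right' (isPGroup hE) hzx
  have horb : orb P q0 = orb E q0 := by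
    obtain ⟨a, ha, hax⟩ := mem_orb.1 hxq
    have hfix : (a⁻¹ * x) • q0 = q0 := by rw [mul_smul, ← hax, inv_smul_smul]
    have hPle : P ≤ E ⊔ zpowers (a⁻¹ * x) := sup_le le_sup_left (zpowers_le.2 (by
      have := mul_mem_sup (T := zpowers (a⁻¹ * x)) ha (mem_zpowers (a⁻¹ * x))
      rwa [mul_inv_cancel_left] at this))
    have hn : zpowers (a⁻¹ * x) ≤ normalizer (E : Set X) :=
      zpowers_le.2 (mul_mem (inv_mem (le_normalizer ha)) hx)
    ext q
    simp only [mem_orb]
    constructor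
    · rintro ⟨p, hp, rfl⟩
      have hp' := hPle hp
      rw [← SetLike.mem_coe, coe_mul_of_right_le_normalizer_left E _ hn] at hp'
      obtain ⟨b, hb, d, hd, rfl⟩ := hp'
      refine ⟨b, hb, ?_⟩
      obtain ⟨i, rfl⟩ := hd
      show b • q0 = (b * (a⁻¹ * x) ^ i) • q0
      rw [mul_smul, show (a⁻¹ * x) ^ i • q0 = q0 from
        ((stabilizer X q0).zpow_mem (show a⁻¹ * x ∈ stabilizer X q0 from hfix) i)]
    · rintro ⟨b, hb, rfl⟩
      exact ⟨b, mem_sup_left hb, rfl⟩
  have hstab : (stabilizer X q0).subgroupOf P ≠ ⊤ := by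
    intro h
    obtain ⟨a, ha, hne⟩ := hne
    exact hne (subgroupOf_eq_top.1 h (mem_sup_left ha))
  obtain ⟨M', hM', hle⟩ := (eq_top_or_exists_le_coatom ((stabilizer X q0).subgroupOf P)).resolve_left hstab
  haveI := hP.isNilpotent
  haveI hM'n : M'.Normal := Subgroup.NormalizerCondition.normal_of_coatom M' Group.normalizerCondition_of_isNilpotent hM'
  have hidx' : M'.index = 2 := coatom_index_two hP hM'
  set M := M'.map P.subtype with hM
  have hMP : M ≤ P := map_subtype_le M'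
  have hidx : M.relIndex P = 2 := by
    rw [Subgroup.relIndex, hM, Subgroup.subgroupOf, Subgroup.comap_map_eq_self_of_injective P.subtype_injective, hidx']
  have hst : ∀ p ∈ P, p • q0 = q0 → p ∈ M := fun p hp hs => ⟨⟨p, hp⟩, hle hs, rfl⟩
  have hmem : ∀ {a b : X}, a ∈ P → b ∈ P → (a * b ∈ M ↔ (a ∈ M ↔ b ∈ M)) := by
    intro a b ha hb
    exact Subgroup.mul_mem_iff_of_index_two (H := M.subgroupOf P) hidx (a := ⟨a, ha⟩) (b := ⟨b, hb⟩)
  obtain ⟨y, hy, hyM⟩ : ∃ y ∈ E, y ∉ M := by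
    by_contra h
    push Not at h
    obtain ⟨p, hp, hpM⟩ : ∃ p ∈ P, p ∉ M := by
      by_contra h'
      push Not at h'
      rw [Subgroup.relIndex_eq_one.2 (show P ≤ M from h')] at hidx
      omega
    have : p • q0 ∈ orb E q0 := horb ▸ mem_orb.2 ⟨p, hp, rfl⟩
    obtain ⟨b, hb, hbp⟩ := mem_orb.1 this
    refine hpM ?_
    have hs : b⁻¹ * p ∈ M := hst _ (P.mul_mem (P.inv_mem (mem_sup_left hb)) hp) (by rw [mul_smul, ← hbp, inv_smul_smul])
    have := M.mul_mem (h b hb) hs
    rwa [mul_inv_cancel_left] at this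
  have hyP : y ∈ P := mem_sup_left hy
  have hidx0 : (M ⊓ E).relIndex E = 2 := by
    rw [Subgroup.inf_relIndex_right, Subgroup.relIndex, Subgroup.index_eq_two_iff]
    refine ⟨⟨y, hy⟩, fun b => ?_⟩
    simp only [Subgroup.mem_subgroupOf, Subgroup.coe_mul]
    rw [hmem (mem_sup_left b.2) hyP]
    by_cases hb : (b : X) ∈ M <;> simp [hb, hyM, Xor']
  have hFz := F_z c hc hE M (M ⊓ E) inf_le_left inf_le_right hidx0 q0
  have hzM : z ∈ M := (z_mem hE (M ⊓ E) inf_le_right hidx0).1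
  have hF0 : ∀ a, ∀ b ∈ M, F c (orb M q0) (a * b) = F c (orb M q0) a * F c (orb M q0) b :=
    fun a b hb => F_mul c hc a fun q => orb_inv hb q
  have hin : ∀ m ∈ M, F c (orb E q0) m = 1 := by
    intro m hm
    have hconj : y⁻¹ * m * y ∈ M := by
      obtain ⟨m', hm', rfl⟩ := hm
      refine ⟨(⟨y, hyP⟩ : P)⁻¹ * m' * ⟨y, hyP⟩, ?_, rfl⟩
      simpa using hM'n.conj_mem m' hm' (⟨y, hyP⟩ : P)⁻¹
    have hy2 : ∏ q ∈ orb M q0, c m (y • q) = F c (orb M q0) (y⁻¹ * m * y) := by
      have h1 : ∀ q, c m (y • q) * c y q = c y ((y⁻¹ * m * y) • q) * c (y⁻¹ * m * y) q := by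
        intro q
        rw [← hc, ← hc, show y * (y⁻¹ * m * y) = m * y by group]
      have h2 := Finset.prod_congr rfl (fun q (_ : q ∈ orb M q0) => h1 q)
      rw [Finset.prod_mul_distrib, Finset.prod_mul_distrib, prod_smul (fun q => orb_inv hconj q) (c y),
        mul_comm (∏ q ∈ orb M q0, c y q)] at h2
      exact mul_right_cancel h2
    set d := m⁻¹ * (y⁻¹ * m * y) with hd
    have hdM : d ∈ M := M.mul_mem (M.inv_mem hm) hconj
    have hdE : d ∈ E := by
      have h1 : m⁻¹ * y⁻¹ * m ∈ E := by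
        have := (mem_normalizer_iff''.1 (hPn (hMP hm)) y⁻¹).1 (E.inv_mem hy)
        exact this
      rw [hd, show m⁻¹ * (y⁻¹ * m * y) = (m⁻¹ * y⁻¹ * m) * y by group]
      exact E.mul_mem h1 hy
    have hd1 : F c (orb M q0) d = 1 := by
      obtain ⟨hg0, hne0⟩ := h4 (M ⊓ E) inf_le_right hidx0
      refine F_eq_one c hc hg0 (mem_inf.2 ⟨hdM, hdE⟩) _ (fun a ha => orb_inv ha.1) fun q hq => hne0 q ?_
      obtain ⟨p, hp, rfl⟩ := mem_orb.1 hq
      exact horb ▸ mem_orb.2 ⟨p, hMP hp, rfl⟩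
    unfold F
    rw [← horb, split hMP hidx hst hyP hyM (c m), hy2]
    show F c (orb M q0) m * F c (orb M q0) (y⁻¹ * m * y) = 1
    rw [show y⁻¹ * m * y = m * d by rw [hd, mul_inv_cancel_left], hF0 m d hdM, hd1, mul_one]
    exact hA _
  by_cases hxM : x ∈ M
  · exact hin x hxM
  · have hxy : x * y ∈ M := (hmem hxP hyP).2 (by simp [hxM, hyM])
    have hyi : ∀ q, y⁻¹ • q ∈ orb E q0 ↔ q ∈ orb E q0 := fun q => orb_inv (E.inv_mem hy) q
    rw [show x = x * y * y⁻¹ by group, F_mul c hc _ hyi, killE c hc hE hne (E.inv_mem hy), mul_one]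
    exact hin _ hxy

include hc hE in
/-- An invariant set on which no maximal subgroup of `E` fixes a point contributes nothing in exponent two. -/
theorem F_eq_one_two {x : X} (hx : x ∈ normalizer (E : Set X)) (hx2 : ∃ k, x ^ 2 ^ k = 1) (S : Finset Ω)
    (hSx : ∀ q, x • q ∈ S ↔ q ∈ S) (hSE : ∀ e ∈ E, ∀ q, e • q ∈ S ↔ q ∈ S)
    (hne : ∀ q ∈ S, ∃ e ∈ E, e • q ≠ q) (hA : ∀ a : A, a * a = 1)
    (hg : ∀ M0 : Subgroup X, M0 ≤ E → M0.relIndex E = 2 → Good M0 z)
    (h4 : ∀ M0 : Subgroup X, M0 ≤ E → M0.relIndex E = 2 → ∀ q ∈ S, ∃ e ∈ M0, e • q ≠ q) :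
    F c S x = 1 := by
  induction S using Finset.strongInduction with
  | H S ih =>
    by_cases h0 : S = ∅
    · rw [h0]; simp [F]
    obtain ⟨q0, hq0⟩ := Finset.nonempty_iff_ne_empty.2 h0
    have hxE : ∀ (j : ℕ) (q : Ω) (q' : Ω), q' ∈ orb E q ↔ x ^ j • q' ∈ orb E (x ^ j • q) := by
      intro j q q'
      have hxj : x ^ j ∈ normalizer (E : Set X) := pow_mem hx j
      simp only [mem_orb]
      constructor
      · rintro ⟨e, he, rfl⟩
        refine ⟨x ^ j * e * (x ^ j)⁻¹, (mem_normalizer_iff.1 hxj e).1 he, ?_⟩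
        rw [← mul_smul, ← mul_smul, inv_mul_cancel_right]
      · rintro ⟨e, he, h⟩
        refine ⟨(x ^ j)⁻¹ * e * x ^ j, (mem_normalizer_iff''.1 hxj e).1 he, ?_⟩
        rw [mul_smul, mul_smul, h, inv_smul_smul]
    have horbeq : ∀ {q q' : Ω}, q' ∈ orb E q → orb E q' = orb E q := by
      intro q q' h
      obtain ⟨e, he, rfl⟩ := mem_orb.1 h
      ext w
      simp only [mem_orb]
      constructor
      · rintro ⟨a, ha, rfl⟩; exact ⟨a * e, E.mul_mem ha he, mul_smul _ _ _⟩
      · rintro ⟨a, ha, rfl⟩; exact ⟨a * e⁻¹, E.mul_mem ha (E.inv_mem he), by rw [mul_smul, inv_smul_smul]⟩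
    have hself : ∀ q : Ω, q ∈ orb E q := fun q => mem_orb.2 ⟨1, E.one_mem, one_smul _ _⟩
    have hex : ∃ j, 0 < j ∧ x ^ j • q0 ∈ orb E q0 :=
      ⟨orderOf x, orderOf_pos x, by rw [pow_orderOf_eq_one, one_smul]; exact hself q0⟩
    obtain ⟨r, hr0, hrmem, hrmin⟩ : ∃ r, 0 < r ∧ x ^ r • q0 ∈ orb E q0 ∧
        ∀ j < r, 0 < j → x ^ j • q0 ∉ orb E q0 :=
      ⟨Nat.find hex, (Nat.find_spec hex).1, (Nat.find_spec hex).2, fun j hj hj0 h => Nat.find_min hex hj ⟨hj0, h⟩⟩
    let O : Finset Ω := (Finset.range r).biUnion fun j => orb E (x ^ j • q0)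
    have hpS : ∀ (j : ℕ) (q : Ω), x ^ j • q ∈ S ↔ q ∈ S := by
      intro j
      induction j with
      | zero => intro q; simp
      | succ j ihj => intro q; rw [pow_succ', mul_smul, hSx, ihj]
    have hOS : O ⊆ S := by
      intro q hq
      obtain ⟨j, -, hj⟩ := Finset.mem_biUnion.1 hq
      obtain ⟨e, he, rfl⟩ := mem_orb.1 hj
      exact (hSE e he _).2 ((hpS j q0).2 hq0)
    have hd : ∀ i < r, ∀ j < r, i < j → Disjoint (orb E (x ^ i • q0)) (orb E (x ^ j • q0)) := by
      intro i hi j hj hij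
      rw [Finset.disjoint_left]
      intro q hqi hqj
      have h1 : x ^ j • q0 ∈ orb E (x ^ i • q0) := by
        rw [← horbeq hqi, horbeq hqj]; exact hself _
      rw [show j = i + (j - i) by omega, pow_add, mul_smul, ← hxE] at h1
      exact hrmin (j - i) (by omega) (by omega) h1
    have hdis : (Set.univ ∩ (Finset.range r : Set ℕ)).PairwiseDisjoint fun j => orb E (x ^ j • q0) := by
      intro i hi j hj hij
      simp only [Set.univ_inter, Finset.coe_range, Set.mem_Iio] at hi hj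
      rcases lt_or_gt_of_ne hij with h | h
      · exact hd i hi j hj h
      · exact (hd j hj i hi h).symm
    have hOx : ∀ q, x • q ∈ O → q ∈ O → True := fun _ _ _ => trivial
    have hOinvE : ∀ e ∈ E, ∀ q, e • q ∈ O ↔ q ∈ O := fun e he q => by
      simp only [O, Finset.mem_biUnion, orb_inv he]
    have hOmem : ∀ q, q ∈ O → x • q ∈ O := by
      intro q hq
      obtain ⟨j, hj, hjq⟩ := Finset.mem_biUnion.1 hq
      rw [Finset.mem_range] at hj
      have h1 : x • q ∈ orb E (x ^ (j + 1) • q0) := by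
        rw [pow_succ', mul_smul]
        simpa using (hxE 1 (x ^ j • q0) q).1 hjq
      refine Finset.mem_biUnion.2 ?_
      by_cases hjr : j + 1 < r
      · exact ⟨j + 1, Finset.mem_range.2 hjr, h1⟩
      · refine ⟨0, Finset.mem_range.2 hr0, ?_⟩
        rw [show j + 1 = r by omega, horbeq hrmem] at h1
        simpa using h1
    have hOinvx : ∀ q, x • q ∈ O ↔ q ∈ O := by
      intro q
      refine ⟨fun h => ?_, hOmem q⟩
      have hall : ∀ j, x ^ j • (x • q) ∈ O := by
        intro j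
        induction j with
        | zero => simpa using h
        | succ j ihj => rw [pow_succ', mul_smul]; exact hOmem _ ihj
      have := hall (orderOf x - 1)
      rwa [← mul_smul, ← pow_succ, Nat.sub_add_cancel (orderOf_pos x), pow_orderOf_eq_one, one_smul] at this
    have hq0O : q0 ∈ O := Finset.mem_biUnion.2 ⟨0, Finset.mem_range.2 hr0, by rw [pow_zero, one_smul]; exact hself q0⟩
    have hsplit : F c S x = F c O x * F c (S \ O) x := by
      unfold F; rw [mul_comm, Finset.prod_sdiff hOS]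
    have hrest : F c (S \ O) x = 1 := by
      refine ih _ (Finset.sdiff_ssubset hOS ⟨q0, hq0O⟩) (fun q => ?_) (fun e he q => ?_) (fun q hq => hne q (Finset.mem_sdiff.1 hq).1)
        (fun M0 h1 h2 q hq => h4 M0 h1 h2 q (Finset.mem_sdiff.1 hq).1)
      · simp only [Finset.mem_sdiff, hSx, hOinvx]
      · simp only [Finset.mem_sdiff, hSE e he, hOinvE e he]
    have hOF : F c O x = F c (orb E q0) (x ^ r) := by
      have hstep : ∀ n q, c (x ^ (n + 1)) q = ∏ j ∈ Finset.range (n + 1), c x (x ^ j • q) := by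
        intro n
        induction n with
        | zero => intro q; simp
        | succ n ihn =>
          intro q
          rw [pow_succ' x (n + 1), hc, ihn q, Finset.prod_range_succ _ (n + 1), mul_comm]
      unfold F
      rw [Finset.prod_biUnion (by simpa using hdis)]
      obtain ⟨n, rfl⟩ : ∃ n, r = n + 1 := ⟨r - 1, by omega⟩
      rw [Finset.prod_congr rfl fun q _ => hstep n q, Finset.prod_comm (s := orb E q0)]
      refine Finset.prod_congr rfl fun j hj => ?_
      refine (Finset.prod_equiv (MulAction.toPerm (x ^ j)) (fun q => hxE j q0 q) (fun q _ => rfl)).symm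
    rw [hsplit, hOF]
    obtain ⟨k, hk⟩ := hx2
    rw [transitive_two c hc hE (pow_mem hx r)
      ⟨k, by rw [← pow_mul, mul_comm, pow_mul, hk, one_pow]⟩ (hne q0 hq0) hrmem hA
      (fun M0 h1 h2 => ⟨hg M0 h1 h2, fun q hq => h4 M0 h1 h2 q (by
        obtain ⟨a, ha, rfl⟩ := mem_orb.1 hq; exact (hSE a ha _).2 hq0)⟩), hrest, mul_one]

end Cfsg.Agent.InvChar.ExtraspecialTransfer
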