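import Mathlib
import Cfsg.Agent.InvChar.ExtraspecialTransfer
import Cfsg.Agent.Lib.Cores.Basic

/-!
Transfer from the centralizer of an involution with large extraspecial 2-core.
-/

set_option linter.all false

namespace Cfsg.Agent.InvChar.LargeExtraspecialTransfer

open Subgroup MulAction ExtraspecialTransfer
open scoped Classical

variable {G : Type*} [Group G] [Finite G]

theorem good_of_extraspecial (E : Subgroup G) (hext : Cfsg.IsExtraspecial 2 E) {z : G} (hz : z ∈ E) (hz1 : z ≠ 1)
    (hzc : ∀ e ∈ E, e * z = z * e) (h8 : 8 < Nat.card E) : Good E z := by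
  have hzC : (⟨z, hz⟩ : E) ∈ Subgroup.center E := mem_center_iff.2 fun q => Subtype.ext (hzc q q.2)
  obtain ⟨hall, hzz, hcomm, hsq⟩ := Extraspecial.facts hext hzC fun e => hz1 (congrArg Subtype.val e)
  have hc : ∀ a ∈ E, ∀ b ∈ E, a * b = b * a ∨ a * b = z * (b * a) := fun a ha b hb => by
    rcases hcomm ⟨a, ha⟩ ⟨b, hb⟩ with h | h
    · exact Or.inl (congrArg Subtype.val h)
    · exact Or.inr (congrArg Subtype.val h)
  refine ⟨fun e he => ?_, hc, fun M hME hidx => ?_⟩
  · rcases hall _ (hsq ⟨e, he⟩) with h | h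
    · exact Or.inl (congrArg Subtype.val h)
    · exact Or.inr (congrArg Subtype.val h)
  by_contra hab
  push Not at hab
  have hmem : ∀ {a b : G}, a ∈ E → b ∈ E → (a * b ∈ M ↔ (a ∈ M ↔ b ∈ M)) := by
    intro a b ha hb
    exact Subgroup.mul_mem_iff_of_index_two (H := M.subgroupOf E) hidx (a := ⟨a, ha⟩) (b := ⟨b, hb⟩)
  obtain ⟨y, hy, hyM⟩ : ∃ y ∈ E, y ∉ M := by
    by_contra h
    push Not at h
    rw [Subgroup.relIndex_eq_one.2 (show E ≤ M from h)] at hidx
    omega
  have hker : ∀ m ∈ M, m * y = y * m → m = 1 ∨ m = z := by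
    intro m hm hmy
    have hcen : (⟨m, hME hm⟩ : E) ∈ Subgroup.center E := mem_center_iff.2 fun q => Subtype.ext (by
      show (q : G) * m = m * q
      by_cases hq : (q : G) ∈ M
      · exact hab q hq m hm
      · have h1 : (q : G) * y⁻¹ ∈ M := (hmem q.2 (E.inv_mem hy)).2 (by simp [hq, hyM])
        have h2 : Commute ((q : G) * y⁻¹ * y) m :=
          (show Commute ((q : G) * y⁻¹) m from hab _ h1 m hm).mul_left (show Commute y m from hmy.symm)
        rw [inv_mul_cancel_right] at h2
        exact h2.eq)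
    rcases hall _ hcen with h | h
    · exact Or.inl (congrArg Subtype.val h)
    · exact Or.inr (congrArg Subtype.val h)
  have hM4 : Nat.card M ≤ 4 := by
    by_cases hall' : ∀ m ∈ M, m * y = y * m
    · refine le_trans (Nat.card_le_card_of_injective (fun m : M => (⟨(m : G), by
        rcases hker m m.2 (hall' m m.2) with h | h <;> simp [h]⟩ : ({1, z} : Finset G)))
        (fun a b h => Subtype.ext (congrArg Subtype.val h :))) ?_
      rw [Nat.card_eq_finsetCard]
      exact Finset.card_le_two.trans (by norm_num)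
    · push Not at hall'
      obtain ⟨a, ha, hay⟩ := hall'
      refine le_trans (Nat.card_le_card_of_injective (fun m : M => (⟨(m : G), by
        by_cases hm : (m : G) * y = y * m
        · rcases hker m m.2 hm with h | h <;> simp [h]
        · have h1 : a⁻¹ * (m : G) * y = y * (a⁻¹ * m) := by
            have e1 := (hc a (hME ha) y hy).resolve_left hay
            have e2 := (hc m (hME m.2) y hy).resolve_left hm
            have hay' : a⁻¹ * y = z * (y * a⁻¹) := by
              rw [eq_comm, eq_inv_mul_iff_mul_eq, ← mul_assoc, hzc a (hME ha),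
                show z * a * (y * a⁻¹) = z * (a * y) * a⁻¹ by group, e1]
              have hzz' : z * z = 1 := congrArg Subtype.val hzz
              rw [show z * (z * (y * a)) * a⁻¹ = (z * z) * y by group, hzz', one_mul]
            rw [mul_assoc, e2, ← mul_assoc, hzc a⁻¹ (E.inv_mem (hME ha)), mul_assoc, ← mul_assoc a⁻¹ y, hay']
            have hzz' : z * z = 1 := congrArg Subtype.val hzz
            rw [show z * (z * (y * a⁻¹) * m) = (z * z) * (y * (a⁻¹ * m)) by group, hzz', one_mul]
          rcases hker _ (M.mul_mem (M.inv_mem ha) m.2) h1 with h | h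
          · simp [inv_mul_eq_one.1 h]
          · simp [inv_mul_eq_iff_eq_mul.1 h]⟩ : ({1, z, a, a * z} : Finset G)))
        (fun b b' h => Subtype.ext (congrArg Subtype.val h :))) ?_
      rw [Nat.card_eq_finsetCard]
      exact Finset.card_le_four
  have hcard := Subgroup.card_mul_index (M.subgroupOf E)
  rw [Nat.card_congr (Subgroup.subgroupOfEquivOfLe hME).toEquiv, ← Subgroup.relIndex, hidx] at hcard
  omega

variable {A : Type*} [CommGroup A]

/-- The transfer consequences for a character of `C_G(z)`. -/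
theorem transfer_facts (hres : Cfsg.pResidual 2 G = ⊤) {z : G} {E : Subgroup G}
    (hEn : centralizer ({z} : Set G) ≤ normalizer (E : Set G)) (hEle : E ≤ centralizer ({z} : Set G))
    (hgood : Good E z) (hzE : z ∈ E) (hz1 : z ≠ 1) (hcent : centralizer (E : Set G) ≤ E)
    (hcenter : ∀ c ∈ E, (∀ e ∈ E, e * c = c * e) → c = 1 ∨ c = z)
    (χ : centralizer ({z} : Set G) →* A) {k : ℕ} (hA : ∀ a : A, a ^ 2 ^ k = 1) :
    (∀ e : centralizer ({z} : Set G), (e : G) ∈ E → χ e = 1) ∧
      ∀ x : centralizer ({z} : Set G), (∃ i, x ^ 2 ^ i = 1) → ∃ b, χ x ^ 2 = b ^ 4 := by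
  revert χ
  set H := centralizer ({z} : Set G) with hH
  intro χ
  letI := H.fintypeQuotientOfFiniteIndex
  have hmem : ∀ (g : G) (q : G ⧸ H), (g • q).out⁻¹ * g * q.out ∈ H := by
    intro g q
    have h1 : ((g * q.out : G) : G ⧸ H) = ((g • q).out : G) := by
      rw [QuotientGroup.out_eq', ← smul_eq_mul]
      exact Quotient.coe_smul_out (H := H) g q
    have := QuotientGroup.eq.1 h1.symm
    rwa [← mul_assoc] at this
  let c : G → G ⧸ H → A := fun g q => χ ⟨_, hmem g q⟩
  have hc : ∀ x y q, c (x * y) q = c x (y • q) * c y q := by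
    intro x y q
    show χ _ = χ _ * χ _
    rw [← map_mul]
    congr 1
    refine Subtype.ext ?_
    show ((x * y) • q).out⁻¹ * (x * y) * q.out = (x • (y • q)).out⁻¹ * x * (y • q).out * ((y • q).out⁻¹ * y * q.out)
    rw [mul_smul]; group
  have htriv : ∀ g, MonoidHom.transfer χ g = 1 := by
    intro g
    have : g ∈ Cfsg.pResidual 2 G := hres ▸ mem_top g
    induction this using Subgroup.closure_induction with
    | mem a ha =>
      have h1 : orderOf (MonoidHom.transfer χ a) ∣ orderOf a := orderOf_map_dvd _ a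
      have h2 : orderOf (MonoidHom.transfer χ a) ∣ 2 ^ k := orderOf_dvd_of_pow_eq_one (hA _)
      exact orderOf_eq_one_iff.1 (Nat.eq_one_of_dvd_coprimes (Nat.Coprime.pow_right k ha) h1 h2)
    | one => exact map_one _
    | mul a b _ _ iha ihb => rw [map_mul, iha, ihb, one_mul]
    | inv a _ iha => rw [map_inv, iha, inv_one]
  have htr : ∀ g, ∏ q : G ⧸ H, c g q = 1 := by
    intro g
    let T : H.LeftTransversal :=
      ⟨Set.range fun q : G ⧸ H => q.out, Subgroup.isComplement_range_left fun q => QuotientGroup.out_eq' q⟩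
    have hT : ∀ q, ((T.2.leftQuotientEquiv q : T.1) : G) = q.out := fun q =>
      Subgroup.IsComplement.leftQuotientEquiv_apply (fun q => QuotientGroup.out_eq' q) q
    rw [← htriv g, MonoidHom.transfer_def χ T g]
    unfold Subgroup.leftTransversals.diff
    refine Fintype.prod_equiv (MulAction.toPerm g) _ _ fun q => ?_
    show χ _ = χ _
    congr 1
    refine Subtype.ext ?_
    show (g • q).out⁻¹ * g * q.out = _ * _
    rw [hT, MulAction.toPerm_apply, Subgroup.smul_apply_eq_smul_apply_inv_smul, inv_smul_smul, hT, smul_eq_mul, mul_assoc]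
  set q0 : G ⧸ H := ((1 : G) : G ⧸ H) with hq0
  have hfix : ∀ h ∈ H, h • q0 = q0 := by
    intro h hh
    rw [hq0]
    show ((h * 1 : G) : G ⧸ H) = _
    rw [mul_one]
    exact QuotientGroup.eq.2 (by simpa using H.inv_mem hh)
  have hout : q0.out ∈ H := by
    have h1 := QuotientGroup.eq.1 (QuotientGroup.out_eq' q0)
    rw [mul_one] at h1
    simpa using H.inv_mem h1
  have hcq0 : ∀ h : H, c h q0 = χ h := by
    intro h
    show χ _ = χ h
    rw [show (⟨_, hmem (h : G) q0⟩ : H) = (⟨q0.out, hout⟩ : H)⁻¹ * h * ⟨q0.out, hout⟩ from Subtype.ext (by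
      show ((h : G) • q0).out⁻¹ * h * q0.out = _
      rw [hfix _ h.2]; rfl), map_mul, map_mul, map_inv, mul_comm, ← mul_assoc, mul_inv_cancel, one_mul]
  let S : Finset (G ⧸ H) := Finset.univ.erase q0
  have hS : ∀ h ∈ H, ∀ q, h • q ∈ S ↔ q ∈ S := by
    intro h hh q
    simp only [S, Finset.mem_erase, Finset.mem_univ, and_true, ne_eq]
    refine not_congr ⟨fun e => ?_, fun e => by rw [e, hfix h hh]⟩
    exact smul_left_cancel h (e.trans (hfix h hh).symm)
  have hne : ∀ q ∈ S, ∃ e ∈ E, e • q ≠ q := by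
    intro q hq
    by_contra hno
    push Not at hno
    obtain ⟨g, rfl⟩ := QuotientGroup.mk_surjective q
    have hg : ∀ e ∈ E, e * (g * z * g⁻¹) = g * z * g⁻¹ * e := by
      intro e he
      have h1 : ((e * g : G) : G ⧸ H) = (g : G ⧸ H) := hno e he
      have h2 : g⁻¹ * e⁻¹ * g * 1 ∈ H := by
        have := QuotientGroup.eq.1 h1
        rwa [mul_inv_rev, ← mul_one (g⁻¹ * e⁻¹ * g)] at this
      rw [mul_one] at h2
      have h3 := mem_centralizer_singleton_iff.1 (H.inv_mem h2)
      calc e * (g * z * g⁻¹) = g * ((g⁻¹ * e⁻¹ * g)⁻¹ * z) * g⁻¹ := by group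
        _ = _ := by rw [h3]; group
    have hc' : g * z * g⁻¹ ∈ E := hcent (mem_centralizer_iff.2 fun e he => hg e he)
    rcases hcenter _ hc' hg with h | h
    · exact hz1 (conj_eq_one_iff.1 h)
    · refine (Finset.mem_erase.1 hq).1 (QuotientGroup.eq.2 ?_)
      rw [mul_one]
      exact H.inv_mem (mem_centralizer_singleton_iff.2 (mul_inv_eq_iff_eq_mul.1 h))
  have hsum : ∀ h : H, χ h * F c S h = 1 := by
    intro h
    rw [← hcq0 h]
    have := htr (h : G)
    rwa [← Finset.mul_prod_erase _ _ (Finset.mem_univ q0)] at this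
  refine ⟨fun e he => ?_, fun x hx => ?_⟩
  · have h1 := hsum e
    rwa [F_eq_one c hc hgood he S (fun a ha => hS a (hEle ha)) hne, mul_one] at h1
  · obtain ⟨i, hi⟩ := hx
    have h1 := F_mem_sqTwo c hc hgood (hEn x.2) ⟨i, by rw [← SubmonoidClass.coe_pow, hi]; rfl⟩ S (hS x x.2)
      (fun a ha => hS a (hEle ha)) hne
    obtain ⟨_, ⟨b, rfl⟩, d, hd, hbd⟩ := mem_sup.1 h1
    refine ⟨b⁻¹, ?_⟩
    have h2 : χ x = (F c S x)⁻¹ := eq_inv_of_mul_eq_one_left (hsum x)
    rw [h2, ← hbd, inv_pow, mul_pow, show d ^ 2 = 1 from hd, mul_one, powMonoidHom_apply, ← pow_mul, inv_pow]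

end Cfsg.Agent.InvChar.LargeExtraspecialTransfer
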