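import Mathlib
import Cfsg.Agent.InvChar.LargeExtraspecialTransfer
import Cfsg.Agent.InvChar.ExtraspecialTransferTwo

/-!
Transfer from the centralizer of an involution with large extraspecial 2-core whose conjugates avoid the core.
-/

set_option linter.all false

namespace Cfsg.Agent.InvChar.LargeExtraspecialTransfer

open Subgroup MulAction ExtraspecialTransfer
open scoped Classical

variable {G : Type*} [Group G] [Finite G] {A : Type*} [CommGroup A]

/-- The transfer consequences for a character of `C_G(z)`. -/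
theorem two_elements (hres : Cfsg.pResidual 2 G = ⊤) {z : G} {E : Subgroup G}
    (hEn : centralizer ({z} : Set G) ≤ normalizer (E : Set G)) (hEle : E ≤ centralizer ({z} : Set G))
    (hgood : Good E z) (hzE : z ∈ E) (hz1 : z ≠ 1) (hcent : centralizer (E : Set G) ≤ E)
    (hcenter : ∀ c ∈ E, (∀ e ∈ E, e * c = c * e) → c = 1 ∨ c = z)
    (χ : centralizer ({z} : Set G) →* A) (hA2 : ∀ a : A, a * a = 1) (hA : ∀ a : A, a ^ 2 ^ 1 = 1)
    (hsub : ∀ M0 : Subgroup G, M0 ≤ E → M0.relIndex E = 2 → Good M0 z)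
    (hfixE : ∀ g : G, g * z * g⁻¹ ≠ z → ∀ M0 : Subgroup G, M0 ≤ E → M0.relIndex E = 2 →
      ∃ e ∈ M0, e * (g * z * g⁻¹) ≠ g * z * g⁻¹ * e) :
    ∀ x : centralizer ({z} : Set G), (∃ i, x ^ 2 ^ i = 1) → χ x = 1 := by
  revert χ
  set H := centralizer ({z} : Set G) with hH
  intro χ
  letI := H.fintypeQuotientOfFiniteIndex
  have hmem : ∀ (g : G) (q : G ⧸ H), (g • q).out⁻¹ * g * q.out ∈ H := by
    intro g q
    have h1 : ((g * q.out : G) : G ⧸ H) = ((g • q).out : G) := by
      rw [QuotientGroup.out_eq', ← smul_eq_mul]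
      exact Quotient.coe_smul_out (H := H) g q
    have := QuotientGroup.eq.1 h1.symm
    rwa [← mul_assoc] at this
  let c : G → G ⧸ H → A := fun g q => χ ⟨_, hmem g q⟩
  have hc : ∀ x y q, c (x * y) q = c x (y • q) * c y q := by
    intro x y q
    show χ _ = χ _ * χ _
    rw [← map_mul]
    congr 1
    refine Subtype.ext ?_
    show ((x * y) • q).out⁻¹ * (x * y) * q.out = (x • (y • q)).out⁻¹ * x * (y • q).out * ((y • q).out⁻¹ * y * q.out)
    rw [mul_smul]; group
  have htriv : ∀ g, MonoidHom.transfer χ g = 1 := by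
    intro g
    have : g ∈ Cfsg.pResidual 2 G := hres ▸ mem_top g
    induction this using Subgroup.closure_induction with
    | mem a ha =>
      have h1 : orderOf (MonoidHom.transfer χ a) ∣ orderOf a := orderOf_map_dvd _ a
      have h2 : orderOf (MonoidHom.transfer χ a) ∣ 2 ^ 1 := orderOf_dvd_of_pow_eq_one (hA _)
      exact orderOf_eq_one_iff.1 (Nat.eq_one_of_dvd_coprimes (Nat.Coprime.pow_right 1 ha) h1 h2)
    | one => exact map_one _
    | mul a b _ _ iha ihb => rw [map_mul, iha, ihb, one_mul]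
    | inv a _ iha => rw [map_inv, iha, inv_one]
  have htr : ∀ g, ∏ q : G ⧸ H, c g q = 1 := by
    intro g
    let T : H.LeftTransversal :=
      ⟨Set.range fun q : G ⧸ H => q.out, Subgroup.isComplement_range_left fun q => QuotientGroup.out_eq' q⟩
    have hT : ∀ q, ((T.2.leftQuotientEquiv q : T.1) : G) = q.out := fun q =>
      Subgroup.IsComplement.leftQuotientEquiv_apply (fun q => QuotientGroup.out_eq' q) q
    rw [← htriv g, MonoidHom.transfer_def χ T g]
    unfold Subgroup.leftTransversals.diff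
    refine Fintype.prod_equiv (MulAction.toPerm g) _ _ fun q => ?_
    show χ _ = χ _
    congr 1
    refine Subtype.ext ?_
    show (g • q).out⁻¹ * g * q.out = _ * _
    rw [hT, MulAction.toPerm_apply, Subgroup.smul_apply_eq_smul_apply_inv_smul, inv_smul_smul, hT, smul_eq_mul, mul_assoc]
  set q0 : G ⧸ H := ((1 : G) : G ⧸ H) with hq0
  have hfix : ∀ h ∈ H, h • q0 = q0 := by
    intro h hh
    rw [hq0]
    show ((h * 1 : G) : G ⧸ H) = _
    rw [mul_one]
    exact QuotientGroup.eq.2 (by simpa using H.inv_mem hh)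
  have hout : q0.out ∈ H := by
    have h1 := QuotientGroup.eq.1 (QuotientGroup.out_eq' q0)
    rw [mul_one] at h1
    simpa using H.inv_mem h1
  have hcq0 : ∀ h : H, c h q0 = χ h := by
    intro h
    show χ _ = χ h
    rw [show (⟨_, hmem (h : G) q0⟩ : H) = (⟨q0.out, hout⟩ : H)⁻¹ * h * ⟨q0.out, hout⟩ from Subtype.ext (by
      show ((h : G) • q0).out⁻¹ * h * q0.out = _
      rw [hfix _ h.2]; rfl), map_mul, map_mul, map_inv, mul_comm, ← mul_assoc, mul_inv_cancel, one_mul]
  let S : Finset (G ⧸ H) := Finset.univ.erase q0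
  have hS : ∀ h ∈ H, ∀ q, h • q ∈ S ↔ q ∈ S := by
    intro h hh q
    simp only [S, Finset.mem_erase, Finset.mem_univ, and_true, ne_eq]
    refine not_congr ⟨fun e => ?_, fun e => by rw [e, hfix h hh]⟩
    exact smul_left_cancel h (e.trans (hfix h hh).symm)
  have hne : ∀ q ∈ S, ∃ e ∈ E, e • q ≠ q := by
    intro q hq
    by_contra hno
    push Not at hno
    obtain ⟨g, rfl⟩ := QuotientGroup.mk_surjective q
    have hg : ∀ e ∈ E, e * (g * z * g⁻¹) = g * z * g⁻¹ * e := by
      intro e he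
      have h1 : ((e * g : G) : G ⧸ H) = (g : G ⧸ H) := hno e he
      have h2 : g⁻¹ * e⁻¹ * g * 1 ∈ H := by
        have := QuotientGroup.eq.1 h1
        rwa [mul_inv_rev, ← mul_one (g⁻¹ * e⁻¹ * g)] at this
      rw [mul_one] at h2
      have h3 := mem_centralizer_singleton_iff.1 (H.inv_mem h2)
      calc e * (g * z * g⁻¹) = g * ((g⁻¹ * e⁻¹ * g)⁻¹ * z) * g⁻¹ := by group
        _ = _ := by rw [h3]; group
    have hc' : g * z * g⁻¹ ∈ E := hcent (mem_centralizer_iff.2 fun e he => hg e he)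
    rcases hcenter _ hc' hg with h | h
    · exact hz1 (conj_eq_one_iff.1 h)
    · refine (Finset.mem_erase.1 hq).1 (QuotientGroup.eq.2 ?_)
      rw [mul_one]
      exact H.inv_mem (mem_centralizer_singleton_iff.2 (mul_inv_eq_iff_eq_mul.1 h))
  have hsum : ∀ h : H, χ h * F c S h = 1 := by
    intro h
    rw [← hcq0 h]
    have := htr (h : G)
    rwa [← Finset.mul_prod_erase _ _ (Finset.mem_univ q0)] at this
  intro x hx
  obtain ⟨i, hi⟩ := hx
  have h4 : ∀ M0 : Subgroup G, M0 ≤ E → M0.relIndex E = 2 → ∀ q ∈ S, ∃ e ∈ M0, e • q ≠ q := by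
    intro M0 h1 h2 q hq
    obtain ⟨g, rfl⟩ := QuotientGroup.mk_surjective q
    have hgz : g * z * g⁻¹ ≠ z := fun h => (Finset.mem_erase.1 hq).1 (QuotientGroup.eq.2 (by
      rw [mul_one]
      exact H.inv_mem (mem_centralizer_singleton_iff.2 (mul_inv_eq_iff_eq_mul.1 h))))
    obtain ⟨e, he, hne⟩ := hfixE g hgz M0 h1 h2
    refine ⟨e, he, fun h => hne ?_⟩
    have h3 : g⁻¹ * e⁻¹ * g * 1 ∈ H := by
      have := QuotientGroup.eq.1 (show ((e * g : G) : G ⧸ H) = (g : G ⧸ H) from h)
      rwa [mul_inv_rev, ← mul_one (g⁻¹ * e⁻¹ * g)] at this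
    rw [mul_one] at h3
    have h5 := mem_centralizer_singleton_iff.1 (H.inv_mem h3)
    calc e * (g * z * g⁻¹) = g * ((g⁻¹ * e⁻¹ * g)⁻¹ * z) * g⁻¹ := by group
      _ = _ := by rw [h5]; group
  have h6 := F_eq_one_two c hc hgood (hEn x.2) ⟨i, by rw [← SubmonoidClass.coe_pow, hi]; rfl⟩ S (hS x x.2)
    (fun a ha => hS a (hEle ha)) hne hA2 hsub h4
  have h7 := hsum x
  rwa [h6, mul_one] at h7

end Cfsg.Agent.InvChar.LargeExtraspecialTransfer
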