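import Mathlib
import Cfsg.Agent.Lib.Classical.CyclicExt
import Cfsg.Agent.Lib.Classical.Linear

/-!
# Non-abelian groups of order 64 with a fixed-point-free automorphism of order three
-/

set_option autoImplicit false
set_option linter.all false

namespace Cfsg.Agent.InvChar.FixedPointFreeOrderSixtyFour

variable {T : Type*} [Group T] [Finite T]

/-- The commutator. -/
def k (a b : T) : T := a * b * a⁻¹ * b⁻¹

omit [Finite T] in
theorem map_k (f : MulAut T) (a b : T) : f (k a b) = k (f a) (f b) := by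
  simp [k]

omit [Finite T] in
theorem k_self (a : T) : k a a = 1 := by simp [k]

omit [Finite T] in
theorem swap (a b : T) : a * b = k a b * (b * a) := by simp [k, mul_assoc]

section fpf

variable (ρ : MulAut T) (h3 : ρ ^ 3 = 1) (hfp : ∀ y : T, ρ y = y → y = 1)

omit [Finite T] in
include h3 in
theorem period (y : T) : ρ (ρ (ρ y)) = y := by
  have h : (ρ ^ 3) y = y := by rw [h3]; rfl
  rwa [pow_three, MulAut.mul_apply, MulAut.mul_apply] at h

include h3 hfp in
theorem triple (y : T) : y * ρ y * ρ (ρ y) = 1 := by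
  have hinj : Function.Injective fun w : T => w⁻¹ * ρ w := by
    intro a b h
    have h' : ρ (b * a⁻¹) = b * a⁻¹ := by
      simp only [map_mul, map_inv]
      rw [mul_inv_eq_iff_eq_mul, ← mul_right_inj b⁻¹]
      calc b⁻¹ * ρ b = a⁻¹ * ρ a := h.symm
        _ = b⁻¹ * (b * a⁻¹ * ρ a) := by group
    exact (mul_inv_eq_one.1 (hfp _ h')).symm
  obtain ⟨w, hw⟩ := Finite.surjective_of_injective hinj y
  rw [← hw]
  simp only [map_mul, map_inv, period ρ h3]
  group

include h3 hfp in
theorem commute_rho (y : T) : y * ρ y = ρ y * y := by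
  have h1 := triple ρ h3 hfp y
  have h2 := triple ρ h3 hfp (ρ y)
  rw [period ρ h3] at h2
  have h4 := triple ρ h3 hfp y⁻¹
  simp only [map_inv] at h4
  have e1 : y * ρ y = (ρ (ρ y))⁻¹ := eq_inv_of_mul_eq_one_left h1
  have e2 : ρ y * y = (ρ (ρ y))⁻¹ := by
    have : ρ (ρ y) * (ρ y * y) = 1 := by
      simpa [mul_assoc] using congrArg (·⁻¹) h4
    exact eq_inv_of_mul_eq_one_right this
  rw [e1, e2]

include h3 hfp in
theorem card_mod_three (A : Subgroup T) (hA : ∀ a ∈ A, ρ a ∈ A) : Nat.card A % 3 = 1 := by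
  classical
  haveI : Fact (Nat.Prime 3) := ⟨Nat.prime_three⟩
  haveI : Fintype A := Fintype.ofFinite _
  let e : A → A := fun a => ⟨ρ a.1, hA a.1 a.2⟩
  have he : Function.Bijective e :=
    Finite.injective_iff_bijective.1 fun a b h => Subtype.ext (ρ.injective (congrArg Subtype.val h))
  let π : Equiv.Perm A := Equiv.ofBijective e he
  have hπ : π ^ 3 = 1 := Equiv.ext fun a => Subtype.ext (period ρ h3 a.1)
  have hs := Equiv.Perm.card_compl_support_modEq (p := 3) (n := 1) (σ := π) (by rwa [pow_one])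
  have h1 : π.supportᶜ = {1} := by
    ext a
    simp only [Finset.mem_compl, Equiv.Perm.mem_support, not_not, Finset.mem_singleton]
    constructor
    · exact fun h => Subtype.ext (hfp _ (congrArg Subtype.val h))
    · rintro rfl
      exact Subtype.ext (map_one ρ)
  rw [h1, Finset.card_singleton, ← Nat.card_eq_fintype_card] at hs
  exact hs.symm

variable (hT : Nat.card T = 64) (hna : ¬ IsMulCommutative T)

omit [Finite T] in
theorem center_inv (f : MulAut T) {y : T} (hy : y ∈ Subgroup.center T) : f y ∈ Subgroup.center T :=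
  Subgroup.mem_center_iff.2 fun t => by
    obtain ⟨t, rfl⟩ := f.surjective t
    rw [← map_mul, ← map_mul, Subgroup.mem_center_iff.1 hy t]

include h3 hfp in
/-- In a proper quotient every element is the power of the classes of one element and its image. -/
theorem comm_of_card_four (N : Subgroup T) [N.Normal] (hN : ∀ y, y ∈ N ↔ ρ y ∈ N)
    (h4 : Nat.card (T ⧸ N) = 4) :
    ∃ y, ∀ t, ∃ n ∈ N, t = n ∨ t = y * n ∨ t = ρ y * n ∨ t = ρ (ρ y) * n := by
  classical
  haveI : Fintype (T ⧸ N) := Fintype.ofFinite _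
  obtain ⟨y, hy⟩ : ∃ y, y ∉ N := by
    by_contra hcon
    push Not at hcon
    have hN' : N = ⊤ := (Subgroup.eq_top_iff' N).2 hcon
    haveI : Subsingleton (T ⧸ N) := by rw [hN']; exact QuotientGroup.subsingleton_quotient_top
    rw [Nat.card_of_subsingleton (1 : T ⧸ N)] at h4
    omega
  have hne : ∀ w, w ∉ N → w⁻¹ * ρ w ∉ N := by
    intro w hw hc
    -- the map `d ↦ d⁻¹ ρ d` is bijective on `N`
    let g : N → N := fun d => ⟨(d : T)⁻¹ * ρ d, N.mul_mem (N.inv_mem d.2) ((hN _).1 d.2)⟩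
    have hg : Function.Injective g := fun a b h => by
      have h' : (a : T)⁻¹ * ρ a = (b : T)⁻¹ * ρ b := congrArg Subtype.val h
      refine Subtype.ext (mul_inv_eq_one.1 (hfp _ ?_)).symm
      simp only [map_mul, map_inv]
      rw [mul_inv_eq_iff_eq_mul, ← mul_right_inj ((b : T))⁻¹]
      calc (b : T)⁻¹ * ρ b = (a : T)⁻¹ * ρ a := h'.symm
        _ = (b : T)⁻¹ * ((b : T) * (a : T)⁻¹ * ρ a) := by group
    obtain ⟨d, hd⟩ := Finite.surjective_of_injective hg ⟨w⁻¹ * ρ w, hc⟩
    have h' : (d : T)⁻¹ * ρ d = w⁻¹ * ρ w := congrArg Subtype.val hd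
    have h2 : (d : T) * w⁻¹ = 1 := hfp _ (by
      simp only [map_mul, map_inv]
      rw [mul_inv_eq_iff_eq_mul, ← mul_right_inj ((d : T))⁻¹, h']
      group)
    exact hw (mul_inv_eq_one.1 h2 ▸ d.2)
  have hy1 : ρ y ∉ N := fun h => hy ((hN y).2 h)
  have hy2 : ρ (ρ y) ∉ N := fun h => hy1 ((hN _).2 h)
  refine ⟨y, fun t => ?_⟩
  have hfour : ({(1 : T ⧸ N), (y : T ⧸ N), (ρ y : T ⧸ N), (ρ (ρ y) : T ⧸ N)} : Finset (T ⧸ N)).card = 4 := by
    have ne1 : ∀ {w : T}, w ∉ N → (1 : T ⧸ N) ≠ (w : T ⧸ N) := fun hw h =>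
      hw ((QuotientGroup.eq_one_iff _).1 h.symm)
    have e1 : (y : T ⧸ N) ≠ (ρ y : T ⧸ N) := fun h => hne y hy (QuotientGroup.eq.1 h)
    have e2 : (ρ y : T ⧸ N) ≠ (ρ (ρ y) : T ⧸ N) := fun h => hne _ hy1 (QuotientGroup.eq.1 h)
    have e3 : (y : T ⧸ N) ≠ (ρ (ρ y) : T ⧸ N) := fun h => by
      have h' := hne _ hy2
      rw [period ρ h3] at h'
      exact h' (QuotientGroup.eq.1 h.symm)
    rw [Finset.card_insert_of_notMem (by simp [ne1 hy, ne1 hy1, ne1 hy2]),
      Finset.card_insert_of_notMem (by simp [e1, e3]), Finset.card_pair e2]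
  have huniv := Finset.eq_univ_of_card _ (hfour.trans (by rw [← h4, Nat.card_eq_fintype_card]))
  have hmem := Finset.mem_univ (t : T ⧸ N)
  rw [← huniv] at hmem
  simp only [Finset.mem_insert, Finset.mem_singleton] at hmem
  have key : ∀ w : T, (t : T ⧸ N) = (w : T ⧸ N) → ∃ n ∈ N, t = w * n := fun w h =>
    ⟨w⁻¹ * t, QuotientGroup.eq.1 h.symm, by rw [mul_inv_cancel_left]⟩
  rcases hmem with h | h | h | h
  · exact ⟨t, (QuotientGroup.eq_one_iff _).1 h, Or.inl rfl⟩
  all_goals obtain ⟨n, hn, e⟩ := key _ h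
  · exact ⟨n, hn, Or.inr (Or.inl e)⟩
  · exact ⟨n, hn, Or.inr (Or.inr (Or.inl e))⟩
  · exact ⟨n, hn, Or.inr (Or.inr (Or.inr e))⟩

include h3 hfp in
theorem gens_commute (y : T) {a b : T}
    (ha : a = 1 ∨ a = y ∨ a = ρ y ∨ a = ρ (ρ y)) (hb : b = 1 ∨ b = y ∨ b = ρ y ∨ b = ρ (ρ y)) :
    a * b = b * a := by
  have c1 : Commute y (ρ y) := commute_rho ρ h3 hfp y
  have c2 : Commute (ρ y) (ρ (ρ y)) := commute_rho ρ h3 hfp (ρ y)
  have c3 : Commute (ρ (ρ y)) y := by
    have := commute_rho ρ h3 hfp (ρ (ρ y))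
    rwa [period ρ h3] at this
  rcases ha with rfl | rfl | rfl | rfl <;> rcases hb with rfl | rfl | rfl | rfl <;>
    first
      | simp
      | rfl
      | exact c1.eq
      | exact c1.symm.eq
      | exact c2.eq
      | exact c2.symm.eq
      | exact c3.eq
      | exact c3.symm.eq

include h3 hfp hT hna in
theorem structure_basic :
    Nat.card (Subgroup.center T) = 4 ∧ (∀ a b : T, k a b ∈ Subgroup.center T) ∧
      (∀ c ∈ Subgroup.center T, c * c = 1) := by
  classical
  haveI : Fact (Nat.Prime 2) := ⟨Nat.prime_two⟩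
  have hP : IsPGroup 2 T := IsPGroup.of_card (n := 6) (by rw [hT]; norm_num)
  haveI : Nontrivial T := Finite.one_lt_card_iff_nontrivial.1 (by rw [hT]; norm_num)
  have hmod := card_mod_three ρ h3 hfp (Subgroup.center T) fun a ha => center_inv ρ ha
  have hdvd := Subgroup.card_subgroup_dvd_card (Subgroup.center T)
  rw [hT] at hdvd
  have hnt : 1 < Nat.card (Subgroup.center T) := by
    haveI := hP.center_nontrivial
    exact Finite.one_lt_card
  obtain ⟨i, hi6, hi⟩ := (Nat.dvd_prime_pow Nat.prime_two).1 (show Nat.card (Subgroup.center T) ∣ 2 ^ 6 by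
    norm_num; exact hdvd)
  have hNinv : ∀ y, y ∈ Subgroup.center T ↔ ρ y ∈ Subgroup.center T := fun y =>
    ⟨fun h => center_inv ρ h, fun h => by
      have := center_inv ρ (center_inv ρ h)
      rwa [period ρ h3] at this⟩
  have hq := Subgroup.card_mul_index (Subgroup.center T)
  rw [hT, hi, Subgroup.index_eq_card] at hq
  have hcases : i = 2 ∨ i = 4 ∨ i = 6 := by
    rw [hi] at hmod hnt
    interval_cases i <;> first | (exfalso; norm_num at hmod; done) | (exfalso; norm_num at hnt; done) | norm_num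
  have hi2 : i = 2 := by
    rcases hcases with rfl | rfl | rfl
    · rfl
    · exfalso
      obtain ⟨y, hy⟩ := comm_of_card_four ρ h3 hfp (Subgroup.center T) hNinv (by norm_num at hq; omega)
      refine hna ⟨⟨fun a b => ?_⟩⟩
      have key : ∀ t, ∃ g n, (g = 1 ∨ g = y ∨ g = ρ y ∨ g = ρ (ρ y)) ∧ n ∈ Subgroup.center T ∧ t = g * n := by
        intro t
        obtain ⟨n, hn, h⟩ := hy t
        rcases h with h | h | h | h
        · exact ⟨1, n, Or.inl rfl, hn, by rw [one_mul]; exact h⟩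
        · exact ⟨y, n, Or.inr (Or.inl rfl), hn, h⟩
        · exact ⟨ρ y, n, Or.inr (Or.inr (Or.inl rfl)), hn, h⟩
        · exact ⟨ρ (ρ y), n, Or.inr (Or.inr (Or.inr rfl)), hn, h⟩
      obtain ⟨g, n, hg, hn, rfl⟩ := key a
      obtain ⟨g', n', hg', hn', rfl⟩ := key b
      have c1 : Commute g g' := gens_commute ρ h3 hfp y hg hg'
      have c2 : Commute n (g' * n') := (Subgroup.mem_center_iff.1 hn _).symm
      have c3 : Commute g n' := Subgroup.mem_center_iff.1 hn' _
      exact ((c1.mul_right c3).mul_left c2).eq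
    · exfalso
      refine hna ⟨⟨fun a b => ?_⟩⟩
      have h64 : Nat.card (Subgroup.center T) = Nat.card T := by rw [hT, hi]; norm_num
      have := Subgroup.eq_top_of_card_eq _ h64
      exact Subgroup.mem_center_iff.1 (show b ∈ Subgroup.center T by rw [this]; trivial) a
  subst hi2
  have hc4 : Nat.card (Subgroup.center T) = 4 := by rw [hi]; norm_num
  have hQ : Nat.card (T ⧸ Subgroup.center T) = 16 := by norm_num at hq; omega
  -- the centre is elementary
  have hex : ∀ c ∈ Subgroup.center T, c * c = 1 := by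
    intro c hc
    by_contra hcc
    haveI : Fintype (Subgroup.center T) := Fintype.ofFinite _
    set d := c * c with hd
    have hdC : d ∈ Subgroup.center T := mul_mem hc hc
    have hd4 : c ^ 4 = 1 := by
      have h1 := pow_card_eq_one' (G := Subgroup.center T) (x := ⟨c, hc⟩)
      rw [hc4] at h1
      exact congrArg Subtype.val h1
    have hdd : d * d = 1 := by rw [hd, ← sq c, ← sq, ← pow_mul]; exact hd4
    -- `c, ρ c, ρ (ρ c)` and `1` fill the centre, and so does `d`
    have hc1 : c ≠ 1 := fun h => hcc (by rw [hd, h, one_mul])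
    have hρd : ρ d ≠ d := fun h => hcc (hfp _ h)
    have hsub : ({(⟨1, one_mem _⟩ : Subgroup.center T), ⟨d, hdC⟩, ⟨ρ d, center_inv ρ hdC⟩, ⟨c, hc⟩,
        ⟨c * d, mul_mem hc hdC⟩} : Finset (Subgroup.center T)).card ≤ 4 := by
      rw [← hc4, Nat.card_eq_fintype_card]
      exact Finset.card_le_univ _
    have n1 : ∀ {w : T}, w * w = 1 → w ≠ c ∧ w ≠ c * d := by
      intro w hw
      refine ⟨fun e => hcc (by rw [e] at hw; exact hw), fun e => hcc ?_⟩
      rw [e, show c * d * (c * d) = d * (d * d) by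
        rw [hd]; group, hdd, mul_one] at hw
      exact hw
    have hρdd : ρ d * ρ d = 1 := by rw [← map_mul, hdd, map_one]
    have hρd1 : ρ d ≠ 1 := fun h => hcc (ρ.injective (h.trans (map_one ρ).symm))
    have hcd : c ≠ c * d := fun h => hcc (left_eq_mul.1 h)
    have h5 : ({(⟨1, one_mem _⟩ : Subgroup.center T), ⟨d, hdC⟩, ⟨ρ d, center_inv ρ hdC⟩, ⟨c, hc⟩,
        ⟨c * d, mul_mem hc hdC⟩} : Finset (Subgroup.center T)).card = 5 := by
      rw [Finset.card_insert_of_notMem, Finset.card_insert_of_notMem, Finset.card_insert_of_notMem,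
        Finset.card_pair]
      · exact fun h => hcd (congrArg Subtype.val h)
      · simp only [Finset.mem_insert, Finset.mem_singleton, Subtype.mk.injEq]
        push Not
        exact ⟨(n1 hρdd).1, (n1 hρdd).2⟩
      · simp only [Finset.mem_insert, Finset.mem_singleton, Subtype.mk.injEq]
        push Not
        exact ⟨Ne.symm hρd, (n1 hdd).1, (n1 hdd).2⟩
      · simp only [Finset.mem_insert, Finset.mem_singleton, Subtype.mk.injEq]
        push Not
        exact ⟨Ne.symm hcc, Ne.symm hρd1, (n1 (one_mul 1)).1, (n1 (one_mul 1)).2⟩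
    omega
  refine ⟨hc4, fun a b => ?_, hex⟩
  -- the quotient by the centre is abelian
  let Q := T ⧸ Subgroup.center T
  haveI : Finite Q := inferInstance
  have hρc : (Subgroup.center T).map ρ.toMonoidHom = Subgroup.center T := by
    ext y
    constructor
    · rintro ⟨w, hw, rfl⟩
      exact center_inv ρ hw
    · intro hy
      exact ⟨ρ.symm y, center_inv ρ.symm hy, ρ.apply_symm_apply y⟩
  let ρQ : MulAut Q := QuotientGroup.congr _ _ ρ hρc
  have hρQ : ∀ t : T, ρQ (t : Q) = ((ρ t : T) : Q) := fun t => rfl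
  have h3Q : ρQ ^ 3 = 1 := MulEquiv.ext fun q => by
    obtain ⟨t, rfl⟩ := QuotientGroup.mk_surjective q
    rw [pow_three, MulAut.mul_apply, MulAut.mul_apply, hρQ, hρQ, hρQ, period ρ h3]
    rfl
  have hfpQ : ∀ q : Q, ρQ q = q → q = 1 := by
    intro q hq'
    obtain ⟨t, rfl⟩ := QuotientGroup.mk_surjective q
    rw [hρQ] at hq'
    have hc' : t⁻¹ * ρ t ∈ Subgroup.center T := QuotientGroup.eq.1 hq'.symm
    let g : Subgroup.center T → Subgroup.center T := fun d =>
      ⟨(d : T)⁻¹ * ρ d, mul_mem (inv_mem d.2) (center_inv ρ d.2)⟩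
    have hg : Function.Injective g := fun a b h => by
      have h' : (a : T)⁻¹ * ρ a = (b : T)⁻¹ * ρ b := congrArg Subtype.val h
      refine Subtype.ext (mul_inv_eq_one.1 (hfp _ ?_)).symm
      simp only [map_mul, map_inv]
      rw [mul_inv_eq_iff_eq_mul, ← mul_right_inj ((b : T))⁻¹]
      calc (b : T)⁻¹ * ρ b = (a : T)⁻¹ * ρ a := h'.symm
        _ = (b : T)⁻¹ * ((b : T) * (a : T)⁻¹ * ρ a) := by group
    obtain ⟨d, hd⟩ := Finite.surjective_of_injective hg ⟨t⁻¹ * ρ t, hc'⟩
    have h' : (d : T)⁻¹ * ρ d = t⁻¹ * ρ t := congrArg Subtype.val hd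
    have h2 : (d : T) * t⁻¹ = 1 := hfp _ (by
      simp only [map_mul, map_inv]
      rw [mul_inv_eq_iff_eq_mul, ← mul_right_inj ((d : T))⁻¹, h']
      group)
    exact (QuotientGroup.eq_one_iff _).2 (mul_inv_eq_one.1 h2 ▸ d.2)
  have hQab : ∀ a b : Q, a * b = b * a := by
    by_contra hnab
    have hPQ : IsPGroup 2 Q := hP.to_quotient _
    haveI : Nontrivial Q := Finite.one_lt_card_iff_nontrivial.1 (by rw [hQ]; norm_num)
    haveI := hPQ.center_nontrivial
    have hnt' : 1 < Nat.card (Subgroup.center Q) := Finite.one_lt_card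
    have hmod' := card_mod_three ρQ h3Q hfpQ (Subgroup.center Q) fun a ha => center_inv ρQ ha
    obtain ⟨j, hj4, hj⟩ := (Nat.dvd_prime_pow Nat.prime_two).1 (show Nat.card (Subgroup.center Q) ∣ 2 ^ 4 by
      norm_num; rw [← hQ]; exact Subgroup.card_subgroup_dvd_card _)
    have hNinvQ : ∀ y, y ∈ Subgroup.center Q ↔ ρQ y ∈ Subgroup.center Q := fun y =>
      ⟨fun h => center_inv ρQ h, fun h => by
        have := center_inv ρQ (center_inv ρQ h)
        rwa [period ρQ h3Q] at this⟩
    have hqq := Subgroup.card_mul_index (Subgroup.center Q)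
    rw [show Nat.card Q = 16 from hQ, hj, Subgroup.index_eq_card] at hqq
    have hcases' : j = 2 ∨ j = 4 := by
      rw [hj] at hmod' hnt'
      interval_cases j <;> first | (exfalso; norm_num at hmod'; done) | (exfalso; norm_num at hnt'; done) | norm_num
    rcases hcases' with rfl | rfl
    · apply hnab
      intro a b
      haveI : Finite Q := inferInstance
      have hcyc : ∀ t : Q, ∃ g n, n ∈ Subgroup.center Q ∧ t = g * n := fun t => ⟨t, 1, one_mem _, (mul_one t).symm⟩
      haveI : Fintype (Q ⧸ Subgroup.center Q) := Fintype.ofFinite _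
      classical
      obtain ⟨y, hy⟩ : ∃ y : Q, ∀ t, ∃ n ∈ Subgroup.center Q, t = n ∨ t = y * n ∨ t = ρQ y * n ∨ t = ρQ (ρQ y) * n :=
        comm_of_card_four ρQ h3Q hfpQ (Subgroup.center Q) hNinvQ
          (Nat.eq_of_mul_eq_mul_left (by norm_num) (hqq.trans (by norm_num : (16 : ℕ) = 2 ^ 2 * 4)))
      have key : ∀ t, ∃ g n, (g = 1 ∨ g = y ∨ g = ρQ y ∨ g = ρQ (ρQ y)) ∧ n ∈ Subgroup.center Q ∧ t = g * n := by
        intro t
        obtain ⟨n, hn, h⟩ := hy t
        rcases h with h | h | h | h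
        · exact ⟨1, n, Or.inl rfl, hn, by rw [one_mul]; exact h⟩
        · exact ⟨y, n, Or.inr (Or.inl rfl), hn, h⟩
        · exact ⟨ρQ y, n, Or.inr (Or.inr (Or.inl rfl)), hn, h⟩
        · exact ⟨ρQ (ρQ y), n, Or.inr (Or.inr (Or.inr rfl)), hn, h⟩
      obtain ⟨g, n, hg, hn, rfl⟩ := key a
      obtain ⟨g', n', hg', hn', rfl⟩ := key b
      have c1 : Commute g g' := gens_commute ρQ h3Q hfpQ y hg hg'
      have c2 : Commute n (g' * n') := (Subgroup.mem_center_iff.1 hn _).symm
      have c3 : Commute g n' := Subgroup.mem_center_iff.1 hn' _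
      exact ((c1.mul_right c3).mul_left c2).eq
    · apply hnab
      intro a b
      have := Subgroup.eq_top_of_card_eq (Subgroup.center Q) (by rw [hj, hQ]; norm_num)
      exact Subgroup.mem_center_iff.1 (show b ∈ Subgroup.center Q by rw [this]; trivial) a
  rw [← QuotientGroup.eq_one_iff (N := Subgroup.center T)]
  show ((a * b * a⁻¹ * b⁻¹ : T) : Q) = 1
  rw [QuotientGroup.mk_mul, QuotientGroup.mk_mul, QuotientGroup.mk_mul, hQab (a : Q), QuotientGroup.mk_inv,
    QuotientGroup.mk_inv, mul_inv_cancel_right, mul_inv_cancel]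

/-- The standing properties of such a group. -/
structure Data (T : Type*) [Group T] (ρ : MulAut T) : Prop where
  period : ∀ y : T, ρ (ρ (ρ y)) = y
  fpf : ∀ y : T, ρ y = y → y = 1
  triple : ∀ y : T, y * ρ y * ρ (ρ y) = 1
  comm : ∀ y : T, y * ρ y = ρ y * y
  kcen : ∀ a b : T, k a b ∈ Subgroup.center T
  exp : ∀ c ∈ Subgroup.center T, c * c = 1
  card : Nat.card T = 64
  cardZ : Nat.card (Subgroup.center T) = 4

include h3 hfp hT hna in
theorem data : Data T ρ := by
  obtain ⟨hc4, hk, hex⟩ := structure_basic ρ h3 hfp hT hna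
  exact ⟨period ρ h3, hfp, triple ρ h3 hfp, commute_rho ρ h3 hfp, hk, hex, hT, hc4⟩

end fpf

namespace Data

attribute [local instance] _root_.Classical.propDecidable

variable {ρ : MulAut T} (D : Data T ρ)

include D

omit [Finite T] in
theorem central (a b g : T) : g * k a b = k a b * g := Subgroup.mem_center_iff.1 (D.kcen a b) g

omit [Finite T] in
theorem k_mul_left (a b c : T) : k (a * b) c = k a c * k b c := by
  calc k (a * b) c = a * k b c * (c * a⁻¹ * c⁻¹) := by simp [k, mul_assoc]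
    _ = k b c * a * (c * a⁻¹ * c⁻¹) := by rw [D.central]
    _ = k b c * k a c := by simp [k, mul_assoc]
    _ = _ := by rw [D.central]

omit [Finite T] in
theorem k_symm (a b : T) : k b a = k a b := by
  have h1 : k b a = (k a b)⁻¹ := by simp [k, mul_assoc]
  rw [h1, inv_eq_iff_mul_eq_one, D.exp _ (D.kcen a b)]

omit [Finite T] in
theorem k_mul_right (a b c : T) : k a (b * c) = k a b * k a c := by
  rw [← D.k_symm, D.k_mul_left, D.k_symm a b, D.k_symm a c]

omit [Finite T] in
theorem k_one_left (a : T) : k 1 a = 1 := by simp [k]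

omit [Finite T] in
theorem k_one_right (a : T) : k a 1 = 1 := by simp [k]

omit [Finite T] in
theorem k_inv_right (a b : T) : k a b⁻¹ = k a b := by
  have h := D.k_mul_right a b b⁻¹
  rw [mul_inv_cancel, D.k_one_right] at h
  rw [← inv_eq_of_mul_eq_one_right h.symm, inv_eq_iff_mul_eq_one, D.exp _ (D.kcen a b)]

omit [Finite T] in
theorem k_center (c : T) (hc : c ∈ Subgroup.center T) (a : T) : k a c = 1 := by
  show a * c * a⁻¹ * c⁻¹ = 1
  rw [Subgroup.mem_center_iff.1 hc a, mul_inv_cancel_right, mul_inv_cancel]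

omit [Finite T] in
theorem sq_central (a : T) : a * a ∈ Subgroup.center T := by
  refine Subgroup.mem_center_iff.2 fun g => ?_
  have h : k (a * a) g = 1 := by rw [D.k_mul_left, D.exp _ (D.kcen a g)]
  have h' := swap (a * a) g
  rw [h, one_mul] at h'
  exact h'.symm

omit [Finite T] in
theorem mul_sq (a b : T) : a * b * (a * b) = a * a * (b * b) * k b a := by
  calc a * b * (a * b) = a * (b * a) * b := by group
    _ = a * (k b a * (a * b)) * b := by rw [← swap b a]
    _ = k b a * (a * a * (b * b)) := by rw [← mul_assoc a (k b a), D.central]; group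
    _ = _ := by rw [D.central]

omit [Finite T] in
theorem rho_center {c : T} (hc : c ∈ Subgroup.center T) : ρ c ∈ Subgroup.center T := center_inv ρ hc

omit [Finite T] in
/-- The mixed commutators. -/
theorem k_rho (u v : T) : k u (ρ v) = ρ (ρ (k u v)) ∧ k (ρ u) v = ρ (ρ (k u v)) := by
  set z := k u v with hz
  set c := k u (ρ v) with hc
  have hzc : z ∈ Subgroup.center T := D.kcen u v
  have hcc : c ∈ Subgroup.center T := D.kcen _ _
  have hself : ∀ y, k y (ρ y) = 1 := fun y => by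
    show y * ρ y * y⁻¹ * (ρ y)⁻¹ = 1
    rw [D.comm]; group
  have hvu : k v (ρ u) = c := by
    have h := hself (u * v)
    rw [map_mul, D.k_mul_left, D.k_mul_right, D.k_mul_right, hself, hself, one_mul, mul_one, ← hc] at h
    rw [← inv_eq_of_mul_eq_one_right h, inv_eq_iff_mul_eq_one, D.exp c hcc]
  have huv : k (ρ u) v = c := by rw [D.k_symm, hvu]
  have hρc : ρ c = c * ρ z := by
    rw [hc, map_k, show ρ (ρ v) = (v * ρ v)⁻¹ from eq_inv_of_mul_eq_one_right (D.triple v),
      D.k_inv_right, D.k_mul_right, huv, ← map_k]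
  have hw : c * ρ (ρ z) = 1 := by
    refine D.fpf _ ?_
    rw [map_mul, D.period, hρc, mul_assoc]
    congr 1
    calc ρ z * z = z * ρ z := (D.comm z).symm
      _ = (ρ (ρ z))⁻¹ := eq_inv_of_mul_eq_one_left (D.triple z)
      _ = ρ (ρ z) := by rw [inv_eq_iff_mul_eq_one, D.exp _ (D.rho_center (D.rho_center hzc))]
  have hfin : c = ρ (ρ z) := by
    rw [eq_inv_of_mul_eq_one_left hw, inv_eq_iff_mul_eq_one, D.exp _ (D.rho_center (D.rho_center hzc))]
  exact ⟨hfin, huv.trans hfin⟩

omit [Finite T] in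
theorem rho_rho_eq {u : T} (hu : u * u = 1) : ρ (ρ u) = u * ρ u ∧ u * ρ (ρ u) = ρ u ∧ ρ u * ρ (ρ u) = u := by
  have h := D.triple u
  have hρ : ρ u * ρ u = 1 := by rw [← map_mul, hu, map_one]
  have h1 : ρ (ρ u) = u * ρ u := by
    calc ρ (ρ u) = (u * ρ u)⁻¹ := eq_inv_of_mul_eq_one_right h
      _ = (ρ u)⁻¹ * u⁻¹ := mul_inv_rev _ _
      _ = ρ u * u := by rw [inv_eq_of_mul_eq_one_right hu, inv_eq_of_mul_eq_one_right hρ]
      _ = _ := (D.comm u).symm
  refine ⟨h1, by rw [h1, ← mul_assoc, hu, one_mul], ?_⟩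
  rw [h1, D.comm, ← mul_assoc, hρ, one_mul]

/-- The parametrisation of a root subgroup. -/
noncomputable def par {F : Type*} [Field F] (ρ : MulAut T) (ω : F) (u : T) (a : F) : T :=
  if a = 0 then 1 else if a = 1 then u else if a = ω then ρ u else ρ (ρ u)

omit [Finite T] in
theorem par_facts {F : Type*} [Field F] {ω : F} (h2 : (2 : F) = 0) (hω : ω * ω = ω + 1)
    (hall : ∀ a : F, a = 0 ∨ a = 1 ∨ a = ω ∨ a = ω + 1) {u : T} (hu : u * u = 1) :
    (∀ a b, par ρ ω u (a + b) = par ρ ω u a * par ρ ω u b) ∧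
      par ρ ω u 0 = 1 ∧ par ρ ω u 1 = u ∧ par ρ ω u ω = ρ u ∧ par ρ ω u (ω + 1) = ρ (ρ u) := by
  have w0 : ω ≠ 0 := fun h => by simp [h] at hω
  have w1 : ω ≠ 1 := fun h => by rw [h, mul_one] at hω; simp at hω
  have w2 : ω + 1 ≠ 0 := fun h => w1 (by linear_combination h - h2)
  have w3 : ω + 1 ≠ ω := fun h => one_ne_zero (by linear_combination h : (1 : F) = 0)
  have w4 : ω + 1 ≠ 1 := fun h => w0 (by linear_combination h)
  have e0 : par ρ ω u 0 = 1 := by simp [par]
  have e1 : par ρ ω u 1 = u := by simp [par]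
  have e2 : par ρ ω u ω = ρ u := by simp [par, w0, w1]
  have e3 : par ρ ω u (ω + 1) = ρ (ρ u) := by simp [par, w2, w3, w4]
  refine ⟨?_, e0, e1, e2, e3⟩
  obtain ⟨r1, r2, r3⟩ := D.rho_rho_eq hu
  have hρ : ρ u * ρ u = 1 := by rw [← map_mul, hu, map_one]
  have hρρ : ρ (ρ u) * ρ (ρ u) = 1 := by rw [← map_mul, hρ, map_one]
  have c1 := D.comm u
  have c2 := D.comm (ρ u)
  have c3 : ρ (ρ u) * u = u * ρ (ρ u) := by
    have := D.comm (ρ (ρ u))
    rwa [D.period] at this
  have a1 : (1 : F) + 1 = 0 := by linear_combination h2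
  have a2 : ω + ω = 0 := by linear_combination ω * h2
  have a3 : (1 : F) + ω = ω + 1 := add_comm _ _
  have a4 : (1 : F) + (ω + 1) = ω := by linear_combination h2
  have a5 : ω + 1 + 1 = ω := by linear_combination h2
  have a6 : ω + (ω + 1) = 1 := by linear_combination ω * h2
  have a7 : ω + 1 + ω = 1 := by linear_combination ω * h2
  have a8 : ω + 1 + (ω + 1) = 0 := by linear_combination (ω + 1) * h2
  intro a b
  rcases hall a with rfl | rfl | rfl | rfl <;> rcases hall b with rfl | rfl | rfl | rfl <;>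
    simp only [zero_add, add_zero, a1, a2, a3, a4, a5, a6, a7, a8, e0, e1, e2, e3, one_mul, mul_one]
  all_goals
    first
      | exact hu.symm
      | exact hρ.symm
      | exact hρρ.symm
      | exact r1
      | exact r2.symm
      | exact r3.symm
      | exact r1.trans c1
      | exact (c3.trans r2).symm
      | exact (c2.symm.trans r3).symm

omit [Finite T] in
/-- The multiplication rule. -/
theorem exists_param {F : Type*} [Field F] {ω : F} (h2 : (2 : F) = 0) (hω : ω * ω = ω + 1)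
    (hall : ∀ a : F, a = 0 ∨ a = 1 ∨ a = ω ∨ a = ω + 1) {s t : T} (hs : s * s = 1) (ht : t * t = 1)
    (hst : k s t ≠ 1) :
    ∃ Φ : F × F × F → T, Function.Injective Φ ∧ ∀ a b c a' b' c',
      Φ (a, b, c) * Φ (a', b', c') = Φ (a + a', b + b', c + c' + a * b') := by
  obtain ⟨μadd, μ0, μ1, μω, μω'⟩ := D.par_facts h2 hω hall hs
  obtain ⟨νadd, ν0, ν1, νω, νω'⟩ := D.par_facts h2 hω hall ht
  set μ := par ρ ω s with hμ
  set ν := par ρ ω t with hν
  let ζ : F → T := fun c => k s (ν c)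
  have hζc : ∀ c, ζ c ∈ Subgroup.center T := fun c => D.kcen _ _
  have ζadd : ∀ a b, ζ (a + b) = ζ a * ζ b := fun a b => by simp only [ζ]; rw [νadd, D.k_mul_right]
  obtain ⟨hk1, hk2⟩ := D.k_rho s t
  have hzc : k s t ∈ Subgroup.center T := D.kcen s t
  obtain ⟨r1, r2, r3⟩ := D.rho_rho_eq (D.exp _ hzc)
  have kst2 : k s (ρ (ρ t)) = ρ (k s t) := by
    rw [show ρ (ρ t) = t * ρ t from (D.rho_rho_eq ht).1, D.k_mul_right, hk1, r2]
  have ωω1 : ω * (ω + 1) = 1 := by linear_combination hω + ω * h2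
  have hω' : ∀ b, k (ρ s) (ν b) = ζ (ω * b) := by
    intro b
    simp only [ζ]
    rcases hall b with rfl | rfl | rfl | rfl
    · rw [mul_zero, ν0, D.k_one_right, D.k_one_right]
    · rw [mul_one, ν1, νω, hk1, hk2]
    · rw [νω, hω, νω', kst2, map_k]
    · rw [ωω1, νω', ν1, ← map_k, hk1, D.period]
  have key : ∀ a b, k (μ a) (ν b) = ζ (a * b) := by
    intro a b
    rcases hall a with rfl | rfl | rfl | rfl
    · rw [zero_mul, μ0, D.k_one_left]; simp only [ζ]; rw [ν0, D.k_one_right]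
    · rw [one_mul, μ1]
    · rw [μω]; exact hω' b
    · rw [μadd, μω, μ1, D.k_mul_left, hω', add_mul, one_mul, ζadd]
  have ζne : ∀ a, ζ a = 1 → a = 0 := by
    intro a ha
    simp only [ζ] at ha
    rcases hall a with rfl | rfl | rfl | rfl
    · rfl
    · rw [ν1] at ha; exact absurd ha hst
    · rw [νω, hk1] at ha
      exact absurd (ρ.injective (ρ.injective (by rw [ha, map_one, map_one]) : ρ (k s t) = ρ 1)) hst
    · rw [νω', kst2] at ha
      exact absurd (ρ.injective (ha.trans (map_one ρ).symm)) hst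
  have ζinj : ∀ a b, ζ a = ζ b → a = b := fun a b h => by
    have h1 := ζne (a + b) (by rw [ζadd, h, D.exp _ (hζc b)])
    linear_combination h1 - b * h2
  refine ⟨fun p => ν p.2.1 * μ p.1 * ζ p.2.2, ?_, ?_⟩
  · rintro ⟨a, b, c⟩ ⟨a', b', c'⟩ h
    simp only at h
    have kμ : ∀ x y, k (μ x) (μ y) = 1 := fun x y => by
      show μ x * μ y * (μ x)⁻¹ * (μ y)⁻¹ = 1
      rw [← μadd, add_comm, μadd]; group
    have kν : ∀ x y, k (ν x) (ν y) = 1 := fun x y => by
      show ν x * ν y * (ν x)⁻¹ * (ν y)⁻¹ = 1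
      rw [← νadd, add_comm, νadd]; group
    have h1 := congrArg (fun w => k w (μ 1)) h
    have h2' := congrArg (fun w => k w (ν 1)) h
    simp only [D.k_mul_left, kμ, kν, D.k_symm (μ 1), key, one_mul, mul_one,
      D.k_symm (ν 1) (ζ _), D.k_center _ (hζc _)] at h1 h2'
    have ha := ζinj _ _ h2'
    have hb := ζinj _ _ h1
    subst ha; subst hb
    rw [ζinj _ _ (mul_left_cancel h)]
  · intro a b c a' b' c'
    simp only
    rw [νadd, μadd, ζadd, ζadd, ← key]
    calc ν b * μ a * ζ c * (ν b' * μ a' * ζ c')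
        = ν b * μ a * (ζ c * (ν b' * μ a')) * ζ c' := by group
      _ = ν b * (μ a * ν b') * (μ a' * ζ c) * ζ c' := by
          rw [← Subgroup.mem_center_iff.1 (hζc c) (ν b' * μ a')]; group
      _ = ν b * k (μ a) (ν b') * (ν b' * μ a * (μ a' * ζ c) * ζ c') := by
          rw [swap (μ a) (ν b')]; group
      _ = k (μ a) (ν b') * (ν b * ν b' * (μ a * μ a') * (ζ c * ζ c')) := by rw [D.central]; group
      _ = _ := by rw [← D.central]; group

omit [Finite T] in
theorem exists_singular {u v : T} (huv : k u v ≠ 1) (hu : u * u = 1 ∨ u * u = k u v)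
    (hv : v * v = 1 ∨ v * v = k u v) : ∃ s t : T, s * s = 1 ∧ t * t = 1 ∧ k s t ≠ 1 := by
  set z := k u v with hz
  have hzz : z * z = 1 := D.exp _ (D.kcen u v)
  obtain ⟨r1, r2, r3⟩ := D.rho_rho_eq hzz
  obtain ⟨hk1, hk2⟩ := D.k_rho u v
  rcases hu with hu | hu <;> rcases hv with hv | hv
  · exact ⟨u, v, hu, hv, huv⟩
  · refine ⟨u, u * v, hu, ?_, ?_⟩
    · rw [D.mul_sq, hu, hv, one_mul, D.k_symm, ← hz, hzz]
    · rw [D.k_mul_right, k_self, one_mul]; exact huv
  · refine ⟨u * v, v, ?_, hv, ?_⟩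
    · rw [D.mul_sq, hu, hv, mul_one, D.k_symm, ← hz, hzz]
    · rw [D.k_mul_left, k_self, mul_one]; exact huv
  · have c1 : k v (ρ u) = ρ (ρ z) := by rw [D.k_symm, hk2]
    have c2 : k v (ρ (ρ u)) = ρ z := by
      rw [show ρ (ρ u) = (u * ρ u)⁻¹ from eq_inv_of_mul_eq_one_right (D.triple u), D.k_inv_right,
        D.k_mul_right, D.k_symm u v, c1, ← hz, r2]
    refine ⟨ρ u * v, ρ (ρ u) * v, ?_, ?_, ?_⟩
    · rw [D.mul_sq, ← map_mul, hu, hv, c1, ← D.comm, ← r1, ← map_mul, ← map_mul, hzz, map_one, map_one]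
    · rw [D.mul_sq, ← map_mul, ← map_mul, hu, hv, c2, r1, mul_assoc (z * ρ z), ← r1, r1, ← mul_assoc, mul_assoc,
        D.exp _ (mul_mem (D.kcen u v) (D.rho_center (D.kcen u v)))]
    · have hs : k (ρ u) (ρ (ρ u)) = 1 := by
        show ρ u * ρ (ρ u) * (ρ u)⁻¹ * (ρ (ρ u))⁻¹ = 1
        rw [D.comm]; group
      rw [D.k_mul_left, D.k_mul_right, D.k_mul_right, hs, one_mul, hk2, c2, k_self, mul_one]
      intro h
      apply huv
      rw [← r3, D.comm (ρ z)]
      exact h

omit [Finite T] in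
theorem x_rho {x : MulAut T} (hxr : x * ρ * x⁻¹ = ρ⁻¹) (y : T) : x (ρ y) = ρ (ρ (x y)) := by
  have h : x (ρ y) = ρ⁻¹ (x y) := by
    rw [← MulAut.mul_apply, ← MulAut.mul_apply, ← hxr, inv_mul_cancel_right]
  rw [h]
  conv_lhs => rw [← D.period (x y)]
  rw [← MulAut.mul_apply, inv_mul_cancel]
  rfl

/-- Two non-commuting fixed points of an involution inverting `ρ`. -/
theorem exists_fixed_pair {x : MulAut T} (hx : x * x = 1) (hxr : x * ρ * x⁻¹ = ρ⁻¹)
    (hna : ¬ IsMulCommutative T) :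
    ∃ u v : T, x u = u ∧ x v = v ∧ k u v ≠ 1 ∧
      ∀ c ∈ Subgroup.center T, x c = c → c = 1 ∨ c = k u v := by
  classical
  have hxx : ∀ y, x (x y) = y := fun y => by
    rw [← MulAut.mul_apply, hx]; rfl
  -- a central element moved by `x`
  obtain ⟨d, hd, hxd⟩ : ∃ d ∈ Subgroup.center T, x d ≠ d := by
    haveI : Nontrivial (Subgroup.center T) := Finite.one_lt_card_iff_nontrivial.1 (by rw [D.cardZ]; norm_num)
    obtain ⟨⟨w, hw⟩, hw1⟩ := exists_ne (1 : Subgroup.center T)
    by_cases h : x w = w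
    · refine ⟨ρ w, D.rho_center hw, fun h' => hw1 (Subtype.ext ?_)⟩
      rw [D.x_rho hxr, h] at h'
      exact D.fpf w (ρ.injective h')
    · exact ⟨w, hw, h⟩
  set z₀ := d * x d with hz₀
  have hxdc : x d ∈ Subgroup.center T := center_inv x hd
  have hdd := D.exp d hd
  have hd1 : d ≠ 1 := fun h => hxd (by rw [h, map_one])
  have hxd1 : x d ≠ 1 := fun h => hd1 (x.injective (h.trans (map_one x).symm))
  have hz1 : z₀ ≠ 1 := fun h => hxd (by
    rw [← inv_eq_of_mul_eq_one_right h, inv_eq_iff_mul_eq_one, hdd])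
  have hz₀x : x z₀ = z₀ := by
    rw [hz₀, map_mul, hxx]; exact (Subgroup.mem_center_iff.1 hxdc d).symm
  have hfixed : ∀ c ∈ Subgroup.center T, x c = c → c = 1 ∨ c = z₀ := by
    intro c hc hxc
    haveI : Fintype (Subgroup.center T) := Fintype.ofFinite _
    have hu : ({⟨1, one_mem _⟩, ⟨d, hd⟩, ⟨x d, hxdc⟩, ⟨z₀, mul_mem hd hxdc⟩} :
        Finset (Subgroup.center T)) = Finset.univ := by
      refine Finset.eq_univ_of_card _ ?_
      rw [← Nat.card_eq_fintype_card, D.cardZ, Finset.card_insert_of_notMem,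
        Finset.card_insert_of_notMem, Finset.card_pair]
      · intro h
        exact hd1 (right_eq_mul.1 (congrArg Subtype.val h))
      · simp only [Finset.mem_insert, Finset.mem_singleton, Subtype.mk.injEq]
        push Not
        exact ⟨Ne.symm hxd, fun h => hxd1 (left_eq_mul.1 h)⟩
      · simp only [Finset.mem_insert, Finset.mem_singleton, Subtype.mk.injEq]
        push Not
        exact ⟨Ne.symm hd1, Ne.symm hxd1, Ne.symm hz1⟩
    have hm := Finset.mem_univ (⟨c, hc⟩ : Subgroup.center T)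
    rw [← hu] at hm
    simp only [Finset.mem_insert, Finset.mem_singleton, Subtype.mk.injEq] at hm
    rcases hm with h | h | h | h
    · exact Or.inl h
    · exact absurd (h ▸ hxc) hxd
    · exact absurd (show x d = d by rw [h, hxx] at hxc; exact hxc.symm) hxd
    · exact Or.inr h
  have hlift : ∀ y, y⁻¹ * x y ∈ Subgroup.center T → ∃ e ∈ Subgroup.center T, x (y * e) = y * e := by
    intro y hy
    set c := y⁻¹ * x y with hc
    have hxy : x y = y * c := by rw [hc, mul_inv_cancel_left]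
    have hxc : x c = c := by
      have h := hxx y
      rw [hxy, map_mul, hxy, mul_assoc] at h
      calc x c = c⁻¹ := eq_inv_of_mul_eq_one_right (mul_eq_left.1 h)
        _ = c := by rw [inv_eq_iff_mul_eq_one, D.exp c hy]
    rcases hfixed c hy hxc with h | h
    · exact ⟨1, one_mem _, by rw [mul_one, hxy, h, mul_one]⟩
    · refine ⟨d, hd, ?_⟩
      rw [map_mul, hxy, h, hz₀, mul_assoc, mul_assoc, D.exp _ hxdc, mul_one]
  have hP : ∀ y, ∃ e ∈ Subgroup.center T, x (y * x y * e) = y * x y * e := fun y => hlift _ (by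
    rw [map_mul, hxx, swap (x y) y, ← D.central, inv_mul_cancel_left]
    exact D.kcen _ _)
  by_contra hcon
  push Not at hcon
  have hcon' : ∀ u v, x u = u → x v = v → k u v = 1 := by
    intro u v hu hv
    by_contra huv
    obtain ⟨c, hc, hxc, hc1, hck⟩ := hcon u v hu hv huv
    have hk : x (k u v) = k u v := by rw [map_k, hu, hv]
    rcases hfixed c hc hxc with h | h
    · exact hc1 h
    · exact hck (h.trans ((hfixed _ (D.kcen u v) hk).resolve_left huv).symm)
  let P : T → T := fun y => y * x y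
  have hPP : ∀ y y', k (P y) (P y') = 1 := by
    intro y y'
    obtain ⟨e, he, h⟩ := hP y
    obtain ⟨e', he', h'⟩ := hP y'
    have := hcon' _ _ h h'
    rwa [D.k_mul_left, D.k_mul_right (y * x y), D.k_center e' he', mul_one,
      D.k_symm (y' * x y' * e') e, D.k_center e he, mul_one] at this
  have hPρ : ∀ y y', k (P y) (ρ (P y')) = 1 ∧ k (ρ (P y)) (P y') = 1 := by
    intro y y'
    obtain ⟨h1, h2⟩ := D.k_rho (P y) (P y')
    rw [hPP, map_one, map_one] at h1 h2
    exact ⟨h1, h2⟩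
  refine hna ⟨⟨fun a b => ?_⟩⟩
  -- every element is a product of `P` and `ρ P` up to the centre
  have hgen : ∀ y, ∃ e ∈ Subgroup.center T, x y = P (ρ y) * ρ (P y) * e := by
    intro y
    refine ⟨(P (ρ y) * ρ (P y))⁻¹ * x y, ?_, by rw [mul_inv_cancel_left]⟩
    have hQ : ∀ p q : T, p * q * (p * q)⁻¹ = 1 := fun p q => mul_inv_cancel _
    show (ρ y * x (ρ y) * ρ (y * x y))⁻¹ * x y ∈ Subgroup.center T
    rw [D.x_rho hxr, map_mul]
    set X := x y with hX
    have hsw : ρ (ρ X) * ρ y = k (ρ (ρ X)) (ρ y) * (ρ y * ρ (ρ X)) := swap _ _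
    have h1 : ρ y * ρ (ρ X) * (ρ y * ρ X) = k (ρ (ρ X)) (ρ y) * (ρ y * ρ y) * (ρ (ρ X) * ρ X) := by
      calc ρ y * ρ (ρ X) * (ρ y * ρ X) = ρ y * (ρ (ρ X) * ρ y) * ρ X := by group
        _ = (ρ y * k (ρ (ρ X)) (ρ y)) * (ρ y * ρ (ρ X)) * ρ X := by rw [hsw]; group
        _ = _ := by rw [D.central]; group
    have h2 : (ρ (ρ X) * ρ X) = X⁻¹ := by
      rw [← D.comm]
      exact eq_inv_of_mul_eq_one_right (by rw [← mul_assoc]; exact D.triple X)
    rw [h1, h2, mul_inv_rev, inv_inv,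
      show X * (k (ρ (ρ X)) (ρ y) * (ρ y * ρ y))⁻¹ * X =
        (k (ρ (ρ X)) (ρ y) * (ρ y * ρ y))⁻¹ * (X * X) by
          rw [Subgroup.mem_center_iff.1 (inv_mem (mul_mem (D.kcen (ρ (ρ X)) (ρ y)) (D.sq_central (ρ y)))) X, mul_assoc]]
    exact mul_mem (inv_mem (mul_mem (D.kcen _ _) (D.sq_central _))) (D.sq_central _)
  obtain ⟨a, rfl⟩ := x.surjective a
  obtain ⟨b, rfl⟩ := x.surjective b
  obtain ⟨e, he, ha⟩ := hgen a
  obtain ⟨e', he', hb⟩ := hgen b
  have hk4 : ∀ p q r s : T, k (p * q) (r * s) = k p r * k p s * (k q r * k q s) := fun p q r s => by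
    rw [D.k_mul_left, D.k_mul_right, D.k_mul_right]
  have hkab : k (x a) (x b) = 1 := by
    rw [ha, hb, D.k_mul_left, D.k_mul_right (P (ρ a) * ρ (P a)), D.k_center e' he', mul_one,
      D.k_symm (P (ρ b) * ρ (P b) * e') e, D.k_center e he, mul_one,
      hk4 (P (ρ a)) (ρ (P a)) (P (ρ b)) (ρ (P b)), hPP, (hPρ _ _).1, (hPρ _ _).2, ← map_k, hPP, map_one]
    simp
  have := swap (x a) (x b)
  rwa [hkab, one_mul] at this

theorem card_fixed_le {x : MulAut T} (hxr : x * ρ * x⁻¹ = ρ⁻¹) (C : Subgroup T)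
    (hC : ∀ y : T, y ∈ C ↔ x y = y) : Nat.card C ≤ 8 := by
  have hinj : Function.Injective fun p : C × C => (p.1 : T) * ρ (p.2 : T) := by
    rintro ⟨a, b⟩ ⟨a', b'⟩ h
    simp only at h
    have h1 : (a' : T)⁻¹ * a = ρ ((b' : T) * (b : T)⁻¹) := by
      rw [map_mul, map_inv, eq_mul_inv_iff_mul_eq, mul_assoc, h, inv_mul_cancel_left]
    have hw : x ((a' : T)⁻¹ * a) = (a' : T)⁻¹ * a := (hC _).1 (C.mul_mem (C.inv_mem a'.2) a.2)
    have hw' : x ((b' : T) * (b : T)⁻¹) = (b' : T) * (b : T)⁻¹ := (hC _).1 (C.mul_mem b'.2 (C.inv_mem b.2))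
    rw [h1, D.x_rho hxr, hw'] at hw
    have h2 : (b' : T) * (b : T)⁻¹ = 1 := D.fpf _ (ρ.injective hw)
    rw [h2, map_one] at h1
    exact Prod.ext (Subtype.ext (inv_mul_eq_one.1 h1).symm) (Subtype.ext (mul_inv_eq_one.1 h2).symm)
  have h := Nat.card_le_card_of_injective _ hinj
  rw [Nat.card_prod, D.card] at h
  nlinarith

omit [Finite T] in
theorem fixed_sq {x : MulAut T} {u z : T} (hu : x u = u)
    (hfix : ∀ c ∈ Subgroup.center T, x c = c → c = 1 ∨ c = z) : u * u = 1 ∨ u * u = z :=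
  hfix _ (D.sq_central u) (by rw [map_mul, hu])

omit [Finite T] in
/-- The fixed subgroup is dihedral or quaternion. -/
theorem fixed_iso [Finite T] (C : Subgroup T) (hC8 : Nat.card C ≤ 8) {u v : T} (hu : u ∈ C) (hv : v ∈ C)
    (huv : k u v ≠ 1) (hu2 : u * u = 1 ∨ u * u = k u v) (hv2 : v * v = 1 ∨ v * v = k u v) :
    Nonempty (↥C ≃* DihedralGroup 4) ∨ Nonempty (↥C ≃* QuaternionGroup 2) := by
  haveI : Fact (Nat.Prime 2) := ⟨Nat.prime_two⟩
  set z := k u v with hz
  have hzz : z * z = 1 := D.exp _ (D.kcen u v)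
  have main : ∀ r s : T, r ∈ C → s ∈ C → r * r = z → k s r = z → (s * s = 1 ∨ s * s = z) →
      Nonempty (↥C ≃* DihedralGroup 4) ∨ Nonempty (↥C ≃* QuaternionGroup 2) := by
    intro r s hr hs hrr hsr hss
    have hr4 : r ^ 4 = 1 := by
      rw [show r ^ 4 = r ^ 2 * r ^ 2 by rw [← pow_add], pow_two, hrr, hzz]
    have ho : orderOf (⟨r, hr⟩ : C) = 4 := by
      refine orderOf_eq_prime_pow (p := 2) (n := 1) ?_ ?_
      · intro h
        have h' := congrArg Subtype.val h
        simp only [SubmonoidClass.coe_pow, pow_one, pow_two, OneMemClass.coe_one] at h'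
        exact huv (hrr.symm.trans h')
      · exact Subtype.ext (by simpa using hr4)
    have hrinv : (r : T)⁻¹ = z * r := by
      refine inv_eq_of_mul_eq_one_left ?_
      rw [mul_assoc, hrr, hzz]
    have hconj : (⟨s, hs⟩ : C) * ⟨r, hr⟩ * (⟨s, hs⟩ : C)⁻¹ = (⟨r, hr⟩ : C)⁻¹ := by
      refine Subtype.ext ?_
      show s * r * s⁻¹ = r⁻¹
      rw [hrinv, swap s r, hsr]; group
    have hnot : (⟨s, hs⟩ : C) ∉ Subgroup.zpowers (⟨r, hr⟩ : C) := by
      rintro ⟨i, hi⟩
      have h' : r ^ i = s := congrArg Subtype.val hi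
      apply huv
      rw [← hsr, ← h']
      show r ^ i * r * (r ^ i)⁻¹ * r⁻¹ = 1
      group
    rcases hss with hss | hss
    · left
      obtain ⟨f, hf, -, -⟩ := Classical.CyclicExt.exists_dihedral_hom (G := C) ⟨r, hr⟩ ⟨s, hs⟩ ho
        (Subtype.ext hss) hconj hnot
      refine ⟨(MulEquiv.ofBijective f ((Nat.bijective_iff_injective_and_card _).2 ⟨hf, ?_⟩)).symm⟩
      have := Nat.card_le_card_of_injective _ hf
      rw [DihedralGroup.nat_card] at this ⊢
      omega
    · right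
      obtain ⟨f, hf⟩ := Classical.CyclicExt.exists_quaternion_hom (G := C) (n := 2) ⟨r, hr⟩ ⟨s, hs⟩ ho
        (Subtype.ext (by
          show s * s = (((⟨r, hr⟩ : C) ^ 2 : C) : T)
          rw [SubmonoidClass.coe_pow, pow_two, hrr, hss]))
        hconj hnot
      refine ⟨(MulEquiv.ofBijective f ((Nat.bijective_iff_injective_and_card _).2 ⟨hf, ?_⟩)).symm⟩
      have h8 : Nat.card (QuaternionGroup 2) = 8 := by rw [Nat.card_eq_fintype_card, QuaternionGroup.card]
      have := Nat.card_le_card_of_injective _ hf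
      omega
  rcases hu2 with hu2 | hu2
  · rcases hv2 with hv2 | hv2
    · refine main (u * v) u (C.mul_mem hu hv) hu ?_ ?_ (Or.inl hu2)
      · rw [D.mul_sq, hu2, hv2, one_mul, one_mul, D.k_symm]
      · rw [D.k_mul_right, k_self, one_mul]
    · exact main v u hv hu hv2 hz.symm (Or.inl hu2)
  · exact main u v hu hv hu2 (D.k_symm u v) hv2

omit [Finite T] in
/-- The group is a Sylow 2-subgroup of `PSL₃(4)`. -/
theorem sylow_iso [Finite T] {F : Type} [Field F] [Fintype F] (hF : Fintype.card F = 4) {s t : T}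
    (hs : s * s = 1) (ht : t * t = 1) (hst : k s t ≠ 1) :
    ∃ S : Sylow 2 (Matrix.ProjectiveSpecialLinearGroup (Fin 3) F),
      Nonempty (T ≃* ↥(S : Subgroup (Matrix.ProjectiveSpecialLinearGroup (Fin 3) F))) := by
  classical
  haveI : Fact (Nat.Prime 2) := ⟨Nat.prime_two⟩
  haveI : CharP F 2 := charP_of_card_eq_prime_pow (f := 2) (by rw [hF]; norm_num)
  have h2 : (2 : F) = 0 := CharTwo.two_eq_zero
  obtain ⟨ω, hω0, hω1⟩ : ∃ ω : F, ω ≠ 0 ∧ ω ≠ 1 := by
    by_contra h
    push Not at h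
    have hsub : (Finset.univ : Finset F) ⊆ {0, 1} := fun x _ => by
      by_cases hx : x = 0
      · simp [hx]
      · simp [h x hx]
    have := (Finset.card_le_card hsub).trans Finset.card_le_two
    rw [Finset.card_univ, hF] at this
    omega
  have n2 : ω + 1 ≠ 0 := fun h => hω1 (CharTwo.add_eq_zero.1 h)
  have n3 : ω + 1 ≠ ω := fun h => one_ne_zero (by linear_combination h : (1 : F) = 0)
  have n4 : ω + 1 ≠ 1 := fun h => hω0 (by linear_combination h)
  have huniv : ({0, 1, ω, ω + 1} : Finset F) = Finset.univ := by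
    refine Finset.eq_univ_of_card _ ?_
    rw [Finset.card_insert_of_notMem (by simp [hω0.symm, n2.symm]),
      Finset.card_insert_of_notMem (by simp [hω1.symm, n4.symm]), Finset.card_pair n3.symm, hF]
  have hall : ∀ a : F, a = 0 ∨ a = 1 ∨ a = ω ∨ a = ω + 1 := fun a => by
    have := huniv ▸ Finset.mem_univ a
    simpa using this
  have hωω : ω * ω = ω + 1 := by
    rcases hall (ω * ω) with h | h | h | h
    · exact absurd (mul_self_eq_zero.1 h) hω0
    · refine absurd ?_ n2
      exact mul_self_eq_zero.1 (by linear_combination h + (ω + 1) * h2)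
    · exact absurd (mul_left_cancel₀ hω0 (h.trans (mul_one ω).symm)) hω1
    · exact h
  obtain ⟨Φ, hΦi, hΦm⟩ := D.exists_param h2 hωω hall hs ht hst
  have hΦb : Function.Bijective Φ := (Nat.bijective_iff_injective_and_card _).2 ⟨hΦi, by
    rw [Nat.card_prod, Nat.card_prod, Nat.card_eq_fintype_card (α := F), hF, D.card]⟩
  let M : F × F × F → Matrix.SpecialLinearGroup (Fin 3) F := fun p =>
    ⟨!![1, p.1, p.2.2; 0, 1, p.2.1; 0, 0, 1], by rw [Matrix.det_fin_three]; simp⟩
  let e := Equiv.ofBijective Φ hΦb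
  let π := QuotientGroup.mk' (Subgroup.center (Matrix.SpecialLinearGroup (Fin 3) F))
  let ψ : T →* Matrix.ProjectiveSpecialLinearGroup (Fin 3) F := MonoidHom.mk' (fun w => π (M (e.symm w))) (by
    intro w w'
    obtain ⟨⟨a, b, c⟩, rfl⟩ := hΦb.2 w
    obtain ⟨⟨a', b', c'⟩, rfl⟩ := hΦb.2 w'
    rw [hΦm]
    have he : ∀ p, e.symm (Φ p) = p := e.symm_apply_apply
    rw [he, he, he, ← map_mul]
    congr 1
    refine Subtype.ext ?_
    rw [Matrix.SpecialLinearGroup.coe_mul]
    ext i j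
    fin_cases i <;> fin_cases j <;> simp [M, Matrix.mul_apply, Fin.sum_univ_three] <;> ring)
  have hψ : Function.Injective ψ := by
    intro w w' h
    apply e.symm.injective
    set p := e.symm w
    set p' := e.symm w'
    obtain ⟨r, -, hr⟩ := Matrix.SpecialLinearGroup.mem_center_iff.1 (QuotientGroup.eq.1 h)
    have hr' : (M p' : Matrix (Fin 3) (Fin 3) F) = (M p : Matrix (Fin 3) (Fin 3) F) * Matrix.scalar (Fin 3) r := by
      rw [hr, ← Matrix.SpecialLinearGroup.coe_mul, mul_inv_cancel_left]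
    have e00 := congrFun (congrFun hr' 0) 0
    have e01 := congrFun (congrFun hr' 0) 1
    have e02 := congrFun (congrFun hr' 0) 2
    have e12 := congrFun (congrFun hr' 1) 2
    simp [M, Matrix.mul_apply, Fin.sum_univ_three] at e00 e01 e02 e12
    rw [← e00] at e01 e02 e12
    simp at e01 e02 e12
    exact (Prod.ext e01 (Prod.ext e12 e02)).symm
  have hcard : Nat.card (Matrix.ProjectiveSpecialLinearGroup (Fin 3) F) = 20160 := by
    have h1 := Classical.Linear.natCard_PSL_mul_center (n := Fin 3) (F := F)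
    have h3 := Classical.Linear.natCard_GL_eq_mul (n := Fin 3) (F := F)
    rw [Classical.Linear.natCard_center_SL, Fintype.card_fin, hF] at h1
    rw [Classical.Linear.natCard_GL_fin, hF] at h3
    norm_num [Fin.prod_univ_three] at h1 h3
    rw [Nat.card_eq_fintype_card]
    omega
  have hrange : Nat.card ψ.range = 2 ^ (Nat.card (Matrix.ProjectiveSpecialLinearGroup (Fin 3) F)).factorization 2 := by
    rw [← Nat.card_congr (MonoidHom.ofInjective hψ).toEquiv, D.card, hcard,
      show (20160 : ℕ) = 2 ^ 6 * 315 by norm_num,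
      Nat.factorization_mul (by norm_num) (by norm_num), Finsupp.add_apply,
      Nat.Prime.factorization_pow Nat.prime_two, Finsupp.single_eq_same,
      Nat.factorization_eq_zero_of_not_dvd (by norm_num : ¬ (2 : ℕ) ∣ 315), add_zero]
    norm_num
  exact ⟨Sylow.ofCard ψ.range hrange, ⟨MonoidHom.ofInjective hψ⟩⟩

end Data

end Cfsg.Agent.InvChar.FixedPointFreeOrderSixtyFour
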