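import Mathlib

/-!
A presentation of `GL(2,3)`: groups of order 48 generated by a quaternion pair, an element of order three
permuting its axes and an involution inverting it.
-/

set_option autoImplicit false
set_option linter.all false

namespace Cfsg.Agent.InvChar.GL23

open scoped Pointwise

/-- The relations. -/
structure Rel {D : Type*} [Group D] (i j x t : D) : Prop where
  i4 : i ^ 4 = 1
  jj : j * j = i * i
  ji : j * i = i ^ 3 * j
  x3 : x ^ 3 = 1
  xi : x * i * x⁻¹ = j
  xj : x * j * x⁻¹ = i * j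
  tt : t * t = 1
  ti : t * i * t⁻¹ = i⁻¹
  tx : t * x * t⁻¹ = x⁻¹

theorem card_sup_le {D : Type*} [Group D] [Finite D] (A B : Subgroup D) (h : B ≤ Subgroup.normalizer (A : Set D)) :
    Nat.card ↥(A ⊔ B) ≤ Nat.card A * Nat.card B := by
  have he : ((A ⊔ B : Subgroup D) : Set D) = (A : Set D) * (B : Set D) :=
    Subgroup.coe_mul_of_right_le_normalizer_left A B h
  calc Nat.card ↥(A ⊔ B) = Nat.card ((A : Set D) * (B : Set D) : Set D) := by rw [← he]; rfl
    _ ≤ Nat.card (A : Set D) * Nat.card (B : Set D) := Set.natCard_mul_le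
    _ = _ := rfl

theorem mem_normalizer_of_closure {D : Type*} [Group D] [Finite D] {S : Set D} {g : D}
    (h : ∀ s ∈ S, g * s * g⁻¹ ∈ Subgroup.closure S) :
    g ∈ Subgroup.normalizer (Subgroup.closure S : Set D) := by
  have hle : (Subgroup.closure S).map (MulAut.conj g).toMonoidHom ≤ Subgroup.closure S := by
    rw [MonoidHom.map_closure, Subgroup.closure_le]
    rintro _ ⟨s, hs, rfl⟩
    exact h s hs
  rw [Subgroup.mem_normalizer_iff_map_conj_eq]
  exact Subgroup.eq_of_le_of_card_ge hle (le_of_eq (Subgroup.card_map_of_injective (MulAut.conj g).injective).symm)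

theorem card_closure_le {D : Type*} [Group D] [Finite D] {i j x t : D} (h : Rel i j x t) :
    Nat.card (Subgroup.closure ({i, j, x, t} : Set D)) ≤ 48 := by
  set A := Subgroup.closure ({i, j} : Set D) with hA
  set B := Subgroup.closure ({x, t} : Set D) with hB
  have hiA : i ∈ A := Subgroup.subset_closure (Or.inl rfl)
  have hjA : j ∈ A := Subgroup.subset_closure (Or.inr rfl)
  have hBn : B ≤ Subgroup.normalizer (A : Set D) := by
    rw [hB, Subgroup.closure_le]
    rintro g (rfl | rfl)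
    · refine mem_normalizer_of_closure ?_
      rintro s (rfl | rfl)
      · rw [h.xi]; exact hjA
      · rw [h.xj]; exact A.mul_mem hiA hjA
    · refine mem_normalizer_of_closure ?_
      rintro s (rfl | rfl)
      · rw [h.ti]; exact A.inv_mem hiA
      · -- `t j t⁻¹ = x⁻¹ (t i t⁻¹) x`
        have e : g * s * g⁻¹ = x⁻¹ * i⁻¹ * x := by
          calc g * s * g⁻¹ = g * (x * i * x⁻¹) * g⁻¹ := by rw [h.xi]
            _ = (g * x * g⁻¹) * (g * i * g⁻¹) * (g * x * g⁻¹)⁻¹ := by group
            _ = _ := by rw [h.tx, h.ti]; group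
        have hx2 : x⁻¹ = x * x := inv_eq_of_mul_eq_one_right (by rw [← mul_assoc, ← pow_three', h.x3])
        have e2 : x⁻¹ * i⁻¹ * x = (i * s)⁻¹ := by
          calc x⁻¹ * i⁻¹ * x = (x⁻¹ * i * x⁻¹⁻¹)⁻¹ := by group
            _ = ((x * x) * i * (x * x)⁻¹)⁻¹ := by rw [← hx2]
            _ = (x * (x * i * x⁻¹) * x⁻¹)⁻¹ := by group
            _ = _ := by rw [h.xi, h.xj]
        rw [e, e2]
        exact A.inv_mem (A.mul_mem hiA hjA)
  have hAle : Nat.card A ≤ 8 := by
    let f : Fin 4 × Fin 2 → D := fun p => i ^ (p.1 : ℕ) * j ^ (p.2 : ℕ)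
    have hsub : (A : Set D) ⊆ Set.range f := by
      have hjj : j * j = i ^ 2 := by rw [h.jj, pow_two]
      have hpi : ∀ n : ℕ, i ^ n = i ^ (n % 4) := fun n => pow_eq_pow_mod n h.i4
      have hji : ∀ n : ℕ, j * i ^ n = i ^ (3 * n) * j := by
        intro n
        induction n with
        | zero => simp
        | succ n ih => rw [pow_succ, ← mul_assoc, ih, mul_assoc, h.ji, ← mul_assoc, ← pow_add]; rfl
      have hform : ∀ a b : ℕ, b ≤ 1 → i ^ a * j ^ b ∈ Set.range f := fun a b hb =>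
        ⟨(⟨a % 4, Nat.mod_lt _ (by norm_num)⟩, ⟨b, by omega⟩), by show i ^ (a % 4) * j ^ b = _; rw [← hpi]⟩
      have hclosed : ∀ g ∈ Set.range f, g * i ∈ Set.range f ∧ g * j ∈ Set.range f := by
        rintro _ ⟨⟨⟨a, ha⟩, ⟨b, hb⟩⟩, rfl⟩
        show i ^ a * j ^ b * i ∈ _ ∧ i ^ a * j ^ b * j ∈ _
        interval_cases b
        · simp only [pow_zero, mul_one]
          refine ⟨?_, ?_⟩
          · simpa [← pow_succ] using hform (a + 1) 0 (by norm_num)
          · simpa using hform a 1 le_rfl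
        · simp only [pow_one]
          refine ⟨?_, ?_⟩
          · have := hji 1
            rw [pow_one] at this
            rw [mul_assoc, this, ← mul_assoc, ← pow_add]
            simpa using hform (a + 3 * 1) 1 le_rfl
          · rw [mul_assoc, hjj, ← pow_add]
            simpa using hform (a + 2) 0 (by norm_num)
      intro g hg
      have hfin : g ∈ Submonoid.closure ({i, j} : Set D) := by
        rw [SetLike.mem_coe, hA, ← Subgroup.mem_toSubmonoid, Subgroup.closure_toSubmonoid_of_finite] at hg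
        exact hg
      clear hg
      induction hfin using Submonoid.closure_induction_right with
      | one => simpa using hform 0 0 (by norm_num)
      | mul_right g _ s hs hgr =>
        rcases hs with rfl | rfl
        · exact (hclosed g hgr).1
        · exact (hclosed g hgr).2
    calc Nat.card A ≤ Nat.card (Set.range f) := Nat.card_mono (Set.finite_range f) hsub
      _ ≤ Nat.card (Fin 4 × Fin 2) := Finite.card_range_le f
      _ = 8 := by simp
  have hBle : Nat.card B ≤ 6 := by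
    have hB' : B = Subgroup.zpowers x ⊔ Subgroup.zpowers t := by
      rw [hB, Subgroup.zpowers_eq_closure, Subgroup.zpowers_eq_closure, ← Subgroup.closure_union, Set.singleton_union]
    have hn : Subgroup.zpowers t ≤ Subgroup.normalizer (Subgroup.zpowers x : Set D) := by
      rw [Subgroup.zpowers_le, Subgroup.mem_normalizer_iff_map_conj_eq, MonoidHom.map_zpowers]
      show Subgroup.zpowers (t * x * t⁻¹) = _
      rw [h.tx, Subgroup.zpowers_inv]
    rw [hB']
    refine (card_sup_le _ _ hn).trans ?_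
    rw [Nat.card_zpowers, Nat.card_zpowers]
    have h3 : orderOf x ≤ 3 := Nat.le_of_dvd (by norm_num) (orderOf_dvd_of_pow_eq_one h.x3)
    have h2 : orderOf t ≤ 2 := Nat.le_of_dvd (by norm_num) (orderOf_dvd_of_pow_eq_one (by rw [pow_two, h.tt]))
    calc orderOf x * orderOf t ≤ 3 * 2 := Nat.mul_le_mul h3 h2
      _ = 6 := rfl
  have heq : Subgroup.closure ({i, j, x, t} : Set D) = A ⊔ B := by
    rw [hA, hB, ← Subgroup.closure_union]
    congr 1
    ext g
    simp only [Set.mem_insert_iff, Set.mem_union, Set.mem_singleton_iff]; tauto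
  rw [heq]
  calc Nat.card ↥(A ⊔ B) ≤ Nat.card A * Nat.card B := card_sup_le A B hBn
    _ ≤ 8 * 6 := Nat.mul_le_mul hAle hBle

def I : GL (Fin 2) (ZMod 3) := ⟨!![0, 2; 1, 0], !![0, 1; 2, 0], by decide, by decide⟩
def J : GL (Fin 2) (ZMod 3) := ⟨!![1, 1; 1, 2], !![2, 2; 2, 1], by decide, by decide⟩
def X : GL (Fin 2) (ZMod 3) := ⟨!![1, 1; 0, 1], !![1, 2; 0, 1], by decide, by decide⟩
def T : GL (Fin 2) (ZMod 3) := ⟨!![1, 0; 0, 2], !![1, 0; 0, 2], by decide, by decide⟩

theorem rel : Rel I J X T := by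
  constructor <;> exact Units.ext (by decide +kernel)

theorem forms : ∀ M : Matrix (Fin 2) (Fin 2) (ZMod 3), M.det ≠ 0 → ∃ (a : Fin 4) (b : Fin 2) (c : Fin 3) (d : Fin 2),
    M = (I : Matrix (Fin 2) (Fin 2) (ZMod 3)) ^ (a : ℕ) * (J : Matrix (Fin 2) (Fin 2) (ZMod 3)) ^ (b : ℕ) *
      (X : Matrix (Fin 2) (Fin 2) (ZMod 3)) ^ (c : ℕ) * (T : Matrix (Fin 2) (Fin 2) (ZMod 3)) ^ (d : ℕ) := by
  decide +kernel

theorem card_GL : Nat.card (GL (Fin 2) (ZMod 3)) = 48 := by
  rw [Matrix.card_GL_field]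
  simp [Fin.prod_univ_two]

theorem nonempty_equiv {D : Type*} [Group D] [Finite D] (hD : Nat.card D = 48) {i j x t : D} (h : Rel i j x t)
    (hgen : Subgroup.closure ({i, j, x, t} : Set D) = ⊤) : Nonempty (D ≃* GL (Fin 2) (ZMod 3)) := by
  set P := Subgroup.closure ({(i, I), (j, J), (x, X), (t, T)} : Set (D × GL (Fin 2) (ZMod 3))) with hP
  have hR : Rel ((i, I) : D × GL (Fin 2) (ZMod 3)) (j, J) (x, X) (t, T) :=
    ⟨Prod.ext h.i4 rel.i4, Prod.ext h.jj rel.jj, Prod.ext h.ji rel.ji, Prod.ext h.x3 rel.x3, Prod.ext h.xi rel.xi,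
      Prod.ext h.xj rel.xj, Prod.ext h.tt rel.tt, Prod.ext h.ti rel.ti, Prod.ext h.tx rel.tx⟩
  have hle : Nat.card P ≤ 48 := card_closure_le hR
  set f := (MonoidHom.fst D (GL (Fin 2) (ZMod 3))).comp P.subtype with hf
  set g := (MonoidHom.snd D (GL (Fin 2) (ZMod 3))).comp P.subtype with hg
  have hmem : ∀ u ∈ ({(i, I), (j, J), (x, X), (t, T)} : Set (D × GL (Fin 2) (ZMod 3))), u ∈ P :=
    fun u hu => Subgroup.subset_closure hu
  have hfs : Function.Surjective f := by
    rw [← MonoidHom.range_eq_top, eq_top_iff, ← hgen, Subgroup.closure_le]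
    rintro u (rfl | rfl | rfl | rfl)
    · exact ⟨⟨_, hmem (u, I) (by simp)⟩, rfl⟩
    · exact ⟨⟨_, hmem (u, J) (by simp)⟩, rfl⟩
    · exact ⟨⟨_, hmem (u, X) (by simp)⟩, rfl⟩
    · exact ⟨⟨_, hmem (u, T) (by simp)⟩, rfl⟩
  have hgs : Function.Surjective g := by
    intro M
    obtain ⟨a, b, c, d, hM⟩ := forms (M : Matrix (Fin 2) (Fin 2) (ZMod 3)) (by
      have := (Matrix.GeneralLinearGroup.det M).ne_zero
      exact this)
    refine ⟨⟨(i, I) ^ (a : ℕ) * (j, J) ^ (b : ℕ) * (x, X) ^ (c : ℕ) * (t, T) ^ (d : ℕ),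
      P.mul_mem (P.mul_mem (P.mul_mem (P.pow_mem (hmem _ (by simp)) _) (P.pow_mem (hmem _ (by simp)) _))
        (P.pow_mem (hmem _ (by simp)) _)) (P.pow_mem (hmem _ (by simp)) _)⟩, Units.ext ?_⟩
    rw [hM]
    simp [hg]
  have hf1 : Nat.card D = Nat.card P := le_antisymm (Nat.card_le_card_of_surjective f hfs) (hD ▸ hle)
  have hg1 : Nat.card (GL (Fin 2) (ZMod 3)) = Nat.card P :=
    le_antisymm (Nat.card_le_card_of_surjective g hgs) (card_GL ▸ hle)
  exact ⟨(MulEquiv.ofBijective f ((Nat.bijective_iff_surjective_and_card f).2 ⟨hfs, hf1.symm⟩)).symm.trans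
    (MulEquiv.ofBijective g ((Nat.bijective_iff_surjective_and_card g).2 ⟨hgs, hg1.symm⟩))⟩

end Cfsg.Agent.InvChar.GL23
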