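import Mathlib
import Cfsg.Agent.InvChar.Extraspecial
import Cfsg.Agent.InvChar.AltFiveFacts

/-!
Counting inside a group `Q ⋊ A₅` with `Q` extraspecial of order 32 self-centralizing: the pairs
(noncentral involution of `Q`, involution outside `Q`) that do not commute.
-/

set_option linter.all false

namespace Cfsg.Agent.InvChar.JankoTwoCount

open Subgroup

theorem five_pattern : ∀ P : Fin 5 → Bool, (∀ i, P i = true → P (-i) = true) →
    (∀ i, i ≠ 0 → P i = true → ∃ k, k ≠ 0 ∧ k ≠ i ∧ P k = true ∧ P (k - i) = true) →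
    (∃ i, i ≠ 0 ∧ P i = true) → ∀ j, j ≠ 0 → P j = true := by decide +kernel

variable {Q : Type*} [Group Q] [Finite Q]

/-- The squares equal to one in an extraspecial group of order 32 number 12 or 20. -/
theorem card_sq_one (hQ : Cfsg.IsExtraspecial 2 Q) (hcard : Nat.card Q = 32) :
    Nat.card {x : Q // x * x = 1} = 12 ∨ Nat.card {x : Q // x * x = 1} = 20 := by
  classical
  haveI := Fintype.ofFinite Q
  haveI : Nontrivial (Subgroup.center Q) := Finite.one_lt_card_iff_nontrivial.1 (by rw [hQ.2]; norm_num)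
  obtain ⟨⟨z, hz⟩, hzne⟩ := exists_ne (1 : Subgroup.center Q)
  have hz1 : z ≠ 1 := fun e => hzne (Subtype.ext e)
  obtain ⟨hall, hzz, hcomm, hsq⟩ := Extraspecial.facts hQ hz hz1
  let ε : Q → ℤ := fun x => if x * x = 1 then 1 else -1
  let χ : Q → Q → ℤ := fun x y => if x * y = y * x then 1 else -1
  have hzc : ∀ a, z * a = a * z := fun a => (mem_center_iff.1 hz a).symm
  have hε : ∀ x y, ε x * ε (x * y) = ε y * χ x y := by
    intro x y
    have hsplit : ∀ a : Q, a * a = 1 ∨ a * a = z := fun a => hall _ (hsq a)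
    have key : x * y * (x * y) = if x * y = y * x then x * x * (y * y) else z * (x * x * (y * y)) := by
      split_ifs with h
      · rw [mul_assoc x y, ← mul_assoc y, ← h]; group
      · have h' : y * x = z * (x * y) := ((hcomm y x).resolve_left fun e => h e.symm)
        calc x * y * (x * y) = x * (y * x) * y := by group
          _ = (x * z) * (x * y) * y := by rw [h']; group
          _ = (z * x) * (x * y) * y := by rw [hzc]
          _ = _ := by group
    rcases hsplit x with hx | hx <;> rcases hsplit y with hy | hy <;> by_cases hc : x * y = y * x <;>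
      (simp only [ε, χ, key]; simp [hx, hy, hc, hzz, hz1, Ne.symm hz1])
  have hχsum : ∀ y, y ∉ Subgroup.center Q → ∑ x, χ x y = 0 := by
    intro y hy
    obtain ⟨w, hw⟩ : ∃ w, w * y ≠ y * w := by
      by_contra hh
      push Not at hh
      exact hy (mem_center_iff.2 hh)
    have hflip : ∀ x, χ (w * x) y = - χ x y := by
      intro x
      have hwy : w * y = z * (y * w) := (hcomm w y).resolve_left hw
      by_cases hc : x * y = y * x
      · have : ¬ w * x * y = y * (w * x) := by
          rw [mul_assoc, hc, ← mul_assoc, hwy]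
          intro e
          rw [mul_assoc, mul_assoc] at e
          exact hz1 (mul_eq_right.1 e)
        simp [χ, hc, this]
      · have h' : x * y = z * (y * x) := (hcomm x y).resolve_left hc
        have : w * x * y = y * (w * x) := by
          rw [mul_assoc, h', ← mul_assoc, ← hzc, mul_assoc, ← mul_assoc w, hwy, ← mul_assoc, ← mul_assoc, hzz, one_mul,
            mul_assoc]
        simp [χ, hc, this]
    have h := Equiv.sum_comp (Equiv.mulLeft w) (fun x => χ x y)
    simp only [Equiv.coe_mulLeft, hflip, Finset.sum_neg_distrib] at h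
    omega
  have hS2 : (∑ x, ε x) * (∑ x, ε x) = 64 := by
    calc (∑ x, ε x) * (∑ x, ε x) = ∑ x, ∑ y, ε x * ε (x * y) := by
          rw [Finset.sum_mul]
          refine Finset.sum_congr rfl fun x _ => ?_
          rw [Finset.mul_sum]
          exact (Equiv.sum_comp (Equiv.mulLeft x) (fun y => ε x * ε y)).symm
      _ = ∑ y, ε y * ∑ x, χ x y := by
          simp_rw [hε]
          rw [Finset.sum_comm]
          simp_rw [Finset.mul_sum]
      _ = ∑ y ∈ ({1, z} : Finset Q), ε y * ∑ x, χ x y := by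
          refine (Finset.sum_subset (Finset.subset_univ _) fun y _ hy => ?_).symm
          rw [hχsum y fun hc => hy (by rcases hall y hc with h | h <;> simp [h]), mul_zero]
      _ = 64 := by
          have hc1 : ∀ x, χ x 1 = 1 := fun x => by simp [χ]
          have hc2 : ∀ x, χ x z = 1 := fun x => by simp [χ, hzc x]
          rw [Finset.sum_pair (Ne.symm hz1)]
          simp only [hc1, hc2, Finset.sum_const, Finset.card_univ, ← Nat.card_eq_fintype_card, hcard]
          simp [ε, hzz]
  have hsum : ∑ x, ε x = 2 * (Nat.card {x : Q // x * x = 1} : ℤ) - 32 := by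
    have e := Finset.card_filter_add_card_filter_not (s := (Finset.univ : Finset Q)) (fun x : Q => x * x = 1)
    rw [Finset.card_univ, ← Nat.card_eq_fintype_card, hcard] at e
    have e1 : ∑ x, ε x = ((Finset.univ.filter fun x : Q => x * x = 1).card : ℤ) -
        ((Finset.univ.filter fun x : Q => ¬ x * x = 1).card : ℤ) := by
      rw [← Finset.sum_filter_add_sum_filter_not Finset.univ (fun x : Q => x * x = 1)]
      rw [Finset.sum_congr rfl (fun x hx => show ε x = 1 by simp [ε, (Finset.mem_filter.1 hx).2]),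
        Finset.sum_congr rfl (fun x hx => show ε x = -1 by simp [ε, (Finset.mem_filter.1 hx).2])]
      simp
      ring
    rw [e1, Nat.card_eq_fintype_card, Fintype.card_subtype]
    omega
  rw [hsum] at hS2
  have hle : Nat.card {x : Q // x * x = 1} ≤ 32 := hcard ▸ Nat.card_le_card_of_injective _ Subtype.val_injective
  generalize Nat.card {x : Q // x * x = 1} = n at hS2 hle
  interval_cases n <;> first | (norm_num at hS2; done) | norm_num

/-- An involutory automorphism fixing few cosets inverts each element of a fixed coset. -/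
theorem inverted (hQ : Cfsg.IsExtraspecial 2 Q) (hcard : Nat.card Q = 32) (σ : Q ≃* Q)
    (hσ : ∀ q, σ (σ q) = q) (F : Subgroup Q) (hF : ∀ q, q ∈ F ↔ q⁻¹ * σ q ∈ Subgroup.center Q)
:
    8 ≤ Nat.card F ∧ (Nat.card F = 8 → ∀ q ∈ F, σ q = q⁻¹) := by
  haveI : Nontrivial (Subgroup.center Q) := Finite.one_lt_card_iff_nontrivial.1 (by rw [hQ.2]; norm_num)
  obtain ⟨⟨z, hz⟩, hzne⟩ := exists_ne (1 : Subgroup.center Q)
  have hz1 : z ≠ 1 := fun e => hzne (Subtype.ext e)
  obtain ⟨hall, hzz, hcomm, hsq⟩ := Extraspecial.facts hQ hz hz1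
  have hder : ∀ a b : Q, a⁻¹ * b⁻¹ * a * b ∈ Subgroup.center Q := fun a b => by
    rcases hcomm a b with h | h
    · rw [show a⁻¹ * b⁻¹ * a * b = (b * a)⁻¹ * (a * b) by group, h, inv_mul_cancel]; exact one_mem _
    · rw [show a⁻¹ * b⁻¹ * a * b = (b * a)⁻¹ * (a * b) by group, h, ← mul_assoc, (mem_center_iff.1 hz _),
        mul_assoc, inv_mul_cancel, mul_one]
      exact hz
  have hσz : ∀ c ∈ Subgroup.center Q, σ c = c := by
    intro c hc
    have hσc : σ c ∈ Subgroup.center Q := mem_center_iff.2 fun a => by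
      have := congrArg σ (mem_center_iff.1 hc (σ a))
      simpa [hσ] using this
    rcases hall c hc with rfl | rfl
    · exact map_one σ
    · rcases hall _ hσc with h | h
      · exact absurd (σ.injective (h.trans (map_one σ).symm)) hz1
      · exact h
  let π := QuotientGroup.mk' (Subgroup.center Q)
  have hquo : ∀ a b : Q ⧸ Subgroup.center Q, a * b = b * a := by
    intro a b
    obtain ⟨a, rfl⟩ := QuotientGroup.mk'_surjective _ a
    obtain ⟨b, rfl⟩ := QuotientGroup.mk'_surjective _ b
    rw [← map_mul, ← map_mul]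
    exact (QuotientGroup.eq).2 (by
      rw [show (a * b)⁻¹ * (b * a) = b⁻¹ * a⁻¹ * b * a by group]; exact hder b a)
  let ψ : Q →* Q ⧸ Subgroup.center Q :=
    { toFun := fun q => (π q)⁻¹ * π (σ q)
      map_one' := by simp
      map_mul' := fun a b => by
        simp only [map_mul, mul_inv_rev]
        rw [hquo (π b)⁻¹ (π a)⁻¹]
        simp only [mul_assoc]
        congr 1
        rw [← mul_assoc, hquo (π b)⁻¹, mul_assoc] }
  have hker : ψ.ker = F := by
    ext q
    rw [MonoidHom.mem_ker, hF]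
    show (π q)⁻¹ * π (σ q) = 1 ↔ _
    rw [← map_inv, ← map_mul]
    exact QuotientGroup.eq_one_iff _
  have hrange : ψ.range ≤ F.map π := by
    rintro _ ⟨y, rfl⟩
    refine ⟨y⁻¹ * σ y, (hF _).2 ?_, by show π (y⁻¹ * σ y) = (π y)⁻¹ * π (σ y); rw [map_mul, map_inv]⟩
    rw [map_mul, map_inv, hσ, show (y⁻¹ * σ y)⁻¹ * ((σ y)⁻¹ * y) = ((y⁻¹ * σ y) * (y⁻¹ * σ y))⁻¹ * 1 by group, mul_one]
    exact inv_mem (hsq _)
  have hZF : Subgroup.center Q ≤ F := fun c hc => (hF c).2 (by rw [hσz c hc, inv_mul_cancel]; exact one_mem _)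
  have hmap : Nat.card (F.map π) * 2 = Nat.card F := by
    have h1 := Subgroup.card_mul_index ((Subgroup.center Q).subgroupOf F)
    have h3 : Nat.card ((Subgroup.center Q).subgroupOf F) = 2 := by
      rw [Nat.card_congr (Subgroup.subgroupOfEquivOfLe hZF).toEquiv, hQ.2]
    rw [h3] at h1
    have h2 : ((Subgroup.center Q).subgroupOf F).index = Nat.card (F.map π) := by
      rw [show F.map π = (π.comp F.subtype).range by rw [MonoidHom.range_comp, Subgroup.range_subtype],
        ← Subgroup.index_ker]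
      congr 1
      ext x
      simp [π, Subgroup.mem_subgroupOf]
    omega
  have hψ : Nat.card ψ.range * Nat.card F = 32 := by
    rw [← hker, ← Subgroup.index_ker, Subgroup.index_mul_card, hcard]
  have hle := Subgroup.card_le_of_le hrange
  have hFge : 8 ≤ Nat.card F := by
    have : Nat.card F ∣ 32 := hcard ▸ Subgroup.card_subgroup_dvd_card F
    obtain ⟨i, hi, hi'⟩ := (Nat.dvd_prime_pow Nat.prime_two).1 (this.trans (show 32 ∣ 2 ^ 5 by norm_num))
    rw [hi'] at hmap hψ ⊢
    interval_cases i <;> omega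
  refine ⟨hFge, fun hF8 q hq => ?_⟩
  have heq : ψ.range = F.map π := eq_of_le_of_card_ge hrange (by
    rw [hF8] at hmap hψ
    omega)
  obtain ⟨y, hy⟩ : π q ∈ ψ.range := heq ▸ mem_map_of_mem π hq
  have hc : q * (y⁻¹ * σ y)⁻¹ ∈ Subgroup.center Q := by
    rw [← QuotientGroup.eq_one_iff (N := Subgroup.center Q)]
    show π (q * (y⁻¹ * σ y)⁻¹) = 1
    rw [map_mul, ← hy, map_inv, map_mul, map_inv]
    exact mul_inv_cancel _
  set c := q * (y⁻¹ * σ y)⁻¹ with hcdef
  have hq' : q = c * (y⁻¹ * σ y) := by rw [hcdef, inv_mul_cancel_right]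
  have hcinv : c⁻¹ = c := by
    rcases hall c hc with h | h <;> rw [h]
    · exact inv_one
    · exact inv_eq_of_mul_eq_one_right hzz
  rw [hq', map_mul, hσz c hc, map_mul, map_inv, hσ, mul_inv_rev, mul_inv_rev, inv_inv, hcinv]
  exact (mem_center_iff.1 hc _).symm

section semidirect

variable {C : Type*} [Group C] [Finite C]

/-- The hypotheses: `C = Q ⋊ K` with `z` central in `Q`. -/
structure Setting (Q K : Subgroup C) (z : C) : Prop where
  normal : Q.Normal
  ext : Cfsg.IsExtraspecial 2 Q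
  card32 : Nat.card Q = 32
  zQ : z ∈ Q
  zz : z * z = 1
  z1 : z ≠ 1
  zc : ∀ c : C, z * c = c * z
  selfc : Subgroup.centralizer (Q : Set C) ≤ Q
  cap : Q ⊓ K = ⊥
  prod : ∀ c : C, ∃ q ∈ Q, ∃ k ∈ K, c = q * k
  iso : Nonempty (K ≃* alternatingGroup (Fin 5))

variable {Q K : Subgroup C} {z : C}

theorem Setting.center_cases (h : Setting Q K z) {c : C} (hc : c ∈ Q) (hcc : ∀ q ∈ Q, q * c = c * q) :
    c = 1 ∨ c = z := by
  have hzC : (⟨z, h.zQ⟩ : Q) ∈ Subgroup.center Q := mem_center_iff.2 fun q => Subtype.ext (h.zc q).symm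
  rcases (Extraspecial.facts h.ext hzC fun e => h.z1 (congrArg Subtype.val e)).1 ⟨c, hc⟩
    (mem_center_iff.2 fun q => Subtype.ext (hcc q q.2)) with e | e
  · exact Or.inl (congrArg Subtype.val e)
  · exact Or.inr (congrArg Subtype.val e)

theorem Setting.mem_center_iff' (h : Setting Q K z) {c : Q} :
    c ∈ Subgroup.center Q ↔ (c : C) = 1 ∨ (c : C) = z := by
  constructor
  · exact fun hc => h.center_cases c.2 fun q hq => congrArg Subtype.val (mem_center_iff.1 hc ⟨q, hq⟩)
  · rintro (e | e) <;> refine mem_center_iff.2 fun q => Subtype.ext ?_ <;> show (q : C) * c = c * q <;> rw [e]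
    · simp
    · exact (h.zc q).symm

theorem Setting.sq_cases (h : Setting Q K z) {q : C} (hq : q ∈ Q) : q * q = 1 ∨ q * q = z := by
  have hzC : (⟨z, h.zQ⟩ : Q) ∈ Subgroup.center Q := mem_center_iff.2 fun q => Subtype.ext (h.zc q).symm
  exact h.mem_center_iff'.1 ((Extraspecial.facts h.ext hzC fun e => h.z1 (congrArg Subtype.val e)).2.2.2 ⟨q, hq⟩)

omit [Finite C] in
theorem Setting.eq_of_mul (h : Setting Q K z) {q q' k k' : C} (hq : q ∈ Q) (hq' : q' ∈ Q) (hk : k ∈ K) (hk' : k' ∈ K)
    (e : q * k = q' * k') : q = q' ∧ k = k' := by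
  have hm : q'⁻¹ * q ∈ Q ⊓ K :=
    ⟨Q.mul_mem (Q.inv_mem hq') hq, by
      rw [show q'⁻¹ * q = k' * k⁻¹ by
        rw [eq_mul_inv_iff_mul_eq, mul_assoc, e, inv_mul_cancel_left]]
      exact K.mul_mem hk' (K.inv_mem hk)⟩
  rw [h.cap, mem_bot, inv_mul_eq_one] at hm
  subst hm
  exact ⟨rfl, mul_left_cancel e⟩

theorem card_modEq_fixed (S : C → Prop) (g : C) (hg : g ^ 5 = 1) (hS : ∀ x, S x ↔ S (g * x * g⁻¹)) :
    Nat.card {x : C // S x} ≡ Nat.card {x : C // S x ∧ g * x = x * g} [MOD 5] := by
  classical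
  haveI := Fintype.ofFinite C
  haveI : Fact (Nat.Prime 5) := ⟨by norm_num⟩
  let σ : Equiv.Perm {x : C // S x} :=
    { toFun := fun x => ⟨g * x * g⁻¹, (hS x).1 x.2⟩
      invFun := fun x => ⟨g⁻¹ * x * g, (hS _).2 (by
        rw [show g * (g⁻¹ * (x : C) * g) * g⁻¹ = (x : C) by group]; exact x.2)⟩
      left_inv := fun x => Subtype.ext (by group)
      right_inv := fun x => Subtype.ext (by group) }
  have hit : ∀ (n : ℕ) (x : {x : C // S x}), ((σ ^ n) x : C) = g ^ n * x * (g ^ n)⁻¹ := by
    intro n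
    induction n with
    | zero => intro x; simp
    | succ n ih =>
      intro x
      rw [pow_succ', Equiv.Perm.mul_apply]
      show g * ((σ ^ n) x : C) * g⁻¹ = _
      rw [ih, pow_succ']
      group
  have hσ : σ ^ 5 ^ 1 = 1 := by
    ext x
    rw [pow_one, hit 5 x, hg]
    simp
  let f : Function.End {x : C // S x} := fun x => σ x
  have hfun : f ^ 5 ^ 1 = 1 := by
    have h0 : ∀ n : ℕ, ∀ x, (f ^ n) x = (σ ^ n) x := by
      intro n
      induction n with
      | zero => intro x; rfl
      | succ n ih =>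
        intro x
        rw [pow_succ, pow_succ, Equiv.Perm.mul_apply, ← ih (σ x)]
        rfl
    funext x
    rw [h0, hσ]; rfl
  have h := Equiv.Perm.card_fixedPoints_modEq (p := 5) (n := 1) hfun
  rw [Nat.card_eq_fintype_card, Nat.card_eq_fintype_card]
  have e : ↑(Function.fixedPoints f) ≃ {x : C // S x ∧ g * x = x * g} :=
    { toFun := fun x => ⟨x.1.1, x.1.2, mul_inv_eq_iff_eq_mul.1 (congrArg Subtype.val x.2)⟩
      invFun := fun x => ⟨⟨x.1, x.2.1⟩, Subtype.ext (mul_inv_eq_iff_eq_mul.2 x.2.2)⟩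
      left_inv := fun x => rfl
      right_inv := fun x => rfl }
  rw [← Fintype.card_congr e]
  exact h

/-- An element of order five of `K` fixes no noncentral coset of `Q`. -/
theorem Setting.fix_coset (h : Setting Q K z) {g : C} (hgK : g ∈ K) (hg5 : g ^ 5 = 1) (hg1 : g ≠ 1) {q : C} (hq : q ∈ Q)
    (hfix : g * q * g⁻¹ = q ∨ g * q * g⁻¹ = z * q) : q = 1 ∨ q = z := by
  have hcomm : g * q = q * g := by
    rcases hfix with e | e
    · exact mul_inv_eq_iff_eq_mul.1 e
    · exfalso
      have hit : ∀ n : ℕ, g ^ n * q * (g ^ n)⁻¹ = z ^ n * q := by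
        intro n
        induction n with
        | zero => simp
        | succ n ih =>
          calc g ^ (n + 1) * q * (g ^ (n + 1))⁻¹ = g * (g ^ n * q * (g ^ n)⁻¹) * g⁻¹ := by rw [pow_succ']; group
            _ = (z ^ n) * (g * q * g⁻¹) := by
              have hzn : g * z ^ n = z ^ n * g := (Commute.pow_right (h.zc g).symm n).eq
              rw [ih, ← mul_assoc g, hzn]; group
            _ = z ^ (n + 1) * q := by rw [e, pow_succ]; group
      have h5 := hit 5
      rw [hg5, one_mul, inv_one, mul_one, show z ^ 5 = (z * z) * (z * z) * z by simp only [pow_succ, pow_zero, one_mul, mul_assoc], h.zz, one_mul, one_mul] at h5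
      exact h.z1 (mul_eq_right.1 h5.symm)
  have hgQ : g ∉ Q := fun hh => hg1 (by have : g ∈ Q ⊓ K := ⟨hh, hgK⟩; rwa [h.cap, mem_bot] at this)
  haveI := h.normal
  have hmod := card_modEq_fixed (fun x => x ∈ Q) g hg5 (fun x => ⟨fun hx => h.normal.conj_mem x hx g, fun hx => by
    have := h.normal.conj_mem _ hx g⁻¹
    rwa [show g⁻¹ * (g * x * g⁻¹) * g⁻¹⁻¹ = x by group] at this⟩)
  let H : Subgroup C := Q ⊓ Subgroup.centralizer {g}
  have hH : Nat.card {x : C // x ∈ Q ∧ g * x = x * g} = Nat.card H :=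
    Nat.card_congr (Equiv.subtypeEquivRight fun x =>
      ⟨fun hx => ⟨hx.1, mem_centralizer_singleton_iff.2 hx.2.symm⟩,
        fun hx => ⟨hx.1, (mem_centralizer_singleton_iff.1 hx.2).symm⟩⟩)
  rw [hH] at hmod
  change Nat.card Q ≡ Nat.card H [MOD 5] at hmod
  rw [h.card32] at hmod
  have hd : Nat.card H ∣ 2 ^ 5 := by
    have := Subgroup.card_dvd_of_le (inf_le_left : H ≤ Q)
    rwa [h.card32] at this
  obtain ⟨i, hi, hi'⟩ := (Nat.dvd_prime_pow Nat.prime_two).1 hd
  rw [hi'] at hmod
  have hi15 : i = 1 ∨ i = 5 := by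
    interval_cases i <;> simp [Nat.ModEq] at hmod ⊢
  rcases hi15 with rfl | rfl
  · have hz2 : Nat.card (zpowers z) = 2 := by
      rw [Nat.card_zpowers, orderOf_eq_prime (by rw [sq, h.zz]) h.z1]
    have hle : zpowers z ≤ H := zpowers_le.2 ⟨h.zQ, mem_centralizer_singleton_iff.2 (h.zc g)⟩
    have heq := eq_of_le_of_card_ge hle (by rw [hi', hz2]; norm_num)
    obtain ⟨j, hj⟩ : q ∈ zpowers z := heq ▸ (⟨hq, mem_centralizer_singleton_iff.2 hcomm.symm⟩ : q ∈ H)
    rw [← hj]
    rcases Int.even_or_odd j with ⟨m, rfl⟩ | ⟨m, rfl⟩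
    · left
      show z ^ (m + m) = 1
      rw [← two_mul, zpow_mul, zpow_two, h.zz, one_zpow]
    · right
      show z ^ (2 * m + 1) = z
      rw [zpow_add, zpow_mul, zpow_two, h.zz, one_zpow, one_mul, zpow_one]
  · exfalso
    have heq : H = Q := eq_of_le_of_card_ge inf_le_left (by rw [hi', h.card32]; norm_num)
    refine hgQ (h.selfc (mem_centralizer_iff.2 fun x hx => ?_))
    exact mem_centralizer_singleton_iff.1 (heq.ge hx : x ∈ H).2

/-- Noncentral involutions of `Q`. -/
abbrev Inv10 (Q : Subgroup C) (z : C) (u : C) : Prop := u ∈ Q ∧ u * u = 1 ∧ u ≠ 1 ∧ u ≠ z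

theorem Setting.card_inv10 (h : Setting Q K z) : Nat.card {u : C // Inv10 Q z u} = 10 := by
  classical
  obtain ⟨e⟩ := h.iso
  obtain ⟨g0, hg5, hg1⟩ := AltFiveFacts.exists_five
  set g : C := (e.symm g0 : C)
  have hgK : g ∈ K := (e.symm g0).2
  have hg5' : g ^ 5 = 1 := by
    rw [← SubmonoidClass.coe_pow, ← map_pow, hg5, map_one]; rfl
  have hg1' : g ≠ 1 := fun hh => hg1 (e.symm.injective ((Subtype.ext hh).trans (map_one e.symm).symm))
  have hmod := card_modEq_fixed (fun x => x ∈ Q ∧ x * x = 1) g hg5' (fun x => ⟨fun hx => ⟨h.normal.conj_mem x hx.1 g, by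
      rw [show g * x * g⁻¹ * (g * x * g⁻¹) = g * (x * x) * g⁻¹ by group, hx.2, mul_one, mul_inv_cancel]⟩, fun hx => by
    refine ⟨?_, ?_⟩
    · have := h.normal.conj_mem _ hx.1 g⁻¹
      rwa [show g⁻¹ * (g * x * g⁻¹) * g⁻¹⁻¹ = x by group] at this
    · rw [show x * x = g⁻¹ * (g * x * g⁻¹ * (g * x * g⁻¹)) * g by group, hx.2, mul_one, inv_mul_cancel]⟩)
  have hfix : Nat.card {x : C // (x ∈ Q ∧ x * x = 1) ∧ g * x = x * g} = 2 := by
    rw [Nat.card_congr (Equiv.subtypeEquivRight (q := fun x : C => x ∈ ({1, z} : Finset C)) fun x => ?_),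
      Nat.card_eq_finsetCard, Finset.card_pair (Ne.symm h.z1)]
    constructor
    · intro hx
      rcases h.fix_coset hgK hg5' hg1' hx.1.1 (Or.inl (mul_inv_eq_iff_eq_mul.2 hx.2)) with rfl | rfl <;> simp
    · intro hx
      simp at hx
      rcases hx with rfl | rfl
      · simp
      · exact ⟨⟨h.zQ, h.zz⟩, (h.zc g).symm⟩
  rw [hfix] at hmod
  have hT : Nat.card {x : C // x ∈ Q ∧ x * x = 1} = Nat.card {x : Q // x * x = 1} :=
    Nat.card_congr
      { toFun := fun x => ⟨⟨x.1, x.2.1⟩, Subtype.ext x.2.2⟩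
        invFun := fun x => ⟨x.1.1, x.1.2, congrArg Subtype.val x.2⟩
        left_inv := fun x => rfl
        right_inv := fun x => rfl }
  have h12 : Nat.card {x : C // x ∈ Q ∧ x * x = 1} = 12 := by
    rcases card_sq_one h.ext h.card32 with e | e <;> rw [← hT] at e
    · exact e
    · rw [e] at hmod
      exact absurd hmod (by decide)
  haveI := Fintype.ofFinite C
  have e1 : (Finset.univ.filter fun u : C => Inv10 Q z u) =
      ((Finset.univ.filter fun u : C => u ∈ Q ∧ u * u = 1).erase 1).erase z := by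
    ext u
    simp [Inv10]
    tauto
  rw [Nat.card_eq_fintype_card, Fintype.card_subtype, e1, Finset.card_erase_of_mem, Finset.card_erase_of_mem,
    ← Fintype.card_subtype, ← Nat.card_eq_fintype_card, h12]
  · simp
  · simp [h.zQ, h.zz, h.z1]

/-- Distinct singular cosets do not commute. -/
theorem Setting.eq_of_commute (h : Setting Q K z) {u w : C} (hu : Inv10 Q z u) (hw : Inv10 Q z w)
    (hc : u * w = w * u) : w = u ∨ w = u * z := by
  classical
  by_contra hne
  obtain ⟨e⟩ := h.iso
  obtain ⟨g0, hg5, hg1⟩ := AltFiveFacts.exists_five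
  set g : C := (e.symm g0 : C)
  have hgK : g ∈ K := (e.symm g0).2
  have hg5' : g ^ 5 = 1 := by
    rw [← SubmonoidClass.coe_pow, ← map_pow, hg5, map_one]; rfl
  have hg1' : g ≠ 1 := fun hh => hg1 (e.symm.injective ((Subtype.ext hh).trans (map_one e.symm).symm))
  haveI : Fact (Nat.Prime 5) := ⟨by norm_num⟩
  have hord : orderOf g = 5 := orderOf_eq_prime hg5' hg1'
  have hu' : u⁻¹ = u := inv_eq_of_mul_eq_one_right hu.2.1
  let ζ : Fin 2 → C := fun a => z ^ (a : ℕ)
  have hζc : ∀ a (x : C), ζ a * x = x * ζ a := fun a x => (Commute.pow_left (h.zc x) _).eq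
  have hζ2 : ∀ a, ζ a = 1 ∨ ζ a = z := fun a => by fin_cases a <;> simp [ζ]
  have hζQ : ∀ a, ζ a ∈ Q := fun a => Q.pow_mem h.zQ _
  let c : Fin 5 → C := fun i => g ^ (i : ℕ) * u * (g ^ (i : ℕ))⁻¹
  have hadd : ∀ i j : Fin 5, g ^ (i : ℕ) * c j * (g ^ (i : ℕ))⁻¹ = c (i + j) := by
    intro i j
    have hp : g ^ ((i + j : Fin 5) : ℕ) = g ^ (i : ℕ) * g ^ (j : ℕ) := by
      rw [← pow_add, Fin.val_add, ← pow_mod_orderOf g ((i : ℕ) + j), hord]
    show g ^ (i : ℕ) * (g ^ (j : ℕ) * u * (g ^ (j : ℕ))⁻¹) * (g ^ (i : ℕ))⁻¹ =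
      g ^ ((i + j : Fin 5) : ℕ) * u * (g ^ ((i + j : Fin 5) : ℕ))⁻¹
    rw [hp]; group
  have hc0 : c 0 = u := by simp [c]
  have hcQ : ∀ i, c i ∈ Q := fun i => h.normal.conj_mem u hu.1 _
  have hcI : ∀ i a, Inv10 Q z (c i * ζ a) := by
    intro i a
    refine ⟨Q.mul_mem (hcQ i) (hζQ a), ?_, ?_, ?_⟩
    · have hcc : c i * c i = 1 := by
        rw [show c i * c i = g ^ (i : ℕ) * (u * u) * (g ^ (i : ℕ))⁻¹ by simp only [c]; group, hu.2.1, mul_one, mul_inv_cancel]
      have hzz : ζ a * ζ a = 1 := by rcases hζ2 a with e | e <;> simp [e, h.zz]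
      rw [show c i * ζ a * (c i * ζ a) = c i * (ζ a * c i) * ζ a by group, hζc a (c i),
        show c i * (c i * ζ a) * ζ a = (c i * c i) * (ζ a * ζ a) by group, hcc, hzz, one_mul]
    all_goals
      intro e0
      have hcz : c i = 1 ∨ c i = z := by
        rcases hζ2 a with ez | ez <;> rw [ez] at e0
        · simp at e0; first | exact Or.inl e0 | exact Or.inr e0
        · first
            | exact Or.inr ((eq_inv_of_mul_eq_one_left e0).trans (inv_eq_of_mul_eq_one_right h.zz))
            | exact Or.inl (mul_eq_right.1 e0)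
      have hu2 : u = (g ^ (i : ℕ))⁻¹ * c i * g ^ (i : ℕ) := by simp only [c]; group
      rcases hcz with ec | ec <;> rw [ec] at hu2
      · exact hu.2.2.1 (by rw [hu2]; group)
      · refine hu.2.2.2 ?_
        rw [hu2, mul_assoc, h.zc, inv_mul_cancel_left]
  let f : Fin 5 × Fin 2 → {x : C // Inv10 Q z x} := fun p => ⟨c p.1 * ζ p.2, hcI p.1 p.2⟩
  have hinj0 : ∀ i a, c i * ζ a = u → i = 0 := by
    intro i a e0
    by_contra hi
    have hgi : g ^ (i : ℕ) ≠ 1 := by
      intro hh
      have hdvd := orderOf_dvd_of_pow_eq_one hh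
      rw [hord] at hdvd
      exact hi (Fin.ext (Nat.eq_zero_of_dvd_of_lt hdvd i.isLt))
    rcases h.fix_coset (K.pow_mem hgK _) (by rw [← pow_mul, mul_comm, pow_mul, hg5', one_pow]) hgi hu.1 (by
      rcases hζ2 a with ez | ez <;> rw [ez] at e0
      · exact Or.inl (by simpa using e0)
      · refine Or.inr ?_
        change g ^ (i : ℕ) * u * (g ^ (i : ℕ))⁻¹ * z = u at e0
        rw [← eq_mul_inv_iff_mul_eq, inv_eq_of_mul_eq_one_right h.zz] at e0
        rw [e0]; exact (h.zc u).symm) with e | e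
    · exact hu.2.2.1 e
    · exact hu.2.2.2 e
  have hfinj : Function.Injective f := by
    rintro ⟨i, a⟩ ⟨j, b⟩ hh
    have h1 : c i * ζ a = c j * ζ b := congrArg Subtype.val hh
    have hij : i = j := by
      obtain ⟨d, hd⟩ : ∃ d, ζ a * (ζ b)⁻¹ = ζ d := by
        rcases hζ2 a with ea | ea <;> rcases hζ2 b with eb | eb <;> rw [ea, eb]
        · exact ⟨0, by simp [ζ]⟩
        · exact ⟨1, by simp [ζ, inv_eq_of_mul_eq_one_right h.zz]⟩
        · exact ⟨1, by simp [ζ]⟩
        · exact ⟨0, by simp [ζ]⟩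
      have h2 : c i * ζ d = c j := by rw [← hd, ← mul_assoc, h1, mul_inv_cancel_right]
      have h3 : c (-j + i) * ζ d = u := by
        have := congrArg (fun x => g ^ ((-j : Fin 5) : ℕ) * x * (g ^ ((-j : Fin 5) : ℕ))⁻¹) h2
        beta_reduce at this
        rw [hadd (-j) j, neg_add_cancel, hc0] at this
        rw [← hadd, ← this]
        have hzg := hζc d (g ^ ((-j : Fin 5) : ℕ))⁻¹
        rw [mul_assoc _ (c i * ζ d), mul_assoc (c i), hzg]; group
      exact (neg_add_eq_zero.1 (hinj0 _ _ h3)).symm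
    subst hij
    have hab := mul_left_cancel h1
    fin_cases a <;> fin_cases b <;> simp [ζ, h.z1, Ne.symm h.z1] at hab ⊢
  have hsurj : ∀ x, Inv10 Q z x → ∃ i a, c i * ζ a = x := by
    intro x hx
    haveI := Fintype.ofFinite {x : C // Inv10 Q z x}
    have hb : Function.Bijective f := (Nat.bijective_iff_injective_and_card f).2 ⟨hfinj, by rw [h.card_inv10]; simp⟩
    obtain ⟨⟨i, a⟩, hia⟩ := hb.2 ⟨x, hx⟩
    exact ⟨i, a, congrArg Subtype.val hia⟩
  have hcz : ∀ {x y : C} {a b}, Commute x y → Commute (x * ζ a) (y * ζ b) := fun {x y a b} hxy =>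
    (hxy.mul_right (hζc b x).symm).mul_left ((show Commute (ζ a) y from hζc a y).mul_right (hζc a (ζ b)))
  let P : Fin 5 → Bool := fun i => decide (u * c i = c i * u)
  have hPc : ∀ i, P i = true ↔ Commute u (c i) := fun i => by simp [P, Commute, SemiconjBy]
  have hcsh : ∀ {i j : Fin 5} (k : Fin 5), Commute (c i) (c j) → Commute (c (k + i)) (c (k + j)) := by
    intro i j k hij
    rw [← hadd k i, ← hadd k j]
    exact Commute.map hij (MulAut.conj (g ^ (k : ℕ)))
  have hall := five_pattern P (fun i hi => by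
      rw [hPc] at hi ⊢
      rw [← hc0] at hi
      have := hcsh (-i) hi
      rw [add_zero, neg_add_cancel, hc0] at this
      exact this.symm)
    (fun i hi0 hi => by
      rw [hPc] at hi
      have hcc : c i * c i = 1 := by
        rw [show c i * c i = g ^ (i : ℕ) * (u * u) * (g ^ (i : ℕ))⁻¹ by simp only [c]; group, hu.2.1, mul_one, mul_inv_cancel]
      have hw' : Inv10 Q z (u * c i) := by
        refine ⟨Q.mul_mem hu.1 (hcQ i), ?_, fun e0 => ?_, fun e0 => ?_⟩
        · rw [show u * c i * (u * c i) = u * (c i * u) * c i by group, ← hi.eq,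
            show u * (u * c i) * c i = (u * u) * (c i * c i) by group, hu.2.1, hcc, one_mul]
        · exact hi0 (hinj0 i 0 (by simp [ζ, ← inv_eq_of_mul_eq_one_right e0, hu']))
        · refine hi0 (hinj0 i 1 ?_)
          simp only [ζ, Fin.val_one, pow_one]
          rw [show c i = u⁻¹ * z by rw [← e0]; group, hu', mul_assoc, h.zz, mul_one]
      obtain ⟨k, a, hk⟩ := hsurj _ hw'
      have hck : c k = u * c i * (ζ a)⁻¹ := by rw [← hk, mul_inv_cancel_right]
      have hca : ∀ x : C, Commute x (ζ a)⁻¹ := fun x => (show Commute x (ζ a) from (hζc a x).symm).inv_right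
      refine ⟨k, fun hk0 => ?_, fun hki => ?_, (hPc _).2 ?_, (hPc _).2 ?_⟩
      · subst hk0
        rw [hc0] at hk
        have hci : c i = ζ a := (mul_left_cancel hk).symm
        have h10 := hcI i 0
        simp only [ζ, Fin.val_zero, pow_zero, mul_one] at h10
        rcases hζ2 a with ea | ea <;> rw [ea] at hci
        · exact h10.2.2.1 hci
        · exact h10.2.2.2 hci
      · subst hki
        rw [(hi.eq : u * c k = c k * u)] at hk
        have hua : u = ζ a := (mul_left_cancel hk).symm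
        rcases hζ2 a with ea | ea <;> rw [ea] at hua
        · exact hu.2.2.1 hua
        · exact hu.2.2.2 hua
      · rw [hck]; exact ((Commute.refl u).mul_right hi).mul_right (hca u)
      · have h5 : Commute (c i) (c k) := by
          rw [hck]; exact (hi.symm.mul_right (Commute.refl _)).mul_right (hca _)
        have := hcsh (-i) h5
        rwa [neg_add_cancel, hc0, neg_add_eq_sub] at this)
    (by
      obtain ⟨i, a, hia⟩ := hsurj w hw
      refine ⟨i, fun hi0 => hne ?_, (hPc i).2 ?_⟩
      · rw [hi0, hc0] at hia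
        rcases hζ2 a with ea | ea <;> rw [ea] at hia
        · exact Or.inl (by rw [← hia, mul_one])
        · exact Or.inr hia.symm
      · rw [show c i = w * (ζ a)⁻¹ by rw [← hia, mul_inv_cancel_right]]
        exact (show Commute u w from hc).mul_right (show Commute u (ζ a) from (hζc a u).symm).inv_right)
  have hcomm : ∀ a b, a ∈ Q ∧ a * a = 1 → b ∈ Q ∧ b * b = 1 → Commute a b := by
    intro a b ha hb
    by_cases ha1 : a = 1
    · rw [ha1]; exact Commute.one_left b
    by_cases haz : a = z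
    · rw [haz]; exact h.zc b
    by_cases hb1 : b = 1
    · rw [hb1]; exact Commute.one_right a
    by_cases hbz : b = z
    · rw [hbz]; exact (h.zc a).symm
    obtain ⟨i, x, rfl⟩ := hsurj a ⟨ha.1, ha.2, ha1, haz⟩
    obtain ⟨j, y, rfl⟩ := hsurj b ⟨hb.1, hb.2, hb1, hbz⟩
    refine hcz ?_
    by_cases hij : i = j
    · rw [hij]
    · have h0 : Commute (c 0) (c (j - i)) := hc0.symm ▸ (hPc _).1 (hall _ (sub_ne_zero.2 fun e => hij e.symm))
      have := hcsh i h0
      rwa [add_zero, add_sub_cancel] at this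
  let T : Subgroup Q :=
    { carrier := {x | x * x = 1}
      one_mem' := by simp
      mul_mem' := by
        intro a b ha hb
        have hab : a * b = b * a :=
          Subtype.ext (hcomm a b ⟨a.2, congrArg Subtype.val ha⟩ ⟨b.2, congrArg Subtype.val hb⟩).eq
        show a * b * (a * b) = 1
        rw [mul_assoc, ← mul_assoc b, ← hab, mul_assoc, (hb : b * b = 1), mul_one, (ha : a * a = 1)]
      inv_mem' := by
        intro a ha
        show a⁻¹ * a⁻¹ = 1
        rw [← mul_inv_rev, (ha : a * a = 1), inv_one] }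
  have hdvd : Nat.card T ∣ 32 := h.card32 ▸ Subgroup.card_subgroup_dvd_card T
  rcases card_sq_one h.ext h.card32 with e12 | e12 <;> change Nat.card T = _ at e12 <;> rw [e12] at hdvd <;>
    norm_num at hdvd

/-- The elements of `Q` whose coset is fixed by `s`. -/
def fixedCosets (h : Setting Q K z) (s : C) : Subgroup C where
  carrier := {q | q ∈ Q ∧ (s * q * s⁻¹ = q ∨ s * q * s⁻¹ = z * q)}
  one_mem' := ⟨Q.one_mem, Or.inl (by group)⟩
  mul_mem' := by
    intro a b ha hb
    refine ⟨Q.mul_mem ha.1 hb.1, ?_⟩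
    have hz : ∀ x, x * z = z * x := fun x => (h.zc x).symm
    rw [show s * (a * b) * s⁻¹ = (s * a * s⁻¹) * (s * b * s⁻¹) by group]
    rcases ha.2 with e | e <;> rcases hb.2 with e' | e' <;> rw [e, e']
    · exact Or.inl rfl
    · exact Or.inr (by rw [← mul_assoc, hz a, mul_assoc])
    · exact Or.inr (by rw [mul_assoc])
    · exact Or.inl (by rw [mul_assoc z a, ← mul_assoc a z b, hz a, mul_assoc z a, ← mul_assoc z z, h.zz, one_mul])
  inv_mem' := by
    intro a ha
    refine ⟨Q.inv_mem ha.1, ?_⟩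
    rw [show s * a⁻¹ * s⁻¹ = (s * a * s⁻¹)⁻¹ by group]
    rcases ha.2 with e | e <;> rw [e]
    · exact Or.inl rfl
    · exact Or.inr (by rw [mul_inv_rev, inv_eq_of_mul_eq_one_right h.zz, h.zc])

/-- For an involution of `K`, fixed cosets form a group of order eight inverted by the involution. -/
theorem Setting.fixed_facts (h : Setting Q K z) {s : C} (hsK : s ∈ K) (hs : s * s = 1) (hs1 : s ≠ 1) :
    Nat.card (fixedCosets h s) = 8 ∧ ∀ q ∈ fixedCosets h s, s * q * s = q⁻¹ := by
  have key : ∀ {t : C}, t ∈ K → t * t = 1 → 8 ≤ Nat.card (fixedCosets h t) ∧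
      (Nat.card (fixedCosets h t) = 8 → ∀ q ∈ fixedCosets h t, t * q * t = q⁻¹) := by
    intro t htK ht
    haveI := h.normal
    have hti : t⁻¹ = t := inv_eq_of_mul_eq_one_right ht
    have hle : fixedCosets h t ≤ Q := fun q hq => hq.1
    have hinvol : ∀ q : Q, (MulAut.conjNormal t : MulAut Q) ((MulAut.conjNormal t : MulAut Q) q) = q := fun q => by
      refine Subtype.ext ?_
      simp only [MulAut.conjNormal_apply]
      rw [hti, show t * (t * (q : C) * t) * t = (t * t) * q * (t * t) by group, ht, one_mul, mul_one]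
    have h1 := inverted h.ext h.card32 (MulAut.conjNormal t) hinvol ((fixedCosets h t).subgroupOf Q) (fun q => by
      rw [Subgroup.mem_subgroupOf, h.mem_center_iff']
      simp only [Subgroup.coe_mul, Subgroup.coe_inv, MulAut.conjNormal_apply]
      constructor
      · rintro ⟨-, e | e⟩ <;> rw [e]
        · exact Or.inl (inv_mul_cancel _)
        · exact Or.inr (by rw [h.zc, inv_mul_cancel_left])
      · intro hh
        refine ⟨q.2, ?_⟩
        rcases hh with e | e <;> rw [inv_mul_eq_iff_eq_mul] at e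
        · exact Or.inl (by rw [e, mul_one])
        · exact Or.inr (by rw [e, h.zc]))
    rw [Nat.card_congr (Subgroup.subgroupOfEquivOfLe hle).toEquiv] at h1
    refine ⟨h1.1, fun h8 q hq => ?_⟩
    have := congrArg Subtype.val (h1.2 h8 ⟨q, hle hq⟩ hq)
    simp only [MulAut.conjNormal_apply, Subgroup.coe_inv] at this
    rwa [hti] at this
  obtain ⟨e⟩ := h.iso
  obtain ⟨g0, hg5, hg1, hinv⟩ := AltFiveFacts.exists_inverted (e ⟨s, hsK⟩)
    (by rw [sq, ← map_mul, ← map_one e]; exact congrArg e (Subtype.ext hs))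
    (fun hh => hs1 (congrArg Subtype.val (e.injective (hh.trans (map_one e).symm))))
  set g : C := (e.symm g0 : C)
  have hgK : g ∈ K := (e.symm g0).2
  have hg5' : g ^ 5 = 1 := by
    rw [← SubmonoidClass.coe_pow, ← map_pow, hg5, map_one]; rfl
  have hg1' : g ≠ 1 := fun hh => hg1 (e.symm.injective ((Subtype.ext hh).trans (map_one e.symm).symm))
  have hinv' : s * g * s = g⁻¹ := by
    have := congrArg (fun x => ((e.symm x : K) : C)) hinv
    simpa using this
  have hsg : s * g * (s * g) = 1 := by rw [← mul_assoc, hinv', inv_mul_cancel]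
  have h1 := key hsK hs
  have h2 := key (K.mul_mem hsK hgK) hsg
  have hz2 : ∀ q ∈ fixedCosets h s ⊓ fixedCosets h (s * g), q = 1 ∨ q = z := by
    rintro q ⟨⟨hq, ha⟩, ⟨-, hb⟩⟩
    refine h.fix_coset hgK hg5' hg1' hq ?_
    have hsi : s⁻¹ = s := inv_eq_of_mul_eq_one_right hs
    have e0 : g * q * g⁻¹ = s * (s * g * q * (s * g)⁻¹) * s⁻¹ := by
      rw [mul_inv_rev, hsi]
      calc g * q * g⁻¹ = (s * s) * (g * q * g⁻¹) * (s * s) := by rw [hs, one_mul, mul_one]
        _ = _ := by group
    rcases hb with eb | eb <;> rw [eb] at e0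
    · rw [e0]; exact ha
    · rw [e0, show s * (z * q) * s⁻¹ = (s * z) * q * s⁻¹ by group, ← h.zc, show z * s * q * s⁻¹ = z * (s * q * s⁻¹) by group]
      rcases ha with ea | ea <;> rw [ea]
      · exact Or.inr rfl
      · exact Or.inl (by rw [← mul_assoc, h.zz, one_mul])
  set A := (fixedCosets h s).subgroupOf Q with hAdef
  set B := (fixedCosets h (s * g)).subgroupOf Q with hBdef
  have hAB : Nat.card ↥(A ⊓ B) ≤ 2 := by
    classical
    refine le_trans (Nat.card_le_card_of_injective
      (fun x : ↥(A ⊓ B) => (⟨((x : Q) : C), by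
        rcases hz2 ((x : Q) : C) ⟨x.2.1, x.2.2⟩ with e | e <;> simp [show ((x : Q) : C) = _ from e]⟩ : ({1, z} : Finset C)))
      (fun x y hxy => Subtype.ext (Subtype.ext (congrArg Subtype.val hxy :)))) ?_
    rw [Nat.card_eq_finsetCard]
    exact Finset.card_le_two
  have hAc : Nat.card A = Nat.card (fixedCosets h s) :=
    Nat.card_congr (Subgroup.subgroupOfEquivOfLe (show fixedCosets h s ≤ Q from fun q hq => hq.1)).toEquiv
  have hBc : Nat.card B = Nat.card (fixedCosets h (s * g)) :=
    Nat.card_congr (Subgroup.subgroupOfEquivOfLe (show fixedCosets h (s * g) ≤ Q from fun q hq => hq.1)).toEquiv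
  have i1 := A.card_mul_index
  have i2 := B.card_mul_index
  have i3 := (A ⊓ B).card_mul_index
  rw [h.card32] at i1 i2 i3
  have i4 : (A ⊓ B).index ≤ A.index * B.index := Subgroup.index_inf_le
  have h8 : Nat.card (fixedCosets h s) = 8 := by
    rw [← hAc]
    have hA8 : 8 ≤ Nat.card A := hAc ▸ h1.1
    have hB8 : 8 ≤ Nat.card B := hBc ▸ h2.1
    by_contra hne
    have hA16 : 16 ≤ Nat.card A := by
      obtain ⟨j, hj, hj'⟩ := (Nat.dvd_prime_pow Nat.prime_two).1
        ((Subgroup.card_subgroup_dvd_card A).trans (show Nat.card Q ∣ 2 ^ 5 by rw [h.card32]; norm_num))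
      rw [hj'] at hne hA8 ⊢
      interval_cases j <;> omega
    have ha : A.index ≤ 2 := by nlinarith
    have hb : B.index ≤ 4 := by nlinarith
    have : (A ⊓ B).index ≤ 8 := i4.trans (by nlinarith)
    nlinarith
  exact ⟨h8, h1.2 h8⟩

/-- The count of pairs. -/
theorem Setting.count (h : Setting Q K z) :
    Nat.card {p : C × C // Inv10 Q z p.1 ∧ (p.2 ∉ Q ∧ p.2 * p.2 = 1) ∧ z ∈ zpowers (p.1 * p.2)} = 960 := by
  classical
  haveI := Fintype.ofFinite C
  obtain ⟨e⟩ := h.iso
  have hiff : ∀ u v, Inv10 Q z u → v ∉ Q → v * v = 1 → (z ∈ zpowers (u * v) ↔ ¬ (u * v = v * u)) := by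
    intro u v hu hvQ hv
    constructor
    · intro hz hc
      have h2 : (u * v) * (u * v) = 1 := by
        rw [mul_assoc u v, ← mul_assoc v, ← hc, mul_assoc u v v, hv, mul_one, hu.2.1]
      obtain ⟨j, hj⟩ := hz
      change (u * v) ^ j = z at hj
      rcases Int.even_or_odd j with ⟨m, rfl⟩ | ⟨m, rfl⟩
      · rw [← two_mul, zpow_mul, zpow_two, h2, one_zpow] at hj
        exact h.z1 hj.symm
      · rw [zpow_add, zpow_mul, zpow_two, h2, one_zpow, one_mul, zpow_one] at hj
        exact hvQ (by rw [show v = u⁻¹ * z by rw [← hj]; group]; exact Q.mul_mem (Q.inv_mem hu.1) h.zQ)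
    · intro hc
      have hvi : v⁻¹ = v := inv_eq_of_mul_eq_one_right hv
      set u' := v * u * v with hu'def
      have hu'Q : u' ∈ Q := by have := h.normal.conj_mem u hu.1 v; rwa [hvi] at this
      have hu'2 : u' * u' = 1 := by
        rw [hu'def, show v * u * v * (v * u * v) = v * u * (v * v) * u * v by group, hv, mul_one,
          show v * u * u * v = v * (u * u) * v by group, hu.2.1, mul_one, hv]
      have hne : u' ≠ u := fun e0 => hc (by
        calc u * v = v * u * v * v := by rw [← hu'def, e0]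
          _ = v * u := by rw [mul_assoc, hv, mul_one])
      have huv : (u * v) * (u * v) = u * u' := by rw [hu'def]; group
      by_cases hc' : u * u' = u' * u
      · have hI : Inv10 Q z u' := by
          refine ⟨hu'Q, hu'2, fun e0 => hu.2.2.1 ?_, fun e0 => hu.2.2.2 ?_⟩
          · calc u = v * u' * v := by
                  rw [hu'def, show v * (v * u * v) * v = (v * v) * u * (v * v) by group, hv, one_mul, mul_one]
              _ = 1 := by rw [e0, mul_one, hv]
          · calc u = v * u' * v := by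
                  rw [hu'def, show v * (v * u * v) * v = (v * v) * u * (v * v) by group, hv, one_mul, mul_one]
              _ = z := by rw [e0, ← h.zc, mul_assoc, hv, mul_one]
        rcases h.eq_of_commute hu hI hc' with e0 | e0
        · exact absurd e0 hne
        · refine ⟨2, ?_⟩
          show (u * v) ^ (2 : ℤ) = z
          rw [zpow_two, huv, e0, ← mul_assoc, hu.2.1, one_mul]
      · have hsq := (h.sq_cases (Q.mul_mem hu.1 hu'Q)).resolve_left fun e0 => hc' (by
          calc u * u' = (u * u')⁻¹ := (inv_eq_of_mul_eq_one_right e0).symm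
            _ = u' * u := by
              rw [mul_inv_rev, inv_eq_of_mul_eq_one_right hu'2, inv_eq_of_mul_eq_one_right hu.2.1])
        refine ⟨4, ?_⟩
        show (u * v) ^ (4 : ℤ) = z
        rw [show (4 : ℤ) = 2 + 2 from rfl, zpow_add, zpow_two, huv, hsq]
  -- involutions outside `Q`
  have hJ : Nat.card {v : C // v ∉ Q ∧ v * v = 1} = 120 := by
    let Sv : Type _ := {s : K // s ^ 2 = 1 ∧ s ≠ 1}
    have hSv : Nat.card Sv = 15 := by
      rw [Nat.card_congr (Equiv.subtypeEquiv e.toEquiv (q := fun x => x ^ 2 = 1 ∧ x ≠ 1) fun s => by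
        show s ^ 2 = 1 ∧ s ≠ 1 ↔ (e s) ^ 2 = 1 ∧ e s ≠ 1
        rw [← map_pow, MulEquiv.map_eq_one_iff, MulEquiv.map_ne_one_iff])]
      rw [Nat.card_eq_fintype_card, Fintype.card_subtype]
      exact AltFiveFacts.card_involutions
    have hS : ∀ s : Sv, ((s.1 : C) * s.1 = 1) ∧ (s.1 : C) ≠ 1 := fun s =>
      ⟨by have := congrArg Subtype.val s.2.1; rwa [sq] at this, fun e0 => s.2.2 (Subtype.ext e0)⟩
    have hv : ∀ {q s : C}, q ∈ Q → s ∈ K → (q * s * (q * s) = 1 ↔ s * s = 1 ∧ s * q * s = q⁻¹) := by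
      intro q s hq hs
      constructor
      · intro h0
        have hm : q * (s * q * s⁻¹) ∈ Q := Q.mul_mem hq (h.normal.conj_mem q hq s)
        obtain ⟨e1, e2⟩ := h.eq_of_mul hm Q.one_mem (K.mul_mem hs hs) K.one_mem
          (by rw [← show q * s * (q * s) = q * (s * q * s⁻¹) * (s * s) by group, h0, one_mul])
        refine ⟨e2, ?_⟩
        rw [inv_eq_of_mul_eq_one_right e2] at e1
        exact (inv_eq_of_mul_eq_one_right e1).symm
      · rintro ⟨-, h1⟩
        rw [show q * s * (q * s) = q * (s * q * s) by group, h1, mul_inv_cancel]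
    let F : (Σ s : Sv, fixedCosets h (s.1 : C)) → {v : C // v ∉ Q ∧ v * v = 1} := fun x => ⟨(x.2 : C) * (x.1.1 : C),
      fun hh => (hS x.1).2 (by
        have : (x.1.1 : C) ∈ Q ⊓ K := ⟨(Q.mul_mem_cancel_left x.2.2.1).1 hh, x.1.1.2⟩
        rwa [h.cap, mem_bot] at this),
      (hv x.2.2.1 x.1.1.2).2 ⟨(hS x.1).1, (h.fixed_facts x.1.1.2 (hS x.1).1 (hS x.1).2).2 _ x.2.2⟩⟩
    have hF : Function.Bijective F := by
      constructor
      · rintro ⟨s, q⟩ ⟨s', q'⟩ hh
        obtain ⟨e1, e2⟩ := h.eq_of_mul q.2.1 q'.2.1 s.1.2 s'.1.2 (congrArg Subtype.val hh)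
        obtain rfl : s = s' := Subtype.ext (Subtype.ext e2)
        obtain rfl : q = q' := Subtype.ext e1
        rfl
      · rintro ⟨v, hvQ, hv2⟩
        obtain ⟨q, hq, s, hs, rfl⟩ := h.prod v
        obtain ⟨hss, hsq⟩ := (hv hq hs).1 hv2
        have hs1 : s ≠ 1 := fun e0 => hvQ (by rw [e0, mul_one]; exact hq)
        refine ⟨⟨⟨⟨s, hs⟩, Subtype.ext (by rw [SubmonoidClass.coe_pow, sq]; exact hss),
          fun e0 => hs1 (congrArg Subtype.val e0)⟩, q, hq, ?_⟩, rfl⟩
        show s * q * s⁻¹ = q ∨ s * q * s⁻¹ = z * q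
        rw [inv_eq_of_mul_eq_one_right hss, hsq]
        rcases h.sq_cases hq with e0 | e0
        · exact Or.inl (inv_eq_of_mul_eq_one_right e0)
        · refine Or.inr ?_
          rw [← e0, inv_eq_of_mul_eq_one_right]
          calc q * (q * q * q) = (q * q) * (q * q) := by group
            _ = 1 := by rw [e0, h.zz]
    rw [← Nat.card_eq_of_bijective F hF, Nat.card_sigma,
      Finset.sum_congr rfl (fun s _ => (h.fixed_facts s.1.2 (hS s).1 (hS s).2).1), Finset.sum_const, Finset.card_univ,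
      ← Nat.card_eq_fintype_card, hSv]
    rfl
  -- for each such involution, eight noncentral involutions of `Q` do not commute with it
  have hfib : ∀ v : {v : C // v ∉ Q ∧ v * v = 1}, Nat.card {u : C // Inv10 Q z u ∧ ¬ u * v.1 = v.1 * u} = 8 := by
    rintro ⟨v, hvQ, hv2⟩
    obtain ⟨q, hq, s, hs, rfl⟩ := h.prod v
    have hs1 : s ≠ 1 := fun e0 => hvQ (by rw [e0, mul_one]; exact hq)
    have hpair : s * s = 1 ∧ s * q * s = q⁻¹ := by
      have hm : q * (s * q * s⁻¹) ∈ Q := Q.mul_mem hq (h.normal.conj_mem q hq s)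
      obtain ⟨e1, e2⟩ := h.eq_of_mul hm Q.one_mem (K.mul_mem hs hs) K.one_mem
        (by rw [← show q * s * (q * s) = q * (s * q * s⁻¹) * (s * s) by group, hv2, one_mul])
      refine ⟨e2, ?_⟩
      rw [inv_eq_of_mul_eq_one_right e2] at e1
      exact (inv_eq_of_mul_eq_one_right e1).symm
    obtain ⟨hss, hsq⟩ := hpair
    obtain ⟨h8, hinv⟩ := h.fixed_facts hs hss hs1
    have hsi : s⁻¹ = s := inv_eq_of_mul_eq_one_right hss
    have hqF : q ∈ fixedCosets h s := by
      refine ⟨hq, ?_⟩
      rw [hsi, hsq]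
      rcases h.sq_cases hq with e0 | e0
      · exact Or.inl (inv_eq_of_mul_eq_one_right e0)
      · refine Or.inr ?_
        rw [← e0, inv_eq_of_mul_eq_one_right]
        calc q * (q * q * q) = (q * q) * (q * q) := by group
          _ = 1 := by rw [e0, h.zz]
    have hFc : ∀ a ∈ fixedCosets h s, ∀ b ∈ fixedCosets h s, a * b = b * a := by
      intro a ha b hb
      have h1 := hinv _ (mul_mem ha hb)
      rw [show s * (a * b) * s = (s * a * s) * (s⁻¹ * s⁻¹) * (s * b * s) by group, hsi, hss, mul_one, hinv a ha,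
        hinv b hb, ← mul_inv_rev] at h1
      exact (inv_injective h1).symm
    obtain ⟨u0, hu0F, hu0⟩ : ∃ u, u ∈ fixedCosets h s ∧ Inv10 Q z u := by
      by_contra hno
      push Not at hno
      have hsqF : ∀ x ∈ fixedCosets h s, x * x = 1 → x = 1 ∨ x = z := fun x hx hx2 => by
        by_contra hh
        exact hno x hx ⟨hx.1, hx2, fun e0 => hh (Or.inl e0), fun e0 => hh (Or.inr e0)⟩
      have hzF : z ∈ fixedCosets h s := ⟨h.zQ, Or.inl (mul_inv_eq_iff_eq_mul.2 (h.zc s).symm)⟩
      obtain ⟨a, ha, haz⟩ : ∃ a ∈ fixedCosets h s, a ≠ 1 ∧ a ≠ z := by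
        by_contra hh
        push Not at hh
        have : Nat.card (fixedCosets h s) ≤ 2 := by
          refine le_trans (Nat.card_le_card_of_injective (fun x : fixedCosets h s => (⟨(x : C), by
            by_cases e0 : (x : C) = 1
            · simp [e0]
            · simp [hh x x.2 e0]⟩ : ({1, z} : Finset C))) (fun x y hxy => Subtype.ext (congrArg Subtype.val hxy :))) ?_
          rw [Nat.card_eq_finsetCard]; exact Finset.card_le_two
        omega
      have ha2 : a * a = z := (h.sq_cases ha.1).resolve_left fun e0 => by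
        rcases hsqF a ha e0 with e1 | e1
        · exact haz.1 e1
        · exact haz.2 e1
      have : Nat.card (fixedCosets h s) ≤ 4 := by
        refine le_trans (Nat.card_le_card_of_injective (fun x : fixedCosets h s => (⟨(x : C), by
          rcases h.sq_cases x.2.1 with e0 | e0
          · rcases hsqF x x.2 e0 with e1 | e1 <;> simp [e1]
          · have h2 : (a * x) * (a * x) = 1 := by
              rw [show a * (x : C) * (a * x) = a * ((x : C) * a) * x by group, ← hFc a ha x x.2,
                show a * (a * (x : C)) * x = (a * a) * ((x : C) * x) by group, ha2, e0, h.zz]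
            rcases hsqF _ (mul_mem ha x.2) h2 with e1 | e1
            · simp [eq_inv_of_mul_eq_one_right e1]
            · simp [eq_inv_mul_iff_mul_eq.2 e1]⟩ : ({1, z, a⁻¹, a⁻¹ * z} : Finset C)))
          (fun x y hxy => Subtype.ext (congrArg Subtype.val hxy :))) ?_
        rw [Nat.card_eq_finsetCard]; exact Finset.card_le_four
      omega
    have hcomm : ∀ u, Inv10 Q z u → (u * (q * s) = q * s * u ↔ (u = u0 ∨ u = u0 * z)) := by
      intro u hu
      constructor
      · intro hc
        have hsu : s * u * s⁻¹ = q⁻¹ * u * q := by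
          calc s * u * s⁻¹ = q⁻¹ * (q * s * u) * s⁻¹ := by group
            _ = _ := by rw [← hc]; group
        have hzC : (⟨z, h.zQ⟩ : Q) ∈ Subgroup.center Q := mem_center_iff.2 fun x => Subtype.ext (h.zc x).symm
        have huF : u ∈ fixedCosets h s := by
          refine ⟨hu.1, ?_⟩
          rw [hsu]
          rcases (Extraspecial.facts h.ext hzC fun e0 => h.z1 (congrArg Subtype.val e0)).2.2.1 ⟨u, hu.1⟩ ⟨q, hq⟩ with e0 | e0
          · have e1 : u * q = q * u := congrArg Subtype.val e0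
            exact Or.inl (by rw [mul_assoc, e1, inv_mul_cancel_left])
          · have e1 : u * q = z * (q * u) := congrArg Subtype.val e0
            exact Or.inr (by rw [mul_assoc, e1, h.zc (q * u), mul_assoc q, inv_mul_cancel_left, h.zc])
        exact h.eq_of_commute hu0 hu (hFc u0 hu0F u huF)
      · intro hh
        have huF : u ∈ fixedCosets h s := by
          rcases hh with rfl | rfl
          · exact hu0F
          · exact mul_mem hu0F ⟨h.zQ, Or.inl (mul_inv_eq_iff_eq_mul.2 (h.zc s).symm)⟩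
        have hus : s * u = u * s := by
          have h1 := hinv u huF
          rw [inv_eq_of_mul_eq_one_right hu.2.1] at h1
          calc s * u = s * u * s * s := by rw [mul_assoc _ s, hss, mul_one]
            _ = u * s := by rw [h1]
        rw [← mul_assoc, hFc u huF q hqF, mul_assoc, ← hus, mul_assoc]
    have hu0z : Inv10 Q z (u0 * z) := by
      refine ⟨Q.mul_mem hu0.1 h.zQ, ?_, fun e0 => hu0.2.2.2 ?_, fun e0 => hu0.2.2.1 (mul_eq_right.1 e0)⟩
      · rw [mul_assoc, ← mul_assoc z, h.zc u0, mul_assoc, h.zz, mul_one, hu0.2.1]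
      · exact (eq_inv_of_mul_eq_one_left e0).trans (inv_eq_of_mul_eq_one_right h.zz)
    rw [Nat.card_eq_fintype_card, Fintype.card_subtype]
    have e1 : (Finset.univ.filter fun u : C => Inv10 Q z u ∧ ¬ u * (q * s) = q * s * u) =
        (Finset.univ.filter fun u : C => Inv10 Q z u) \ {u0, u0 * z} := by
      ext u
      simp only [Finset.mem_filter, Finset.mem_univ, true_and, Finset.mem_sdiff, Finset.mem_insert, Finset.mem_singleton]
      exact ⟨fun hh => ⟨hh.1, fun h0 => hh.2 ((hcomm u hh.1).2 h0)⟩, fun hh => ⟨hh.1, fun h0 => hh.2 ((hcomm u hh.1).1 h0)⟩⟩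
    rw [e1, Finset.card_sdiff_of_subset, ← Fintype.card_subtype, ← Nat.card_eq_fintype_card, h.card_inv10,
      Finset.card_pair (fun e0 => h.z1 (mul_eq_left.1 e0.symm))]
    intro u hu
    simp only [Finset.mem_insert, Finset.mem_singleton] at hu
    rw [Finset.mem_filter]
    rcases hu with rfl | rfl
    · exact ⟨Finset.mem_univ _, hu0⟩
    · exact ⟨Finset.mem_univ _, hu0z⟩
  let G' : {p : C × C // Inv10 Q z p.1 ∧ (p.2 ∉ Q ∧ p.2 * p.2 = 1) ∧ z ∈ zpowers (p.1 * p.2)} ≃
      Σ v : {v : C // v ∉ Q ∧ v * v = 1}, {u : C // Inv10 Q z u ∧ ¬ u * v.1 = v.1 * u} :=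
    { toFun := fun p => ⟨⟨p.1.2, p.2.2.1⟩, p.1.1, p.2.1, (hiff _ _ p.2.1 p.2.2.1.1 p.2.2.1.2).1 p.2.2.2⟩
      invFun := fun x => ⟨(x.2.1, x.1.1), x.2.2.1, x.1.2, (hiff _ _ x.2.2.1 x.1.2.1 x.1.2.2).2 x.2.2.2⟩
      left_inv := fun p => rfl
      right_inv := fun x => rfl }
  rw [Nat.card_congr G', Nat.card_sigma, Finset.sum_congr rfl (fun v _ => hfib v), Finset.sum_const, Finset.card_univ,
    ← Nat.card_eq_fintype_card, hJ]
  rfl

end semidirect

end Cfsg.Agent.InvChar.JankoTwoCount
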