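import Mathlib

/-!
Finite checks in the quaternion group of order eight and in the symmetric group of degree four.
-/

set_option autoImplicit false
set_option linter.all false
set_option synthInstance.maxSize 1000
set_option synthInstance.maxHeartbeats 400000

namespace Cfsg.Agent.InvChar.OctahedralFacts

abbrev Q8 := QuaternionGroup 2

/-- The candidate endomorphism with given images of the two generators. -/
def ext (u v : Q8) : Q8 → Q8
  | .a k => u ^ k.val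
  | .xa k => v * u ^ k.val

theorem hom_eq_ext (φ : Q8 →* Q8) (w : Q8) :
    φ w = ext (φ (.a 1)) (φ (.xa 0)) w := by
  rcases w with k | k
  · show φ (.a k) = φ (.a 1) ^ k.val
    rw [← map_pow, QuaternionGroup.a_one_pow, ZMod.natCast_zmod_val]
  · show φ (.xa k) = φ (.xa 0) * φ (.a 1) ^ k.val
    rw [← map_pow, ← map_mul, QuaternionGroup.a_one_pow, ZMod.natCast_zmod_val]
    simp

theorem pair_facts : ∀ a b : Q8, a * a ≠ 1 → b * b ≠ 1 → b ≠ a → b ≠ a * a * a →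
    a ^ 4 = 1 ∧ b * b = a * a ∧ b * a = a ^ 3 * b ∧ (a * b) * (a * b) ≠ 1 ∧
      (∀ u : Q8, ∃ (k : Fin 4) (l : Fin 2), u = a ^ (k : ℕ) * b ^ (l : ℕ)) ∧
      (∀ u : Q8, u * u ≠ 1 → u ≠ a → u ≠ a * a * a → u ≠ b → u ≠ b * b * b → u = a * b ∨ u = b * a) := by
  decide +kernel

theorem no_five : ∀ u v : Q8, u * u ≠ 1 → v * v ≠ 1 → v ≠ u → v ≠ u * u * u →
    (ext u v)^[5] (.a 1) = .a 1 → (ext u v)^[5] (.xa 0) = .xa 0 → u = .a 1 ∧ v = .xa 0 := by
  decide +kernel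

theorem involution_axis : ∀ u v : Q8, u * u ≠ 1 → v * v ≠ 1 → v ≠ u → v ≠ u * u * u →
    (ext u v)^[2] (.a 1) = .a 1 → (ext u v)^[2] (.xa 0) = .xa 0 →
      ∃ e : Q8, e * e ≠ 1 ∧ (ext u v e = e ∨ ext u v e = e * e * e) := by
  decide +kernel

theorem three_axis : ∀ u v : Q8, u * u ≠ 1 → v * v ≠ 1 → v ≠ u → v ≠ u * u * u →
    (ext u v)^[3] (.a 1) = .a 1 → (ext u v)^[3] (.xa 0) = .xa 0 →
      (∀ e : Q8, e * e ≠ 1 → (ext u v e = e ∨ ext u v e = e * e * e) → u = .a 1 ∧ v = .xa 0) := by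
  decide +kernel

theorem four_group : ∀ a : Q8, a * a = 1 → ∀ b : Q8, a * b = b * a := by decide +kernel

abbrev S4 := Equiv.Perm (Fin 4)

theorem odd_fixed : ∀ σ : S4, Equiv.Perm.sign σ = -1 → σ * σ = 1 → ∃ k, σ k = k := by decide +kernel

theorem odd_no_commute : ∀ σ τ : S4, Equiv.Perm.sign σ = -1 → σ * σ = 1 → τ * τ * τ = 1 → σ * τ = τ * σ → τ = 1 := by
  decide +kernel

theorem even_two : ∀ σ : S4, Equiv.Perm.sign σ = 1 → σ ^ 8 = 1 → σ * σ = 1 := by decide +kernel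

theorem even_mul : ∀ σ τ : S4, Equiv.Perm.sign σ = 1 → Equiv.Perm.sign τ = 1 → σ * σ = 1 → τ * τ = 1 →
    (σ * τ) * (σ * τ) = 1 := by decide +kernel

theorem pow_24 : ∀ σ : S4, σ ^ 24 = 1 := by decide +kernel

end Cfsg.Agent.InvChar.OctahedralFacts
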