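import Mathlib
import Cfsg.Agent.InvChar.GL23
import Cfsg.Agent.InvChar.OctahedralFacts
import Cfsg.Agent.InvChar.CyclicIndexTwo
import Cfsg.Agent.Lib.Cores.Basic
import Cfsg.Agent.Lib.Cores.Fitting
import Cfsg.Agent.Lib.Components.PComponents
import Cfsg.Agent.Lib.PGroups.UniqueSubgroup

/-!
Solvable groups with trivial odd core whose Sylow 2-subgroups meet in 2-rank at most one.
-/

set_option autoImplicit false
set_option linter.all false

namespace Cfsg.Agent.InvChar.Octahedral

open OctahedralFacts

theorem fact_48_two : Nat.factorization 48 2 = 4 := by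
  rw [show (48 : ℕ) = 2 ^ 4 * 3 from rfl, Nat.factorization_mul (by norm_num) (by norm_num), Finsupp.add_apply,
    Nat.Prime.factorization_pow Nat.prime_two, Finsupp.single_eq_same, Nat.factorization_eq_zero_of_not_dvd (by norm_num)]

theorem fact_48_three : Nat.factorization 48 3 = 1 := by
  rw [show (48 : ℕ) = 3 ^ 1 * 16 from rfl, Nat.factorization_mul (by norm_num) (by norm_num), Finsupp.add_apply,
    Nat.Prime.factorization_pow Nat.prime_three, Finsupp.single_eq_same, Nat.factorization_eq_zero_of_not_dvd (by norm_num)]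

theorem fact_24_two : Nat.factorization 24 2 = 3 := by
  rw [show (24 : ℕ) = 2 ^ 3 * 3 from rfl, Nat.factorization_mul (by norm_num) (by norm_num), Finsupp.add_apply,
    Nat.Prime.factorization_pow Nat.prime_two, Finsupp.single_eq_same, Nat.factorization_eq_zero_of_not_dvd (by norm_num)]

/-- A finite 2-group with a single involution is of one of two kinds. -/
theorem rank_one {Q : Type*} [Group Q] [Finite Q] (hQ : IsPGroup 2 Q)
    (hr : ∀ a b : Q, a * a = 1 → b * b = 1 → a * b = b * a → a = 1 ∨ b = 1 ∨ a = b) :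
    IsPGroup 2 (MulAut Q) ∨ Nonempty (Q ≃* Q8) := by
  haveI : Fact (Nat.Prime 2) := ⟨Nat.prime_two⟩
  have huniq : ∀ A B : Subgroup Q, Nat.card A = 2 → Nat.card B = 2 → A = B := by
    -- an involution in the centre equals every involution
    intro A B hA hB
    have : Nontrivial Q := by
      have hnt : Nontrivial A := Finite.one_lt_card_iff_nontrivial.1 (by rw [hA]; norm_num)
      exact A.subtype_injective.nontrivial
    obtain ⟨z, hz⟩ := exists_prime_orderOf_dvd_card' 2 (G := Subgroup.center Q) (by
      obtain ⟨k, hk⟩ := IsPGroup.iff_card.1 (hQ.to_subgroup (Subgroup.center Q))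
      have hn : Nontrivial (Subgroup.center Q) := hQ.center_nontrivial
      have hk0 : k ≠ 0 := fun e => by
        rw [e, pow_zero] at hk
        have := Finite.one_lt_card_iff_nontrivial.2 hn
        omega
      rw [hk]; exact dvd_pow_self 2 hk0)
    rw [← Subgroup.orderOf_coe] at hz
    have key : ∀ C : Subgroup Q, Nat.card C = 2 → C = Subgroup.zpowers (z : Q) := by
      intro C hC
      obtain ⟨c, hc⟩ := exists_prime_orderOf_dvd_card' 2 (G := C) (by rw [hC])
      rw [← Subgroup.orderOf_coe] at hc
      have hc2 : (c : Q) * c = 1 := by rw [← pow_two, ← hc, pow_orderOf_eq_one]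
      have hz2 : (z : Q) * z = 1 := by rw [← pow_two, ← hz, pow_orderOf_eq_one]
      rcases hr _ _ hc2 hz2 (Subgroup.mem_center_iff.1 z.2 c) with e | e | e
      · rw [e, orderOf_one] at hc; norm_num at hc
      · rw [e, orderOf_one] at hz; norm_num at hz
      · symm
        refine Subgroup.eq_of_le_of_card_ge (Subgroup.zpowers_le.2 (e ▸ c.2)) ?_
        rw [hC, Nat.card_zpowers, hz]
    rw [key A hA, key B hB]
  rcases PGroups.UniqueSubgroup.isCyclic_or_quaternion hQ huniq with h | ⟨-, n, ⟨e⟩⟩
  · haveI := h; exact Or.inl (Solvable.isPGroup_mulAut_of_isCyclic hQ)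
  rcases n with _ | _ | n
  · have h1 : IsCyclic (QuaternionGroup (2 ^ 0)) := by rw [pow_zero]; exact QuaternionGroup.quaternionGroup_one_isCyclic
    haveI : IsCyclic Q := isCyclic_of_surjective e.symm e.symm.surjective
    exact Or.inl (Solvable.isPGroup_mulAut_of_isCyclic hQ)
  · exact Or.inr ⟨e⟩
  left
  set N := 2 ^ (n + 1 + 1) with hN
  haveI : NeZero N := ⟨by positivity⟩
  set H := (Subgroup.zpowers (QuaternionGroup.a (n := N) 1)).map e.symm.toMonoidHom with hH
  have hgen : H = Subgroup.zpowers (e.symm (QuaternionGroup.a 1)) := MonoidHom.map_zpowers _ _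
  have hcard : Nat.card H = 2 * N := by rw [hgen, Nat.card_zpowers, MulEquiv.orderOf_eq, QuaternionGroup.orderOf_a_one]
  have hQc : Nat.card Q = 4 * N := by rw [Nat.card_congr e.toEquiv, Nat.card_eq_fintype_card, QuaternionGroup.card]
  have hidx : H.index = 2 := by
    have h1 := H.card_mul_index
    rw [hcard, hQc] at h1
    have : 0 < N := Nat.pos_of_ne_zero (NeZero.ne N)
    nlinarith
  refine CyclicIndexTwo.isPGroup_mulAut hQ H (by rw [hgen]; infer_instance) ?_ hidx.le
  intro φ h hh
  refine CyclicIndexTwo.map_mem_of_pow H hgen 4 ?_ ?_ φ hh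
  · intro y hy
    rcases hy' : e y with k | k
    · refine absurd ?_ hy
      rw [hH, Subgroup.mem_map]
      refine ⟨e y, ?_, e.symm_apply_apply y⟩
      rw [hy', ← ZMod.natCast_zmod_val k, ← QuaternionGroup.a_one_pow]
      exact pow_mem (Subgroup.mem_zpowers _) _
    · apply e.injective
      rw [map_pow, hy', map_one, ← QuaternionGroup.orderOf_xa (n := N) k, pow_orderOf_eq_one]
  · intro h4
    have h5 := orderOf_dvd_of_pow_eq_one h4
    rw [MulEquiv.orderOf_eq, QuaternionGroup.orderOf_a_one] at h5
    have h6 := Nat.le_of_dvd (by norm_num) h5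
    have : 2 ^ 2 ≤ N := Nat.pow_le_pow_right two_pos (by omega)
    omega

theorem main {K : Type*} [Group K] [Finite K] [Group.IsSolvable K] (hO : Cfsg.oddCore K = ⊥)
    (hI : ∀ S T : Sylow 2 K, S ≠ T → Cfsg.PRankLE 2 1 ↥((S : Subgroup K) ⊓ (T : Subgroup K))) :
    (∃ P : Sylow 2 K, (P : Subgroup K).Normal) ∨ Nonempty (K ≃* GL (Fin 2) (ZMod 3)) ∨
      (Nat.card K = 48 ∧ Nat.card ↥(Subgroup.center K) = 2 ∧
        Nonempty (K ⧸ Subgroup.center K ≃* Equiv.Perm (Fin 4)) ∧
        ∀ P : Sylow 2 K, Nonempty (↥(P : Subgroup K) ≃* QuaternionGroup 4)) := by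
  classical
  haveI : Fact (Nat.Prime 2) := ⟨Nat.prime_two⟩
  by_cases hclosed : ∃ P : Sylow 2 K, (P : Subgroup K).Normal
  · exact Or.inl hclosed
  right
  set Q := Cfsg.pCore 2 K with hQ
  have hQp : IsPGroup 2 Q := Cores.pCore_isPGroup 2
  have hO' : Cfsg.pPrimeCore 2 K = ⊥ := hO
  have hCQ : Subgroup.centralizer (Q : Set K) ≤ Q := by
    have h := Cores.centralizer_fittingSubgroup_le (G := K)
    rwa [Components.PComponents.fitting_eq_pCore hO'] at h
  obtain ⟨S0⟩ := (inferInstance : Nonempty (Sylow 2 K))
  obtain ⟨S1, hne⟩ : ∃ S1 : Sylow 2 K, S1 ≠ S0 := by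
    by_contra hc
    push Not at hc
    haveI : Subsingleton (Sylow 2 K) := ⟨fun a b => (hc a).trans (hc b).symm⟩
    exact hclosed ⟨S0, S0.normal_of_subsingleton⟩
  have hQle : Q ≤ (S1 : Subgroup K) ⊓ (S0 : Subgroup K) := le_inf (Cores.pCore_le_sylow S1) (Cores.pCore_le_sylow S0)
  have hrQ : ∀ a b : Q, a * a = 1 → b * b = 1 → a * b = b * a → a = 1 ∨ b = 1 ∨ a = b := by
    intro a b ha hb hab
    by_contra hc
    push Not at hc
    obtain ⟨hc1, hc2, hc3⟩ := hc
    set ι := Subgroup.inclusion hQle
    have hι : Function.Injective ι := Subgroup.inclusion_injective hQle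
    let A : Subgroup ↥((S1 : Subgroup K) ⊓ (S0 : Subgroup K)) :=
      { carrier := ι '' {1, a, b, a * b}
        one_mem' := ⟨1, by simp, map_one _⟩
        mul_mem' := by
          rintro _ _ ⟨u, hu, rfl⟩ ⟨v, hv, rfl⟩
          refine ⟨u * v, ?_, map_mul _ _ _⟩
          have h1 : a * (a * b) = b := by rw [← mul_assoc, ha, one_mul]
          have h2 : b * (a * b) = a := by rw [hab, ← mul_assoc, hb, one_mul]
          have h3 : a * b * a = b := by rw [hab, mul_assoc, ha, mul_one]
          have h4 : a * b * b = a := by rw [mul_assoc, hb, mul_one]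
          have h5 : a * b * (a * b) = 1 := by rw [← mul_assoc, h3, hb]
          simp only [Set.mem_insert_iff, Set.mem_singleton_iff] at hu hv ⊢
          rcases hu with rfl | rfl | rfl | rfl <;> rcases hv with rfl | rfl | rfl | rfl <;>
            simp [ha, hb, h1, h2, h3, h4, h5, ← hab]
        inv_mem' := by
          rintro _ ⟨u, hu, rfl⟩
          refine ⟨u, hu, ?_⟩
          rw [← map_inv]
          congr 1
          symm
          refine inv_eq_of_mul_eq_one_right ?_
          simp only [Set.mem_insert_iff, Set.mem_singleton_iff] at hu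
          rcases hu with rfl | rfl | rfl | rfl
          · simp
          · exact ha
          · exact hb
          · calc a * b * (a * b) = a * (b * a) * b := by group
              _ = a * (a * b) * b := by rw [hab]
              _ = (a * a) * (b * b) := by group
              _ = 1 := by rw [ha, hb, one_mul] }
    have h2 : ∀ u ∈ A, u * u = 1 := by
      rintro _ ⟨u, hu, rfl⟩
      rw [← map_mul, show u * u = 1 from ?_, map_one]
      simp only [Set.mem_insert_iff, Set.mem_singleton_iff] at hu
      rcases hu with rfl | rfl | rfl | rfl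
      · simp
      · exact ha
      · exact hb
      · calc a * b * (a * b) = a * (b * a) * b := by group
          _ = a * (a * b) * b := by rw [hab]
          _ = (a * a) * (b * b) := by group
          _ = 1 := by rw [ha, hb, one_mul]
    have hle := hI S1 S0 hne A ⟨⟨fun u v => Subtype.ext (by
        have h := h2 _ (A.mul_mem u.2 v.2)
        rw [mul_eq_one_iff_eq_inv, mul_inv_rev, inv_eq_of_mul_eq_one_right (h2 _ u.2),
          inv_eq_of_mul_eq_one_right (h2 _ v.2)] at h
        exact h)⟩⟩ (fun u hu => by rw [pow_two]; exact h2 u hu)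
    have hge : 4 ≤ Nat.card A := by
      have hfin : ({1, a, b, a * b} : Finset Q).card = 4 := by
        have n1 : (1 : Q) ≠ a * b := fun e => hc3 (by
          rw [eq_inv_of_mul_eq_one_left e.symm, inv_eq_of_mul_eq_one_right hb])
        rw [Finset.card_insert_of_notMem (by simp [Ne.symm hc1, Ne.symm hc2, n1]),
          Finset.card_insert_of_notMem (by simp [hc3, hc2]),
          Finset.card_insert_of_notMem (by simp [hc1]), Finset.card_singleton]
      rw [← hfin, ← Nat.card_eq_finsetCard]
      exact Nat.card_le_card_of_injective (fun u => (⟨ι u, (u : Q), by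
          have := u.2
          simp only [Finset.mem_insert, Finset.mem_singleton] at this
          simpa using this, rfl⟩ : A))
        (fun u v h => Subtype.ext (hι (congrArg Subtype.val h)))
    omega
  -- conjugation on `Q`
  set ρ : K →* MulAut Q := MulAut.conjNormal with hρ
  have hρker : ρ.ker ≤ Q := by
    intro k hk
    refine hCQ (Subgroup.mem_centralizer_iff.2 fun v hv => ?_)
    have h := congrArg (fun f : MulAut Q => ((f ⟨v, hv⟩ : Q) : K)) (MonoidHom.mem_ker.1 hk)
    simp only [hρ, MulAut.conjNormal_apply, MulAut.one_apply] at h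
    exact (mul_inv_eq_iff_eq_mul.1 h).symm
  rcases rank_one hQp hrQ with haut | ⟨⟨e⟩⟩
  · -- then `K` is a 2-group
    exfalso
    refine hclosed ⟨S0, ?_⟩
    have hK : IsPGroup 2 K := by
      intro k
      obtain ⟨j, hj⟩ := haut (ρ k)
      obtain ⟨l, hl⟩ := hQp ⟨k ^ 2 ^ j, hρker (by rw [MonoidHom.mem_ker, map_pow, hj])⟩
      exact ⟨j + l, by rw [pow_add, pow_mul]; exact congrArg Subtype.val hl⟩
    have : (S0 : Subgroup K) = ⊤ :=
      S0.3 (Q := ⊤) (hK.to_subgroup ⊤) le_top |>.symm
    rw [this]; infer_instance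
  have hQ8 : Nat.card Q = 8 := by rw [Nat.card_congr e.toEquiv, Nat.card_eq_fintype_card, QuaternionGroup.card]
  have hsq : ∀ u : Q, u * u = 1 ↔ e u * e u = 1 := fun u => by
    rw [← map_mul]; exact ⟨fun h => by rw [h, map_one], fun h => e.injective (h.trans (map_one e).symm)⟩
  -- the centre of `Q`
  set Z := (Subgroup.center Q).map Q.subtype with hZ
  have hZeq : ∀ k : K, ρ k = 1 ↔ k ∈ Z := by
    intro k
    constructor
    · intro hk
      refine ⟨⟨k, hρker hk⟩, Subgroup.mem_center_iff.2 fun v => Subtype.ext ?_, rfl⟩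
      have h := congrArg (fun f : MulAut Q => ((f v : Q) : K)) hk
      simp only [hρ, MulAut.conjNormal_apply, MulAut.one_apply] at h
      exact (mul_inv_eq_iff_eq_mul.1 h).symm
    · rintro ⟨c, hc, rfl⟩
      refine MulEquiv.ext fun v => Subtype.ext ?_
      simp only [hρ, MulAut.conjNormal_apply, MulAut.one_apply]
      rw [Subgroup.coe_subtype, ← Subgroup.coe_inv, ← Subgroup.coe_mul, ← Subgroup.coe_mul,
        ← Subgroup.mem_center_iff.1 hc v, mul_inv_cancel_right]
  have hZ2 : Nat.card Z = 2 := by
    rw [hZ, Subgroup.card_map_of_injective Q.subtype_injective,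
      Nat.card_congr (Subgroup.centerCongr e).toEquiv, Nat.card_eq_fintype_card]
    decide +kernel
  have hker : ρ.ker = Z := by ext k; rw [MonoidHom.mem_ker]; exact hZeq k
  have hautle : Nat.card (MulAut Q) ≤ 24 := by
    have hHi : ((Subgroup.zpowers (QuaternionGroup.a (n := 2) 1)).map e.symm.toMonoidHom).index ≤ 2 := by
      have h1 := ((Subgroup.zpowers (QuaternionGroup.a (n := 2) 1)).map e.symm.toMonoidHom).card_mul_index
      rw [Subgroup.card_map_of_injective e.symm.injective, Nat.card_zpowers, QuaternionGroup.orderOf_a_one, hQ8] at h1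
      omega
    have hout : ∀ y, y ∉ (Subgroup.zpowers (QuaternionGroup.a (n := 2) 1)).map e.symm.toMonoidHom → orderOf y = 4 ∧
        ∀ h ∈ (Subgroup.zpowers (QuaternionGroup.a (n := 2) 1)).map e.symm.toMonoidHom, y * h * y⁻¹ = h⁻¹ := by
      intro y hy
      have hy' : e y ∉ Subgroup.zpowers (QuaternionGroup.a (n := 2) 1) := fun h =>
        hy ⟨e y, h, e.symm_apply_apply y⟩
      rcases hyk : e y with k | k
      · refine absurd ?_ hy'
        rw [hyk, ← ZMod.natCast_zmod_val k, ← QuaternionGroup.a_one_pow]
        exact pow_mem (Subgroup.mem_zpowers _) _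
      refine ⟨by rw [← MulEquiv.orderOf_eq e, hyk]; exact QuaternionGroup.orderOf_xa k, ?_⟩
      rintro _ ⟨w, ⟨i, rfl⟩, rfl⟩
      apply e.injective
      have key : ∀ k : ZMod (2 * 2), (QuaternionGroup.xa k : Q8) * QuaternionGroup.a 1 * (QuaternionGroup.xa k)⁻¹ =
          (QuaternionGroup.a 1)⁻¹ := by decide +kernel
      simp only [MulEquiv.coe_toMonoidHom, map_mul, map_inv, hyk, MulEquiv.apply_symm_apply]
      rw [← conj_zpow, key k, inv_zpow]
    rcases CyclicIndexTwo.quaternion_like hQp ((Subgroup.zpowers (QuaternionGroup.a (n := 2) 1)).map e.symm.toMonoidHom)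
      (by rw [MonoidHom.map_zpowers]; infer_instance) hHi hout with h | h
    · exfalso
      refine hclosed ⟨S0, ?_⟩
      have hK : IsPGroup 2 K := by
        intro k
        obtain ⟨j, hj⟩ := h (ρ k)
        obtain ⟨l, hl⟩ := hQp ⟨k ^ 2 ^ j, hρker (by rw [MonoidHom.mem_ker, map_pow, hj])⟩
        exact ⟨j + l, by rw [pow_add, pow_mul]; exact congrArg Subtype.val hl⟩
      rw [show (S0 : Subgroup K) = ⊤ from (S0.3 (Q := ⊤) (hK.to_subgroup ⊤) le_top).symm]
      infer_instance
    · exact h.1
  -- no elements of order five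
  have h5 : ¬ 5 ∣ Nat.card K := by
    intro h
    haveI : Fact (Nat.Prime 5) := ⟨by norm_num⟩
    obtain ⟨g, hg⟩ := exists_prime_orderOf_dvd_card' 5 h
    let φ : Q8 →* Q8 := (e.toMonoidHom.comp (ρ g).toMonoidHom).comp e.symm.toMonoidHom
    have hit : ∀ (n : ℕ) (w : Q8), (φ : Q8 → Q8)^[n] w = e ((ρ g ^ n) (e.symm w)) := by
      intro n
      induction n with
      | zero => intro w; simp
      | succ n ih => intro w; rw [Function.iterate_succ_apply', ih, pow_succ', MulAut.mul_apply]; simp [φ]
    have hφinj : Function.Injective φ := e.injective.comp ((ρ g).injective.comp e.symm.injective)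
    have hext : (φ : Q8 → Q8) = ext (φ (.a 1)) (φ (.xa 0)) := funext (hom_eq_ext φ)
    have hne1 : ∀ w : Q8, w * w ≠ 1 → φ w * φ w ≠ 1 := fun w hw h => hw (hφinj (by rw [map_mul, h, map_one]))
    have h55 : ∀ w, (φ : Q8 → Q8)^[5] w = w := fun w => by
      rw [hit, ← map_pow, ← hg, pow_orderOf_eq_one, map_one, MulAut.one_apply, e.apply_symm_apply]
    have := no_five (φ (.a 1)) (φ (.xa 0)) (hne1 (.a 1) (by decide +kernel)) (hne1 (.xa 0) (by decide +kernel))
      (fun h => absurd (hφinj h) (by decide +kernel))
      (fun h => by rw [← map_mul, ← map_mul] at h; exact absurd (hφinj h) (by decide +kernel))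
      (by rw [← hext]; exact h55 _) (by rw [← hext]; exact h55 _)
    have hg1 : ρ g = 1 := by
      refine MulEquiv.ext fun u => e.injective ?_
      have h := hom_eq_ext φ (e u)
      rw [this.1, this.2] at h
      have h' := hom_eq_ext (MonoidHom.id Q8) (e u)
      simp only [MonoidHom.id_apply] at h'
      rw [← h'] at h
      simpa [φ] using h
    have h5' : orderOf g ∣ Nat.card Z := by
      have := Z.orderOf_dvd_natCard ((hZeq g).1 hg1)
      exact this
    rw [hg, hZ2] at h5'
    norm_num at h5'
  -- the order of `K`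
  have hK48 : Nat.card K = 48 := by
    have h1 := ρ.ker.card_mul_index
    rw [Subgroup.index_ker, hker, hZ2] at h1
    have h2 : Nat.card ρ.range ≤ 24 := (Subgroup.card_le_card_group _).trans hautle
    have h8 : 8 ∣ Nat.card K := hQ8 ▸ Q.card_subgroup_dvd_card
    have hS := S0.card_eq_multiplicity
    obtain ⟨c, hc⟩ := h8
    have hcle : c ≤ 6 := by omega
    have hcne : ∀ n, Nat.card K ≠ 2 ^ n := by
      intro n hn
      refine hclosed ⟨S0, ?_⟩
      rw [show (S0 : Subgroup K) = ⊤ from (S0.3 (Q := ⊤) ((IsPGroup.of_card hn).to_subgroup ⊤) le_top).symm]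
      infer_instance
    have h24 : Nat.card K ≠ 24 := by
      intro h24
      refine hclosed ⟨S0, ?_⟩
      rw [h24, fact_24_two] at hS
      have : Q = (S0 : Subgroup K) := Subgroup.eq_of_le_of_card_ge (Cores.pCore_le_sylow S0) (by rw [hS, hQ8]; norm_num)
      rw [← this]; infer_instance
    interval_cases c
    · exact absurd hc Nat.card_pos.ne'
    · exact absurd (by rw [hc]; rfl) (hcne 3)
    · exact absurd (by rw [hc]; rfl) (hcne 4)
    · exact absurd (by rw [hc]) h24
    · exact absurd (by rw [hc]; rfl) (hcne 5)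
    · exact absurd (by rw [hc]; exact ⟨8, rfl⟩) h5
    · rw [hc]
  -- the four Sylow 3-subgroups
  haveI : Fact (Nat.Prime 3) := ⟨Nat.prime_three⟩
  have hP3 : ∀ P : Sylow 3 K, Nat.card (P : Subgroup K) = 3 := fun P => by
    rw [P.card_eq_multiplicity, hK48, fact_48_three, pow_one]
  have hcommQ : ∀ (W : Subgroup K), W.Normal → Odd (Nat.card W) → W = ⊥ := fun W hW hWo => by
    rw [← le_bot_iff, ← hO]; haveI := hW; exact Cores.le_oddCore hWo
  have hZc : ∀ z ∈ Z, ∀ k : K, k * z = z * k := by
    rintro _ ⟨c, hc, rfl⟩ k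
    -- `Z` is the unique subgroup of order two of `Q`
    have hconj : ρ k c ∈ Subgroup.center Q := Subgroup.mem_center_iff.2 fun v => by
      obtain ⟨v, rfl⟩ := (ρ k).surjective v
      rw [← map_mul, ← map_mul, Subgroup.mem_center_iff.1 hc v]
    have hcenter : ∀ u v : Subgroup.center Q, u ≠ 1 → v ≠ 1 → u = v := by
      intro u v hu hv
      have hc2 : Nat.card (Subgroup.center Q) = 2 := by
        rw [← hZ2, hZ, Subgroup.card_map_of_injective Q.subtype_injective]
      haveI : Fintype (Subgroup.center Q) := Fintype.ofFinite _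
      rw [Nat.card_eq_fintype_card] at hc2
      by_contra huv
      have hle := Finset.card_le_univ ({1, u, v} : Finset (Subgroup.center Q))
      rw [Finset.card_insert_of_notMem (by simp [Ne.symm hu, Ne.symm hv]),
        Finset.card_insert_of_notMem (by simp [huv]), Finset.card_singleton, hc2] at hle
      omega
    by_cases hc1 : c = 1
    · subst hc1; simp
    have hne : ρ k c ≠ 1 := fun h => hc1 ((ρ k).injective (h.trans (map_one _).symm))
    have := congrArg (fun u : Subgroup.center Q => ((u : Q) : K))
      (hcenter ⟨ρ k c, hconj⟩ ⟨c, hc⟩ (fun h => hne (congrArg Subtype.val h)) (fun h => hc1 (congrArg Subtype.val h)))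
    simp only [hρ, MulAut.conjNormal_apply] at this
    exact mul_inv_eq_iff_eq_mul.1 this
  have hn4 : Nat.card (Sylow 3 K) = 4 := by
    obtain ⟨P⟩ := (inferInstance : Nonempty (Sylow 3 K))
    have hi : (P : Subgroup K).index = 16 := by
      have h := (P : Subgroup K).card_mul_index
      rw [hP3, hK48] at h; omega
    have hd : Nat.card (Sylow 3 K) ∣ 16 := hi ▸ P.card_dvd_index
    have hm := card_sylow_modEq_one 3 K
    have hle := Nat.le_of_dvd (by norm_num) hd
    interval_cases h : Nat.card (Sylow 3 K)
    all_goals first | rfl | (norm_num at hd; done) | (norm_num [Nat.ModEq] at hm; done) | skip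
    · exfalso
      haveI : Subsingleton (Sylow 3 K) := (Nat.card_eq_one_iff_unique.1 h).1
      have hb := hcommQ _ P.normal_of_subsingleton (by rw [hP3]; decide)
      have := hP3 P
      rw [hb, Subgroup.card_bot] at this
      omega
    · exfalso
      have hN := P.card_eq_index_normalizer
      rw [h] at hN
      have hN3 : Nat.card (Subgroup.normalizer ((P : Subgroup K) : Set K)) = 3 := by
        have h1 := (Subgroup.normalizer ((P : Subgroup K) : Set K)).card_mul_index
        have hN' : (Subgroup.normalizer ((P : Subgroup K) : Set K)).index = 16 := hN.symm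
        rw [hN', hK48] at h1; omega
      have hZN : Z ≤ Subgroup.normalizer ((P : Subgroup K) : Set K) := fun z hz => by
        refine Subgroup.centralizer_le_normalizer _ (Subgroup.mem_centralizer_iff.2 fun v _ => hZc z hz v)
      have := Subgroup.card_dvd_of_le hZN
      rw [hZ2, hN3] at this
      norm_num at this
  obtain ⟨eS⟩ : Nonempty (Sylow 3 K ≃ Fin 4) := ⟨(Finite.equivFinOfCardEq hn4)⟩
  set π : K →* S4 := (Equiv.permCongrHom eS).toMonoidHom.comp (MulAction.toPermHom K (Sylow 3 K)) with hπ
  have hπfix : ∀ (k : K) (P : Sylow 3 K), π k (eS P) = eS (k • P) := fun k P => by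
    simp [hπ, Equiv.permCongrHom]
  have hπ1 : ∀ (k : K), π k = 1 ↔ ∀ P : Sylow 3 K, k • P = P := by
    intro k
    refine ⟨fun h P => eS.injective (by rw [← hπfix, h]; rfl), fun h => Equiv.ext fun n => ?_⟩
    obtain ⟨P, rfl⟩ := eS.surjective n
    rw [hπfix, h]; rfl
  have hkerπ : π.ker = Z := by
    have hle : Z ≤ π.ker := fun z hz => by
      rw [MonoidHom.mem_ker, hπ1]
      intro P
      rw [Sylow.smul_eq_iff_mem_normalizer]
      exact Subgroup.centralizer_le_normalizer _ (Subgroup.mem_centralizer_iff.2 fun v _ => hZc z hz v)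
    -- the kernel is a normal 2-group
    have h3 : ¬ 3 ∣ Nat.card π.ker := by
      intro h
      obtain ⟨x, hx⟩ := exists_prime_orderOf_dvd_card' 3 h
      rw [← Subgroup.orderOf_coe] at hx
      obtain ⟨P, hP⟩ := (IsPGroup.of_card (p := 3) (n := 1) (by rw [Nat.card_zpowers, hx, pow_one]) :
        IsPGroup 3 (Subgroup.zpowers (x : K))).exists_le_sylow
      have heqP : (P : Subgroup K) = Subgroup.zpowers (x : K) :=
        (Subgroup.eq_of_le_of_card_ge hP (by rw [hP3, Nat.card_zpowers, hx])).symm
      have : ∀ R : Sylow 3 K, R = P := by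
        intro R
        obtain ⟨g, rfl⟩ := MulAction.exists_smul_eq K P R
        -- `x` fixes `g • P`, so it lies in it
        have hfix : (x : K) • (g • P) = g • P := (hπ1 _).1 (MonoidHom.mem_ker.1 x.2) _
        rw [Sylow.smul_eq_iff_mem_normalizer] at hfix
        have hxp : IsPGroup 3 (Subgroup.zpowers (x : K)) := P.isPGroup'.to_le heqP.ge
        have hsup : IsPGroup 3 ↥(Subgroup.zpowers (x : K) ⊔ ((g • P : Sylow 3 K) : Subgroup K)) :=
          hxp.to_sup_of_normal_right' (g • P).isPGroup' (Subgroup.zpowers_le.2 hfix)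
        have hmax := (g • P).3 hsup le_sup_right
        refine Sylow.ext (le_antisymm ?_ ?_)
        · refine le_of_eq (Subgroup.eq_of_le_of_card_ge ?_ (by rw [hP3, hP3])).symm
          rw [heqP]; exact le_sup_left.trans hmax.le
        · rw [heqP]; exact le_sup_left.trans hmax.le
      haveI : Subsingleton (Sylow 3 K) := ⟨fun a b => (this a).trans (this b).symm⟩
      have := Nat.card_unique (α := Sylow 3 K)
      omega
    have hp : IsPGroup 2 π.ker := by
      have hd := π.ker.card_subgroup_dvd_card
      rw [hK48, show (48 : ℕ) = 2 ^ 4 * 3 from rfl] at hd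
      obtain ⟨l, -, hl⟩ := (Nat.dvd_prime_pow Nat.prime_two).1
        (((Nat.prime_three.coprime_iff_not_dvd.2 h3).symm).dvd_of_dvd_mul_right hd)
      exact IsPGroup.of_card hl
    refine le_antisymm (fun k hk => ?_) hle
    have hkQ : k ∈ Q := Cores.le_pCore hp hk
    -- `k` commutes with every Sylow 3-subgroup modulo `Q ∩ ker`
    rw [← hZeq]
    obtain ⟨P⟩ := (inferInstance : Nonempty (Sylow 3 K))
    by_contra hk1
    -- elements of order three act without fixed points on the axes
    obtain ⟨x, hxP, hx1⟩ : ∃ x ∈ (P : Subgroup K), x ≠ 1 := by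
      refine (Subgroup.bot_or_exists_ne_one _).resolve_left fun hb => ?_
      have := hP3 P; rw [hb, Subgroup.card_bot] at this; omega
    have hx3 : orderOf x = 3 := by
      have := (P : Subgroup K).orderOf_dvd_natCard hxP
      rw [hP3] at this
      exact (Nat.dvd_prime Nat.prime_three).1 this |>.resolve_left (fun h => hx1 (orderOf_eq_one_iff.1 h))
    have hkn : k ∈ Subgroup.normalizer ((P : Subgroup K) : Set K) :=
      Sylow.smul_eq_iff_mem_normalizer.1 ((hπ1 k).1 (MonoidHom.mem_ker.1 hk) P)
    have hcomm : k * x * k⁻¹ * x⁻¹ = 1 := by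
      have h1 : k * x * k⁻¹ * x⁻¹ ∈ (P : Subgroup K) :=
        mul_mem ((Subgroup.mem_normalizer_iff.1 hkn x).1 hxP) (inv_mem hxP)
      have h2 : k * (x * k⁻¹ * x⁻¹) ∈ Q :=
        Q.mul_mem hkQ ((inferInstance : Q.Normal).conj_mem _ (Q.inv_mem hkQ) x)
      have hd : Disjoint (P : Subgroup K) Q :=
        Subgroup.disjoint_of_coprime_natCard (by rw [hP3, hQ8]; norm_num)
      exact Subgroup.disjoint_def.1 hd h1 (by simpa [mul_assoc] using h2)
    let φ : Q8 →* Q8 := (e.toMonoidHom.comp (ρ x).toMonoidHom).comp e.symm.toMonoidHom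
    have hit : ∀ (n : ℕ) (w : Q8), (φ : Q8 → Q8)^[n] w = e ((ρ x ^ n) (e.symm w)) := by
      intro n
      induction n with
      | zero => intro w; simp
      | succ n ih => intro w; rw [Function.iterate_succ_apply', ih, pow_succ', MulAut.mul_apply]; simp [φ]
    have hφinj : Function.Injective φ := e.injective.comp ((ρ x).injective.comp e.symm.injective)
    have hext : (φ : Q8 → Q8) = ext (φ (.a 1)) (φ (.xa 0)) := funext (hom_eq_ext φ)
    have hne1 : ∀ w : Q8, w * w ≠ 1 → φ w * φ w ≠ 1 := fun w hw h => hw (hφinj (by rw [map_mul, h, map_one]))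
    have h33 : ∀ w, (φ : Q8 → Q8)^[3] w = w := fun w => by
      rw [hit, ← map_pow, ← hx3, pow_orderOf_eq_one, map_one, MulAut.one_apply, e.apply_symm_apply]
    have hkw : e ⟨k, hkQ⟩ * e ⟨k, hkQ⟩ ≠ 1 := by
      rw [Ne, ← hsq]
      intro hk2
      apply hk1
      rw [hZeq]
      refine ⟨⟨k, hkQ⟩, Subgroup.mem_center_iff.2 fun v => e.injective ?_, rfl⟩
      rw [map_mul, map_mul, four_group _ ((hsq _).1 hk2)]
    have hfixk : φ (e ⟨k, hkQ⟩) = e ⟨k, hkQ⟩ := by
      have : ρ x ⟨k, hkQ⟩ = ⟨k, hkQ⟩ := Subtype.ext (by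
        simp only [hρ, MulAut.conjNormal_apply]
        rw [← mul_inv_eq_iff_eq_mul.1 (mul_inv_eq_one.1 hcomm), mul_inv_cancel_right])
      simp [φ, this]
    have := three_axis (φ (.a 1)) (φ (.xa 0)) (hne1 (.a 1) (by decide +kernel)) (hne1 (.xa 0) (by decide +kernel))
      (fun h => absurd (hφinj h) (by decide +kernel))
      (fun h => by rw [← map_mul, ← map_mul] at h; exact absurd (hφinj h) (by decide +kernel))
      (by rw [← hext]; exact h33 _) (by rw [← hext]; exact h33 _) _ hkw
      (Or.inl (by rw [← hext]; exact hfixk))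
    have hx1' : ρ x = 1 := by
      refine MulEquiv.ext fun u => e.injective ?_
      have h := hom_eq_ext φ (e u)
      rw [this.1, this.2] at h
      have h' := hom_eq_ext (MonoidHom.id Q8) (e u)
      simp only [MonoidHom.id_apply] at h'
      rw [← h'] at h
      simpa [φ] using h
    have := Z.orderOf_dvd_natCard ((hZeq x).1 hx1')
    rw [hx3, hZ2] at this
    norm_num at this
  have hπs : Function.Surjective π := by
    rw [← MonoidHom.range_eq_top]
    refine Subgroup.eq_top_of_card_eq _ ?_
    rw [← Subgroup.index_ker, hkerπ, Nat.card_eq_fintype_card (α := S4), Fintype.card_perm, Fintype.card_fin]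
    have h1 := Z.card_mul_index
    rw [hZ2, hK48] at h1
    norm_num [Nat.factorial]
    omega
  have hcenter : Subgroup.center K = Z := by
    refine le_antisymm (fun c hc => ?_) (fun z hz => Subgroup.mem_center_iff.2 fun k => hZc z hz k)
    rw [← hZeq]
    exact MulEquiv.ext fun v => Subtype.ext (by
      simp only [hρ, MulAut.conjNormal_apply, MulAut.one_apply]
      rw [← Subgroup.mem_center_iff.1 hc, mul_inv_cancel_right])
  by_cases hinv : ∃ t : K, t * t = 1 ∧ t ∉ Q
  · left
    obtain ⟨t, ht2, htQ⟩ := hinv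
    -- even 2-elements lie in `Q`
    have hW : ∀ k : K, Equiv.Perm.sign (π k) = 1 → π k * π k = 1 → k ∈ Q := by
      let W : Subgroup K :=
        { carrier := {k | Equiv.Perm.sign (π k) = 1 ∧ π k * π k = 1}
          one_mem' := by simp
          mul_mem' := by
            rintro a b ⟨ha, ha2⟩ ⟨hb, hb2⟩
            exact ⟨by rw [map_mul, map_mul, ha, hb, one_mul], by rw [map_mul]; exact even_mul _ _ ha hb ha2 hb2⟩
          inv_mem' := by
            rintro a ⟨ha, ha2⟩
            refine ⟨by rw [map_inv, map_inv, ha, inv_one], ?_⟩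
            rw [map_inv, ← mul_inv_rev, ha2, inv_one] }
      have : W.Normal := ⟨fun a ha g => by
        refine ⟨?_, ?_⟩
        · rw [map_mul, map_mul, map_mul, map_mul, map_inv, map_inv, ha.1, mul_one, mul_inv_cancel]
        · rw [map_mul, map_mul, map_inv]
          calc π g * π a * (π g)⁻¹ * (π g * π a * (π g)⁻¹) = π g * (π a * π a) * (π g)⁻¹ := by group
            _ = 1 := by rw [ha.2]; group⟩
      have hWp : IsPGroup 2 W := fun w => ⟨2, Subtype.ext (by
        have h1 : (w : K) * w ∈ Z := by rw [← hkerπ, MonoidHom.mem_ker, map_mul]; exact w.2.2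
        have h2 : ∀ u ∈ Z, u * u = 1 := fun u hu => by
          have h := orderOf_dvd_of_pow_eq_one (pow_card_eq_one' (G := Z) (x := ⟨u, hu⟩))
          have h' := congrArg Subtype.val (pow_card_eq_one' (G := Z) (x := ⟨u, hu⟩))
          rw [hZ2, Subgroup.coe_pow, pow_two] at h'
          exact h'
        rw [Subgroup.coe_pow, show (2 : ℕ) ^ 2 = 2 * 2 from rfl, pow_mul, pow_two (w : K), pow_two]
        exact h2 _ h1)⟩
      exact fun k h1 h2 => Cores.le_pCore hWp ⟨h1, h2⟩
    have hπ2 : π t * π t = 1 := by rw [← map_mul, ht2, map_one]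
    have hodd : Equiv.Perm.sign (π t) = -1 := by
      rcases Int.units_eq_one_or (Equiv.Perm.sign (π t)) with h | h
      · exact absurd (hW t h hπ2) htQ
      · exact h
    obtain ⟨n, hn⟩ := odd_fixed _ hodd hπ2
    obtain ⟨P, rfl⟩ := eS.surjective n
    rw [hπfix] at hn
    have htn := Sylow.smul_eq_iff_mem_normalizer.1 (eS.injective hn)
    obtain ⟨x, hxP, hx1⟩ : ∃ x ∈ (P : Subgroup K), x ≠ 1 := by
      refine (Subgroup.bot_or_exists_ne_one _).resolve_left fun hb => ?_
      have := hP3 P; rw [hb, Subgroup.card_bot] at this; omega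
    have hx3 : orderOf x = 3 := by
      have := (P : Subgroup K).orderOf_dvd_natCard hxP
      rw [hP3] at this
      exact (Nat.dvd_prime Nat.prime_three).1 this |>.resolve_left (fun h => hx1 (orderOf_eq_one_iff.1 h))
    have htx : t * x * t⁻¹ = x⁻¹ := by
      have hmem : t * x * t⁻¹ ∈ Subgroup.zpowers x := by
        rw [show Subgroup.zpowers x = (P : Subgroup K) from Subgroup.eq_of_le_of_card_ge
          (Subgroup.zpowers_le.2 hxP) (by rw [hP3, Nat.card_zpowers, hx3])]
        exact (Subgroup.mem_normalizer_iff.1 htn x).1 hxP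
      obtain ⟨j, hj, hjx⟩ : ∃ j, j < 3 ∧ x ^ j = t * x * t⁻¹ := by
        obtain ⟨j, hj⟩ := mem_powers_iff_mem_zpowers.2 hmem
        exact ⟨j % 3, Nat.mod_lt _ (by norm_num), by rw [← hx3, pow_mod_orderOf]; exact hj⟩
      interval_cases j
      · rw [pow_zero] at hjx
        exact absurd (conj_eq_one_iff.1 hjx.symm) hx1
      · exfalso
        rw [pow_one] at hjx
        have h1 : π x = 1 := odd_no_commute _ _ hodd hπ2
          (by rw [← map_mul, ← map_mul, ← pow_three', ← hx3, pow_orderOf_eq_one, map_one])
          (by rw [← map_mul, ← map_mul, mul_inv_eq_iff_eq_mul.1 hjx.symm])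
        rw [← MonoidHom.mem_ker, hkerπ] at h1
        have := Z.orderOf_dvd_natCard h1
        rw [hx3, hZ2] at this
        norm_num at this
      · rw [← hjx]
        exact eq_inv_of_mul_eq_one_left (by rw [← pow_succ]; show x ^ 3 = 1; rw [← hx3]; exact pow_orderOf_eq_one x)
    -- an axis fixed by `t`
    let φ : K → (Q8 →* Q8) := fun k => (e.toMonoidHom.comp (ρ k).toMonoidHom).comp e.symm.toMonoidHom
    have hit : ∀ (k : K) (n : ℕ) (w : Q8), (φ k : Q8 → Q8)^[n] w = e ((ρ k ^ n) (e.symm w)) := by
      intro k n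
      induction n with
      | zero => intro w; simp
      | succ n ih => intro w; rw [Function.iterate_succ_apply', ih, pow_succ', MulAut.mul_apply]; simp [φ]
    have hφinj : ∀ k, Function.Injective (φ k) := fun k => e.injective.comp ((ρ k).injective.comp e.symm.injective)
    have hne1 : ∀ k, ∀ w : Q8, w * w ≠ 1 → φ k w * φ k w ≠ 1 :=
      fun k w hw h => hw (hφinj k (by rw [map_mul, h, map_one]))
    have hext : ∀ k, (φ k : Q8 → Q8) = ext (φ k (.a 1)) (φ k (.xa 0)) := fun k => funext (hom_eq_ext (φ k))
    have hper : ∀ k (n : ℕ), k ^ n = 1 → ∀ w, (φ k : Q8 → Q8)^[n] w = w := fun k n hk w => by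
      rw [hit, ← map_pow, hk, map_one, MulAut.one_apply, e.apply_symm_apply]
    have ht2' : t ^ 2 = 1 := by rw [pow_two, ht2]
    have hx3' : x ^ 3 = 1 := by rw [← hx3, pow_orderOf_eq_one]
    obtain ⟨w, hw, hwt⟩ := involution_axis _ _ (hne1 t (.a 1) (by decide +kernel)) (hne1 t (.xa 0) (by decide +kernel))
      (fun h => absurd (hφinj t h) (by decide +kernel))
      (fun h => by rw [← map_mul, ← map_mul] at h; exact absurd (hφinj t h) (by decide +kernel))
      (by rw [← hext]; exact hper t 2 ht2' _) (by rw [← hext]; exact hper t 2 ht2' _)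
    rw [← hext] at hwt
    have haxis : ∀ v : Q8, v * v ≠ 1 → φ x v ≠ v ∧ φ x v ≠ v * v * v := by
      intro v hv
      rw [← not_or]
      intro hcase
      have := three_axis _ _ (hne1 x (.a 1) (by decide +kernel)) (hne1 x (.xa 0) (by decide +kernel))
        (fun h => absurd (hφinj x h) (by decide +kernel))
        (fun h => by rw [← map_mul, ← map_mul] at h; exact absurd (hφinj x h) (by decide +kernel))
        (by rw [← hext]; exact hper x 3 hx3' _) (by rw [← hext]; exact hper x 3 hx3' _) v hv
        (by rw [← hext]; exact hcase)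
      have hx1' : ρ x = 1 := by
        refine MulEquiv.ext fun u => e.injective ?_
        have h := hom_eq_ext (φ x) (e u)
        rw [this.1, this.2] at h
        have h' := hom_eq_ext (MonoidHom.id Q8) (e u)
        simp only [MonoidHom.id_apply] at h'
        rw [← h'] at h
        simpa [φ] using h
      have := Z.orderOf_dvd_natCard ((hZeq x).1 hx1')
      rw [hx3, hZ2] at this
      norm_num at this
    -- choose the rotation
    set v := φ x w with hv
    set u := φ x v with hu
    have hv2 : v * v ≠ 1 := hne1 x _ hw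
    have hu2 : u * u ≠ 1 := hne1 x _ hv2
    obtain ⟨f1, f2, f3, f4, f5, f6⟩ := pair_facts w v hw hv2 (haxis w hw).1 (haxis w hw).2
    have hxu : φ x u = w := by
      have := hper x 3 hx3' w
      simpa [Function.iterate_succ_apply'] using this
    have huw : u = w * v ∨ u = v * w := by
      refine f6 u hu2 (fun h => ?_) (fun h => ?_) (haxis v hv2).1 (haxis v hv2).2
      · rw [h] at hxu
        exact (haxis w hw).1 hxu
      · rw [h, map_mul, map_mul, ← hv] at hxu
        refine (haxis w hw).2 ?_
        -- `v ^ 3 = w` gives `v = w ^ 3`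
        have hv4 : v * v * (v * v) = 1 := by
          rw [f2, ← f1]; simp only [pow_succ, pow_zero, one_mul, mul_assoc]
        show v = w * w * w
        calc v = (v * v * (v * v)) * (v * v * (v * v)) * v := by rw [hv4, one_mul, one_mul]
          _ = (v * v * v) * (v * v * v) * (v * v * v) := by group
          _ = w * w * w := by rw [hxu]
    -- translate to `K`
    let g : Q8 → K := fun q => ((e.symm q : Q) : K)
    have hgm : ∀ p q, g (p * q) = g p * g q := fun p q => by simp [g]
    have hgp : ∀ (p) (n : ℕ), g (p ^ n) = g p ^ n := fun p n => by simp [g]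
    have hg1 : g 1 = 1 := by simp [g]
    have hgφ : ∀ k q, g (φ k q) = k * g q * k⁻¹ := fun k q => by
      simp [g, φ, hρ, MulAut.conjNormal_apply]
    have build : ∀ (X : K) (v' : Q8), X ^ 3 = 1 → t * X * t⁻¹ = X⁻¹ → orderOf X = 3 → v' * v' ≠ 1 → v' ≠ w →
        v' ≠ w * w * w → φ X w = v' → φ X v' = w * v' → Nonempty (K ≃* GL (Fin 2) (ZMod 3)) := by
      intro X v' hX3 htX hXo hv' hne1' hne2' hXw hXv
      obtain ⟨f1, f2, f3, f4, f5, -⟩ := pair_facts w v' hw hv' hne1' hne2'
      have hti : t * g w * t⁻¹ = (g w)⁻¹ := by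
        have hinv : (g w)⁻¹ = g (w * w * w) := by
          refine inv_eq_of_mul_eq_one_right ?_
          rw [← hgm, ← hg1]; congr 1
          rw [← f1]; simp only [pow_succ, pow_zero, one_mul, mul_assoc]
        rcases hwt with h | h
        · -- fixing the axis pointwise is incompatible with the rotation
          exfalso
          have h1 : φ X (φ t (φ X w)) = φ t w := by
            apply e.symm.injective
            apply Subtype.ext
            show g _ = g _
            rw [hgφ, hgφ, hgφ, hgφ]
            have e1 : X * t * X = t := by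
              calc X * t * X = X * (t * X * t⁻¹) * t := by group
                _ = t := by rw [htX]; group
            calc X * (t * (X * g w * X⁻¹) * t⁻¹) * X⁻¹ = (X * t * X) * g w * (X * t * X)⁻¹ := by group
              _ = t * g w * t⁻¹ := by rw [e1]
          rw [h, hXw] at h1
          -- so `t` sends `v'` to `w v'`, and then `w v'` to `v'`
          have h2 : φ t v' = w * v' := by
            apply hφinj X
            rw [h1, map_mul, hXw, hXv]
            have := hper X 3 hX3 w
            simp only [Function.iterate_succ_apply', Function.iterate_zero_apply] at this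
            rw [hXw, hXv, map_mul, hXw, hXv] at this
            exact this.symm
          have h3 := hper t 2 ht2' v'
          simp only [Function.iterate_succ_apply', Function.iterate_zero_apply] at h3
          rw [h2, map_mul, h, h2, ← mul_assoc, mul_eq_right] at h3
          exact hw h3
        · rw [← hgφ, h, ← hinv]
      have hR : GL23.Rel (g w) (g v') X t := by
        refine ⟨?_, ?_, ?_, hX3, ?_, ?_, ht2, hti, htX⟩
        · rw [← hgp, f1, hg1]
        · rw [← hgm, f2, hgm]
        · rw [← hgm, f3, hgm, hgp]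
        · rw [← hgφ, hXw]
        · rw [← hgφ, hXv, hgm]
      refine GL23.nonempty_equiv hK48 hR ?_
      set D := Subgroup.closure ({g w, g v', X, t} : Set K) with hD
      have hwD : g w ∈ D := Subgroup.subset_closure (by simp)
      have hvD : g v' ∈ D := Subgroup.subset_closure (by simp)
      have hQD : Q ≤ D := fun q hq => by
        obtain ⟨k, l, hkl⟩ := f5 (e ⟨q, hq⟩)
        have : q = g w ^ (k : ℕ) * g v' ^ (l : ℕ) := by
          rw [← hgp, ← hgp, ← hgm, ← hkl]; simp [g]
        rw [this]; exact D.mul_mem (D.pow_mem hwD _) (D.pow_mem hvD _)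
      apply Subgroup.eq_top_of_card_eq
      rw [hK48]
      have hdvd := D.card_subgroup_dvd_card
      rw [hK48] at hdvd
      have h3 : 3 ∣ Nat.card D := hXo ▸ D.orderOf_dvd_natCard (Subgroup.subset_closure (by simp))
      have h8 : 8 ∣ Nat.card D := hQ8 ▸ Subgroup.card_dvd_of_le hQD
      have h24 : 24 ∣ Nat.card D := Nat.Coprime.mul_dvd_of_dvd_of_dvd (by norm_num) h3 h8
      obtain ⟨c, hc⟩ := h24
      rw [hc] at hdvd ⊢
      have hc2 := Nat.le_of_dvd (by norm_num) hdvd
      have hc0 : c ≠ 0 := fun h => by rw [h, mul_zero] at hdvd; norm_num at hdvd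
      by_contra hne2
      have hc1 : c = 1 := by omega
      rw [hc1, mul_one] at hc
      -- index two: `D` would have normal Sylow 2-subgroup `Q`, but `t` is outside
      have hQi : Q.relIndex D = 3 := by
        have h := Subgroup.relIndex_mul_relIndex ⊥ Q D bot_le hQD
        rw [Subgroup.relIndex_bot_left, Subgroup.relIndex_bot_left, hQ8, hc] at h
        omega
      apply htQ
      have htD : t ∈ D := Subgroup.subset_closure (by simp)
      have h1 : (⟨t, htD⟩ : D) ^ 3 ∈ Q.subgroupOf D := by
        have : (Q.subgroupOf D).index = 3 := hQi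
        rw [← this]; exact Subgroup.pow_index_mem _ _
      rw [Subgroup.mem_subgroupOf] at h1
      simpa [pow_three, ht2] using h1
    rcases huw with h | h
    · exact build x v hx3' htx hx3 hv2 (haxis w hw).1 (haxis w hw).2 rfl (hu.symm.trans h)
    · -- replace `x` by its inverse
      have hxi : φ x⁻¹ w = u := by
        apply hφinj x
        rw [hxu]
        apply e.symm.injective
        apply Subtype.ext
        show g _ = g _
        rw [hgφ, hgφ]; group
      have hxiu : φ x⁻¹ u = v := by
        apply hφinj x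
        rw [← hu]
        apply e.symm.injective
        apply Subtype.ext
        show g _ = g _
        rw [hgφ, hgφ]; group
      have hne1' : u ≠ w := fun e => by rw [e] at hxu; exact (haxis w hw).1 hxu
      have hne2' : u ≠ w * w * w := fun e => by
        apply (haxis w hw).2
        have h1 := hxu
        rw [e, map_mul, map_mul, ← hv] at h1
        have hv4 : v * v * (v * v) = 1 := by
          rw [f2, ← f1]; simp only [pow_succ, pow_zero, one_mul, mul_assoc]
        show v = w * w * w
        calc v = (v * v * (v * v)) * (v * v * (v * v)) * v := by rw [hv4, one_mul, one_mul]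
          _ = (v * v * v) * (v * v * v) * (v * v * v) := by group
          _ = w * w * w := by rw [h1]
      refine build x⁻¹ u (by rw [inv_pow, hx3', inv_one]) ?_ (by rw [orderOf_inv, hx3]) hu2 hne1' hne2' hxi ?_
      · calc t * x⁻¹ * t⁻¹ = (t * x * t⁻¹)⁻¹ := by group
          _ = _ := by rw [htx]
      · rw [hxiu, h]
        calc v = 1 * v := (one_mul v).symm
          _ = (w ^ 3 * w) * v := by rw [← pow_succ, f1]
          _ = w * (w ^ 3 * v) := by rw [← mul_assoc, ← pow_succ', ← pow_succ]
          _ = _ := by rw [f3]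
  · right
    push Not at hinv
    refine ⟨hK48, by rw [hcenter, hZ2], ⟨(QuotientGroup.quotientMulEquivOfEq (hcenter.trans hkerπ.symm)).trans
      (QuotientGroup.quotientKerEquivOfSurjective π hπs)⟩, fun P => ?_⟩
    have hPc : Nat.card (P : Subgroup K) = 16 := by
      rw [P.card_eq_multiplicity, hK48, fact_48_two]; norm_num
    have huniq : ∀ A B : Subgroup (P : Subgroup K), Nat.card A = 2 → Nat.card B = 2 → A = B := by
      intro A B hA hB
      have key : ∀ A : Subgroup (P : Subgroup K), Nat.card A = 2 →
          A.map (P : Subgroup K).subtype = Z := by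
        intro A hA
        obtain ⟨c, hc⟩ := exists_prime_orderOf_dvd_card' 2 (G := A) (by rw [hA])
        rw [← Subgroup.orderOf_coe, ← Subgroup.orderOf_coe] at hc
        have hc2 : ((c : (P : Subgroup K)) : K) * ((c : (P : Subgroup K)) : K) = 1 := by
          have h2 := pow_orderOf_eq_one ((c : (P : Subgroup K)) : K)
          rwa [hc, pow_two] at h2
        have hcQ := hinv _ hc2
        have hcZ : ((c : (P : Subgroup K)) : K) ∈ Z :=
          ⟨⟨_, hcQ⟩, Subgroup.mem_center_iff.2 fun v => e.injective (by
            rw [map_mul, map_mul, four_group _ ((hsq ⟨_, hcQ⟩).1 (Subtype.ext hc2))]), rfl⟩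
        have h1 : Subgroup.zpowers ((c : (P : Subgroup K)) : K) = Z :=
          Subgroup.eq_of_le_of_card_ge (Subgroup.zpowers_le.2 hcZ) (by rw [hZ2, Nat.card_zpowers, hc])
        rw [← h1]
        symm
        refine Subgroup.eq_of_le_of_card_ge (Subgroup.zpowers_le.2 (Subgroup.mem_map_of_mem _ c.2)) ?_
        rw [Subgroup.card_map_of_injective (P : Subgroup K).subtype_injective, hA, Nat.card_zpowers, hc]
      exact Subgroup.map_injective (P : Subgroup K).subtype_injective ((key A hA).trans (key B hB).symm)
    rcases PGroups.UniqueSubgroup.isCyclic_or_quaternion P.isPGroup' huniq with h | ⟨-, n, ⟨f⟩⟩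
    · exfalso
      haveI := h
      haveI : IsCyclic Q := isCyclic_of_injective (Subgroup.inclusion (Cores.pCore_le_sylow P))
        (Subgroup.inclusion_injective _)
      have : IsMulCommutative Q8 := ⟨⟨fun p q => by
        obtain ⟨p, rfl⟩ := e.surjective p
        obtain ⟨q, rfl⟩ := e.surjective q
        letI := IsCyclic.commGroup (α := Q)
        rw [← map_mul, ← map_mul, mul_comm]⟩⟩
      have h' := this.is_comm.comm (QuaternionGroup.a 1 : Q8) (QuaternionGroup.xa 0)
      revert h'
      decide +kernel
    · haveI : NeZero (2 ^ n) := ⟨by positivity⟩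
      have : 4 * 2 ^ n = 16 := by
        rw [← QuaternionGroup.card, ← Nat.card_eq_fintype_card, ← Nat.card_congr f.toEquiv, hPc]
      rw [show 2 ^ n = 4 by omega] at f
      exact ⟨f⟩

end Cfsg.Agent.InvChar.Octahedral
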