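import Mathlib

/-!
# The odd product graph on a class of involutions
-/

set_option autoImplicit false
set_option linter.all false

namespace Cfsg.Agent.InvChar.OddProductGraph

variable {G : Type*} [Group G]

theorem odd_orderOf_mul_comm {x y : G} (h : Odd (orderOf (x * y))) : Odd (orderOf (y * x)) := by
  have e : y * x = MulAut.conj y (x * y) := by simp [mul_assoc]
  rwa [e, MulEquiv.orderOf_eq]

/-- A connected graph of diameter two from common neighbours. -/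
theorem connected_diam_two (t : G)
    (hcom : ∀ x y : G, IsConj t x → IsConj t y → x ≠ y → ¬ Odd (orderOf (x * y)) →
      ∃ z, IsConj t z ∧ z ≠ x ∧ z ≠ y ∧ Odd (orderOf (x * z)) ∧ Odd (orderOf (z * y)))
    (hfar : ∃ x y : G, IsConj t x ∧ IsConj t y ∧ x ≠ y ∧ ¬ Odd (orderOf (x * y))) :
    (SimpleGraph.fromRel fun x y : {x : G // IsConj t x} => Odd (orderOf (x.1 * y.1))).Connected ∧
      (SimpleGraph.fromRel fun x y : {x : G // IsConj t x} => Odd (orderOf (x.1 * y.1))).diam = 2 := by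
  set Γ := SimpleGraph.fromRel fun x y : {x : G // IsConj t x} => Odd (orderOf (x.1 * y.1)) with hΓ
  have hadj : ∀ a b : {x : G // IsConj t x}, Γ.Adj a b ↔ a ≠ b ∧ Odd (orderOf (a.1 * b.1)) := by
    intro a b
    rw [hΓ, SimpleGraph.fromRel_adj]
    exact and_congr_right fun _ => ⟨fun h => h.elim id odd_orderOf_mul_comm, Or.inl⟩
  have hle : ∀ a b, Γ.edist a b ≤ 2 := by
    intro a b
    by_cases hab : a = b
    · subst hab; rw [SimpleGraph.edist_self]; exact zero_le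
    by_cases hod : Odd (orderOf (a.1 * b.1))
    · rw [SimpleGraph.edist_eq_one_iff_adj.2 ((hadj a b).2 ⟨hab, hod⟩)]; norm_num
    obtain ⟨z, hz, hzx, hzy, h1, h2⟩ := hcom a.1 b.1 a.2 b.2 (fun h => hab (Subtype.ext h)) hod
    have e1 : Γ.Adj a ⟨z, hz⟩ := (hadj _ _).2 ⟨fun h => hzx (congrArg Subtype.val h).symm, h1⟩
    have e2 : Γ.Adj ⟨z, hz⟩ b := (hadj _ _).2 ⟨fun h => hzy (congrArg Subtype.val h), h2⟩
    exact SimpleGraph.edist_le (.cons e1 (.cons e2 .nil))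
  obtain ⟨x, y, hx, hy, hxy, hno⟩ := hfar
  haveI : Nonempty {x : G // IsConj t x} := ⟨⟨x, hx⟩⟩
  have hup : Γ.ediam ≤ 2 := SimpleGraph.ediam_le_of_edist_le hle
  have htop : Γ.ediam ≠ ⊤ := ne_top_of_le_ne_top (by simp) hup
  refine ⟨SimpleGraph.connected_of_ediam_ne_top htop, ?_⟩
  have hlo : 2 ≤ Γ.edist ⟨x, hx⟩ ⟨y, hy⟩ := by
    have h0 : Γ.edist ⟨x, hx⟩ ⟨y, hy⟩ ≠ 0 := fun h =>
      hxy (congrArg Subtype.val (SimpleGraph.edist_eq_zero_iff.1 h))
    have h1 : Γ.edist ⟨x, hx⟩ ⟨y, hy⟩ ≠ 1 := fun h =>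
      hno ((hadj _ _).1 (SimpleGraph.edist_eq_one_iff_adj.1 h)).2
    cases h : Γ.edist ⟨x, hx⟩ ⟨y, hy⟩ with
    | top => exact le_top
    | coe k =>
      rw [h] at h0 h1
      have hk0 : k ≠ 0 := fun e => h0 (by rw [e]; rfl)
      have hk1 : k ≠ 1 := fun e => h1 (by rw [e]; rfl)
      exact_mod_cast (show 2 ≤ k by omega)
  have he : Γ.ediam = 2 := le_antisymm hup (hlo.trans SimpleGraph.edist_le_ediam)
  rw [SimpleGraph.diam, he]
  rfl

end Cfsg.Agent.InvChar.OddProductGraph
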