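import Cfsg.Agent.InvChar.OddProductGraph
import Cfsg.Agent.Lib.Forms.KleinPSL

/-!
# Products of two involutions of `PSL₂(q)` of odd order
-/

set_option autoImplicit false
set_option linter.all false

namespace Cfsg.Agent.InvChar.OddProductGraphPSL

open Matrix Cfsg.Agent.Forms Cfsg.Agent.Forms.KleinSL2
open scoped MatrixGroups

variable {F : Type*} [Field F]

local notation "PG" => Matrix.ProjectiveSpecialLinearGroup (Fin 2) F

/-- The trace. -/
def tr (g : SL(2, F)) : F := (g : Matrix (Fin 2) (Fin 2) F) 0 0 + (g : Matrix (Fin 2) (Fin 2) F) 1 1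

theorem cayley (g : SL(2, F)) :
    (g : Matrix (Fin 2) (Fin 2) F) * (g : Matrix (Fin 2) (Fin 2) F) =
      tr g • (g : Matrix (Fin 2) (Fin 2) F) - 1 := by
  have hd := g.2
  rw [det_fin_two] at hd
  ext i j
  fin_cases i <;> fin_cases j <;>
    simp [tr, Matrix.mul_apply, Fin.sum_univ_two] <;> first | ring1 | linear_combination -hd

theorem tr_mul_eq (g h : SL(2, F)) : tr (g * h) = tr (h * g) := by
  simp [tr, Matrix.SpecialLinearGroup.coe_mul, Matrix.mul_apply, Fin.sum_univ_two]; ring

theorem tr_conj (g h : SL(2, F)) : tr (h * g * h⁻¹) = tr g := by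
  rw [tr_mul_eq, ← mul_assoc, inv_mul_cancel, one_mul]

theorem tr_neg (g : SL(2, F)) : tr (-g) = - tr g := by
  simp [tr]; ring

variable [Fintype F]

/-- In characteristic `p` an element of trace two has `p`-th power one. -/
theorem pow_char_of_trace_two {p : ℕ} [Fact p.Prime] [CharP F p] {g : SL(2, F)} (h : tr g = 2) :
    g ^ p = 1 := by
  have hN : ((g : Matrix (Fin 2) (Fin 2) F) - 1) * ((g : Matrix (Fin 2) (Fin 2) F) - 1) = 0 := by
    rw [sub_mul, mul_sub, mul_sub, cayley, h, one_mul, mul_one, mul_one, two_smul]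
    abel
  set N := (g : Matrix (Fin 2) (Fin 2) F) - 1 with hNd
  have hpow : ∀ k : ℕ, (g : Matrix (Fin 2) (Fin 2) F) ^ k = 1 + (k : F) • N := by
    intro k
    induction k with
    | zero => simp
    | succ k ih =>
      rw [pow_succ, ih, show (g : Matrix (Fin 2) (Fin 2) F) = 1 + N by rw [hNd]; abel, mul_add, add_mul,
        add_mul, one_mul, mul_one, one_mul, smul_mul_assoc, hN, smul_zero, add_zero, Nat.cast_succ, add_smul,
        one_smul]
      abel
  refine Subtype.ext ?_
  rw [Matrix.SpecialLinearGroup.coe_pow, hpow, CharP.cast_eq_zero, zero_smul, add_zero,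
    Matrix.SpecialLinearGroup.coe_one]

theorem odd_of_trace_pm_two {p : ℕ} [Fact p.Prime] [CharP F p] (hp : Odd p) {g : SL(2, F)}
    (h : tr g = 2 ∨ tr g = -2) : Odd (orderOf (KleinPSL.pi F g)) := by
  have key : ∀ g : SL(2, F), tr g = 2 → Odd (orderOf (KleinPSL.pi F g)) := fun g h =>
    hp.of_dvd_nat (orderOf_dvd_of_pow_eq_one (by rw [← map_pow, pow_char_of_trace_two h, map_one]))
  rcases h with h | h
  · exact key g h
  · rw [← KleinPSL.pi_neg]
    exact key _ (by rw [tr_neg, h, neg_neg])

/-- A split semisimple element has odd order in `PSL₂(q)`, `q ≡ 3 mod 4`. -/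
theorem odd_of_split (hq : Fintype.card F % 4 = 3) {g : SL(2, F)} {m : F} (hm : m ≠ 0)
    (h : tr g * tr g - 4 = m * m) : Odd (orderOf (KleinPSL.pi F g)) := by
  have h2 : (2 : F) ≠ 0 := Ring.two_ne_zero (fun h => by
    have := FiniteField.even_card_of_char_two h
    omega)
  set lam := (tr g + m) / 2 with hl
  set mu := (tr g - m) / 2 with hmu
  have hs : lam + mu = tr g := by rw [hl, hmu]; field_simp; ring
  have hd : lam - mu = m := by rw [hl, hmu]; field_simp; ring
  have hpr : lam * mu = 1 := by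
    rw [hl, hmu]; field_simp; linear_combination h
  have hl0 : lam ≠ 0 := left_ne_zero_of_mul (hpr.trans_ne one_ne_zero)
  have hmu0 : mu ≠ 0 := right_ne_zero_of_mul (hpr.trans_ne one_ne_zero)
  set M := (g : Matrix (Fin 2) (Fin 2) F) with hM
  have hA : M * (M - mu • 1) = lam • (M - mu • 1) := by
    rw [mul_sub, mul_smul_comm, mul_one, cayley, ← hs, smul_sub, smul_smul, hpr, one_smul, add_smul]
    abel
  have hB : M * (M - lam • 1) = mu • (M - lam • 1) := by
    rw [mul_sub, mul_smul_comm, mul_one, cayley, ← hs, smul_sub, smul_smul, mul_comm mu, hpr, one_smul, add_smul]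
    abel
  have hpow : ∀ k : ℕ, m • M ^ k = lam ^ k • (M - mu • 1) - mu ^ k • (M - lam • 1) := by
    intro k
    induction k with
    | zero =>
      rw [pow_zero, pow_zero, pow_zero, one_smul, one_smul, ← hd, sub_smul]
      abel
    | succ k ih =>
      rw [pow_succ', ← mul_smul_comm, ih, mul_sub, mul_smul_comm, mul_smul_comm, hA, hB, smul_smul,
        smul_smul, ← pow_succ, ← pow_succ]
  have hone : g ^ (Fintype.card F - 1) = 1 := by
    refine Subtype.ext ?_
    rw [Matrix.SpecialLinearGroup.coe_pow, Matrix.SpecialLinearGroup.coe_one, ← hM]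
    have h1 := hpow (Fintype.card F - 1)
    rw [FiniteField.pow_card_sub_one_eq_one lam hl0, FiniteField.pow_card_sub_one_eq_one mu hmu0, one_smul,
      one_smul, show M - mu • (1 : Matrix (Fin 2) (Fin 2) F) - (M - lam • 1) = (lam - mu) • 1 by
        rw [sub_smul]; abel, hd] at h1
    exact smul_right_injective _ hm h1
  set n := (Fintype.card F - 1) / 2 with hn
  have hodd : Odd n := by rw [Nat.odd_iff, hn]; omega
  have hsq : g ^ n * g ^ n = 1 := by
    rw [← pow_add, show n + n = Fintype.card F - 1 by omega, hone]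
  refine hodd.of_dvd_nat (orderOf_dvd_of_pow_eq_one ?_)
  rw [← map_pow, KleinPSL.pi_eq_one]
  rcases eq_or_ne (g ^ n) 1 with h' | h'
  · exact Or.inl h'
  · refine Or.inr (Subtype.ext ?_)
    rw [Classical.SylowSL2.eq_neg_one_of_sq h2 _ h' hsq, Matrix.SpecialLinearGroup.coe_neg,
      Matrix.SpecialLinearGroup.coe_one]

/-- A matrix of square `-1` has trace zero. -/
theorem tr_zero_of_sq (h2 : (2 : F) ≠ 0) {Y : SL(2, F)} (hY : Y * Y = -1) : tr Y = 0 := by
  have h := cayley Y
  rw [← Matrix.SpecialLinearGroup.coe_mul, hY, Matrix.SpecialLinearGroup.coe_neg,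
    Matrix.SpecialLinearGroup.coe_one] at h
  have h' : tr Y • (Y : Matrix (Fin 2) (Fin 2) F) = 0 := by linear_combination (norm := module) -h
  rcases smul_eq_zero.1 h' with h'' | h''
  · exact h''
  · have hd := Y.2
    rw [h'', det_zero] at hd
    exact absurd hd zero_ne_one

/-- Trace-zero matrices of determinant one. -/
def trl (u v w : F) (h : -(u * u) - v * w = 1) : SL(2, F) :=
  ⟨!![u, v; w, -u], by rw [det_fin_two_of]; linear_combination h⟩

theorem trl_sq (u v w : F) (h : -(u * u) - v * w = 1) : trl u v w h * trl u v w h = -1 := by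
  refine Subtype.ext ?_
  rw [Matrix.SpecialLinearGroup.coe_mul, Matrix.SpecialLinearGroup.coe_neg, Matrix.SpecialLinearGroup.coe_one]
  ext i j
  fin_cases i <;> fin_cases j <;> simp [trl, Matrix.mul_apply, Fin.sum_univ_two] <;>
    first | ring1 | linear_combination -h

theorem eq_trl (h2 : (2 : F) ≠ 0) {Y : SL(2, F)} (hY : Y * Y = -1) :
    ∃ u v w h, Y = trl u v w h := by
  have ht := tr_zero_of_sq h2 hY
  have hd := Y.2
  rw [det_fin_two] at hd
  unfold tr at ht
  refine ⟨(Y : Matrix (Fin 2) (Fin 2) F) 0 0, (Y : Matrix (Fin 2) (Fin 2) F) 0 1,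
    (Y : Matrix (Fin 2) (Fin 2) F) 1 0, by linear_combination hd - (Y : Matrix (Fin 2) (Fin 2) F) 0 0 * ht,
    Subtype.ext ?_⟩
  ext i j
  fin_cases i <;> fin_cases j <;> simp [trl]
  linear_combination ht

theorem tr_trl_mul (u v w h u' v' w' h') :
    tr (trl (F := F) u v w h * trl u' v' w' h') = 2 * (u * u') + v * w' + w * v' := by
  unfold tr
  rw [Matrix.SpecialLinearGroup.coe_mul]
  simp [trl, Matrix.mul_apply, Fin.sum_univ_two]; ring

theorem isConj_trl (h2 : (2 : F) ≠ 0) {t : PG} (ht : orderOf t = 2) (u v w h) :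
    IsConj t (KleinPSL.pi F (trl u v w h)) :=
  KleinPSL.involutions_isConj h2 _ _ ht ((KleinPSL.orderOf_pi_eq_two h2).2 (trl_sq u v w h))

/-- Common neighbours for `q ≡ 1 mod 4`. -/
theorem common_one (hq : Fintype.card F % 4 = 1) {t : PG} (ht : orderOf t = 2) :
    ∀ x y : PG, IsConj t x → IsConj t y → x ≠ y → ¬ Odd (orderOf (x * y)) →
      ∃ z, IsConj t z ∧ z ≠ x ∧ z ≠ y ∧ Odd (orderOf (x * z)) ∧ Odd (orderOf (z * y)) := by
  classical
  intro x₀ y₀ hx₀ hy₀ hne hno
  obtain ⟨i, hi⟩ := FiniteField.isSquare_neg_one_iff.2 (by omega : Fintype.card F % 4 ≠ 3)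
  have h2 : (2 : F) ≠ 0 := Ring.two_ne_zero (fun h => by
    have := FiniteField.even_card_of_char_two h
    omega)
  obtain ⟨p, hp⟩ := CharP.exists F
  haveI := hp
  have hpp : p.Prime := CharP.char_is_prime F p
  haveI : Fact p.Prime := ⟨hpp⟩
  have hodd : Odd p := hpp.odd_of_ne_two fun h => h2 (by
    have := CharP.cast_eq_zero F p
    rw [h] at this; exact_mod_cast this)
  have hi0 : i ≠ 0 := fun h => by simp [h] at hi
  set D := trl i 0 0 (by linear_combination hi) with hD
  obtain ⟨g, hg⟩ := isConj_iff.1 ((isConj_trl h2 ht i 0 0 (by linear_combination hi)).symm.trans hx₀)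
  obtain ⟨y, rfl⟩ : ∃ y, y₀ = g * y * g⁻¹ := ⟨g⁻¹ * y₀ * g, by group⟩
  have hy : IsConj t y := hy₀.trans (isConj_iff.2 ⟨g⁻¹, by group⟩)
  have hy2 : orderOf y = 2 := by
    obtain ⟨c, rfl⟩ := isConj_iff.1 hy
    rw [← MulAut.conj_apply, MulEquiv.orderOf_eq, ht]
  obtain ⟨Y, rfl⟩ := KleinPSL.pi_surjective y
  obtain ⟨a, b, c, hY, rfl⟩ := eq_trl h2 ((KleinPSL.orderOf_pi_eq_two h2).1 hy2)
  -- it suffices to work with `D`
  suffices h : ∃ z : SL(2, F), z * z = -1 ∧ z ≠ D ∧ z ≠ -D ∧ (tr (D * z) = 2 ∨ tr (D * z) = -2) ∧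
      (tr (z * trl a b c hY) = 2 ∨ tr (z * trl a b c hY) = -2) by
    obtain ⟨z, hz, hzD, hzD', h1, h3⟩ := h
    have o1 := odd_of_trace_pm_two hodd h1
    have o3 := odd_of_trace_pm_two hodd h3
    rw [map_mul] at o1 o3
    refine ⟨g * KleinPSL.pi F z * g⁻¹, ?_, ?_, ?_, ?_, ?_⟩
    · exact (KleinPSL.involutions_isConj h2 _ _ ht ((KleinPSL.orderOf_pi_eq_two h2).2 hz)).trans
        (isConj_iff.2 ⟨g, rfl⟩)
    · rw [← hg]
      intro e
      rcases KleinPSL.pi_eq_iff.1 (mul_left_cancel (mul_right_cancel e)) with e' | e'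
      · exact hzD e'
      · exact hzD' e'
    · intro e
      apply hno
      rw [← e, ← hg, show g * KleinPSL.pi F D * g⁻¹ * (g * KleinPSL.pi F z * g⁻¹) =
        MulAut.conj g (KleinPSL.pi F D * KleinPSL.pi F z) by simp [mul_assoc], MulEquiv.orderOf_eq]
      exact o1
    · rw [← hg, show g * KleinPSL.pi F D * g⁻¹ * (g * KleinPSL.pi F z * g⁻¹) =
        MulAut.conj g (KleinPSL.pi F D * KleinPSL.pi F z) by simp [mul_assoc], MulEquiv.orderOf_eq]
      exact o1
    · rw [show g * KleinPSL.pi F z * g⁻¹ * (g * KleinPSL.pi F (trl a b c hY) * g⁻¹) =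
        MulAut.conj g (KleinPSL.pi F z * KleinPSL.pi F (trl a b c hY)) by simp [mul_assoc],
        MulEquiv.orderOf_eq]
      exact o3
  have hpick : ∀ e : F, e ≠ 0 → ∃ w, w ≠ 0 ∧ (-(2 * (i * a)) + e * w = 2 ∨ -(2 * (i * a)) + e * w = -2) := by
    intro e he
    by_cases h0 : 2 + 2 * (i * a) = 0
    · refine ⟨(-2 + 2 * (i * a)) / e, div_ne_zero ?_ he, Or.inr ?_⟩
      · intro h1
        exact mul_ne_zero h2 h2 (by linear_combination h0 - h1)
      · rw [mul_div_cancel₀ _ he]; ring
    · refine ⟨(2 + 2 * (i * a)) / e, div_ne_zero h0 he, Or.inl ?_⟩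
      rw [mul_div_cancel₀ _ he]; ring
  have hne' : ∀ v w (h : -((-i) * (-i)) - v * w = 1), (v ≠ 0 ∨ w ≠ 0) →
      trl (-i) v w h ≠ D ∧ trl (-i) v w h ≠ -D := by
    intro v w h hvw
    constructor <;> intro e
    all_goals
      have e01 := congrArg (fun m : SL(2, F) => (m : Matrix (Fin 2) (Fin 2) F) 0 1) e
      have e10 := congrArg (fun m : SL(2, F) => (m : Matrix (Fin 2) (Fin 2) F) 1 0) e
      try simp only [Matrix.SpecialLinearGroup.coe_neg, Matrix.neg_apply] at e01 e10
      simp [trl, D] at e01 e10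
      rcases hvw with h' | h'
      · exact h' e01
      · exact h' e10
  by_cases hc : c = 0
  · have hb : b ≠ 0 := by
      intro hb
      subst hb hc
      have haa : a * a = i * i := by linear_combination -hY + hi
      apply hne
      rw [← hg]
      congr 2
      skip
      rcases mul_self_eq_mul_self_iff.1 haa with e | e
      · exact congrArg _ (Subtype.ext (by simp [trl, e]))
      · rw [KleinPSL.pi_eq_iff]
        refine Or.inr (Subtype.ext ?_)
        rw [Matrix.SpecialLinearGroup.coe_neg]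
        ext r s
        fin_cases r <;> fin_cases s <;> simp [trl, e]
    obtain ⟨w, hw, hval⟩ := hpick b hb
    refine ⟨trl (-i) 0 w (by linear_combination hi), trl_sq _ _ _ _, (hne' 0 w _ (Or.inr hw)).1,
      (hne' 0 w _ (Or.inr hw)).2, Or.inl ?_, ?_⟩
    · rw [hD, tr_trl_mul]; linear_combination 2 * hi
    · rw [tr_trl_mul]
      rcases hval with h | h
      · left; linear_combination h
      · right; linear_combination h
  · obtain ⟨v, hv, hval⟩ := hpick c hc
    refine ⟨trl (-i) v 0 (by linear_combination hi), trl_sq _ _ _ _, (hne' v 0 _ (Or.inl hv)).1,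
      (hne' v 0 _ (Or.inl hv)).2, Or.inl ?_, ?_⟩
    · rw [hD, tr_trl_mul]; linear_combination 2 * hi
    · rw [tr_trl_mul]
      rcases hval with h | h
      · left; linear_combination h
      · right; linear_combination h

/-- Common neighbours for `q ≡ 3 mod 4`. -/
theorem common_three (hq : Fintype.card F % 4 = 3) (h4 : 4 ≤ Fintype.card F) {t : PG} (ht : orderOf t = 2) :
    ∀ x y : PG, IsConj t x → IsConj t y → x ≠ y → ¬ Odd (orderOf (x * y)) →
      ∃ z, IsConj t z ∧ z ≠ x ∧ z ≠ y ∧ Odd (orderOf (x * z)) ∧ Odd (orderOf (z * y)) := by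
  classical
  intro x₀ y₀ hx₀ hy₀ hne hno
  have h2 : (2 : F) ≠ 0 := Ring.two_ne_zero (fun h => by
    have := FiniteField.even_card_of_char_two h
    omega)
  have hns : ¬ IsSquare (-1 : F) := fun h => FiniteField.isSquare_neg_one_iff.1 h hq
  set D := trl (0 : F) (-1) 1 (by ring) with hD
  obtain ⟨g, hg⟩ := isConj_iff.1 ((isConj_trl h2 ht 0 (-1) 1 (by ring)).symm.trans hx₀)
  obtain ⟨y, rfl⟩ : ∃ y, y₀ = g * y * g⁻¹ := ⟨g⁻¹ * y₀ * g, by group⟩
  have hy : IsConj t y := hy₀.trans (isConj_iff.2 ⟨g⁻¹, by group⟩)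
  have hy2 : orderOf y = 2 := by
    obtain ⟨c, rfl⟩ := isConj_iff.1 hy
    rw [← MulAut.conj_apply, MulEquiv.orderOf_eq, ht]
  obtain ⟨Y, rfl⟩ := KleinPSL.pi_surjective y
  obtain ⟨a, b, c, hY, rfl⟩ := eq_trl h2 ((KleinPSL.orderOf_pi_eq_two h2).1 hy2)
  suffices h : ∃ z : SL(2, F), z * z = -1 ∧ z ≠ D ∧ z ≠ -D ∧
      (∃ m : F, m ≠ 0 ∧ tr (D * z) * tr (D * z) - 4 = m * m) ∧
      ((∃ m : F, m ≠ 0 ∧ tr (z * trl a b c hY) * tr (z * trl a b c hY) - 4 = m * m) ∨
        KleinPSL.pi F z = KleinPSL.pi F (trl a b c hY)) by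
    obtain ⟨z, hz, hzD, hzD', ⟨m, hm, h1⟩, h3⟩ := h
    have o1 := odd_of_split hq hm h1
    rw [map_mul] at o1
    have hzy : g * KleinPSL.pi F z * g⁻¹ ≠ g * KleinPSL.pi F (trl a b c hY) * g⁻¹ := by
      intro e
      apply hno
      rw [← e, ← hg, show g * KleinPSL.pi F D * g⁻¹ * (g * KleinPSL.pi F z * g⁻¹) =
        MulAut.conj g (KleinPSL.pi F D * KleinPSL.pi F z) by simp [mul_assoc], MulEquiv.orderOf_eq]
      exact o1
    refine ⟨g * KleinPSL.pi F z * g⁻¹, ?_, ?_, hzy, ?_, ?_⟩
    · exact (KleinPSL.involutions_isConj h2 _ _ ht ((KleinPSL.orderOf_pi_eq_two h2).2 hz)).trans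
        (isConj_iff.2 ⟨g, rfl⟩)
    · rw [← hg]
      intro e
      rcases KleinPSL.pi_eq_iff.1 (mul_left_cancel (mul_right_cancel e)) with e' | e'
      · exact hzD e'
      · exact hzD' e'
    · rw [← hg, show g * KleinPSL.pi F D * g⁻¹ * (g * KleinPSL.pi F z * g⁻¹) =
        MulAut.conj g (KleinPSL.pi F D * KleinPSL.pi F z) by simp [mul_assoc], MulEquiv.orderOf_eq]
      exact o1
    · rcases h3 with ⟨m', hm', h3⟩ | h3
      · have o3 := odd_of_split hq hm' h3
        rw [map_mul] at o3
        rw [show g * KleinPSL.pi F z * g⁻¹ * (g * KleinPSL.pi F (trl a b c hY) * g⁻¹) =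
          MulAut.conj g (KleinPSL.pi F z * KleinPSL.pi F (trl a b c hY)) by simp [mul_assoc],
          MulEquiv.orderOf_eq]
        exact o3
      · exact absurd (by rw [h3]) hzy
  -- a good trace for `D * z`
  obtain ⟨m, hm0, s, hs⟩ : ∃ m : F, m ≠ 0 ∧ ∃ s, s * s - 1 = m * m := by
    obtain ⟨u, hu⟩ : ∃ u : F, u ∉ ({0, 1, -1} : Finset F) := by
      by_contra h
      push Not at h
      have := Finset.card_le_card (show (Finset.univ : Finset F) ⊆ {0, 1, -1} from fun x _ => h x)
      rw [Finset.card_univ] at this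
      have := this.trans Finset.card_le_three
      omega
    simp only [Finset.mem_insert, Finset.mem_singleton, not_or] at hu
    obtain ⟨hu0, hu1, hu2⟩ := hu
    refine ⟨(u - 1 / u) / 2, div_ne_zero ?_ h2, (u + 1 / u) / 2, by field_simp; ring⟩
    intro h
    rw [sub_eq_zero, eq_div_iff hu0] at h
    rcases mul_self_eq_one_iff.1 h with h | h
    · exact hu1 h
    · exact hu2 h
  -- the possible traces with `Y`
  set e := (b + c) / 2 with he
  set k := (b - c) / 2 with hk
  have hb : b = e + k := by rw [he, hk]; field_simp; ring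
  have hc : c = e - k := by rw [he, hk]; field_simp; ring
  have hNY : a * a + e * e = k * k - 1 := by
    rw [hb, hc] at hY; linear_combination -hY
  let T : Circ F (m * m) → F := fun p => a * p.1.1 + e * p.1.2 - k * s
  have hz : ∀ p : Circ F (m * m), -(p.1.1 * p.1.1) - (p.1.2 + s) * (p.1.2 - s) = 1 := fun p => by
    linear_combination -p.2 + hs
  let Zp : Circ F (m * m) → SL(2, F) := fun p => trl p.1.1 (p.1.2 + s) (p.1.2 - s) (hz p)
  have htD : ∀ p, tr (D * Zp p) = 2 * s := fun p => by
    simp only [D, Zp]; rw [tr_trl_mul]; ring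
  have htY : ∀ p, tr (Zp p * trl a b c hY) = 2 * T p := fun p => by
    simp only [T, Zp]; rw [tr_trl_mul, hb, hc]; ring
  have hs1 : s ≠ 1 ∧ s ≠ -1 := by
    constructor <;> intro h <;> rw [h] at hs <;>
      exact hm0 (mul_self_eq_zero.1 (by linear_combination -hs))
  have hzne : ∀ p, Zp p ≠ D ∧ Zp p ≠ -D := by
    intro p
    constructor <;> intro h
    all_goals
      have h1 := htD p
      rw [h] at h1
    · rw [hD, tr_trl_mul] at h1
      exact hs1.2 (mul_left_cancel₀ h2 (by linear_combination -h1))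
    · rw [mul_neg, tr_neg, hD, tr_trl_mul] at h1
      exact hs1.1 (mul_left_cancel₀ h2 (by linear_combination -h1))
  by_cases hgood : ∃ p, (∃ n : F, n ≠ 0 ∧ T p * T p - 1 = n * n) ∨ (T p = 1 ∨ T p = -1)
  · obtain ⟨p, hp⟩ := hgood
    refine ⟨Zp p, trl_sq _ _ _ _, (hzne p).1, (hzne p).2, ⟨2 * m, mul_ne_zero h2 hm0, by
      rw [htD]; linear_combination 4 * hs⟩, ?_⟩
    rcases hp with ⟨n, hn, hp⟩ | hp
    · exact Or.inl ⟨2 * n, mul_ne_zero h2 hn, by rw [htY]; linear_combination 4 * hp⟩
    · right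
      -- trace `±2` forces equality up to sign
      obtain ⟨h0, hh⟩ := exists_conj_j h2 (trl_sq a b c hY)
      have hJ : (jSL : SL(2, F)) = trl 0 (-1) 1 (by ring) := by
        refine Subtype.ext ?_
        rw [coe_jSL]
        ext r r'
        fin_cases r <;> fin_cases r' <;> simp [cM, trl]
      set Z' := h0⁻¹ * Zp p * h0 with hZ'
      have hZ2 : Z' * Z' = -1 := by
        rw [hZ', show h0⁻¹ * Zp p * h0 * (h0⁻¹ * Zp p * h0) = h0⁻¹ * (Zp p * Zp p) * h0 by group,
          trl_sq, mul_neg, mul_one, neg_mul, inv_mul_cancel]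
      have htr : tr (Z' * jSL) = 2 * T p := by
        rw [← htY, ← tr_conj (Z' * jSL) h0, hZ', ← hh]
        congr 1
        group
      obtain ⟨u', v', w', hd', hZe⟩ := eq_trl h2 hZ2
      rw [hZe, hJ, tr_trl_mul] at htr
      have key : ∀ ε : F, ε * ε = 1 → v' - w' = 2 * ε → u' = 0 ∧ v' = ε ∧ w' = -ε := by
        intro ε hε hvw
        set r := (v' + w') / 2 with hr
        have e1 : v' = r + ε := by rw [hr]; field_simp; linear_combination hvw
        have e2 : w' = r - ε := by rw [hr]; field_simp; linear_combination -hvw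
        have h00 : u' * u' + r * r = 0 := by
          rw [e1, e2] at hd'; linear_combination -hd' + hε
        have hr0 : r = 0 := by
          by_contra hr0
          exact hns ⟨u' / r, by
            rw [div_mul_div_comm, eq_div_iff (mul_ne_zero hr0 hr0)]; linear_combination -h00⟩
        rw [hr0, mul_zero, add_zero] at h00
        rw [hr0] at e1 e2
        exact ⟨mul_self_eq_zero.1 h00, by linear_combination e1, by linear_combination e2⟩
      have hfin : Z' = jSL ∨ Z' = -jSL := by
        rcases hp with hp | hp <;> rw [hp] at htr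
        · obtain ⟨e0, e1, e2⟩ := key 1 (one_mul 1) (by linear_combination htr)
          right
          rw [hZe, hJ]
          refine Subtype.ext ?_
          rw [Matrix.SpecialLinearGroup.coe_neg]
          ext r r'
          fin_cases r <;> fin_cases r' <;> simp [trl, e0, e1, e2]
        · obtain ⟨e0, e1, e2⟩ := key (-1) (by ring) (by linear_combination htr)
          left
          rw [hZe, hJ]
          refine Subtype.ext ?_
          ext r r'
          fin_cases r <;> fin_cases r' <;> simp [trl, e0, e1, e2]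
      rw [KleinPSL.pi_eq_iff, ← hh]
      have hZp : Zp p = h0 * Z' * h0⁻¹ := by rw [hZ']; group
      rcases hfin with h | h
      · left; rw [hZp, h]
      · right; rw [hZp, h, mul_neg, neg_mul]
  exfalso
  push Not at hgood
  have hT : ∀ p, (¬ ∃ n : F, T p * T p - 1 = n * n) := by
    rintro p ⟨n, hn⟩
    obtain ⟨h1, h3, h5⟩ := hgood p
    rcases eq_or_ne n 0 with rfl | hn0
    · rcases mul_self_eq_one_iff.1 (show T p * T p = 1 by linear_combination hn) with h | h
      · exact h3 h
      · exact h5 h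
    · exact h1 n hn0 hn
  have hae : a ≠ 0 ∨ e ≠ 0 := by
    by_contra h
    push Not at h
    obtain ⟨rfl, he0⟩ := h
    rw [he0] at hb hc
    have hkk : k * k = 1 := by rw [he0] at hNY; linear_combination -hNY
    apply hne
    rw [← hg]
    congr 2
    rw [KleinPSL.pi_eq_iff]
    rcases mul_self_eq_one_iff.1 hkk with h | h
    · right
      refine Subtype.ext ?_
      rw [Matrix.SpecialLinearGroup.coe_neg]
      ext r r'
      fin_cases r <;> fin_cases r' <;> simp [trl, hb, hc, h]
    · left
      refine Subtype.ext ?_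
      ext r r'
      fin_cases r <;> fin_cases r' <;> simp [trl, hb, hc, h]
  have hN : a * a + e * e ≠ 0 := by
    intro h
    rcases eq_or_ne e 0 with he0 | he0
    · rcases hae with h' | h'
      · rw [he0, mul_zero, add_zero] at h; exact h' (mul_self_eq_zero.1 h)
      · exact h' he0
    · exact hns ⟨a / e, by rw [div_mul_div_comm, eq_div_iff (mul_ne_zero he0 he0)]; linear_combination -h⟩
  -- the image of the circle is large
  have hcardC : Nat.card (Circ F (m * m)) = Fintype.card F + 1 := by
    rw [natCard_circ_eq h2 (mul_ne_zero hm0 hm0), (natCard_circ_one h2).2 hq]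
  haveI : Fintype (Circ F (m * m)) := Fintype.ofFinite _
  rw [Nat.card_eq_fintype_card] at hcardC
  have hfib : ∀ τ, (Finset.univ.filter fun p => T p = τ).card ≤ 2 := by
    intro τ
    let d : Circ F (m * m) → F := fun p => -e * p.1.1 + a * p.1.2
    have hd : Set.InjOn d (Finset.univ.filter fun p => T p = τ) := by
      intro p hp p' hp' hdd
      simp only [Finset.coe_filter, Finset.mem_univ, true_and, Set.mem_setOf_eq, T] at hp hp'
      simp only [d] at hdd
      refine Subtype.ext (Prod.ext (mul_left_cancel₀ hN ?_) (mul_left_cancel₀ hN ?_))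
      · linear_combination a * hp - a * hp' - e * hdd
      · linear_combination e * hp - e * hp' + a * hdd
    rw [← Finset.card_image_of_injOn hd]
    by_contra hgt
    push Not at hgt
    obtain ⟨r1, h1, r2, h2', h12⟩ := Finset.one_lt_card.1 (show 1 < _ by omega : 1 < ((Finset.univ.filter fun p => T p = τ).image d).card)
    have hsq : ∀ r ∈ (Finset.univ.filter fun p => T p = τ).image d,
        r * r = (a * a + e * e) * (m * m) - (τ + k * s) * (τ + k * s) := by
      intro r hr
      obtain ⟨p, hp, rfl⟩ := Finset.mem_image.1 hr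
      simp only [Finset.mem_filter, Finset.mem_univ, true_and, T] at hp
      rw [← hp]
      simp only [d]
      linear_combination (a * a + e * e) * p.2
    have hsub : (Finset.univ.filter fun p => T p = τ).image d ⊆ {r1, -r1} := by
      intro r hr
      rcases mul_self_eq_mul_self_iff.1 ((hsq r hr).trans (hsq r1 h1).symm) with h | h <;> simp [h]
    exact absurd ((Finset.card_le_card hsub).trans Finset.card_le_two) (by omega)
  set Im := (Finset.univ : Finset (Circ F (m * m))).image T with hIm
  have hbig : Fintype.card F + 1 ≤ 2 * Im.card := by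
    rw [← hcardC, ← Finset.card_univ]
    exact Finset.card_le_mul_card_image _ 2 fun τ _ => hfib τ
  -- the squares are many
  set Good := (Finset.univ.erase (0 : F)).image fun u => (u + 1 / u) / 2 with hGood
  have hG : Fintype.card F + 1 ≤ 2 * Good.card := by
    have h1 : ∀ τ ∈ Good, ((Finset.univ.erase (0 : F)).filter fun u => (u + 1 / u) / 2 = τ).card ≤
        2 - (if τ = 1 ∨ τ = -1 then 1 else 0) := by
      intro τ hτ
      obtain ⟨u0, hu0, hu0τ⟩ := Finset.mem_image.1 hτ
      have hu00 : u0 ≠ 0 := Finset.ne_of_mem_erase hu0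
      have hsol : ((Finset.univ.erase (0 : F)).filter fun u => (u + 1 / u) / 2 = τ) ⊆ {u0, 1 / u0} := by
        intro u hu
        simp only [Finset.mem_filter, Finset.mem_erase, Finset.mem_univ, and_true] at hu
        obtain ⟨hu', hueq⟩ := hu
        rw [← hu0τ] at hueq
        field_simp at hueq
        have h' : (u - u0) * (u * u0 - 1) = 0 := by linear_combination hueq
        rcases mul_eq_zero.1 h' with h'' | h''
        · simp [sub_eq_zero.1 h'']
        · have : u = 1 / u0 := by rw [eq_div_iff hu00]; linear_combination h''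
          simp [this]
      by_cases hτ1 : τ = 1 ∨ τ = -1
      · rw [if_pos hτ1]
        have hu : u0 = 1 / u0 := by
          rw [eq_div_iff hu00]
          have hsq2 : (u0 + 1 / u0) / 2 * ((u0 + 1 / u0) / 2) = 1 := by
            rw [hu0τ]; rcases hτ1 with h | h <;> rw [h] <;> ring
          field_simp at hsq2
          have : (u0 * u0 - 1) * (u0 * u0 - 1) = 0 := by linear_combination hsq2
          linear_combination mul_self_eq_zero.1 this
        rw [← hu, Finset.pair_eq_singleton] at hsol
        exact (Finset.card_le_card hsol).trans (by simp)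
      · rw [if_neg hτ1]
        exact (Finset.card_le_card hsol).trans Finset.card_le_two
    have h3 : (Finset.univ.erase (0 : F)).card ≤ ∑ τ ∈ Good, (2 - (if τ = 1 ∨ τ = -1 then 1 else 0)) := by
      rw [Finset.card_eq_sum_card_image (fun u : F => (u + 1 / u) / 2)]
      exact Finset.sum_le_sum h1
    have hmem : ({1, -1} : Finset F) ⊆ Good.filter fun τ => τ = 1 ∨ τ = -1 := by
      intro τ hτ
      simp only [Finset.mem_insert, Finset.mem_singleton] at hτ
      refine Finset.mem_filter.2 ⟨Finset.mem_image.2 ⟨τ, ?_, ?_⟩, hτ⟩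
      · rcases hτ with rfl | rfl <;> simp
      · rcases hτ with rfl | rfl
        · rw [div_one]; field_simp; ring
        · field_simp; ring
    have h5 : 2 ≤ (Good.filter fun τ => τ = 1 ∨ τ = -1).card := by
      refine le_trans ?_ (Finset.card_le_card hmem)
      rw [Finset.card_pair (fun h => h2 (by linear_combination h))]
    have h6 : ∑ τ ∈ Good, (2 - (if τ = 1 ∨ τ = -1 then 1 else 0)) + (Good.filter fun τ => τ = 1 ∨ τ = -1).card =
        2 * Good.card := by
      rw [Finset.card_filter, ← Finset.sum_add_distrib, mul_comm, ← smul_eq_mul, ← Finset.sum_const]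
      refine Finset.sum_congr rfl fun τ _ => ?_
      split_ifs <;> rfl
    rw [Finset.card_erase_of_mem (Finset.mem_univ _), Finset.card_univ] at h3
    omega
  have hdis : Disjoint Im Good := by
    rw [Finset.disjoint_left]
    intro τ h1 h3
    obtain ⟨p, -, rfl⟩ := Finset.mem_image.1 h1
    obtain ⟨u, hu, hu'⟩ := Finset.mem_image.1 h3
    have hu0 : u ≠ 0 := Finset.ne_of_mem_erase hu
    exact hT p ⟨(u - 1 / u) / 2, by rw [← hu']; field_simp; ring⟩
  have := Finset.card_le_univ (Im ∪ Good)
  rw [Finset.card_union_of_disjoint hdis] at this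
  omega

theorem far_odd (h2 : (2 : F) ≠ 0) {t : PG} (ht : orderOf t = 2) :
    ∃ x y : PG, IsConj t x ∧ IsConj t y ∧ x ≠ y ∧ ¬ Odd (orderOf (x * y)) := by
  obtain ⟨a, b, hab⟩ := exists_circ h2 (-1)
  have hA : -(a * a) - b * b = 1 := by linear_combination -hab
  refine ⟨_, _, isConj_trl h2 ht 0 (-1) 1 (by ring), isConj_trl h2 ht a b b hA, ?_, ?_⟩
  · intro h
    have key : ∀ ε : F, ε * ε = 1 → a = 0 → b = ε → b = -ε → False := fun ε hε _ h1 h3 => by
      have : (2 : F) * ε = 0 := by linear_combination h3 - h1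
      rw [(mul_eq_zero.1 this).resolve_left h2, mul_zero] at hε
      exact zero_ne_one hε
    rcases KleinPSL.pi_eq_iff.1 h with h | h
    all_goals
      have e00 := congrArg (fun m : SL(2, F) => (m : Matrix (Fin 2) (Fin 2) F) 0 0) h
      have e01 := congrArg (fun m : SL(2, F) => (m : Matrix (Fin 2) (Fin 2) F) 0 1) h
      have e10 := congrArg (fun m : SL(2, F) => (m : Matrix (Fin 2) (Fin 2) F) 1 0) h
      try simp only [Matrix.SpecialLinearGroup.coe_neg, Matrix.neg_apply] at e00 e01 e10
      simp [trl] at e00 e01 e10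
    · exact key (-1) (by ring) e00.symm e01.symm (by rw [neg_neg]; exact e10.symm)
    · exact key 1 (one_mul 1) (by first | linear_combination e00 | linear_combination -e00)
        (by first | linear_combination e01 | linear_combination -e01)
        (by first | linear_combination e10 | linear_combination -e10)
  · rw [← map_mul]
    have hsq : trl (0 : F) (-1) 1 (by ring) * trl a b b hA * (trl 0 (-1) 1 (by ring) * trl a b b hA) = -1 := by
      refine Subtype.ext ?_
      simp only [Matrix.SpecialLinearGroup.coe_mul, Matrix.SpecialLinearGroup.coe_neg,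
        Matrix.SpecialLinearGroup.coe_one]
      ext r r'
      fin_cases r <;> fin_cases r' <;> simp [trl, Matrix.mul_apply, Fin.sum_univ_two] <;>
        first | ring1 | linear_combination hab
    rw [(KleinPSL.orderOf_pi_eq_two h2).2 hsq]
    decide

/-! ### Characteristic two -/

section even

variable [CharP F 2]

/-- The projection is bijective in characteristic two. -/
theorem pi_injective_two : Function.Injective (KleinPSL.pi F) := fun a b h => by
  rcases KleinPSL.pi_eq_iff.1 h with h | h
  · exact h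
  · rw [h]
    refine Subtype.ext ?_
    ext i j
    simp [CharTwo.neg_eq]

theorem sq_eq_one_iff_tr {g : SL(2, F)} : g * g = 1 ↔ tr g = 0 := by
  have h := cayley g
  rw [← Matrix.SpecialLinearGroup.coe_mul] at h
  constructor
  · intro hg
    rw [hg, Matrix.SpecialLinearGroup.coe_one] at h
    have h' : tr g • (g : Matrix (Fin 2) (Fin 2) F) = 0 := by
      rw [eq_sub_iff_add_eq] at h
      rw [← h]
      ext i j
      simp [CharTwo.add_self_eq_zero]
    rcases smul_eq_zero.1 h' with h'' | h''
    · exact h''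
    · have hd := g.2
      rw [h'', det_zero] at hd
      exact absurd hd zero_ne_one
  · intro ht
    refine Subtype.ext ?_
    rw [h, ht, zero_smul, zero_sub, Matrix.SpecialLinearGroup.coe_one]
    ext i j
    simp [CharTwo.neg_eq]

/-- The centraliser of an involution has exponent two. -/
theorem cent_exp {j g : SL(2, F)} (hj : j * j = 1) (hj1 : j ≠ 1) (hc : g * j = j * g) : g * g = 1 := by
  rw [sq_eq_one_iff_tr] at hj ⊢
  set A := (g : Matrix (Fin 2) (Fin 2) F)
  set B := (j : Matrix (Fin 2) (Fin 2) F) with hB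
  have h := congrArg (fun m : SL(2, F) => (m : Matrix (Fin 2) (Fin 2) F)) hc
  simp only [Matrix.SpecialLinearGroup.coe_mul] at h
  have e00 := congrFun (congrFun h 0) 0
  have e01 := congrFun (congrFun h 0) 1
  have e10 := congrFun (congrFun h 1) 0
  simp [Matrix.mul_apply, Fin.sum_univ_two] at e00 e01 e10
  unfold tr at hj ⊢
  have hB11 : B 1 1 = B 0 0 := (CharTwo.add_eq_zero.1 hj).symm
  rw [← hB] at e00 e01 e10
  rw [hB11] at e01 e10
  have h01 : B 0 1 * (A 0 0 + A 1 1) = 0 := by
    linear_combination e01 + (B 0 1 * A 1 1) * (CharTwo.two_eq_zero : (2 : F) = 0)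
  have h10 : B 1 0 * (A 0 0 + A 1 1) = 0 := by
    linear_combination (-1 : F) * e10 + (B 1 0 * A 1 1) * (CharTwo.two_eq_zero : (2 : F) = 0)
  rcases mul_eq_zero.1 h01 with h' | h'
  · rcases mul_eq_zero.1 h10 with h'' | h''
    · exfalso
      apply hj1
      have hd := j.2
      rw [det_fin_two, ← hB, hB11, h', h'', mul_zero, sub_zero] at hd
      have hone : B 0 0 = 1 := by
        rcases mul_self_eq_one_iff.1 hd with e | e
        · exact e
        · rwa [CharTwo.neg_eq] at e
      refine Subtype.ext ?_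
      rw [← hB, Matrix.SpecialLinearGroup.coe_one]
      ext r r'
      fin_cases r <;> fin_cases r' <;> simp [h', h'', hone, hB11]
    · exact h''
  · exact h'

theorem odd_iff_not_comm {X Z : SL(2, F)} (hX : X * X = 1) (hZ : Z * Z = 1) (h : X * Z ≠ Z * X) :
    Odd (orderOf (X * Z)) := by
  by_contra hev
  rw [Nat.not_odd_iff_even] at hev
  obtain ⟨r, hr⟩ := hev
  set g := X * Z
  have hr0 : 0 < r := by have := orderOf_pos g; omega
  have hj : g ^ r * g ^ r = 1 := by rw [← pow_add, ← hr, pow_orderOf_eq_one]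
  have hj1 : g ^ r ≠ 1 := pow_ne_one_of_lt_orderOf hr0.ne' (by omega)
  have hg2 := cent_exp hj hj1 (pow_mul_comm' g r).symm
  apply h
  calc X * Z = X * Z * (Z * X * (X * Z)) := by
        rw [show Z * X * (X * Z) = Z * (X * X) * Z by group, hX, mul_one, hZ, mul_one]
    _ = (X * Z) * (X * Z) * (X * Z)⁻¹ * (Z * X * (X * Z)) := by group
    _ = Z * X := by
        rw [hg2, one_mul, show Z * X * (X * Z) = 1 by
          rw [show Z * X * (X * Z) = Z * (X * X) * Z by group, hX, mul_one, hZ], mul_one, _root_.mul_inv_rev,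
          inv_eq_of_mul_eq_one_right hX, inv_eq_of_mul_eq_one_right hZ]

/-- The transvections. -/
def up (b : F) : SL(2, F) := ⟨!![1, b; 0, 1], by rw [det_fin_two_of]; ring⟩
def low (b : F) : SL(2, F) := ⟨!![1, 0; b, 1], by rw [det_fin_two_of]; ring⟩

theorem up_invol (b : F) (hb : b ≠ 0) : up b * up b = 1 ∧ up b ≠ 1 := by
  refine ⟨?_, fun h => hb ?_⟩
  · refine Subtype.ext ?_
    rw [Matrix.SpecialLinearGroup.coe_mul, Matrix.SpecialLinearGroup.coe_one]
    ext r r'
    fin_cases r <;> fin_cases r' <;> simp [up, Matrix.mul_apply, Fin.sum_univ_two, CharTwo.add_self_eq_zero]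
  · simpa [up] using congrArg (fun m : SL(2, F) => (m : Matrix (Fin 2) (Fin 2) F) 0 1) h

theorem low_invol (b : F) (hb : b ≠ 0) : low b * low b = 1 ∧ low b ≠ 1 := by
  refine ⟨?_, fun h => hb ?_⟩
  · refine Subtype.ext ?_
    rw [Matrix.SpecialLinearGroup.coe_mul, Matrix.SpecialLinearGroup.coe_one]
    ext r r'
    fin_cases r <;> fin_cases r' <;> simp [low, Matrix.mul_apply, Fin.sum_univ_two, CharTwo.add_self_eq_zero]
  · simpa [low] using congrArg (fun m : SL(2, F) => (m : Matrix (Fin 2) (Fin 2) F) 1 0) h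

/-- Every involution is a conjugate of a transvection. -/
theorem isConj_up {X : SL(2, F)} (hX : X * X = 1) (hX1 : X ≠ 1) : IsConj (up 1) X := by
  rw [sq_eq_one_iff_tr] at hX
  set B := (X : Matrix (Fin 2) (Fin 2) F) with hB
  unfold tr at hX
  rw [← hB] at hX
  have hB11 : B 1 1 = B 0 0 := (CharTwo.add_eq_zero.1 hX).symm
  have hd := X.2
  rw [det_fin_two, ← hB, hB11] at hd
  have hsq : ∀ c : F, ∃ s, s * s = c := fun c => by
    refine (Finite.surjective_of_injective (f := fun s : F => s * s) fun u v huv => ?_) c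
    have h' : (u + v) * (u + v) = 0 := by
      linear_combination huv + (u * v + v * v) * (CharTwo.two_eq_zero : (2 : F) = 0)
    exact CharTwo.add_eq_zero.1 (mul_self_eq_zero.1 h')
  have two0 : (2 : F) = 0 := CharTwo.two_eq_zero
  -- a fixed vector with first coordinate `p`, and a partner
  obtain ⟨p, r, hp, hr⟩ : ∃ p r : F, p * p = B 0 1 ∧ r * r = B 1 0 := by
    obtain ⟨p, hp⟩ := hsq (B 0 1)
    obtain ⟨r, hr⟩ := hsq (B 1 0)
    exact ⟨p, r, hp, hr⟩
  have hpr : p * r = B 0 0 + 1 := by
    have h' : (p * r + B 0 0 + 1) * (p * r + B 0 0 + 1) = 0 := by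
      linear_combination hd + r * r * hp + B 0 1 * hr +
        (B 0 1 * B 1 0 + p * r * B 0 0 + p * r + B 0 0 + 1) * two0
    linear_combination mul_self_eq_zero.1 h' - (B 0 0 + 1) * two0
  rcases eq_or_ne p 0 with rfl | hp0
  · have hr0 : r ≠ 0 := by
      rintro rfl
      rw [mul_zero] at hp hr hpr
      apply hX1
      refine Subtype.ext ?_
      rw [← hB, Matrix.SpecialLinearGroup.coe_one]
      have h00 : B 0 0 = 1 := by linear_combination -hpr - two0
      ext i j
      fin_cases i <;> fin_cases j <;> simp [← hp, ← hr, h00, hB11]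
    refine isConj_iff.2 ⟨⟨!![0, 1 / r; r, 0], by
      rw [det_fin_two_of]; field_simp; linear_combination -two0⟩, ?_⟩
    refine mul_inv_eq_iff_eq_mul.2 ?_
    refine Subtype.ext ?_
    erw [Matrix.SpecialLinearGroup.coe_mul, Matrix.SpecialLinearGroup.coe_mul]
    simp only [← hB]
    rw [mul_zero] at hp
    rw [zero_mul] at hpr
    have h00 : B 0 0 = 1 := by linear_combination -hpr - two0
    ext i j
    fin_cases i <;> fin_cases j <;>
      simp [up, Matrix.mul_apply, Fin.sum_univ_two, ← hp, ← hr, h00, hB11] <;> field_simp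
  · refine isConj_iff.2 ⟨⟨!![p, 0; r, 1 / p], by rw [det_fin_two_of]; field_simp; ring⟩, ?_⟩
    refine mul_inv_eq_iff_eq_mul.2 ?_
    refine Subtype.ext ?_
    erw [Matrix.SpecialLinearGroup.coe_mul, Matrix.SpecialLinearGroup.coe_mul]
    simp only [← hB]
    ext i j
    fin_cases i <;> fin_cases j <;> simp [up, Matrix.mul_apply, Fin.sum_univ_two, ← hp, ← hr, hB11] <;>
      field_simp
    · linear_combination -hpr - B 0 0 * two0
    · linear_combination -r * hpr - r * B 0 0 * two0
    · linear_combination hpr + two0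

theorem main_two (h4 : 4 ≤ Fintype.card F) {t : PG} (ht : orderOf t = 2) :
    (∀ x y : PG, IsConj t x → IsConj t y → x ≠ y → ¬ Odd (orderOf (x * y)) →
      ∃ z, IsConj t z ∧ z ≠ x ∧ z ≠ y ∧ Odd (orderOf (x * z)) ∧ Odd (orderOf (z * y))) ∧
    ∃ x y : PG, IsConj t x ∧ IsConj t y ∧ x ≠ y ∧ ¬ Odd (orderOf (x * y)) := by
  classical
  have hlift : ∀ x : PG, IsConj t x → ∃ X : SL(2, F), KleinPSL.pi F X = x ∧ X * X = 1 ∧ X ≠ 1 := by
    intro x hx
    obtain ⟨c, rfl⟩ := isConj_iff.1 hx
    obtain ⟨X, hX⟩ := KleinPSL.pi_surjective (c * t * c⁻¹)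
    have ho : orderOf (KleinPSL.pi F X) = 2 := by
      rw [hX, ← MulAut.conj_apply, MulEquiv.orderOf_eq, ht]
    refine ⟨X, hX, pi_injective_two ?_, fun e => by rw [e, map_one, orderOf_one] at ho; omega⟩
    have hp := pow_orderOf_eq_one (KleinPSL.pi F X)
    rw [ho, pow_two] at hp
    rw [map_mul, map_one, hp]
  have hclass : ∀ X : SL(2, F), X * X = 1 → X ≠ 1 → IsConj t (KleinPSL.pi F X) := by
    intro X hX hX1
    obtain ⟨T, hT, hTT, hT1⟩ := hlift t (IsConj.refl t)
    rw [← hT]
    exact (KleinPSL.pi F).map_isConj ((isConj_up hTT hT1).symm.trans (isConj_up hX hX1))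
  have hcomm : ∀ A B : SL(2, F), A * A = 1 → B * B = 1 → (A * B) * (A * B) = 1 → A * B = B * A := by
    intro A B hA hB hAB
    calc A * B = (A * B)⁻¹ := (inv_eq_of_mul_eq_one_right hAB).symm
      _ = B * A := by rw [_root_.mul_inv_rev, inv_eq_of_mul_eq_one_right hA, inv_eq_of_mul_eq_one_right hB]
  refine ⟨?_, ?_⟩
  · intro x y hx hy hxy hno
    obtain ⟨X, rfl, hX, hX1⟩ := hlift x hx
    obtain ⟨Y, rfl, hY, hY1⟩ := hlift y hy
    have hcXY : X * Y = Y * X := by
      by_contra hc
      exact hno (by rw [← map_mul, orderOf_injective _ pi_injective_two]; exact odd_iff_not_comm hX hY hc)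
    -- a transvection not commuting with `X`
    obtain ⟨Z, hZ, hZ1, hZX⟩ : ∃ Z : SL(2, F), Z * Z = 1 ∧ Z ≠ 1 ∧ X * Z ≠ Z * X := by
      by_contra h
      push Not at h
      have h1 := h _ (up_invol (1 : F) one_ne_zero).1 (up_invol (1 : F) one_ne_zero).2
      have h3 := h _ (low_invol (1 : F) one_ne_zero).1 (low_invol (1 : F) one_ne_zero).2
      have hc : up (1 : F) * low 1 * X = X * (up 1 * low 1) := by
        rw [mul_assoc, ← h3, ← mul_assoc, ← h1, mul_assoc]
      have h5 := cent_exp hX hX1 hc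
      have h6 := congrArg (fun m : SL(2, F) => (m : Matrix (Fin 2) (Fin 2) F) 0 1) h5
      simp only [Matrix.SpecialLinearGroup.coe_mul, Matrix.SpecialLinearGroup.coe_one] at h6
      simp [up, low, Matrix.mul_apply, Fin.sum_univ_two,
        CharTwo.add_self_eq_zero] at h6
    have hZY : Z * Y ≠ Y * Z := by
      intro hc
      apply hZX
      refine hcomm X Z hX hZ (cent_exp hY hY1 ?_)
      calc X * Z * Y = X * (Z * Y) := mul_assoc _ _ _
        _ = X * (Y * Z) := by rw [hc]
        _ = (X * Y) * Z := (mul_assoc _ _ _).symm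
        _ = Y * X * Z := by rw [hcXY]
        _ = Y * (X * Z) := mul_assoc _ _ _
    refine ⟨_, hclass Z hZ hZ1, fun e => hZX ?_, fun e => hZY ?_, ?_, ?_⟩
    · rw [pi_injective_two e]
    · rw [pi_injective_two e]
    · rw [← map_mul, orderOf_injective _ pi_injective_two]; exact odd_iff_not_comm hX hZ hZX
    · rw [← map_mul, orderOf_injective _ pi_injective_two]; exact odd_iff_not_comm hZ hY hZY
  · obtain ⟨b, hb⟩ : ∃ b : F, b ∉ ({0, 1} : Finset F) := by
      by_contra h
      push Not at h
      have := (Finset.card_le_card (show (Finset.univ : Finset F) ⊆ {0, 1} from fun x _ => h x)).trans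
        Finset.card_le_two
      rw [Finset.card_univ] at this
      omega
    simp only [Finset.mem_insert, Finset.mem_singleton, not_or] at hb
    have hb1 : (1 : F) + b ≠ 0 := fun h => hb.2 (CharTwo.add_eq_zero.1 h).symm
    refine ⟨_, _, hclass _ (up_invol (1 : F) one_ne_zero).1 (up_invol (1 : F) one_ne_zero).2,
      hclass _ (up_invol b hb.1).1 (up_invol b hb.1).2, ?_, ?_⟩
    · intro e
      have := congrArg (fun m : SL(2, F) => (m : Matrix (Fin 2) (Fin 2) F) 0 1) (pi_injective_two e)
      simp [up] at this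
      exact hb.2 this.symm
    · rw [← map_mul, orderOf_injective _ pi_injective_two,
        show up 1 * up b = up ((1 : F) + b) from Subtype.ext (by
          rw [Matrix.SpecialLinearGroup.coe_mul]
          ext r r'
          fin_cases r <;> fin_cases r' <;> simp [up, Matrix.mul_apply, Fin.sum_univ_two, add_comm]),
        orderOf_eq_prime (p := 2) (by rw [pow_two]; exact (up_invol _ hb1).1) (up_invol _ hb1).2]
      decide

end even

end Cfsg.Agent.InvChar.OddProductGraphPSL
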