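import Mathlib
import Cfsg.Agent.Lib.PGroups.UniqueSubgroup

/-!
2-groups with a quotient by a maximal subgroup of the centre which is generalized quaternion.
-/

set_option linter.all false
set_option autoImplicit false

namespace Cfsg.Agent.InvChar.QuaternionQuot

open QuaternionGroup

variable {N : ℕ} [NeZero N]

theorem eq_pow_or {x : QuaternionGroup N} :
    (∃ i : ℕ, x = (a 1) ^ i) ∨ ∃ i : ℕ, x = (a 1) ^ i * xa 0 := by
  rcases x with i | i
  · exact Or.inl ⟨i.val, by rw [a_one_pow, ZMod.natCast_zmod_val]⟩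
  · exact Or.inr ⟨(-i).val, by rw [a_one_pow, ZMod.natCast_zmod_val, a_mul_xa, sub_neg_eq_add, zero_add]⟩

theorem two_ne_zero' (hN : 2 ≤ N) : (2 : ZMod (2 * N)) ≠ 0 := by
  intro h
  have : ((2 : ℕ) : ZMod (2 * N)) = 0 := by exact_mod_cast h
  rw [ZMod.natCast_eq_zero_iff] at this
  have := Nat.le_of_dvd (by norm_num) this
  omega

theorem double_eq_zero {i : ZMod (2 * N)} (h : i + i = 0) : i = 0 ∨ i = (N : ZMod (2 * N)) := by
  have h1 : ((i.val + i.val : ℕ) : ZMod (2 * N)) = 0 := by push_cast; rw [ZMod.natCast_zmod_val]; exact h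
  rw [ZMod.natCast_eq_zero_iff] at h1
  obtain ⟨c, hc⟩ := h1
  have hlt := i.val_lt
  have hv : i.val = N * c := by linarith
  have hc2 : c ≤ 1 := by
    by_contra hh
    push Not at hh
    have : 2 * N ≤ N * c := by rw [mul_comm 2 N]; exact Nat.mul_le_mul_left N hh
    omega
  interval_cases c
  · left; rw [← ZMod.natCast_zmod_val i, hv]; simp
  · right; rw [← ZMod.natCast_zmod_val i, hv, mul_one]

theorem center_eq (hN : 2 ≤ N) {x : QuaternionGroup N} (hx : x ∈ Subgroup.center (QuaternionGroup N)) :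
    x = 1 ∨ x = a (N : ZMod (2 * N)) := by
  rw [Subgroup.mem_center_iff] at hx
  rcases x with i | i
  · have h := hx (xa 0)
    rw [xa_mul_a, a_mul_xa] at h
    have h' : (0 : ZMod (2 * N)) + i = 0 - i := by injection h
    rcases double_eq_zero (show i + i = 0 by linear_combination h') with rfl | rfl
    · exact Or.inl a_zero
    · exact Or.inr rfl
  · have h := hx (a 1)
    rw [xa_mul_a, a_mul_xa] at h
    have h' : i - 1 = i + 1 := by injection h
    exact absurd (by linear_combination -h') (two_ne_zero' hN)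

theorem sq_one_central (hN : 2 ≤ N) {x : QuaternionGroup N} (hx : x * x = 1) :
    x ∈ Subgroup.center (QuaternionGroup N) := by
  rcases x with i | i
  · rw [a_mul_a, ← a_zero] at hx
    have h' : i + i = 0 := by injection hx
    rw [Subgroup.mem_center_iff]
    rintro (j | j)
    · rw [a_mul_a, a_mul_a, add_comm]
    · rw [xa_mul_a, a_mul_xa]
      congr 1
      linear_combination h'
  · rw [xa_mul_xa, ← a_zero, add_sub_cancel_right] at hx
    have h' : ((N : ℕ) : ZMod (2 * N)) = 0 := by injection hx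
    rw [ZMod.natCast_eq_zero_iff] at h'
    have := Nat.le_of_dvd (NeZero.pos N) h'
    omega

/-- The quotient map onto a quaternion group, with central elements coming from the centre. -/
theorem quot {S : Type*} [Group S] [Finite S] (hS : IsPGroup 2 S) (D : Subgroup ↥(Subgroup.center S))
    (hD : IsCoatom D) (hn : (D.map (Subgroup.center S).subtype).Normal)
    (hab : ¬ IsMulCommutative (S ⧸ D.map (Subgroup.center S).subtype))
    (huniq : ∃! x : S ⧸ D.map (Subgroup.center S).subtype, orderOf x = 2) :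
    ∃ k : ℕ, 1 ≤ k ∧ ∃ π : S →* QuaternionGroup (2 ^ k), Function.Surjective π ∧
      π.ker = D.map (Subgroup.center S).subtype ∧
      ∀ s, π s ∈ Subgroup.center (QuaternionGroup (2 ^ k)) → s ∈ Subgroup.center S := by
  haveI : Fact (Nat.Prime 2) := ⟨Nat.prime_two⟩
  set D' := D.map (Subgroup.center S).subtype with hD'
  have hu : ∀ H K : Subgroup (S ⧸ D'), Nat.card H = 2 → Nat.card K = 2 → H = K := by
    intro H K hH hK
    obtain ⟨x, -, hx⟩ := huniq
    have gen : ∀ L : Subgroup (S ⧸ D'), Nat.card L = 2 → L = Subgroup.zpowers x := fun L hL => by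
      obtain ⟨y, hy⟩ := exists_prime_orderOf_dvd_card' (G := L) 2 (by rw [hL])
      rw [← Subgroup.orderOf_coe] at hy
      have := hx _ hy
      refine (Subgroup.eq_of_le_of_card_ge (Subgroup.zpowers_le.2 (this ▸ y.2)) ?_).symm
      rw [hL, Nat.card_zpowers, ← this, hy]
    rw [gen H hH, gen K hK]
  rcases Cfsg.Agent.PGroups.UniqueSubgroup.isCyclic_or_quaternion (hS.to_quotient D') hu with hc | ⟨-, k, ⟨e⟩⟩
  · exact absurd (IsCyclic.commutative : IsMulCommutative (S ⧸ D')) hab
  have hk : 1 ≤ k := by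
    rcases Nat.eq_zero_or_pos k with rfl | h
    · exfalso
      have hc : IsCyclic (QuaternionGroup (2 ^ 0)) := QuaternionGroup.quaternionGroup_one_isCyclic
      have : IsCyclic (S ⧸ D') := isCyclic_of_surjective e.symm.toMonoidHom e.symm.surjective
      exact hab (IsCyclic.commutative : IsMulCommutative (S ⧸ D'))
    · exact h
  have hN : 2 ≤ 2 ^ k := by
    calc 2 = 2 ^ 1 := rfl
      _ ≤ 2 ^ k := Nat.pow_le_pow_right (by norm_num) hk
  set π : S →* QuaternionGroup (2 ^ k) := e.toMonoidHom.comp (QuotientGroup.mk' D') with hπ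
  have hker : π.ker = D' := by
    ext x
    rw [MonoidHom.mem_ker, hπ]
    show e (QuotientGroup.mk' D' x) = 1 ↔ _
    rw [map_eq_one_iff _ e.injective, QuotientGroup.mk'_apply, QuotientGroup.eq_one_iff]
  refine ⟨k, hk, π, e.surjective.comp (QuotientGroup.mk'_surjective D'), hker, fun s hs => ?_⟩
  have hDc : D' ≤ Subgroup.center S := Subgroup.map_subtype_le D
  obtain ⟨z, hzD⟩ : ∃ z : Subgroup.center S, z ∉ D := by
    by_contra h
    push Not at h
    exact hD.1 (eq_top_iff.2 fun x _ => h x)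
  have hz1 : π z ≠ 1 := fun h => by
    rw [← MonoidHom.mem_ker, hker] at h
    obtain ⟨w, hw, hwz⟩ := h
    exact hzD (Subtype.ext hwz ▸ hw)
  have hzc : π z ∈ Subgroup.center (QuaternionGroup (2 ^ k)) := by
    rw [Subgroup.mem_center_iff]
    intro q
    obtain ⟨t, rfl⟩ := (e.surjective.comp (QuotientGroup.mk'_surjective D') : Function.Surjective π) q
    show π t * π z = π z * π t
    rw [← map_mul, ← map_mul, Subgroup.mem_center_iff.1 z.2 t]
  rcases center_eq hN hs with h | h
  · rw [← MonoidHom.mem_ker, hker] at h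
    exact hDc h
  · rcases center_eq hN hzc with h' | h'
    · exact absurd h' hz1
    · have : s * (z : S)⁻¹ ∈ π.ker := by rw [MonoidHom.mem_ker, map_mul, map_inv, h, h', mul_inv_cancel]
      rw [hker] at this
      have h2 := Subgroup.mul_mem _ (hDc this) z.2
      rwa [inv_mul_cancel_right] at h2

theorem conj_rel : (xa 0 : QuaternionGroup N) * a 1 * (xa 0)⁻¹ = (a 1)⁻¹ := by
  rw [mul_inv_eq_iff_eq_mul, show ((a 1)⁻¹ : QuaternionGroup N) = a (-1) from rfl, xa_mul_a, a_mul_xa,
    sub_neg_eq_add]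

theorem not_central_xa (hN : 2 ≤ N) (i : ZMod (2 * N)) :
    (xa i : QuaternionGroup N) ∉ Subgroup.center (QuaternionGroup N) := by
  intro h
  rcases center_eq hN h with h' | h'
  · rw [← a_zero] at h'; cases h'
  · cases h'

/-- Every element is a power of a lift of `a 1`, times possibly a lift of `xa 0`, times a central element. -/
theorem decomp {S : Type*} [Group S] {π : S →* QuaternionGroup N} (hker : π.ker ≤ Subgroup.center S)
    {u v : S} (hu : π u = a 1) (hv : π v = xa 0) (s : S) :
    (∃ i : ℕ, ∃ z ∈ π.ker, z ∈ Subgroup.center S ∧ s = u ^ i * z) ∨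
      ∃ i : ℕ, ∃ z ∈ π.ker, z ∈ Subgroup.center S ∧ s = u ^ i * v * z := by
  rcases eq_pow_or (x := π s) with ⟨i, hi⟩ | ⟨i, hi⟩
  · have hm : (u ^ i)⁻¹ * s ∈ π.ker := by rw [MonoidHom.mem_ker, map_mul, map_inv, map_pow, hu, hi, inv_mul_cancel]
    exact Or.inl ⟨i, _, hm, hker hm, (mul_inv_cancel_left _ _).symm⟩
  · have hm : (u ^ i * v)⁻¹ * s ∈ π.ker := by
      rw [MonoidHom.mem_ker, map_mul, map_inv, map_mul, map_pow, hu, hv, hi, inv_mul_cancel]
    exact Or.inr ⟨i, _, hm, hker hm, (mul_inv_cancel_left _ _).symm⟩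

end Cfsg.Agent.InvChar.QuaternionQuot
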