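import Cfsg.Agent.OddLocal.PLengthZGroup
import Cfsg.Agent.Lib.Coprime.Commutator
import Cfsg.Agent.Lib.Coprime.PGroup
import Cfsg.Agent.Lib.Classical.Linear
import Cfsg.Agent.Solvable.Basics
import Cfsg.Agent.S0256

/-!
# The quotient by `O₂` of a 2-constrained group whose `O₂` is four-generated
-/

set_option autoImplicit false
set_option linter.all false

namespace Cfsg.Agent.InvChar.RadicalQuotientRankFour

open Subgroup

/-- Automorphisms of a small vector space as matrices. -/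
theorem exists_matrix_hom (A : Type*) [AddCommGroup A] [Module (ZMod 2) A] [Module.Finite (ZMod 2) A]
    (h : Module.finrank (ZMod 2) A ≤ 4) :
    ∃ f : (A →ₗ[ZMod 2] A) →* Matrix (Fin 4) (Fin 4) (ZMod 2), Function.Injective f := by
  haveI : Fact (Nat.Prime 2) := ⟨Nat.prime_two⟩
  let d := Module.finrank (ZMod 2) A
  let e : (A × (Fin (4 - d) → ZMod 2)) ≃ₗ[ZMod 2] (Fin 4 → ZMod 2) :=
    LinearEquiv.ofFinrankEq _ _ (by
      rw [Module.finrank_prod, Module.finrank_fin_fun, Module.finrank_fin_fun]; omega)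
  let g : (A →ₗ[ZMod 2] A) →* ((Fin 4 → ZMod 2) →ₗ[ZMod 2] (Fin 4 → ZMod 2)) :=
    { toFun := fun φ => e.toLinearMap ∘ₗ (φ.prodMap LinearMap.id) ∘ₗ e.symm.toLinearMap
      map_one' := LinearMap.ext fun v => by
        show e (Prod.map id id (e.symm v)) = v
        rw [Prod.map_id]
        exact e.apply_symm_apply v
      map_mul' := fun φ ψ => LinearMap.ext fun v => by
        show e (Prod.map (φ ∘ ψ) id (e.symm v)) = e (Prod.map φ id (e.symm (e (Prod.map ψ id (e.symm v)))))
        rw [e.symm_apply_apply]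
        rfl }
  have hg : Function.Injective g := fun φ ψ hφ => LinearMap.ext fun a => by
    have h1 := congrArg (fun q => (e.symm ((q : (Fin 4 → ZMod 2) →ₗ[ZMod 2] (Fin 4 → ZMod 2)) (e (a, 0)))).1) hφ
    simpa [g] using h1
  exact ⟨(LinearMap.toMatrixAlgEquiv' (R := ZMod 2) (n := Fin 4)).toMulEquiv.toMonoidHom.comp g,
    (LinearMap.toMatrixAlgEquiv' (R := ZMod 2) (n := Fin 4)).injective.comp hg⟩

/-- `GL₄(2) ≅ A₈`. -/
theorem gl_four {F : Type} [Field F] [Fintype F] [DecidableEq F] (hF : Fintype.card F = 2) :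
    Nonempty (GL (Fin 4) F ≃* alternatingGroup (Fin 8)) := by
  obtain ⟨e⟩ := Cfsg.Agent.S0256.result (F := F) hF
  have hinj : Function.Injective (Matrix.SpecialLinearGroup.toGL :
      Matrix.SpecialLinearGroup (Fin 4) F → GL (Fin 4) F) := fun a b h =>
    Subtype.ext (congrArg Units.val h)
  have hcard : Nat.card (GL (Fin 4) F) = Nat.card (Matrix.SpecialLinearGroup (Fin 4) F) := by
    rw [Classical.Linear.natCard_GL_eq_mul, hF, show 2 - 1 = 1 from rfl, one_mul]
  let e1 : Matrix.SpecialLinearGroup (Fin 4) F ≃* GL (Fin 4) F :=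
    MulEquiv.ofBijective Matrix.SpecialLinearGroup.toGL ((Nat.bijective_iff_injective_and_card _).2 ⟨hinj, hcard.symm⟩)
  have hz : Subgroup.center (Matrix.SpecialLinearGroup (Fin 4) F) = ⊥ := by
    rw [← Subgroup.card_eq_one, Classical.Linear.natCard_center_SL, hF, Fintype.card_fin]; rfl
  let e2 : Matrix.SpecialLinearGroup (Fin 4) F ≃* Matrix.ProjectiveSpecialLinearGroup (Fin 4) F :=
    MulEquiv.ofBijective (QuotientGroup.mk' _)
      ⟨(MonoidHom.ker_eq_bot_iff _).1 (by rw [QuotientGroup.ker_mk', hz]), QuotientGroup.mk'_surjective _⟩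
  exact ⟨e1.symm.trans (e2.trans e)⟩

theorem exists_hom {X : Type*} [Group X] [Finite X] (hc : Cfsg.IsPConstrained 2 X) (hO : Cfsg.pPrimeCore 2 X = ⊥)
    (h4 : Cfsg.SectionalPRankLE 2 4 ↥(Cfsg.pCore 2 X)) :
    ∃ f : X ⧸ Cfsg.pCore 2 X →* ↥(alternatingGroup (Fin 8)), Function.Injective f := by
  classical
  haveI : Fact (Nat.Prime 2) := ⟨Nat.prime_two⟩
  have hPQ : Cfsg.pPrimePCore 2 X = Cfsg.pCore 2 X := OddLocal.PLengthZGroup.pPrimePCore_eq_pCore hO
  have hQp : IsPGroup 2 (Cfsg.pCore 2 X) := Cores.pCore_isPGroup 2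
  have hcent : centralizer (Cfsg.pCore 2 X : Set X) ≤ Cfsg.pCore 2 X := by
    obtain ⟨P⟩ := (inferInstance : Nonempty (Sylow 2 ↥(Cfsg.pPrimePCore 2 X)))
    have hPp : IsPGroup 2 ↥(Cfsg.pPrimePCore 2 X) := hPQ ▸ hQp
    have hP : (P : Subgroup ↥(Cfsg.pPrimePCore 2 X)) = ⊤ := by
      have h1 : IsPGroup 2 (⊤ : Subgroup ↥(Cfsg.pPrimePCore 2 X)) := hPp.to_subgroup _
      exact (P.is_maximal' h1 le_top).symm
    have h := hc P
    rw [hP, ← MonoidHom.range_eq_map, Subgroup.range_subtype, hPQ] at h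
    exact h
  set Q := Cfsg.pCore 2 X with hQ
  set N := frattini ↥Q with hN
  haveI : N.Characteristic := frattini_characteristic
  set V := ↥Q ⧸ N with hV
  have hsq : ∀ v : V, v * v = 1 := by
    intro v
    obtain ⟨a, rfl⟩ := QuotientGroup.mk_surjective v
    rw [← pow_two, ← QuotientGroup.mk_pow, QuotientGroup.eq_one_iff]
    exact Solvable.Basics.pow_mem_frattini hQp a
  have hcomm : ∀ v w : V, v * w = w * v := fun v w => by
    have h1 := hsq (v * w)
    calc v * w = v * w * (w * v * (w * v)) := by rw [hsq, mul_one]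
      _ = v * (w * w) * v * (w * v) := by group
      _ = w * v := by rw [hsq, mul_one, hsq, one_mul]
  letI : CommGroup V := { (inferInstance : Group V) with mul_comm := hcomm }
  letI : Module (ZMod 2) (Additive V) := AddCommGroup.zmodModule fun x => by
    rw [two_nsmul]; exact hsq x.toMul
  haveI : Module.Finite (ZMod 2) (Additive V) := Module.Finite.of_finite
  have hcardV : Nat.card V ≤ 2 ^ 4 := by
    haveI : (N.subgroupOf ⊤).Normal := (inferInstance : N.Normal).subgroupOf ⊤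
    let e : (⊤ : Subgroup ↥Q) ⧸ N.subgroupOf ⊤ ≃* V :=
      QuotientGroup.congr _ _ Subgroup.topEquiv (by
        ext a
        exact ⟨fun ⟨b, hb, hba⟩ => hba ▸ hb, fun ha => ⟨⟨a, trivial⟩, ha, rfl⟩⟩)
    have := h4 ⊤ (N.subgroupOf ⊤) ⊤ ⟨⟨fun a b => Subtype.ext (e.injective (by
      show e ((a : (⊤ : Subgroup ↥Q) ⧸ N.subgroupOf ⊤) * b) = e ((b : (⊤ : Subgroup ↥Q) ⧸ N.subgroupOf ⊤) * a)
      rw [map_mul, map_mul]; exact mul_comm _ _))⟩⟩ (fun a _ => e.injective (by
      rw [map_pow, map_one, pow_two]; exact hsq _))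
    rw [Subgroup.card_top, Nat.card_congr e.toEquiv] at this
    exact this
  have hrank : Module.finrank (ZMod 2) (Additive V) ≤ 4 := by
    have h := Module.natCard_eq_pow_finrank (K := ZMod 2) (V := Additive V)
    rw [Nat.card_zmod] at h
    have h' : 2 ^ Module.finrank (ZMod 2) (Additive V) ≤ 2 ^ 4 := h ▸ hcardV
    exact (Nat.pow_le_pow_iff_right (by norm_num)).1 h'
  -- the action
  haveI : Q.Normal := by rw [hQ]; infer_instance
  let c : X → V →* V := fun x => QuotientGroup.map N N (MulAut.conjNormal x : MulAut ↥Q).toMonoidHom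
    (fun a ha => by
      have := Subgroup.characteristic_iff_comap_eq.1 (inferInstance : N.Characteristic) (MulAut.conjNormal x : MulAut ↥Q)
      rw [← this] at ha
      exact ha)
  have hc' : ∀ x (a : ↥Q), c x (a : V) = ((MulAut.conjNormal x a : ↥Q) : V) := fun x a => rfl
  let L : X →* (Additive V →ₗ[ZMod 2] Additive V) :=
    { toFun := fun x => (MonoidHom.toAdditive (c x)).toZModLinearMap 2
      map_one' := LinearMap.ext fun v => by
        obtain ⟨a, ha⟩ := QuotientGroup.mk_surjective v.toMul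
        apply Additive.toMul.injective
        show c 1 v.toMul = v.toMul
        rw [← ha, hc', map_one]; rfl
      map_mul' := fun x y => LinearMap.ext fun v => by
        obtain ⟨a, ha⟩ := QuotientGroup.mk_surjective v.toMul
        apply Additive.toMul.injective
        show c (x * y) v.toMul = c x (c y v.toMul)
        rw [← ha, hc', hc', hc', map_mul]; rfl }
  obtain ⟨f, hf⟩ := exists_matrix_hom (Additive V) hrank
  let F₁ : X →* GL (Fin 4) (ZMod 2) := (f.comp L).toHomUnits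
  have htriv : ∀ x ∈ F₁.ker, ∀ a ∈ Q, x * a * x⁻¹ * a⁻¹ ∈ N.map Q.subtype := by
    intro x hx a ha
    have h1 : L x = 1 := hf (by rw [map_one]; exact congrArg Units.val hx)
    have h2 : c x ((⟨a, ha⟩ : ↥Q) : V) = ((⟨a, ha⟩ : ↥Q) : V) :=
      congrArg Additive.toMul (LinearMap.congr_fun h1 (Additive.ofMul ((⟨a, ha⟩ : ↥Q) : V)))
    rw [hc'] at h2
    have h3 := QuotientGroup.eq.1 h2.symm
    haveI : N.Normal := inferInstance
    refine ⟨(⟨a, ha⟩ : ↥Q) * ((⟨a, ha⟩ : ↥Q)⁻¹ * MulAut.conjNormal x ⟨a, ha⟩) * (⟨a, ha⟩ : ↥Q)⁻¹,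
      (inferInstance : N.Normal).conj_mem _ h3 _, ?_⟩
    simp [MulAut.conjNormal_apply, mul_assoc]
  have hker : IsPGroup 2 F₁.ker := by
    by_contra hcon
    have hne : ∃ q, q.Prime ∧ q ∣ Nat.card F₁.ker ∧ q ≠ 2 := by
      by_contra h
      push Not at h
      refine hcon (IsPGroup.of_card (n := (Nat.card F₁.ker).primeFactorsList.length) ?_)
      exact Nat.eq_prime_pow_of_unique_prime_dvd Nat.card_pos.ne' fun hq hqd => h _ hq hqd
    obtain ⟨q, hq, hqd, hq2⟩ := hne
    haveI : Fact q.Prime := ⟨hq⟩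
    obtain ⟨⟨g, hg⟩, hgo⟩ := exists_prime_orderOf_dvd_card' q hqd
    rw [← Subgroup.orderOf_coe] at hgo
    have hsub : zpowers g ≤ centralizer (Q : Set X) := by
      refine Coprime.le_centralizer_of_frattini ?_ ?_ ?_
      · rw [normalizer_eq_top]; exact le_top
      · rw [Nat.card_zpowers]
        obtain ⟨j, hj⟩ := (hQp.to_subgroup (frattini ↥Q)).exists_card_eq
        rw [hj]
        refine Nat.Coprime.pow_right _ ?_
        rw [hgo, Nat.coprime_primes hq Nat.prime_two]
        exact hq2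
      · intro a ha k hk
        exact htriv a (Subgroup.zpowers_le.2 hg ha) k hk
    have hgQ : g ∈ Q := hcent (hsub (mem_zpowers g))
    obtain ⟨j, hj⟩ := IsPGroup.iff_orderOf.1 hQp ⟨g, hgQ⟩
    rw [← Subgroup.orderOf_coe] at hj
    rw [hgo] at hj
    rcases j with _ | j
    · exact hq.ne_one hj
    · exact hq2 (((Nat.prime_dvd_prime_iff_eq Nat.prime_two hq).1 (hj ▸ dvd_pow_self 2 j.succ_ne_zero)).symm)
  have hkerQ : F₁.ker ≤ Q := Cores.le_pCore hker
  have hQker : Q ≤ F₁.ker := by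
    intro x hx
    refine Units.ext ?_
    show f (L x) = 1
    rw [show L x = 1 from LinearMap.ext fun v => ?_, map_one]
    obtain ⟨a, ha⟩ := QuotientGroup.mk_surjective v.toMul
    apply Additive.toMul.injective
    show c x v.toMul = v.toMul
    rw [← ha, hc', show MulAut.conjNormal x a = (⟨x, hx⟩ : ↥Q) * a * (⟨x, hx⟩ : ↥Q)⁻¹ from
      Subtype.ext (MulAut.conjNormal_apply x a), QuotientGroup.mk_mul, QuotientGroup.mk_mul, QuotientGroup.mk_inv,
      hcomm ((⟨x, hx⟩ : ↥Q) : V) (a : V), mul_assoc, mul_inv_cancel, mul_one]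
  obtain ⟨e⟩ := gl_four (F := ZMod 2) (ZMod.card 2)
  refine ⟨e.toMonoidHom.comp (QuotientGroup.lift Q F₁ hQker), e.injective.comp ?_⟩
  intro a b hab
  obtain ⟨a, rfl⟩ := QuotientGroup.mk_surjective a
  obtain ⟨b, rfl⟩ := QuotientGroup.mk_surjective b
  rw [QuotientGroup.lift_mk, QuotientGroup.lift_mk] at hab
  exact QuotientGroup.eq.2 (hkerQ (MonoidHom.mem_ker.2 (by rw [map_mul, map_inv, hab, inv_mul_cancel])))

end Cfsg.Agent.InvChar.RadicalQuotientRankFour
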