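import Mathlib
import Cfsg.Agent.InvChar.RudvalisTwoGroup

/-!
Automorphisms of odd order and embeddings of `W`, for 2-groups of Rudvalis type.
-/

set_option linter.all false

namespace Cfsg.Agent.InvChar.RudvalisTwoGroup.Hyp

open Subgroup
attribute [local instance] _root_.Classical.propDecidable

variable {T : Type*} [Group T] [Finite T] {W : Subgroup T} (h : Hyp W)

local notation "Z" => Subgroup.upperCentralSeries T

include h in
/-- An odd order automorphism fixing the displacement of a point fixes the point. -/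
theorem fix_of_step (α : T ≃* T) {n : ℕ} (hn : Odd n) (hα : ∀ x, α^[n] x = x) {x d : T}
    (h1 : α x = x * d) (h2 : α d = d) : α x = x := by
  have hit : ∀ k, α^[k] x = x * d ^ k := by
    intro k
    induction k with
    | zero => simp
    | succ k ih => rw [Function.iterate_succ_apply', ih, map_mul, map_pow, h1, h2, pow_succ', mul_assoc]
  have hd : d ^ n = 1 := mul_eq_left.1 ((hit n).symm.trans (hα x))
  obtain ⟨k, hk⟩ := h.p2 d
  have : d = 1 := by
    have hc : Nat.Coprime n (2 ^ k) := (Nat.coprime_two_right.2 hn).pow_right k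
    have := pow_gcd_eq_one.2 (⟨hd, hk⟩ : d ^ n = 1 ∧ d ^ 2 ^ k = 1)
    rwa [show Nat.gcd n (2 ^ k) = 1 from hc, pow_one] at this
  rw [h1, this, mul_one]

omit [Finite T] in
theorem map_mem_Z (α : T ≃* T) {i : ℕ} {x : T} (hx : x ∈ Z i) : α x ∈ Z i := by
  have h1 := (inferInstance : (Z i).Characteristic).fixed α
  rw [← h1] at hx
  exact hx

include h in
/-- Automorphisms of odd order are trivial. -/
theorem aut_trivial (α : T ≃* T) {n : ℕ} (hn : Odd n) (hα : ∀ x, α^[n] x = x) (t : T) : α t = t := by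
  haveI := h.normal_W
  have fix : ∀ i ≤ 4, ∀ x ∈ Z i, α x = x := by
    intro i hi
    induction i with
    | zero =>
      intro x hx
      rw [Subgroup.upperCentralSeries_zero, mem_bot] at hx
      rw [hx, map_one]
    | succ i ih =>
      intro x hx
      by_cases hxi : x ∈ Z i
      · exact ih (by omega) x hxi
      have hαx : α x ∉ Z i := fun hh => hxi (by simpa using map_mem_Z α.symm hh)
      refine h.fix_of_step α hn hα (d := x⁻¹ * α x) (by group) (ih (by omega) _ ?_)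
      exact (h.mul_mem_Z (by omega) ((Z (i + 1)).inv_mem hx) (map_mem_Z α hx)).2
        (iff_of_false (fun hh => hxi ((inv_mem_iff).1 hh)) hαx)
  have hW : ∀ w ∈ W, α w ∈ W := by
    intro w hw
    rw [h.def_W, mem_centralizer_iff]
    intro z hz
    rw [← fix 3 (by norm_num) z hz, ← map_mul, ← map_mul, h.comm_W hw hz]
  have hTW : ∀ t, t⁻¹ * α t ∈ W := by
    intro t
    rw [h.def_W, mem_centralizer_iff]
    intro z hz
    have e : α t * z * (α t)⁻¹ = t * z * t⁻¹ := by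
      have := fix 3 (by norm_num) _ (h.conj3 (t := t) hz)
      rwa [map_mul, map_mul, map_inv, fix 3 (by norm_num) z hz] at this
    calc z * (t⁻¹ * α t) = t⁻¹ * (t * z * t⁻¹) * α t := by group
      _ = t⁻¹ * (α t * z * (α t)⁻¹) * α t := by rw [e]
      _ = _ := by group
  let D : Subgroup T :=
    { carrier := {x | ∃ w ∈ W, ∃ z ∈ Z 3, x = w⁻¹ * α w * z}
      one_mem' := ⟨1, one_mem _, 1, one_mem _, by simp⟩
      mul_mem' := by
        rintro _ _ ⟨w, hw, z, hz, rfl⟩ ⟨v, hv, y, hy, rfl⟩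
        refine ⟨w * v, W.mul_mem hw hv, ((w * v)⁻¹ * α (w * v))⁻¹ * (w⁻¹ * α w * z * (v⁻¹ * α v * y)), ?_, by group⟩
        have hd : ∀ {w}, w ∈ W → w⁻¹ * α w ∈ W := fun hw => W.mul_mem (W.inv_mem hw) (hW _ hw)
        have hc := h.comm_W (hd hv) hz
        have e : ((w * v)⁻¹ * α (w * v))⁻¹ * (w⁻¹ * α w * z * (v⁻¹ * α v * y)) =
            ((α v)⁻¹ * ((w⁻¹ * α w)⁻¹ * v * (w⁻¹ * α w) * v⁻¹) * α v) * (z * y) := by
          rw [show w⁻¹ * α w * z * (v⁻¹ * α v * y) = w⁻¹ * α w * (z * (v⁻¹ * α v)) * y by group, hc, map_mul]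
          group
        rw [e]
        refine (Z 3).mul_mem ?_ ((Z 3).mul_mem hz hy)
        have := h.conj3 (t := (α v)⁻¹) (h.B_mem (W.inv_mem (hd hw)) hv)
        simpa using this
      inv_mem' := by
        rintro _ ⟨w, hw, z, hz, rfl⟩
        refine ⟨w⁻¹, W.inv_mem hw, (w⁻¹⁻¹ * α w⁻¹)⁻¹ * (w⁻¹ * α w * z)⁻¹, ?_, by group⟩
        have hd : w⁻¹ * α w ∈ W := W.mul_mem (W.inv_mem hw) (hW _ hw)
        rw [map_inv, show (w⁻¹⁻¹ * (α w)⁻¹)⁻¹ * (w⁻¹ * α w * z)⁻¹ =
          (α w * w⁻¹) * z⁻¹ * ((α w)⁻¹ * w) by group]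
        have hm : α w * w⁻¹ ∈ W := W.mul_mem (hW _ hw) (W.inv_mem hw)
        rw [← h.comm_W hm ((Z 3).inv_mem hz), mul_assoc]
        refine (Z 3).mul_mem ((Z 3).inv_mem hz) ?_
        have := h.B_mem (hW _ hw) (W.inv_mem hw)
        rwa [inv_inv, mul_assoc] at this }
  haveI : D.Normal := ⟨by
    rintro _ ⟨w, hw, z, hz, rfl⟩ t
    have hv : t⁻¹ * α t ∈ W := hTW t
    refine ⟨t * w * t⁻¹, h.normal_W.conj_mem w hw t,
      ((t * w * t⁻¹)⁻¹ * α (t * w * t⁻¹))⁻¹ * (t * (w⁻¹ * α w * z) * t⁻¹), ?_, by group⟩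
    rw [show ((t * w * t⁻¹)⁻¹ * α (t * w * t⁻¹))⁻¹ * (t * (w⁻¹ * α w * z) * t⁻¹) =
      t * ((t⁻¹ * α t) * (α w)⁻¹ * (t⁻¹ * α t)⁻¹ * (α w)⁻¹⁻¹ * z) * t⁻¹ by rw [map_mul, map_mul, map_inv]; group]
    exact h.conj3 ((Z 3).mul_mem (h.B_mem hv (W.inv_mem (hW _ hw))) hz)⟩
  have hD : D ≤ Z 3 := by
    by_contra hno
    obtain ⟨x, hxD, hx4, hx3⟩ : ∃ x, x ∈ D ∧ x ∈ Z 4 ∧ x ∉ Z 3 := by
      rcases h.normal_le (i := 4) le_rfl D with hle | hle
      · obtain ⟨x, hx, hx'⟩ := SetLike.not_le_iff_exists.1 hno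
        exact ⟨x, hx, hle hx, hx'⟩
      · obtain ⟨x, hx, hx'⟩ := h.exists_gen (i := 3) (by norm_num)
        exact ⟨x, hle hx, hx, hx'⟩
    obtain ⟨w, hw, z, hz, rfl⟩ := hxD
    have e := h.fix_of_step α hn hα (x := w) (d := w⁻¹ * α w) (by group) (by
      have h1 := fix 4 le_rfl _ hx4
      rw [map_mul, fix 3 (by norm_num) z hz] at h1
      exact mul_right_cancel h1)
    exact hx3 (by rw [e, inv_mul_cancel, one_mul]; exact hz)
  have fixW : ∀ w ∈ W, α w = w := fun w hw =>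
    h.fix_of_step α hn hα (d := w⁻¹ * α w) (by group)
      (fix 3 (by norm_num) _ (hD ⟨w, hw, 1, one_mem _, by group⟩))
  exact h.fix_of_step α hn hα (d := t⁻¹ * α t) (by group) (fixW _ (hTW t))

include h in
/-- `W` is the image of each embedding of itself. -/
theorem range_eq (ψ : ↥W →* T) (hψ : Function.Injective ψ) : ψ.range = W := by
  haveI := h.normal_W
  have hcard : Nat.card ↥ψ.range = Nat.card ↥W := (Nat.card_congr (MonoidHom.ofInjective hψ).toEquiv).symm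
  set Φ := ((Z 3).subgroupOf W).map ψ with hΦ
  have hcΦ : Nat.card ↥Φ = 8 := by
    rw [hΦ, card_map_of_injective hψ, Nat.card_congr (subgroupOfEquivOfLe h.Z3_le).toEquiv, h.card_Z (by norm_num)]
    norm_num
  set K := W ⊓ ψ.range with hK
  have hS : ∀ x ∈ K ⊔ Z 3, x * x ∈ Z 3 ⊓ Φ := by
    intro x hx
    obtain ⟨k, hk, z, hz, rfl⟩ := Subgroup.mem_sup_of_normal_right.1 hx
    have hkk : k * k ∈ Z 3 ⊓ Φ := by
      obtain ⟨w, rfl⟩ := hk.2
      exact ⟨h.sq_mem hk.1, ⟨w * w, h.sq_mem w.2, map_mul ψ w w⟩⟩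
    rwa [show k * z * (k * z) = k * (z * k) * z by group, h.comm_W hk.1 hz,
      show k * (k * z) * z = k * k * (z * z) by group, h.Z3_sq hz, mul_one]
  have hSW : K ⊔ Z 3 ≤ W := sup_le inf_le_left h.Z3_le
  have hidx : (K ⊔ Z 3).relIndex W ≤ 8 := by
    refine le_trans (Nat.le_of_dvd ?_ (Subgroup.relIndex_dvd_of_le_left W (le_sup_left : K ≤ K ⊔ Z 3))) ?_
    · exact Nat.pos_of_ne_zero (Subgroup.index_ne_zero_of_finite)
    · rw [hK, Subgroup.inf_relIndex_left]
      refine le_trans (Subgroup.relIndex_le_of_le_right (le_top : W ≤ ⊤) ?_) ?_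
      · rw [Subgroup.relIndex_top_right]; exact Subgroup.index_ne_zero_of_finite
      · rw [Subgroup.relIndex_top_right]
        have h1 := ψ.range.card_mul_index
        have h2 := W.card_mul_index
        rw [h.index_eq, ← hcard] at h2
        rw [← h2] at h1
        exact (Nat.eq_of_mul_eq_mul_left Nat.card_pos h1).le
  have h3 := h.no_small (K ⊔ Z 3) (Z 3 ⊓ Φ) hSW hidx (inf_le_left.trans le_sup_right) hS (h.phi_le.trans le_sup_right)
  rw [h.phi_eq] at h3
  have hΦe : Z 3 = Φ := eq_of_le_of_card_ge (h3.trans inf_le_right) (by rw [hcΦ, h.card_Z (by norm_num)]; norm_num)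
  refine eq_of_le_of_card_ge ?_ hcard.ge
  rintro _ ⟨w, rfl⟩
  have key : ∀ z ∈ Z 3, z * ψ w = ψ w * z := by
    intro z hz
    rw [hΦe] at hz
    obtain ⟨z', hz', rfl⟩ := hz
    rw [← map_mul, ← map_mul]
    exact congrArg ψ (Subtype.ext (h.comm_W w.2 hz'))
  exact h.def_W.ge (mem_centralizer_iff.2 key)

end Cfsg.Agent.InvChar.RudvalisTwoGroup.Hyp
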