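import Mathlib
import Cfsg.Prelude.Def_ClassificationK
import Cfsg.Agent.S1755

/-!
Groups of symplectic type of exponent dividing 4: commutators lie in the subgroup generated by the
central involution.
-/

set_option autoImplicit false
set_option linter.all false

namespace Cfsg.Agent.InvChar.Symplectic

variable {T : Type*} [Group T]

theorem sq_one_cases [Finite T] {A : Subgroup T} (hA : IsCyclic A) {z : T} (hzA : z ∈ A) (hz : orderOf z = 2)
    {a : T} (ha : a ∈ A) (h : a * a = 1) : a = 1 ∨ a = z := by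
  by_cases h1 : a = 1
  · exact Or.inl h1
  · exact Or.inr (Cfsg.Agent.S1755.sub_eq_of_orderOf_two A hA ha hzA
      (orderOf_eq_prime (by rw [pow_two]; exact h) h1) hz)

theorem inv_mem_pair {z a : T} (hzz : z * z = 1) (h : a = 1 ∨ a = z) : a⁻¹ = 1 ∨ a⁻¹ = z := by
  rcases h with rfl | rfl
  · exact Or.inl inv_one
  · exact Or.inr (inv_eq_of_mul_eq_one_right hzz)

theorem pair_mem_center {z a : T} (hzc : z ∈ Subgroup.center T) (h : a = 1 ∨ a = z) : a ∈ Subgroup.center T := by
  rcases h with rfl | rfl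
  · exact Subgroup.one_mem _
  · exact hzc

/-- Two elements of exponent 4 commuting with their commutator have commutator of square one. -/
theorem comm_sq (h4 : ∀ a : T, a ^ 4 = 1) {x y k : T} (hk : k = y⁻¹ * x⁻¹ * y * x)
    (hkx : k * x = x * k) (hky : k * y = y * k) : k * k = 1 := by
  have hswap : y * x = x * (y * k) := by
    have e : x * y * k = y * x := by rw [hk]; group
    rw [← e, mul_assoc]
  have hx2 : y * (x * x) = x * x * y * (k * k) := by
    calc y * (x * x) = x * (y * k) * x := by rw [← mul_assoc, hswap]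
      _ = x * (y * x) * k := by rw [mul_assoc x (y * k) x, mul_assoc y k x, hkx]; group
      _ = x * (x * (y * k)) * k := by rw [hswap]
      _ = _ := by group
  have hy2 : y * y * (x * x) = x * x * (y * y) * (k * k * (k * k)) := by
    have hc : Commute (k * k) y := (show Commute k y from hky).mul_left hky
    calc y * y * (x * x) = y * (y * (x * x)) := by group
      _ = y * (x * x * y * (k * k)) := by rw [hx2]
      _ = (y * (x * x)) * y * (k * k) := by group
      _ = x * x * y * ((k * k) * y) * (k * k) := by rw [hx2]; group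
      _ = x * x * y * (y * (k * k)) * (k * k) := by rw [hc.eq]
      _ = _ := by group
  have hxy2 : x * y * (x * y) = x * x * (y * y) * k := by
    calc x * y * (x * y) = x * (y * x) * y := by group
      _ = x * (x * (y * k)) * y := by rw [hswap]
      _ = x * x * y * (k * y) := by group
      _ = x * x * y * (y * k) := by rw [hky]
      _ = _ := by group
  have hK : Commute k (x * x * (y * y)) :=
    ((show Commute k x from hkx).mul_right hkx).mul_right ((show Commute k y from hky).mul_right hky)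
  have hk4 : k * k * (k * k) = 1 := by
    have := h4 k
    rw [pow_succ, pow_succ, pow_succ, pow_one] at this
    rw [← this]; group
  have hpow : ∀ a : T, a * a * (a * a) = 1 := fun a => by
    have := h4 a
    rw [pow_succ, pow_succ, pow_succ, pow_one] at this
    rw [← this]; group
  rw [hk4, mul_one] at hy2
  have h := hpow (x * y)
  rw [hxy2] at h
  calc k * k = (x * x * (x * x)) * (y * y * (y * y)) * (k * k) := by rw [hpow, hpow, one_mul, one_mul]
    _ = x * x * (x * x * (y * y)) * (y * y) * (k * k) := by group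
    _ = x * x * (y * y * (x * x)) * (y * y) * (k * k) := by rw [hy2]
    _ = (x * x * (y * y)) * ((x * x * (y * y)) * k) * k := by group
    _ = (x * x * (y * y)) * (k * (x * x * (y * y))) * k := by rw [hK.eq]
    _ = (x * x * (y * y) * k) * (x * x * (y * y) * k) := by group
    _ = 1 := h

open scoped commutatorElement in
theorem commutator_facts [Finite T] (hT : Cfsg.IsOfSymplecticType T) (h4 : ∀ a : T, a ^ 4 = 1) {z : T}
    (hzc : z ∈ Subgroup.center T) (hz : orderOf z = 2) :
    ∀ x y : T, x * y * x⁻¹ * y⁻¹ = 1 ∨ x * y * x⁻¹ * y⁻¹ = z := by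
  classical
  haveI : Fact (Nat.Prime 2) := ⟨Nat.prime_two⟩
  obtain ⟨hp, hchar⟩ := hT
  have hzz : z * z = 1 := by
    have := pow_orderOf_eq_one z; rwa [hz, pow_two] at this
  have hzcom : ∀ a, a * z = z * a := Subgroup.mem_center_iff.1 hzc
  set W := commutator T with hW
  haveI hWc : W.Characteristic := by rw [hW, commutator_def]; infer_instance
  set A := W ⊓ Subgroup.centralizer (W : Set T) with hA
  haveI hAc : A.Characteristic := by
    rw [Subgroup.characteristic_iff_le_comap]
    exact fun φ x hx => ⟨(Subgroup.characteristic_iff_le_comap.1 hWc φ) hx.1,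
      (Subgroup.characteristic_iff_le_comap.1 (inferInstance : (Subgroup.centralizer (W : Set T)).Characteristic) φ) hx.2⟩
  have hAab : IsMulCommutative A := ⟨⟨fun a b => Subtype.ext (Subgroup.mem_centralizer_iff.1 b.2.2 a a.2.1)⟩⟩
  have hAcyc : IsCyclic A := hchar A hAc hAab
  by_cases hW1 : W = ⊥
  · intro x y
    left
    have h : ⁅x, y⁆ ∈ W := Subgroup.commutator_mem_commutator (Subgroup.mem_top x) (Subgroup.mem_top y)
    rw [hW1, Subgroup.mem_bot] at h
    exact h
  -- `z` lies in `A`
  have hzA : z ∈ A := by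
    haveI : Nontrivial W := (Subgroup.nontrivial_iff_ne_bot W).2 hW1
    letI : MulAction T W := MulAction.compHom W (MulAut.conjNormal : T →* MulAut W)
    obtain ⟨k, hk0, hk⟩ := ((hp.to_subgroup W).nontrivial_iff_card).1 inferInstance
    obtain ⟨u, hu, hne⟩ := hp.exists_fixed_point_of_prime_dvd_card_of_fixed_point W
      (by rw [hk]; exact dvd_pow_self 2 hk0.ne') (a := 1) (fun a => map_one (MulAut.conjNormal a))
    have huc : (u : T) ∈ Subgroup.center T := Subgroup.mem_center_iff.2 fun a => by
      have h1 : MulAut.conjNormal a u = u := hu a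
      have h2 := congrArg Subtype.val h1
      rw [MulAut.conjNormal_apply] at h2
      exact mul_inv_eq_iff_eq_mul.1 h2
    have hZcyc : IsCyclic (Subgroup.center T) := hchar _ inferInstance inferInstance
    have hu1 : (u : T) ≠ 1 := fun h => hne (Subtype.ext h).symm
    have hu4 : (u : T) * u * ((u : T) * u) = 1 := by
      have := h4 (u : T)
      rw [pow_succ, pow_succ, pow_succ, pow_one] at this
      rw [← this]; group
    refine ⟨?_, Subgroup.mem_centralizer_iff.2 fun w _ => hzcom w⟩
    rcases sq_one_cases hZcyc hzc hz (Subgroup.mul_mem _ huc huc) hu4 with h | h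
    · exact ((sq_one_cases hZcyc hzc hz huc h).resolve_left hu1) ▸ u.2
    · exact h ▸ W.mul_mem u.2 u.2
  have hAW : A ≤ W := inf_le_left
  -- `W = A`
  have hWA : W ≤ A := by
    by_contra hnle
    haveI hAn : A.Normal := inferInstance
    let π := QuotientGroup.mk' A
    haveI : (W.map π).Normal := Subgroup.Normal.map inferInstance π (QuotientGroup.mk'_surjective A)
    have hne : W.map π ≠ ⊥ := by
      rw [Ne, Subgroup.map_eq_bot_iff, QuotientGroup.ker_mk']; exact hnle
    obtain ⟨r, hrW, hrA, hrc⟩ : ∃ r ∈ W, r ∉ A ∧ ∀ a : T, a * r * a⁻¹ * r⁻¹ ∈ A := by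
      have hq : IsPGroup 2 (T ⧸ A) := hp.to_quotient A
      haveI : Nontrivial ↥(W.map π) := (Subgroup.nontrivial_iff_ne_bot _).2 hne
      letI : MulAction (T ⧸ A) ↥(W.map π) := MulAction.compHom _ (MulAut.conjNormal : (T ⧸ A) →* MulAut (W.map π))
      obtain ⟨k, hk0, hk⟩ := ((hq.to_subgroup (W.map π)).nontrivial_iff_card).1 inferInstance
      obtain ⟨⟨u, r, hr, hru⟩, hu, hne1⟩ := hq.exists_fixed_point_of_prime_dvd_card_of_fixed_point (W.map π)
        (by rw [hk]; exact dvd_pow_self 2 hk0.ne') (a := 1) (fun a => map_one (MulAut.conjNormal a))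
      refine ⟨r, hr, fun hrA => hne1 (Subtype.ext ?_), fun a => ?_⟩
      · show (1 : T ⧸ A) = u
        rw [← hru]
        exact ((QuotientGroup.eq_one_iff r).2 hrA).symm
      · have h1 : MulAut.conjNormal (π a) (⟨u, r, hr, hru⟩ : W.map π) = ⟨u, r, hr, hru⟩ := hu (π a)
        have h2 := congrArg Subtype.val h1
        rw [MulAut.conjNormal_apply] at h2
        simp only [] at h2
        rw [← hru] at h2
        rw [← QuotientGroup.eq_one_iff]
        show π (a * r * a⁻¹ * r⁻¹) = 1
        rw [map_mul, map_mul, map_mul, map_inv, map_inv, h2, mul_inv_cancel]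
    have hAcomm : ∀ a ∈ A, ∀ w ∈ W, w * a = a * w := fun a ha w hw => Subgroup.mem_centralizer_iff.1 ha.2 w hw
    -- arrange `r * r ∈ A`
    obtain ⟨r, hrW, hrA, hrc, hr2⟩ : ∃ r ∈ W, r ∉ A ∧ (∀ a : T, a * r * a⁻¹ * r⁻¹ ∈ A) ∧ r * r ∈ A := by
      by_cases h : r * r ∈ A
      · exact ⟨r, hrW, hrA, hrc, h⟩
      · refine ⟨r * r, W.mul_mem hrW hrW, h, fun a => ?_, ?_⟩
        · have e : a * (r * r) * a⁻¹ * (r * r)⁻¹ = (a * r * a⁻¹ * r⁻¹) * (r * (a * r * a⁻¹ * r⁻¹) * r⁻¹) := by
            group
          rw [e]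
          exact A.mul_mem (hrc a) (hAn.conj_mem _ (hrc a) r)
        · have := h4 r
          rw [pow_succ, pow_succ, pow_succ, pow_one] at this
          rw [show r * r * (r * r) = r * r * r * r by group, this]
          exact A.one_mem
    have hr4 : r * r * (r * r) = 1 := by
      have := h4 r
      rw [pow_succ, pow_succ, pow_succ, pow_one] at this
      rw [← this]; group
    -- arrange an involution or exponent two in `A`
    obtain ⟨r, hrW, hrA, hrc, hr2⟩ : ∃ r ∈ W, r ∉ A ∧ (∀ a : T, a * r * a⁻¹ * r⁻¹ ∈ A) ∧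
        (r * r = 1 ∨ (r * r = z ∧ ∀ a ∈ A, a * a = 1)) := by
      rcases sq_one_cases hAcyc hzA hz hr2 hr4 with h | h
      · exact ⟨r, hrW, hrA, hrc, Or.inl h⟩
      by_cases hw : ∃ w ∈ A, w * w = z
      · obtain ⟨w, hwA, hww⟩ := hw
        refine ⟨r * w, W.mul_mem hrW (hAW hwA), fun h' => hrA ((A.mul_mem_cancel_right hwA).1 h'), fun a => ?_, Or.inl ?_⟩
        · have e : a * (r * w) * a⁻¹ * (r * w)⁻¹ = (a * r * a⁻¹ * r⁻¹) * (r * (a * w * a⁻¹ * w⁻¹) * r⁻¹) := by
            group
          rw [e]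
          exact A.mul_mem (hrc a) (hAn.conj_mem _ (A.mul_mem (hAn.conj_mem w hwA a) (A.inv_mem hwA)) r)
        · calc r * w * (r * w) = r * (w * r) * w := by group
            _ = r * (r * w) * w := by rw [← hAcomm w hwA r hrW]
            _ = (r * r) * (w * w) := by group
            _ = 1 := by rw [h, hww, hzz]
      · push Not at hw
        refine ⟨r, hrW, hrA, hrc, Or.inr ⟨h, fun a ha => ?_⟩⟩
        have ha4 : a * a * (a * a) = 1 := by
          have := h4 a
          rw [pow_succ, pow_succ, pow_succ, pow_one] at this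
          rw [← this]; group
        exact (sq_one_cases hAcyc hzA hz (A.mul_mem ha ha) ha4).resolve_right (hw a ha)
    have hk : ∀ a : T, a * r * a⁻¹ * r⁻¹ = 1 ∨ a * r * a⁻¹ * r⁻¹ = z := by
      intro a
      refine sq_one_cases hAcyc hzA hz (hrc a) ?_
      rcases hr2 with h | ⟨-, h⟩
      · set k := a * r * a⁻¹ * r⁻¹ with hkdef
        have e : a * r * a⁻¹ = k * r := by rw [hkdef]; group
        calc k * k = k * (k * (r * r)) := by rw [h, mul_one]
          _ = k * ((k * r) * r) := by group
          _ = k * ((r * k) * r) := by rw [← hAcomm k (hrc a) r hrW]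
          _ = (k * r) * (k * r) := by group
          _ = a * r * a⁻¹ * (a * r * a⁻¹) := by rw [e]
          _ = a * (r * r) * a⁻¹ := by group
          _ = 1 := by rw [h]; group
      · exact h _ (hrc a)
    apply hrA
    refine ⟨hrW, ?_⟩
    have hle : W ≤ Subgroup.centralizer ({r} : Set T) := by
      rw [hW, commutator_def, Subgroup.commutator_le]
      intro a _ b _
      rw [Subgroup.mem_centralizer_singleton_iff]
      set ka := a * r * a⁻¹ * r⁻¹ with hka
      set kb := b * r * b⁻¹ * r⁻¹ with hkb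
      have hac : ∀ u, u * ka = ka * u := Subgroup.mem_center_iff.1 (pair_mem_center hzc (hk a))
      have hbc : ∀ u, u * kb = kb * u := Subgroup.mem_center_iff.1 (pair_mem_center hzc (hk b))
      have hka' : a⁻¹ * r * a = ka⁻¹ * r := by
        calc a⁻¹ * r * a = a⁻¹ * (ka⁻¹ * (a * r * a⁻¹)) * a := by rw [hka]; group
          _ = a⁻¹ * (ka⁻¹ * a) * r := by group
          _ = a⁻¹ * (a * ka⁻¹) * r := by rw [(show Commute ka⁻¹ a from (show Commute ka a from (hac a).symm).inv_left).eq]
          _ = _ := by group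
      have hkb' : b⁻¹ * r * b = kb⁻¹ * r := by
        calc b⁻¹ * r * b = b⁻¹ * (kb⁻¹ * (b * r * b⁻¹)) * b := by rw [hkb]; group
          _ = b⁻¹ * (kb⁻¹ * b) * r := by group
          _ = b⁻¹ * (b * kb⁻¹) * r := by rw [(show Commute kb⁻¹ b from (show Commute kb b from (hbc b).symm).inv_left).eq]
          _ = _ := by group
      have h1 : ∀ (u k : T), (∀ v, v * k = k * v) → ∀ (l : T), u * (k * l) * u⁻¹ = k * (u * l * u⁻¹) := by
        intro u k hk l
        rw [← mul_assoc u, hk u]; group
      have hA' : ∀ v, v * ka⁻¹ = ka⁻¹ * v := fun v => (show Commute v ka from hac v).inv_right.eq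
      have hB' : ∀ v, v * kb⁻¹ = kb⁻¹ * v := fun v => (show Commute v kb from hbc v).inv_right.eq
      have e : ⁅a, b⁆ * r * ⁅a, b⁆⁻¹ = r := by
        rw [commutatorElement_def]
        calc a * b * a⁻¹ * b⁻¹ * r * (a * b * a⁻¹ * b⁻¹)⁻¹
            = a * (b * (a⁻¹ * (b⁻¹ * r * b) * a) * b⁻¹) * a⁻¹ := by group
          _ = a * (b * (a⁻¹ * (kb⁻¹ * r) * a⁻¹⁻¹) * b⁻¹) * a⁻¹ := by rw [hkb', inv_inv]
          _ = a * (b * (kb⁻¹ * (a⁻¹ * r * a⁻¹⁻¹)) * b⁻¹) * a⁻¹ := by rw [h1 _ _ hB']
          _ = a * (b * (kb⁻¹ * (ka⁻¹ * r)) * b⁻¹) * a⁻¹ := by rw [inv_inv, hka']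
          _ = a * (kb⁻¹ * (ka⁻¹ * (b * r * b⁻¹))) * a⁻¹ := by rw [h1 _ _ hB', h1 _ _ hA']
          _ = a * (kb⁻¹ * (ka⁻¹ * (kb * r))) * a⁻¹ := by rw [hkb, inv_mul_cancel_right]
          _ = a * (ka⁻¹ * r) * a⁻¹ := by
            rw [← mul_assoc kb⁻¹, ← mul_assoc (kb⁻¹ * ka⁻¹), mul_assoc kb⁻¹ ka⁻¹ kb, ← hA' kb,
              ← mul_assoc kb⁻¹, inv_mul_cancel, one_mul]
          _ = ka⁻¹ * (a * r * a⁻¹) := h1 _ _ hA' r
          _ = r := by rw [hka]; group
      exact mul_inv_eq_iff_eq_mul.1 e
    exact Subgroup.mem_centralizer_iff.2 fun w hw => Subgroup.mem_centralizer_singleton_iff.1 (hle hw)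
  -- all elements of `W` have square one
  by_cases hw4 : ∃ w ∈ W, w * w ≠ 1
  swap
  · push Not at hw4
    intro x y
    have h : ⁅x, y⁆ ∈ W := Subgroup.commutator_mem_commutator (Subgroup.mem_top x) (Subgroup.mem_top y)
    exact sq_one_cases hAcyc hzA hz (hWA h) (hw4 _ h)
  obtain ⟨w, hwW, hw2⟩ := hw4
  exfalso
  have hwgen : ∀ u ∈ W, u = 1 ∨ u = z ∨ u = w ∨ u = w⁻¹ := by
    intro u hu
    have hww : w * w = z := by
      have := h4 w
      rw [pow_succ, pow_succ, pow_succ, pow_one] at this
      exact (sq_one_cases hAcyc hzA hz (hWA (W.mul_mem hwW hwW)) (by rw [← this]; group)).resolve_left hw2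
    have huu : u * u = 1 ∨ u * u = z := by
      have := h4 u
      rw [pow_succ, pow_succ, pow_succ, pow_one] at this
      exact sq_one_cases hAcyc hzA hz (hWA (W.mul_mem hu hu)) (by rw [← this]; group)
    rcases huu with h | h
    · exact (sq_one_cases hAcyc hzA hz (hWA hu) h).imp id Or.inl
    · have hc : w * u = u * w := (Subgroup.mem_centralizer_iff.1 (hWA hu).2 w hwW)
      have h2 : u * w * (u * w) = 1 := by
        calc u * w * (u * w) = u * (w * u) * w := by group
          _ = u * (u * w) * w := by rw [hc]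
          _ = (u * u) * (w * w) := by group
          _ = 1 := by rw [h, hww, hzz]
      rcases sq_one_cases hAcyc hzA hz (A.mul_mem (hWA hu) (hWA hwW)) h2 with h3 | h3
      · exact Or.inr (Or.inr (Or.inr (mul_eq_one_iff_eq_inv.1 h3)))
      · refine Or.inr (Or.inr (Or.inl ?_))
        rw [← hww] at h3
        exact mul_right_cancel h3
  set C := Subgroup.centralizer (W : Set T) with hC
  haveI hCc : C.Characteristic := inferInstance
  have hcomW : ∀ x y : T, x * y * x⁻¹ * y⁻¹ ∈ W := fun x y => by
    have h : ⁅x, y⁆ ∈ W := Subgroup.commutator_mem_commutator (Subgroup.mem_top x) (Subgroup.mem_top y)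
    exact h
  have hCcom : ∀ x ∈ C, ∀ u ∈ W, u * x = x * u := fun x hx u hu => Subgroup.mem_centralizer_iff.1 hx u hu
  have hCC : ∀ x ∈ C, ∀ y ∈ C, x * y * x⁻¹ * y⁻¹ = 1 ∨ x * y * x⁻¹ * y⁻¹ = z := by
    intro x hx y hy
    refine sq_one_cases hAcyc hzA hz (hWA (hcomW x y)) ?_
    refine comm_sq h4 (x := y⁻¹) (y := x⁻¹) (by group) ?_ ?_
    · exact hCcom _ (C.inv_mem hy) _ (hcomW x y)
    · exact hCcom _ (C.inv_mem hx) _ (hcomW x y)
  -- squares in `C`
  set ZC := C ⊓ Subgroup.centralizer (C : Set T) with hZC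
  haveI hZCc : ZC.Characteristic := by
    rw [Subgroup.characteristic_iff_le_comap]
    exact fun φ x hx => ⟨(Subgroup.characteristic_iff_le_comap.1 hCc φ) hx.1,
      (Subgroup.characteristic_iff_le_comap.1 (inferInstance : (Subgroup.centralizer (C : Set T)).Characteristic) φ) hx.2⟩
  have hZCcyc : IsCyclic ZC := hchar ZC hZCc ⟨⟨fun a b => Subtype.ext (Subgroup.mem_centralizer_iff.1 b.2.2 a a.2.1)⟩⟩
  have hzC : z ∈ C := Subgroup.mem_centralizer_iff.2 fun u _ => hzcom u
  have hzZC : z ∈ ZC := ⟨hzC, Subgroup.mem_centralizer_iff.2 fun u _ => hzcom u⟩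
  have hsq : ∀ c ∈ C, c * c = 1 ∨ c * c = z := by
    intro c hc
    have h := h4 c
    rw [pow_succ, pow_succ, pow_succ, pow_one] at h
    refine sq_one_cases hZCcyc hzZC hz ⟨C.mul_mem hc hc, Subgroup.mem_centralizer_iff.2 fun y hy => ?_⟩
      (by rw [← h]; group)
    set k := c * y * c⁻¹ * y⁻¹ with hk
    have hkc : ∀ v, v * k = k * v := Subgroup.mem_center_iff.1 (pair_mem_center hzc (hCC c hc y hy))
    have hkk : k * k = 1 := by rcases hCC c hc y hy with h | h <;> rw [hk, h] <;> simp [hzz]
    have e : c * y = k * (y * c) := by rw [hk]; group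
    symm
    calc c * c * y = c * (c * y) := by group
      _ = c * (k * (y * c)) := by rw [e]
      _ = (c * k) * (y * c) := by group
      _ = (k * c) * (y * c) := by rw [hkc]
      _ = k * (c * y) * c := by group
      _ = k * k * (y * (c * c)) := by rw [e]; group
      _ = y * (c * c) := by rw [hkk, one_mul]
  have hTC : ∀ t, t ∉ C → ∀ c ∈ C, t * c * t⁻¹ * c⁻¹ = 1 ∨ t * c * t⁻¹ * c⁻¹ = z := by
    intro t ht c hc
    refine sq_one_cases hAcyc hzA hz (hWA (hcomW t c)) ?_
    set k := t * c * t⁻¹ * c⁻¹ with hk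
    have hkc : k * c = c * k := hCcom c hc k (hcomW t c)
    have hcc : t * (c * c) * t⁻¹ = c * c := by
      rcases hsq c hc with h | h
      · rw [h]; group
      · rw [h, hzcom t, mul_inv_cancel_right]
    have e : t * (c * c) * t⁻¹ = k * k * (c * c) := by
      calc t * (c * c) * t⁻¹ = k * c * (k * c) := by rw [hk]; group
        _ = k * (c * k) * c := by group
        _ = k * (k * c) * c := by rw [hkc]
        _ = _ := by group
    rw [hcc] at e
    exact mul_eq_right.1 e.symm
  -- elements outside `C` invert `w`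
  have hout : ∀ t, t ∉ C → t * w * t⁻¹ = w⁻¹ := by
    intro t ht
    have hfix : t * w ≠ w * t := by
      intro h
      apply ht
      refine Subgroup.mem_centralizer_iff.2 fun u hu => ?_
      rcases hwgen u hu with rfl | rfl | rfl | rfl
      · simp
      · exact (hzcom t).symm
      · exact h.symm
      · exact (show Commute t w from h).inv_right.eq.symm
    have hmem : t * w * t⁻¹ ∈ W := (inferInstance : W.Normal).conj_mem w hwW t
    rcases hwgen _ hmem with h | h | h | h
    · exact absurd (conj_eq_one_iff.1 h) (fun e => hw2 (by rw [e, mul_one]))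
    · exfalso
      apply hw2
      have h' : w = z := by
        calc w = t⁻¹ * (t * w * t⁻¹) * t := by group
          _ = t⁻¹ * (z * t) := by rw [h]; group
          _ = z := by rw [← hzcom t, inv_mul_cancel_left]
      rw [h', hzz]
    · exact absurd (mul_inv_eq_iff_eq_mul.1 h) hfix
    · exact h
  have hall : ∀ x y : T, x * y * x⁻¹ * y⁻¹ = 1 ∨ x * y * x⁻¹ * y⁻¹ = z := by
    intro x y
    by_cases hx : x ∈ C
    · by_cases hy : y ∈ C
      · exact hCC x hx y hy
      · have h := inv_mem_pair hzz (hTC y hy x hx)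
        rwa [show (y * x * y⁻¹ * x⁻¹)⁻¹ = x * y * x⁻¹ * y⁻¹ by group] at h
    · by_cases hy : y ∈ C
      · exact hTC x hx y hy
      · -- `y = x * c`
        have hc : x⁻¹ * y ∈ C := by
          refine Subgroup.mem_centralizer_iff.2 fun u hu => ?_
          have hw' : x⁻¹ * y * w * (x⁻¹ * y)⁻¹ = w := by
            calc x⁻¹ * y * w * (x⁻¹ * y)⁻¹ = x⁻¹ * (y * w * y⁻¹) * x := by group
              _ = x⁻¹ * (x * w * x⁻¹) * x := by rw [hout y hy, hout x hx]
              _ = w := by group
          have hcw : x⁻¹ * y * w = w * (x⁻¹ * y) := mul_inv_eq_iff_eq_mul.1 hw'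
          rcases hwgen u hu with rfl | rfl | rfl | rfl
          · simp
          · exact (hzcom _).symm
          · exact hcw.symm
          · exact (show Commute (x⁻¹ * y) w from hcw).inv_right.eq.symm
        have h := hTC x hx _ hc
        have e : x * y * x⁻¹ * y⁻¹ = x * (x * (x⁻¹ * y) * x⁻¹ * (x⁻¹ * y)⁻¹) * x⁻¹ := by group
        rw [e]
        rcases h with h | h
        · left; rw [h]; group
        · right; rw [h, hzcom x, mul_inv_cancel_right]
  have hWz : ∀ u ∈ W, u = 1 ∨ u = z := by
    intro u hu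
    have hle : W ≤ Subgroup.zpowers z := by
      rw [hW, commutator_def, Subgroup.commutator_le]
      intro a _ b _
      rw [commutatorElement_def]
      rcases hall a b with h | h <;> rw [h]
      · exact Subgroup.one_mem _
      · exact Subgroup.mem_zpowers z
    obtain ⟨i, rfl⟩ := hle hu
    rcases Int.even_or_odd i with ⟨j, hj⟩ | ⟨j, hj⟩
    · left; simp only [hj, ← two_mul, zpow_mul, zpow_ofNat, pow_two, hzz, one_zpow]
    · right; simp only [hj, zpow_add, zpow_mul, zpow_ofNat, pow_two, hzz, one_zpow, one_mul, pow_one, zpow_one]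
  rcases hWz w hwW with h | h
  · exact hw2 (by rw [h, mul_one])
  · exact hw2 (by rw [h, hzz])

end Cfsg.Agent.InvChar.Symplectic
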