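import Mathlib
import Cfsg.Agent.S0121
import Cfsg.Agent.Techniques.Critical
import Cfsg.Agent.Lib.Characters.Burnside

/-!
# Automorphisms of 2-groups with three involutions
-/

set_option autoImplicit false
set_option linter.all false

namespace Cfsg.Agent.InvChar.TwoGroupThreeInvolutions

section Quadratic

variable {V W : Type*} [AddCommGroup V] [AddCommGroup W] [Module (ZMod 2) V] [Module (ZMod 2) W]

/-- A map with bilinear polarisation, in the form used below. -/
structure IsQuad (q : V → W) (β : V → V → W) : Prop where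
  map_zero : q 0 = 0
  map_add : ∀ u v, q (u + v) = q u + q v + β u v
  add_right : ∀ u v w, β u (v + w) = β u v + β u w

theorem IsQuad.zero_right {q : V → W} {β} (h : IsQuad q β) (u : V) : β u 0 = 0 := by
  have := h.add_right u 0 0
  rw [add_zero] at this
  exact left_eq_add.mp this

theorem IsQuad.smul_right {q : V → W} {β} (h : IsQuad q β) (u v : V) (c : ZMod 2) :
    β u (c • v) = c • β u v := by
  rcases (by decide +revert : c = 0 ∨ c = 1) with rfl | rfl
  · rw [zero_smul, zero_smul, h.zero_right]
  · rw [one_smul, one_smul]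

theorem IsQuad.symm {q : V → W} {β} (h : IsQuad q β) (u v : V) : β u v = β v u := by
  have h1 := h.map_add u v
  rw [add_comm u v, h.map_add v u, add_comm (q v) (q u)] at h1
  exact (add_left_cancel h1).symm

theorem IsQuad.coeff {q : V → W} {β} (h : IsQuad q β) : ∀ (n : ℕ) (e : Fin n → V),
    ∃ a : Fin n → Fin n → W, ∀ x : Fin n → ZMod 2,
      q (∑ i, x i • e i) = ∑ i, ∑ j, (x i * x j) • a i j := by
  intro n
  induction n with
  | zero => exact fun e => ⟨0, fun x => by simp [h.map_zero]⟩
  | succ n ih =>
    intro e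
    obtain ⟨a, ha⟩ := ih (fun i => e i.succ)
    refine ⟨Fin.cons (Fin.cons (q (e 0)) fun j => β (e 0) (e j.succ))
      (fun i => Fin.cons 0 (a i)), fun x => ?_⟩
    have hsum : ∀ (u : V) (m : ℕ) (f : Fin m → V), β u (∑ j, f j) = ∑ j, β u (f j) := by
      intro u m
      induction m with
      | zero => intro f; simp [h.zero_right]
      | succ m ihm => intro f; rw [Fin.sum_univ_succ, Fin.sum_univ_succ, h.add_right, ihm]
    have hb : β (x 0 • e 0) (∑ i : Fin n, x i.succ • e i.succ) =
        ∑ j : Fin n, (x 0 * x j.succ) • β (e 0) (e j.succ) := by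
      rw [h.symm, h.smul_right, h.symm, hsum, Finset.smul_sum]
      exact Finset.sum_congr rfl fun j _ => by rw [h.smul_right, mul_smul]
    have hq : q (x 0 • e 0) = (x 0 * x 0) • q (e 0) := by
      rcases (show ∀ c : ZMod 2, c = 0 ∨ c = 1 by decide) (x 0) with e' | e' <;>
        simp [e', h.map_zero]
    rw [Fin.sum_univ_succ, h.map_add, ha fun i => x i.succ, hq, hb]
    simp only [Fin.sum_univ_succ, Fin.cons_zero, Fin.cons_succ, smul_zero, zero_add]
    abel

theorem sum_four_monomial : ∀ i j k l : Fin 5, ∑ x : Fin 5 → ZMod 2, x i * x j * (x k * x l) = 0 := by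
  decide +kernel

theorem sum_two_monomial : ∀ i j : Fin 5, ∑ x : Fin 5 → ZMod 2, x i * x j = 0 := by
  decide +kernel

theorem sum_two_monomial_four : ∀ i j : Fin 4, ∑ x : Fin 4 → ZMod 2, x i * x j = 0 := by
  decide +kernel

/-- A function into a four group whose nonzero arguments have nonzero values: no five dimensions. -/
theorem no_five {q : (Fin 5 → ZMod 2) → ZMod 2 × ZMod 2} {β} (h : IsQuad q β)
    (han : ∀ x, q x = 0 → x = 0) : False := by
  obtain ⟨a, ha⟩ := h.coeff 5 (fun i => Pi.single i 1)
  have hx : ∀ x : Fin 5 → ZMod 2, q x = ∑ i, ∑ j, (x i * x j) • a i j := fun x => by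
    rw [← ha]
    exact congrArg q (funext fun k => by simp [Finset.sum_apply, Pi.single_apply])
  have h1 : ∑ x, (q x).1 = 0 := by
    simp only [hx, Prod.fst_sum, Prod.smul_fst, smul_eq_mul]
    rw [Finset.sum_comm]
    refine Finset.sum_eq_zero fun i _ => ?_
    rw [Finset.sum_comm]
    exact Finset.sum_eq_zero fun j _ => by rw [← Finset.sum_mul, sum_two_monomial, zero_mul]
  have h2 : ∑ x, (q x).2 = 0 := by
    simp only [hx, Prod.snd_sum, Prod.smul_snd, smul_eq_mul]
    rw [Finset.sum_comm]
    refine Finset.sum_eq_zero fun i _ => ?_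
    rw [Finset.sum_comm]
    exact Finset.sum_eq_zero fun j _ => by rw [← Finset.sum_mul, sum_two_monomial, zero_mul]
  have h12 : ∑ x, (q x).1 * (q x).2 = 0 := by
    simp only [hx, Prod.fst_sum, Prod.snd_sum, Prod.smul_fst, Prod.smul_snd, smul_eq_mul,
      Finset.mul_sum, Finset.sum_mul]
    rw [Finset.sum_comm]
    refine Finset.sum_eq_zero fun i _ => ?_
    rw [Finset.sum_comm]
    refine Finset.sum_eq_zero fun j _ => ?_
    rw [Finset.sum_comm]
    refine Finset.sum_eq_zero fun k _ => ?_
    rw [Finset.sum_comm]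
    refine Finset.sum_eq_zero fun l _ => ?_
    rw [Finset.sum_congr rfl fun x _ =>
        show _ = x k * x l * (x i * x j) * ((a k l).1 * (a i j).2) from by ring,
      ← Finset.sum_mul, sum_four_monomial, zero_mul]
  have hone : ∑ x, (1 + (q x).1) * (1 + (q x).2) = (1 : ZMod 2) := by
    rw [Finset.sum_eq_single (0 : Fin 5 → ZMod 2)]
    · simp [h.map_zero]
    · intro x _ hx0
      have hne : q x ≠ 0 := fun e => hx0 (han x e)
      revert hne
      generalize q x = w
      revert w
      decide
    · simp
  simp only [add_mul, mul_add, one_mul, mul_one, Finset.sum_add_distrib, h1, h2, h12, add_zero] at hone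
  revert hone
  simp
  decide

/-- Quadratic functions on four dimensions take the value one an even number of times. -/
theorem sum_four_eq_zero {q : (Fin 4 → ZMod 2) → W} {β} (h : IsQuad q β) : ∑ x, q x = 0 := by
  obtain ⟨a, ha⟩ := h.coeff 4 (fun i => Pi.single i 1)
  have hx : ∀ x : Fin 4 → ZMod 2, q x = ∑ i, ∑ j, (x i * x j) • a i j := fun x => by
    rw [← ha]
    exact congrArg q (funext fun k => by simp [Finset.sum_apply, Pi.single_apply])
  simp only [hx]
  rw [Finset.sum_comm]
  refine Finset.sum_eq_zero fun i _ => ?_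
  rw [Finset.sum_comm]
  exact Finset.sum_eq_zero fun j _ => by rw [← Finset.sum_smul, sum_two_monomial_four, zero_smul]

theorem IsQuad.comp {V' W' : Type*} [AddCommGroup V'] [AddCommGroup W'] [Module (ZMod 2) V']
    [Module (ZMod 2) W'] {q : V → W} {β} (h : IsQuad q β) (f : V' →ₗ[ZMod 2] V) (g : W →ₗ[ZMod 2] W') :
    IsQuad (fun x => g (q (f x))) (fun x y => g (β (f x) (f y))) where
  map_zero := by simp [h.map_zero]
  map_add u v := by simp [h.map_add]
  add_right u v w := by simp [h.add_right]

end Quadratic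

/-- Groups with few prime divisors are solvable. -/
theorem solvable_of_primes {A : Type*} [Group A] [Finite A] {r : ℕ} (hr : r.Prime) (hr2 : r ≠ 2)
    (h : ∀ p : ℕ, p.Prime → p ∣ Nat.card A → p = 2 ∨ p = r) : Group.IsSolvable A := by
  obtain ⟨a, m, hm, he⟩ := Nat.exists_eq_pow_mul_and_not_dvd (Nat.card_pos (α := A)).ne' 2 (by norm_num)
  have hm0 : m ≠ 0 := fun e => hm (e ▸ dvd_zero 2)
  obtain ⟨b, hb⟩ : ∃ b, m = r ^ b := by
    refine ⟨m.primeFactorsList.length, Nat.eq_prime_pow_of_unique_prime_dvd hm0 fun {d} hd hdm => ?_⟩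
    rcases h d hd (he ▸ Dvd.dvd.mul_left hdm _) with rfl | e
    · exact absurd hdm hm
    · exact e
  exact Characters.burnside_pa_qb Nat.prime_two hr (he.trans (by rw [hb]))

section Orth

variable {V W : Type*} [AddCommGroup V] [AddCommGroup W] [Module (ZMod 2) V] [Module (ZMod 2) W]
  [Finite V] [Finite W]

theorem add_self (v : V) : v + v = 0 := by
  rw [← two_nsmul, ← Nat.cast_smul_eq_nsmul (ZMod 2)]
  exact zero_smul _ v

theorem exists_embed (hW : Nat.card W ≤ 4) :
    ∃ j : W →ₗ[ZMod 2] ZMod 2 × ZMod 2, Function.Injective j := by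
  have hc := Module.natCard_eq_pow_finrank (K := ZMod 2) (V := W)
  rw [Nat.card_zmod] at hc
  have hr : Module.finrank (ZMod 2) W ≤ 2 :=
    (Nat.pow_le_pow_iff_right (a := 2) one_lt_two).mp (by rw [← hc]; exact hW)
  let b := Module.finBasis (ZMod 2) W
  let i : (Fin (Module.finrank (ZMod 2) W) → ZMod 2) →ₗ[ZMod 2] (Fin 2 → ZMod 2) :=
    Function.ExtendByZero.linearMap (ZMod 2) (Fin.castLE hr)
  refine ⟨(LinearEquiv.finTwoArrow (ZMod 2) (ZMod 2)).toLinearMap ∘ₗ i ∘ₗ b.equivFun.toLinearMap, ?_⟩
  intro u v e
  refine b.equivFun.injective (funext fun k => ?_)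
  have := congrFun ((LinearEquiv.finTwoArrow (ZMod 2) (ZMod 2)).injective e) (Fin.castLE hr k)
  simpa [i, Function.ExtendByZero.linearMap_apply, (Fin.castLE_injective hr).extend_apply] using this

variable {q : V → W} {β : V → V → W} (h : IsQuad q β) (han : ∀ v, q v = 0 → v = 0)
include h han

theorem card_le_sixteen (hW : Nat.card W ≤ 4) : Nat.card V ≤ 16 := by
  by_contra hV
  obtain ⟨j, hj⟩ := exists_embed hW
  have hc := Module.natCard_eq_pow_finrank (K := ZMod 2) (V := V)
  rw [Nat.card_zmod] at hc
  have hr : 5 ≤ Module.finrank (ZMod 2) V := by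
    by_contra hr
    exact hV (hc ▸ (Nat.pow_le_pow_right (by norm_num : 2 > 0) (by omega : _ ≤ 4)))
  let b := Module.finBasis (ZMod 2) V
  let i := b.equivFun.symm.toLinearMap ∘ₗ Function.ExtendByZero.linearMap (ZMod 2) (Fin.castLE hr)
  have hi : Function.Injective i := by
    intro u v e
    refine funext fun k => ?_
    have := congrFun (b.equivFun.symm.injective e) (Fin.castLE hr k)
    simpa [Function.ExtendByZero.linearMap_apply, (Fin.castLE_injective hr).extend_apply] using this
  refine no_five (h.comp i j) fun x hx => hi ?_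
  rw [map_zero]
  exact han _ (hj (by rw [map_zero]; exact hx))

/-- The function is not constant on the nonzero elements of a subgroup of order eight. -/
theorem not_const (U : Finset V) (hU : 5 ≤ U.card) (h0 : (0 : V) ∈ U)
    (hadd : ∀ u ∈ U, ∀ v ∈ U, u + v ∈ U) (c : W) (hc : ∀ u ∈ U, u ≠ 0 → q u = c) : False := by
  classical
  have pick : ∀ s : Finset V, s.card < U.card → ∃ x ∈ U, x ∉ s := fun s hs => by
    by_contra hne
    push Not at hne
    exact absurd (Finset.card_le_card hne) (by omega)
  obtain ⟨u, hu, hu'⟩ := pick {0} (by simp; omega)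
  obtain ⟨v, hv, hv'⟩ := pick {0, u} (lt_of_le_of_lt Finset.card_le_two (by omega))
  obtain ⟨w, hw, hw'⟩ := pick {0, u, v, u + v} (lt_of_le_of_lt Finset.card_le_four (by omega))
  simp only [Finset.mem_insert, Finset.mem_singleton, not_or] at hu' hv' hw'
  obtain ⟨hv0, hvu⟩ := hv'
  obtain ⟨hw0, hwu, hwv, hwuv⟩ := hw'
  have key : ∀ x ∈ U, x ≠ 0 → x ≠ u → β u x = c := by
    intro x hx hx0 hxu
    have hne : u + x ≠ 0 := fun e => hxu (add_left_cancel (e.trans (add_self u).symm))
    have := h.map_add u x
    rw [hc _ (hadd u hu x hx) hne, hc u hu hu', hc x hx hx0, add_self, zero_add] at this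
    exact this.symm
  have hvw0 : v + w ≠ 0 := fun e => hwv (add_left_cancel (e.trans (add_self v).symm))
  have hvwu : v + w ≠ u := fun e => hwuv (by rw [← e, add_comm v w, add_assoc, add_self, add_zero])
  have h1 := h.add_right u v w
  rw [key v hv hv0 hvu, key w hw hw0 hwu, key _ (hadd v hv w hw) hvw0 hvwu, add_self] at h1
  exact hu' (han u ((hc u hu hu').trans h1))

variable {A : Type*} [Group A] [Finite A] [DistribMulAction A V] [FaithfulSMul A V]
  (hq : ∀ (a : A) (v : V), q (a • v) = q v) (hV : Nat.card V ≤ 16)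
include hq hV

omit han hq in
theorem fixed_data {g : A} {p : ℕ} (hp : p.Prime) (hg : orderOf g = p) :
    ∃ F : AddSubgroup V, (∀ v, v ∈ F ↔ g • v = v) ∧ Nat.card F < Nat.card V ∧
      (∃ i j, Nat.card F = 2 ^ i ∧ Nat.card V = 2 ^ j ∧ i < j ∧ j ≤ 4) ∧
      Nat.card V ≡ Nat.card F [MOD p] := by
  haveI := Fact.mk hp
  let F : AddSubgroup V :=
    { carrier := {v | g • v = v}
      zero_mem' := smul_zero g
      add_mem' := fun {x y} hx hy => by show g • (x + y) = x + y; rw [smul_add, hx, hy]
      neg_mem' := fun {x} hx => by show g • (-x) = -x; rw [smul_neg, hx] }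
  have hFt : F ≠ ⊤ := fun e => by
    have : g = 1 := eq_of_smul_eq_smul fun v : V => by
      rw [one_smul]; exact (e ▸ AddSubgroup.mem_top v : v ∈ F)
    rw [this, orderOf_one] at hg
    exact hp.ne_one hg.symm
  have hlt : Nat.card F < Nat.card V :=
    lt_of_le_of_ne (Nat.card_le_card_of_injective _ Subtype.val_injective)
      (fun e => hFt (AddSubgroup.eq_top_of_card_eq F e))
  have hc := Module.natCard_eq_pow_finrank (K := ZMod 2) (V := V)
  rw [Nat.card_zmod] at hc
  have hj4 : Module.finrank (ZMod 2) V ≤ 4 :=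
    (Nat.pow_le_pow_iff_right (a := 2) one_lt_two).mp (by rw [← hc]; exact hV)
  obtain ⟨i, -, hi⟩ := (Nat.dvd_prime_pow Nat.prime_two).mp (hc ▸ AddSubgroup.card_addSubgroup_dvd_card F)
  refine ⟨F, fun v => Iff.rfl, hlt, ⟨i, _, hi, hc, ?_, hj4⟩, ?_⟩
  · rw [hc, hi] at hlt
    exact (Nat.pow_lt_pow_iff_right (by norm_num)).mp hlt
  · have hP : IsPGroup p (Subgroup.zpowers g) :=
      IsPGroup.of_card (n := 1) (by rw [Nat.card_zpowers, hg, pow_one])
    have e := hP.card_modEq_card_fixedPoints V
    suffices Nat.card (MulAction.fixedPoints (Subgroup.zpowers g) V) = Nat.card F by rwa [this] at e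
    refine Nat.card_congr (Equiv.subtypeEquivRight fun v => ?_)
    constructor
    · intro hv; exact hv ⟨g, Subgroup.mem_zpowers g⟩
    · rintro hv ⟨_, m, rfl⟩
      exact MulAction.mem_fixedBy.mp (MulAction.fixedBy_subset_fixedBy_zpow V g m hv)

theorem not_seven : ¬ 7 ∣ Nat.card A := by
  intro h7
  haveI : Fact (Nat.Prime 7) := ⟨by norm_num⟩
  obtain ⟨g, hg⟩ := exists_prime_orderOf_dvd_card' 7 h7
  obtain ⟨F, hF, -, ⟨i, j, hi, hj, hij, hj4⟩, hm⟩ := fixed_data h hV (by norm_num : Nat.Prime 7) hg
  let f : V →+ V :=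
    { toFun := fun v => g • v + v
      map_zero' := by simp
      map_add' := fun u v => by rw [smul_add]; abel }
  have hker : f.ker = F := by
    ext v
    rw [AddMonoidHom.mem_ker, hF]
    show g • v + v = 0 ↔ _
    constructor
    · intro e; exact add_right_cancel (e.trans (add_self v).symm)
    · intro e; rw [e, add_self]
  have hcard : Nat.card f.range = 7 + 1 := by
    have hidx : f.ker.index = Nat.card f.range := AddSubgroup.index_ker f
    have hmul := AddSubgroup.card_mul_index F
    rw [← hker, hidx, hker, hi, hj] at hmul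
    rw [hi, hj] at hm
    interval_cases j <;> interval_cases i <;> (try norm_num [Nat.ModEq] at hm) <;> (try norm_num at hmul ⊢) <;> omega
  have hinv : ∀ v ∈ f.range, g • v ∈ f.range := by
    rintro _ ⟨x, rfl⟩
    exact ⟨g • x, by show g • (g • x) + g • x = g • (g • x + x); rw [smul_add]⟩
  have hfree : ∀ v ∈ f.range, g • v = v → v = 0 := by
    rintro v ⟨x, hx⟩ hv
    have hgx : g • x = x + v := by
      rw [← hx]; show g • x = x + (g • x + x); rw [add_left_comm, add_self, add_zero]
    have e2 : g • (g • x) = x := by rw [hgx, smul_add, hgx, hv, add_assoc, add_self, add_zero]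
    have e7 : (g ^ 7) • x = g • x := by
      rw [show g ^ 7 = g * g * (g * g) * (g * g) * g by simp only [pow_succ, pow_zero, one_mul, mul_assoc], mul_smul, mul_smul, mul_smul, mul_smul,
        mul_smul, mul_smul, e2, e2, e2]
    rw [← hg, pow_orderOf_eq_one, one_smul, hgx] at e7
    exact left_eq_add.mp e7
  -- a single orbit
  obtain ⟨v, hv, hv0⟩ : ∃ v ∈ f.range, v ≠ (0 : V) := by
    by_contra hne
    push Not at hne
    have := Nat.card_le_card_of_injective (fun _ : f.range => ()) fun a b _ =>
      Subtype.ext ((hne a a.2).trans (hne b b.2).symm)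
    rw [hcard, Nat.card_unique] at this
    omega
  have hmp : MulAction.period g v = 7 := by
    have hd : MulAction.period g v ∣ 7 := hg ▸ MulAction.period_dvd_orderOf g v
    rcases (Nat.dvd_prime (by norm_num : Nat.Prime 7)).mp hd with e | e
    · exact absurd (hfree v hv (MulAction.period_eq_one_iff.mp e)) hv0
    · exact e
  classical
  haveI := Fintype.ofFinite V
  let O := (Finset.range 7).image fun k => g ^ k • v
  have hOc : O.card = 7 := by
    rw [Finset.card_image_of_injOn, Finset.card_range]
    intro a ha b hb e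
    simp only [Finset.coe_range, Set.mem_Iio] at ha hb
    rcases Nat.lt_trichotomy a b with hl | hl | hl
    · have : g ^ (b - a) • v = v := by
        refine smul_left_cancel (g ^ a) ?_
        rw [← mul_smul, ← pow_add, Nat.add_sub_cancel' hl.le]; exact e.symm
      have := MulAction.pow_smul_eq_iff_period_dvd.mp this
      rw [hmp] at this
      exact absurd (Nat.le_of_dvd (by omega) this) (by omega)
    · exact hl
    · have : g ^ (a - b) • v = v := by
        refine smul_left_cancel (g ^ b) ?_
        rw [← mul_smul, ← pow_add, Nat.add_sub_cancel' hl.le]; exact e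
      have := MulAction.pow_smul_eq_iff_period_dvd.mp this
      rw [hmp] at this
      exact absurd (Nat.le_of_dvd (by omega) this) (by omega)
  have hpow : ∀ k : ℕ, g ^ k • v ∈ f.range := by
    intro k
    induction k with
    | zero => simpa using hv
    | succ k ih => rw [pow_succ', mul_smul]; exact hinv _ ih
  have hO0 : (0 : V) ∉ O := by
    simp only [O, Finset.mem_image, not_exists, not_and]
    intro k _ e
    exact hv0 (smul_left_cancel (g ^ k) (e.trans (smul_zero _).symm))
  set U := Finset.univ.filter fun x => x ∈ f.range with hU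
  have hUc : U.card = 8 := by
    rw [hU, ← Fintype.card_subtype, ← Nat.card_eq_fintype_card]; exact hcard
  have hUO : U = insert 0 O := by
    symm
    refine Finset.eq_of_subset_of_card_le ?_ (by rw [Finset.card_insert_of_notMem hO0, hOc, hUc])
    intro x hx
    rcases Finset.mem_insert.mp hx with rfl | hx
    · exact Finset.mem_filter.mpr ⟨Finset.mem_univ _, zero_mem _⟩
    · obtain ⟨k, -, rfl⟩ := Finset.mem_image.mp hx
      exact Finset.mem_filter.mpr ⟨Finset.mem_univ _, hpow k⟩
  refine not_const h han U (by omega) (Finset.mem_filter.mpr ⟨Finset.mem_univ _, zero_mem _⟩) ?_ (q v) ?_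
  · intro a ha b hb
    simp only [U, Finset.mem_filter, Finset.mem_univ, true_and] at ha hb ⊢
    exact add_mem ha hb
  · intro u hu hu0
    rw [hUO, Finset.mem_insert] at hu
    obtain ⟨k, -, rfl⟩ := Finset.mem_image.mp (hu.resolve_left hu0)
    exact hq _ v

theorem not_five_three (hW : Nat.card W ≤ 4) (h5 : 5 ∣ Nat.card A) : ¬ 3 ∣ Nat.card A := by
  intro h3
  haveI : Fact (Nat.Prime 5) := ⟨by norm_num⟩
  haveI : Fact (Nat.Prime 3) := ⟨by norm_num⟩
  obtain ⟨g, hg⟩ := exists_prime_orderOf_dvd_card' 5 h5
  obtain ⟨k, hk⟩ := exists_prime_orderOf_dvd_card' 3 h3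
  obtain ⟨F, hF, -, ⟨i, j, hi, hj, hij, hj4⟩, hm⟩ := fixed_data h hV (by norm_num : Nat.Prime 5) hg
  obtain ⟨F', hF', -, ⟨i', j', hi', hj', hij', hj4'⟩, hm'⟩ := fixed_data h hV (by norm_num : Nat.Prime 3) hk
  rw [hi, hj] at hm
  have hj' : i = 0 ∧ j = 4 := by
    interval_cases j <;> interval_cases i <;> revert hm <;> simp [Nat.ModEq]
  obtain ⟨rfl, rfl⟩ := hj'
  obtain ⟨jW, hjW⟩ := exists_embed hW
  let b : Module.Basis (Fin 4) (ZMod 2) V := Module.finBasisOfFinrankEq (ZMod 2) V (by
    have hc := Module.natCard_eq_pow_finrank (K := ZMod 2) (V := V)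
    rw [Nat.card_zmod, hj] at hc
    exact (Nat.pow_right_injective le_rfl hc).symm)
  classical
  haveI := Fintype.ofFinite V
  have hsum : ∑ v : V, jW (q v) = 0 := by
    rw [← Equiv.sum_comp b.equivFun.symm.toEquiv]
    exact sum_four_eq_zero (h.comp b.equivFun.symm.toLinearMap jW)
  -- the classes of the three values
  let S : ZMod 2 × ZMod 2 → Finset V := fun c => Finset.univ.filter fun v => jW (q v) = c
  have hdec : ∀ F : ZMod 2 × ZMod 2 → ℕ,
      ∑ c, F c = F (0, 0) + F (0, 1) + F (1, 0) + F (1, 1) := fun F => by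
    rw [show (Finset.univ : Finset (ZMod 2 × ZMod 2)) = {(0, 0), (0, 1), (1, 0), (1, 1)} by decide]
    simp [add_assoc]
  have htot : (S (0, 1)).card + (S (1, 0)).card + (S (1, 1)).card = 15 := by
    have h16 : ∑ c, (S c).card = 16 := by
      rw [← Finset.card_eq_sum_card_fiberwise fun v _ => Finset.mem_univ _, Finset.card_univ,
        ← Nat.card_eq_fintype_card, hj]
      rfl
    rw [hdec fun c => (S c).card] at h16
    have h00 : (S (0, 0)).card = 1 := by
      rw [Finset.card_eq_one]
      refine ⟨0, Finset.ext fun v => ?_⟩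
      simp only [S, Finset.mem_filter, Finset.mem_univ, true_and, Finset.mem_singleton]
      exact ⟨fun e => han v (hjW (e.trans (map_zero jW).symm)), fun e => by rw [e, h.map_zero, map_zero]; rfl⟩
    omega
  have hpar : ∀ φ : ZMod 2 × ZMod 2 →+ ZMod 2,
      ((∑ c, (φ c).val * (S c).card : ℕ) : ZMod 2) = 0 := by
    intro φ
    have e := congrArg φ hsum
    rw [map_sum, map_zero, ← Finset.sum_fiberwise Finset.univ (fun v => jW (q v))] at e
    rw [Nat.cast_sum]
    refine Eq.trans (Finset.sum_congr rfl fun c _ => ?_) e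
    rw [Finset.sum_congr rfl fun v hv => congrArg φ (Finset.mem_filter.mp hv).2, Finset.sum_const,
      Nat.cast_mul, ZMod.natCast_zmod_val, nsmul_eq_mul, mul_comm]
  have hmod5 : ∀ c, c ≠ 0 → 5 ∣ (S c).card := by
    intro c hc
    have hP : IsPGroup 5 (Subgroup.zpowers g) :=
      IsPGroup.of_card (n := 1) (by rw [Nat.card_zpowers, hg, pow_one])
    let T : SubMulAction (Subgroup.zpowers g) V :=
      { carrier := {v | jW (q v) = c}
        smul_mem' := fun a v hv => by
          show jW (q ((a : A) • v)) = c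
          rw [hq]; exact hv }
    have e := hP.card_modEq_card_fixedPoints T
    have h0 : Nat.card (MulAction.fixedPoints (Subgroup.zpowers g) T) = 0 := by
      rw [Nat.card_eq_zero]
      left
      refine ⟨fun x => ?_⟩
      have hx : g • (x.1 : V) = x.1 := congrArg Subtype.val (x.2 ⟨g, Subgroup.mem_zpowers g⟩)
      have h1 : F = ⊥ := AddSubgroup.eq_bot_of_card_eq F hi
      have h2 : ((x.1 : T) : V) = 0 := by
        have := (hF _).mpr hx
        rwa [h1, AddSubgroup.mem_bot] at this
      have h4 : jW (q ((x.1 : T) : V)) = c := x.1.2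
      rw [h2, h.map_zero, map_zero] at h4
      exact hc h4.symm
    rw [h0] at e
    have hT : Nat.card T = (S c).card := by
      rw [← Fintype.card_subtype, ← Nat.card_eq_fintype_card]; rfl
    rw [hT] at e
    exact (Nat.modEq_zero_iff_dvd).mp e
  have hodd : ∀ c : ZMod 2 × ZMod 2, c ≠ 0 → (S c).card = 5 := by
    have p1 := hpar (AddMonoidHom.fst _ _)
    have p2 := hpar (AddMonoidHom.snd _ _)
    have p3 := hpar (AddMonoidHom.fst _ _ + AddMonoidHom.snd _ _)
    rw [ZMod.natCast_eq_zero_iff_even, Nat.even_iff,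
      hdec fun c => _ * (S c).card] at p1 p2 p3
    have v0 : (1 : ZMod 2).val = 1 := rfl
    have v1 : ((1 : ZMod 2) + 1).val = 0 := rfl
    simp [v0, v1] at p1 p2 p3
    have a1 := hmod5 (0, 1) (by decide)
    have a2 := hmod5 (1, 0) (by decide)
    have a3 := hmod5 (1, 1) (by decide)
    intro c hc
    have hc' : c = (0, 1) ∨ c = (1, 0) ∨ c = (1, 1) := by
      revert hc; revert c; decide
    rcases hc' with rfl | rfl | rfl <;> omega
  -- an element of order three
  have hfix : ∀ c : ZMod 2 × ZMod 2, c ≠ 0 →
      2 ≤ ((S c).filter fun v => k • v = v).card := by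
    intro c hc
    have hP : IsPGroup 3 (Subgroup.zpowers k) :=
      IsPGroup.of_card (n := 1) (by rw [Nat.card_zpowers, hk, pow_one])
    let T : SubMulAction (Subgroup.zpowers k) V :=
      { carrier := {v | jW (q v) = c}
        smul_mem' := fun a v hv => by
          show jW (q ((a : A) • v)) = c
          rw [hq]; exact hv }
    have e := hP.card_modEq_card_fixedPoints T
    have hT : Nat.card T = (S c).card := by
      rw [← Fintype.card_subtype, ← Nat.card_eq_fintype_card]; rfl
    have hT' : Nat.card (MulAction.fixedPoints (Subgroup.zpowers k) T) =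
        ((S c).filter fun v => k • v = v).card := by
      rw [← Nat.card_eq_finsetCard]
      refine Nat.card_congr
        { toFun := fun x => ⟨x.1.1, Finset.mem_filter.mpr ⟨Finset.mem_filter.mpr ⟨Finset.mem_univ _, x.1.2⟩,
            congrArg Subtype.val (x.2 ⟨k, Subgroup.mem_zpowers k⟩)⟩⟩
          invFun := fun x => ⟨⟨x.1, (Finset.mem_filter.mp (Finset.mem_filter.mp x.2).1).2⟩, ?_⟩
          left_inv := fun x => rfl
          right_inv := fun x => rfl }
      rintro ⟨_, m, rfl⟩
      exact Subtype.ext (MulAction.mem_fixedBy.mp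
        (MulAction.fixedBy_subset_fixedBy_zpow V k m (Finset.mem_filter.mp x.2).2))
    rw [hT, hT', hodd c hc] at e
    unfold Nat.ModEq at e
    omega
  have hF'ge : 7 ≤ Nat.card F' := by
    have hsub : ((S (0, 1)).filter fun v => k • v = v) ∪ ((S (1, 0)).filter fun v => k • v = v) ∪
        ((S (1, 1)).filter fun v => k • v = v) ∪ {0} ⊆ Finset.univ.filter (fun v => v ∈ F') := by
      intro v hv
      simp only [Finset.mem_union, Finset.mem_filter, Finset.mem_singleton] at hv
      refine Finset.mem_filter.mpr ⟨Finset.mem_univ _, (hF' v).mpr ?_⟩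
      rcases hv with ((hv | hv) | hv) | hv
      · exact hv.2
      · exact hv.2
      · exact hv.2
      · rw [hv, smul_zero]
    have := Finset.card_le_card hsub
    rw [Finset.card_union_of_disjoint, Finset.card_union_of_disjoint, Finset.card_union_of_disjoint,
      ← Fintype.card_subtype, ← Nat.card_eq_fintype_card, Finset.card_singleton] at this
    · have b1 := hfix (0, 1) (by decide)
      have b2 := hfix (1, 0) (by decide)
      have b3 := hfix (1, 1) (by decide)
      exact le_trans (by omega) this
    · rw [Finset.disjoint_left]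
      intro v h1 h2
      simp only [S, Finset.mem_filter] at h1 h2
      exact absurd (h1.1.2.symm.trans h2.1.2) (by decide)
    · rw [Finset.disjoint_left]
      intro v h1 h2
      simp only [S, Finset.mem_union, Finset.mem_filter] at h1 h2
      rcases h1 with h1 | h1 <;> exact absurd (h1.1.2.symm.trans h2.1.2) (by decide)
    · rw [Finset.disjoint_left]
      intro v h1 h2
      simp only [S, Finset.mem_union, Finset.mem_filter, Finset.mem_singleton] at h1 h2
      subst h2
      rw [h.map_zero, map_zero] at h1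
      rcases h1 with (h1 | h1) | h1 <;> exact absurd h1.1.2 (by decide)
  rw [hi', hj'] at hm'
  rw [hi'] at hF'ge
  have : j' = 4 := Nat.pow_right_injective le_rfl (hj'.symm.trans hj)
  subst this
  interval_cases i' <;> revert hm' hF'ge <;> simp [Nat.ModEq]

/-- A group of symmetries of an anisotropic map into a four group is solvable. -/
theorem solvable (hW : Nat.card W ≤ 4) : Group.IsSolvable A := by
  have hprimes : ∀ p : ℕ, p.Prime → p ∣ Nat.card A → p = 2 ∨ p = 3 ∨ p = 5 := by
    intro p hp hd
    haveI := Fact.mk hp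
    obtain ⟨g, hg⟩ := exists_prime_orderOf_dvd_card' p hd
    obtain ⟨F, -, -, ⟨i, j, hi, hj, hij, hj4⟩, hm⟩ := fixed_data h hV hp hg
    rw [hi, hj] at hm
    have hdv := (Nat.modEq_iff_dvd' (Nat.pow_le_pow_right (by norm_num) hij.le)).mp hm.symm
    have hle : p ≤ 15 := by
      refine le_trans (Nat.le_of_dvd ?_ hdv) ?_
      · have := Nat.pow_lt_pow_right (a := 2) one_lt_two hij; omega
      · have := Nat.pow_le_pow_right (show 2 > 0 by norm_num) hj4
        have := Nat.one_le_two_pow (n := i)
        omega
    have hp7 : p ≠ 7 := fun e => not_seven h han hq hV (e ▸ hd)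
    interval_cases j <;> interval_cases i <;> interval_cases p <;>
      first | omega | exact absurd hp (by norm_num) | exact absurd hdv (by norm_num)
  by_cases h5 : 5 ∣ Nat.card A
  · refine solvable_of_primes (by norm_num : Nat.Prime 5) (by norm_num) fun p hp hd => ?_
    rcases hprimes p hp hd with e | e | e
    · exact Or.inl e
    · exact absurd (e ▸ hd) (not_five_three h han hq hV hW h5)
    · exact Or.inr e
  · refine solvable_of_primes Nat.prime_three (by norm_num) fun p hp hd => ?_
    rcases hprimes p hp hd with e | e | e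
    · exact Or.inl e
    · exact Or.inr e
    · exact absurd (e ▸ hd) h5

end Orth

end Cfsg.Agent.InvChar.TwoGroupThreeInvolutions
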