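import Cfsg.Agent.InvChar.TwoGroupThreeInvolutions

/-!
# Solvability of the automorphism group of a 2-group with three involutions
-/

set_option autoImplicit false
set_option linter.all false

namespace Cfsg.Agent.InvChar.TwoGroupThreeInvolutions

open Subgroup

/-- An automorphism of odd order trivial on a subgroup and on the cosets of it. -/
theorem fix_of_step {Y : Type*} [Group Y] [Finite Y] (hY : IsPGroup 2 Y) {N : Subgroup Y} {a : MulAut Y}
    (ha : Odd (orderOf a)) (hN : ∀ x ∈ N, a x = x) {g : Y} (hg : g⁻¹ * a g ∈ N) : a g = g := by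
  have hfix := hN _ hg
  have hpow : ∀ m : ℕ, (a ^ m) g = g * (g⁻¹ * a g) ^ m := by
    intro m
    induction m with
    | zero => simp
    | succ m ih =>
      rw [pow_succ', MulAut.mul_apply, ih, map_mul, map_pow, hfix, pow_succ', ← mul_assoc g,
        mul_inv_cancel_left]
  have h1 := hpow (orderOf a)
  rw [pow_orderOf_eq_one, MulAut.one_apply, left_eq_mul] at h1
  obtain ⟨k, hk⟩ := IsPGroup.iff_orderOf.mp hY (g⁻¹ * a g)
  have h2 : orderOf (g⁻¹ * a g) = 1 :=
    Nat.eq_one_of_dvd_coprimes ((Nat.coprime_two_right.mpr ha).pow_right k) (orderOf_dvd_of_pow_eq_one h1)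
      (hk ▸ dvd_rfl)
  rw [orderOf_eq_one_iff, inv_mul_eq_one] at h2
  exact h2.symm

/-- A homomorphism with solvable image whose kernel has no element of odd order. -/
theorem solvable_of_hom {A B : Type*} [Group A] [Finite A] [Group B] (φ : A →* B)
    (hr : Group.IsSolvable φ.range) (hk : ∀ a, φ a = 1 → Odd (orderOf a) → a = 1) : Group.IsSolvable A := by
  have hK : IsPGroup 2 φ.ker := by
    intro x
    obtain ⟨k, m, hm, he⟩ := Nat.exists_eq_pow_mul_and_not_dvd (orderOf_pos (x : A)).ne' 2 (by norm_num)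
    refine ⟨k, Subtype.ext (hk _ ?_ ?_)⟩
    · rw [SubmonoidClass.coe_pow, map_pow, x.2, one_pow]
    · rw [SubmonoidClass.coe_pow, orderOf_pow, he, Nat.gcd_mul_right_left,
        Nat.mul_div_cancel_left _ (by positivity), Nat.odd_iff]
      omega
  haveI := hK.isNilpotent
  haveI : Group.IsSolvable φ.range := hr
  exact Group.isSolvable_of_ker_le_range φ.ker.subtype φ.rangeRestrict
    (by rw [MonoidHom.ker_rangeRestrict, Subgroup.range_subtype])

/-- A group acting on at most three points has solvable image. -/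
theorem solvable_perm {S : Type*} [Finite S] (hS : Nat.card S ≤ 3) (H : Subgroup (Equiv.Perm S)) :
    Group.IsSolvable H := by
  classical
  haveI := Fintype.ofFinite S
  refine solvable_of_primes Nat.prime_three (by norm_num) fun p hp hd => ?_
  have h6 : Nat.card (Equiv.Perm S) ∣ Nat.factorial 3 := by
    rw [Nat.card_eq_fintype_card, Fintype.card_perm]
    exact Nat.factorial_dvd_factorial (by rwa [← Nat.card_eq_fintype_card])
  have hle : p ≤ 6 := Nat.le_of_dvd (by norm_num) ((hd.trans H.card_subgroup_dvd_card).trans h6)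
  have hdd := (hd.trans H.card_subgroup_dvd_card).trans h6
  interval_cases p <;> first | omega | (rw [show Nat.factorial 3 = 6 from rfl] at hdd; omega) | exact absurd hp (by norm_num)

/-- The action of automorphisms on a characteristic subgroup. -/
def restr {Y : Type*} [Group Y] (C : Subgroup Y) (hC : ∀ (b : MulAut Y) x, x ∈ C → b x ∈ C) :
    MulAut Y →* MulAut C where
  toFun b :=
    { toFun := fun x => ⟨b x, hC b x x.2⟩
      invFun := fun x => ⟨b⁻¹ x, hC _ x x.2⟩
      left_inv := fun x => Subtype.ext (b.symm_apply_apply _)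
      right_inv := fun x => Subtype.ext (b.apply_symm_apply _)
      map_mul' := fun x y => Subtype.ext (map_mul b _ _) }
  map_one' := rfl
  map_mul' _ _ := rfl

theorem restr_apply {Y : Type*} [Group Y] (C : Subgroup Y) (hC : ∀ (b : MulAut Y) x, x ∈ C → b x ∈ C)
    (b : MulAut Y) (x : C) : ((restr C hC b x : C) : Y) = b x := rfl

theorem restr_eq_one {Y : Type*} [Group Y] {C : Subgroup Y} {hC : ∀ (b : MulAut Y) x, x ∈ C → b x ∈ C}
    {b : MulAut Y} (h : restr C hC b = 1) : ∀ x ∈ C, b x = x := fun x hx =>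
  congrArg Subtype.val (DFunLike.congr_fun h (⟨x, hx⟩ : C))

/-- Abelian 2-groups with at most three involutions. -/
theorem solvable_abelian {Z : Type*} [Group Z] [Finite Z] (hab : ∀ a b : Z, a * b = b * a) (hZ : IsPGroup 2 Z)
    (hcard : Nat.card {x : Z // orderOf x = 2} ≤ 3) : Group.IsSolvable (MulAut Z) := by
  let φ : MulAut Z →* Equiv.Perm {x : Z // orderOf x = 2} :=
    { toFun := fun b => b.toEquiv.subtypeEquiv fun x => by
        show orderOf x = 2 ↔ orderOf (b x) = 2
        rw [MulEquiv.orderOf_eq]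
      map_one' := rfl
      map_mul' := fun _ _ => rfl }
  refine solvable_of_hom φ (solvable_perm hcard _) fun a ha hodd => MulEquiv.ext fun g => ?_
  have hinv : ∀ x : Z, orderOf x = 2 → a x = x := fun x hx =>
    congrArg Subtype.val (Equiv.ext_iff.mp ha ⟨x, hx⟩)
  show a g = g
  induction hn : orderOf g using Nat.strong_induction_on generalizing g with
  | _ n ih =>
    subst hn
    rcases eq_or_ne g 1 with rfl | hg
    · exact map_one a
    have hsq : a (g ^ 2) = g ^ 2 := by
      obtain ⟨k, hk⟩ := IsPGroup.iff_orderOf.mp hZ g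
      refine ih _ ?_ _ rfl
      cases k with
      | zero => exact absurd (orderOf_eq_one_iff.mp (by simpa using hk)) hg
      | succ k =>
        rw [orderOf_pow, hk, pow_succ, Nat.gcd_mul_left_left,
          Nat.mul_div_cancel _ (by norm_num : 0 < 2)]
        have := Nat.one_le_two_pow (n := k)
        omega
    have hd : (g⁻¹ * a g) ^ 2 = 1 := by
      rw [(show Commute g⁻¹ (a g) from hab _ _).mul_pow, ← map_pow, hsq, inv_pow, inv_mul_cancel]
    refine fix_of_step hZ hodd (N := Subgroup.zpowers (g⁻¹ * a g)) ?_ (Subgroup.mem_zpowers _)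
    rintro _ ⟨m, rfl⟩
    rw [map_zpow]
    congr 1
    rcases eq_or_ne (g⁻¹ * a g) 1 with e | e
    · rw [e, map_one]
    · exact hinv _ (orderOf_eq_prime hd e)

set_option maxHeartbeats 1000000 in
/-- Two-groups of class two with all square roots of one central and at most three involutions. -/
theorem solvable_small {Y : Type*} [Group Y] [Finite Y] (hY : IsPGroup 2 Y)
    (hsq : ∀ x : Y, x ^ 2 ∈ center Y) (hcom : ∀ x y : Y, x * y * x⁻¹ * y⁻¹ ∈ center Y)
    (hinv : ∀ x : Y, x ^ 2 = 1 → x ∈ center Y) (hcard : Nat.card {x : Y // orderOf x = 2} ≤ 3) :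
    Group.IsSolvable (MulAut Y) := by
  classical
  have hZinv : ∀ (b : MulAut Y) x, x ∈ center Y → b x ∈ center Y := fun b x hx =>
    characteristic_iff_map_le.mp (inferInstance : (center Y).Characteristic) b ⟨x, hx, rfl⟩
  have hZc : Nat.card {x : center Y // orderOf x = 2} ≤ 3 :=
    (Nat.card_le_card_of_injective (fun x => (⟨x.1.1, (Subgroup.orderOf_coe x.1).trans x.2⟩ : {x : Y // orderOf x = 2}))
      fun u v e => by
        simp only [Subtype.mk.injEq] at e
        exact Subtype.ext (Subtype.ext e)).trans hcard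
  have hZsol : Group.IsSolvable (MulAut (center Y)) := solvable_abelian (fun x y => Subtype.ext (mem_center_iff.mp y.2 x)) (hY.to_subgroup _) hZc
  let r := restr (center Y) hZinv
  suffices hK : Group.IsSolvable r.ker by
    haveI := hK
    haveI : Group.IsSolvable r.range := inferInstance
    exact Group.isSolvable_of_ker_le_range r.ker.subtype r.rangeRestrict
      (by rw [MonoidHom.ker_rangeRestrict, Subgroup.range_subtype])
  -- the action on the quotient by the centre
  have hQinv : ∀ b : MulAut Y, (center Y).map (b : Y →* Y) = center Y := fun b =>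
    characteristic_iff_map_eq.mp inferInstance b
  let ψ : r.ker →* MulAut (Y ⧸ center Y) :=
    { toFun := fun b => QuotientGroup.congr (center Y) (center Y) (b : MulAut Y) (hQinv _)
      map_one' := MulEquiv.ext fun v => by
        obtain ⟨x, rfl⟩ := QuotientGroup.mk'_surjective _ v
        rfl
      map_mul' := fun b c => MulEquiv.ext fun v => by
        obtain ⟨x, rfl⟩ := QuotientGroup.mk'_surjective _ v
        rfl }
  have hfix : ∀ b : r.ker, ∀ x ∈ center Y, (b : MulAut Y) x = x := fun b => restr_eq_one b.2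
  refine solvable_of_hom ψ ?_ fun b hb hodd => Subtype.ext (MulEquiv.ext fun g => ?_)
  swap
  · show (b : MulAut Y) g = g
    refine fix_of_step hY (by rwa [Subgroup.orderOf_coe]) (hfix b) ?_
    rw [← QuotientGroup.eq]
    exact (DFunLike.congr_fun hb (g : Y ⧸ center Y)).symm
  -- the quadratic map
  have hcomm : ∀ u v : Y ⧸ center Y, u * v = v * u := by
    intro u v
    obtain ⟨x, rfl⟩ := QuotientGroup.mk'_surjective _ u
    obtain ⟨y, rfl⟩ := QuotientGroup.mk'_surjective _ v
    rw [← map_mul, ← map_mul]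
    refine (QuotientGroup.eq.mpr ?_).symm
    have := hcom (x⁻¹) (y⁻¹)
    convert this using 1
    group
  letI : CommGroup (Y ⧸ center Y) := { (inferInstance : Group (Y ⧸ center Y)) with mul_comm := hcomm }
  have habZ : ∀ a b : center Y, a * b = b * a := fun a b => Subtype.ext (mem_center_iff.mp b.2 a)
  let sqZ : center Y →* center Y :=
    { toFun := fun z => z ^ 2
      map_one' := one_pow 2
      map_mul' := fun a b => (show Commute a b from habZ a b).mul_pow 2 }
  haveI hRn : sqZ.range.Normal := ⟨fun n hn g => by rw [habZ g n, mul_inv_cancel_right]; exact hn⟩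
  let W := center Y ⧸ sqZ.range
  letI : CommGroup W :=
    { (inferInstance : Group (center Y ⧸ sqZ.range)) with
      mul_comm := fun u v => by
        obtain ⟨a, rfl⟩ := QuotientGroup.mk'_surjective sqZ.range u
        obtain ⟨b, rfl⟩ := QuotientGroup.mk'_surjective sqZ.range v
        show QuotientGroup.mk' sqZ.range a * QuotientGroup.mk' sqZ.range b = QuotientGroup.mk' sqZ.range b * QuotientGroup.mk' sqZ.range a
        rw [← map_mul, ← map_mul, habZ] }
  have hW : Nat.card W ≤ 4 := by
    show Nat.card (center Y ⧸ sqZ.range) ≤ 4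
    rw [← Subgroup.index_eq_card]
    have h1 := sqZ.range.card_mul_index
    have h2 := sqZ.ker.card_mul_index
    rw [Subgroup.index_ker] at h2
    have h3 : sqZ.range.index = Nat.card sqZ.ker := by
      have hp : 0 < Nat.card sqZ.range := Nat.card_pos
      nlinarith
    rw [h3]
    have h4 : Nat.card sqZ.ker ≤ Nat.card (Option {x : center Y // orderOf x = 2}) := by
      refine Nat.card_le_card_of_injective (fun x => if h : (x : center Y) = 1 then none else
        some ⟨x.1, orderOf_eq_prime x.2 h⟩) fun u v e => ?_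
      dsimp only at e
      split_ifs at e with h1 h2 h3
      · exact Subtype.ext (h1.trans h2.symm)
      · simp only [Option.some.injEq, Subtype.mk.injEq] at e
        exact Subtype.ext e
    rw [Finite.card_option] at h4
    omega
  have hsqmul : ∀ (x : Y) (z : Y), z ∈ center Y → (x * z) ^ 2 = x ^ 2 * z ^ 2 := fun x z hz =>
    Commute.mul_pow (mem_center_iff.mp hz x) 2
  let sq : Y → W := fun x => QuotientGroup.mk ⟨x ^ 2, hsq x⟩
  have hsqwell : ∀ (x z : Y), z ∈ center Y → sq (x * z) = sq x := by
    intro x z hz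
    refine (QuotientGroup.eq.mpr ((MonoidHom.mem_range).mpr ⟨⟨z, hz⟩, Subtype.ext ?_⟩)).symm
    show z ^ 2 = (x ^ 2)⁻¹ * (x * z) ^ 2
    rw [hsqmul x z hz, inv_mul_cancel_left]
  let Q : Y ⧸ center Y → W := fun v => Quotient.liftOn' v sq fun a b hab => by
    rw [QuotientGroup.leftRel_apply] at hab
    conv_rhs => rw [show b = a * (a⁻¹ * b) by group]
    exact (hsqwell a _ hab).symm
  have hQ : ∀ x : Y, Q (x : Y ⧸ center Y) = sq x := fun x => rfl
  have hV2 : ∀ v : Y ⧸ center Y, v ^ 2 = 1 := by
    intro v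
    obtain ⟨x, rfl⟩ := QuotientGroup.mk'_surjective _ v
    rw [← map_pow]
    exact (QuotientGroup.eq_one_iff _).mpr (hsq x)
  have hW2 : ∀ w : W, w ^ 2 = 1 := by
    intro w
    obtain ⟨z, rfl⟩ := QuotientGroup.mk'_surjective _ w
    rw [← map_pow]
    exact (QuotientGroup.eq_one_iff _).mpr ⟨z, rfl⟩
  -- the commutator
  let com : Y → Y → center Y := fun x y => ⟨y⁻¹ * x⁻¹ * y * x, by
    convert hcom y⁻¹ x⁻¹ using 1; group⟩
  have hmul : ∀ x y : Y, sq (x * y) = sq x * sq y * QuotientGroup.mk (com x y) := by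
    intro x y
    show QuotientGroup.mk _ = QuotientGroup.mk _
    congr 1
    refine Subtype.ext ?_
    show (x * y) ^ 2 = x ^ 2 * y ^ 2 * (y⁻¹ * x⁻¹ * y * x)
    have hc := mem_center_iff.mp (com x y).2 (x * (y * y))
    calc (x * y) ^ 2 = x * (y * x) * y := by rw [pow_two]; group
      _ = x * (x * y * (com x y : Y)) * y := by
          congr 2
          show y * x = x * y * (y⁻¹ * x⁻¹ * y * x)
          group
      _ = x ^ 2 * y * ((com x y : Y) * y) := by rw [pow_two]; group
      _ = x ^ 2 * y * (y * (com x y : Y)) := by rw [mem_center_iff.mp (com x y).2 y]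
      _ = x ^ 2 * y ^ 2 * (y⁻¹ * x⁻¹ * y * x) := by
          show x ^ 2 * y * (y * (y⁻¹ * x⁻¹ * y * x)) = _
          rw [pow_two y]; group
  have hcomadd : ∀ x y z : Y, com x (y * z) = com x y * com x z := by
    intro x y z
    refine Subtype.ext ?_
    show (y * z)⁻¹ * x⁻¹ * (y * z) * x = y⁻¹ * x⁻¹ * y * x * (z⁻¹ * x⁻¹ * z * x)
    have hc := mem_center_iff.mp (com x y).2 (z⁻¹)
    calc (y * z)⁻¹ * x⁻¹ * (y * z) * x = z⁻¹ * (com x y : Y) * (x⁻¹ * z * x) := by
          show _ = z⁻¹ * (y⁻¹ * x⁻¹ * y * x) * (x⁻¹ * z * x); group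
      _ = (com x y : Y) * z⁻¹ * (x⁻¹ * z * x) := by rw [hc]
      _ = y⁻¹ * x⁻¹ * y * x * (z⁻¹ * x⁻¹ * z * x) := by
          show y⁻¹ * x⁻¹ * y * x * z⁻¹ * (x⁻¹ * z * x) = _; group
  let q' : Additive (Y ⧸ center Y) → Additive W := fun v => Additive.ofMul (Q v.toMul)
  let β' : Additive (Y ⧸ center Y) → Additive (Y ⧸ center Y) → Additive W := fun u v =>
    Additive.ofMul (Q (u.toMul * v.toMul) / (Q u.toMul * Q v.toMul))
  haveI : Module (ZMod 2) (Additive (Y ⧸ center Y)) := AddCommGroup.zmodModule fun v => by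
    exact congrArg Additive.ofMul (hV2 v.toMul)
  haveI : Module (ZMod 2) (Additive W) := AddCommGroup.zmodModule fun v => by
    exact congrArg Additive.ofMul (hW2 v.toMul)
  have hbeta : ∀ x y : Y, β' (Additive.ofMul (x : Y ⧸ center Y)) (Additive.ofMul (y : Y ⧸ center Y)) =
      Additive.ofMul (QuotientGroup.mk (com x y) : W) := by
    intro x y
    show Additive.ofMul (sq (x * y) / (sq x * sq y)) = _
    rw [hmul, mul_div_cancel_left]
  have hquad : IsQuad q' β' :=
    { map_zero := by
        show Additive.ofMul (sq 1) = 0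
        have : (⟨(1 : Y) ^ 2, hsq 1⟩ : center Y) = 1 := Subtype.ext (one_pow 2)
        show Additive.ofMul (QuotientGroup.mk (⟨(1 : Y) ^ 2, hsq 1⟩ : center Y) : W) = 0
        rw [this]; rfl
      map_add := fun u v => by
        show Additive.ofMul (Q (u.toMul * v.toMul)) =
          Additive.ofMul (Q u.toMul * Q v.toMul * (Q (u.toMul * v.toMul) / (Q u.toMul * Q v.toMul)))
        rw [mul_div_cancel]
      add_right := fun u v w => by
        obtain ⟨x, hx⟩ := QuotientGroup.mk'_surjective _ u.toMul
        obtain ⟨y, hy⟩ := QuotientGroup.mk'_surjective _ v.toMul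
        obtain ⟨z, hz⟩ := QuotientGroup.mk'_surjective _ w.toMul
        obtain rfl : Additive.ofMul (x : Y ⧸ center Y) = u := congrArg Additive.ofMul hx
        obtain rfl : Additive.ofMul (y : Y ⧸ center Y) = v := congrArg Additive.ofMul hy
        obtain rfl : Additive.ofMul (z : Y ⧸ center Y) = w := congrArg Additive.ofMul hz
        rw [hbeta, hbeta, show Additive.ofMul (y : Y ⧸ center Y) + Additive.ofMul (z : Y ⧸ center Y) =
          Additive.ofMul ((y * z : Y) : Y ⧸ center Y) from rfl, hbeta, hcomadd]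
        rfl }
  have han : ∀ v, q' v = 0 → v = 0 := by
    intro v hv
    obtain ⟨x, hx⟩ := QuotientGroup.mk'_surjective _ v.toMul
    obtain rfl : Additive.ofMul (x : Y ⧸ center Y) = v := congrArg Additive.ofMul hx
    obtain ⟨z, hz⟩ := (QuotientGroup.eq_one_iff (⟨x ^ 2, hsq x⟩ : center Y)).mp (congrArg Additive.toMul hv)
    have hz' : (z : Y) ^ 2 = x ^ 2 := congrArg Subtype.val hz
    have h1 : (x * (z : Y)⁻¹) ^ 2 = 1 := by
      rw [hsqmul x _ (inv_mem z.2), inv_pow, hz', mul_inv_cancel]
    have : x ∈ center Y := by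
      have := mul_mem (hinv _ h1) z.2
      rwa [inv_mul_cancel_right] at this
    exact congrArg Additive.ofMul ((QuotientGroup.eq_one_iff x).mpr this)
  letI : DistribMulAction ψ.range (Additive (Y ⧸ center Y)) :=
    { smul := fun a v => Additive.ofMul ((a : MulAut (Y ⧸ center Y)) v.toMul)
      one_smul := fun v => rfl
      mul_smul := fun a b v => rfl
      smul_zero := fun a => congrArg Additive.ofMul (map_one _)
      smul_add := fun a u v => congrArg Additive.ofMul (map_mul _ _ _) }
  haveI : FaithfulSMul ψ.range (Additive (Y ⧸ center Y)) := ⟨fun {a b} hab => Subtype.ext (MulEquiv.ext fun v =>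
    congrArg Additive.toMul (hab (Additive.ofMul v)))⟩
  have hinvq : ∀ (a : ψ.range) v, q' (a • v) = q' v := by
    rintro ⟨_, b, rfl⟩ v
    obtain ⟨x, hx⟩ := QuotientGroup.mk'_surjective _ v.toMul
    obtain rfl : Additive.ofMul (x : Y ⧸ center Y) = v := congrArg Additive.ofMul hx
    show Additive.ofMul (sq ((b : MulAut Y) x)) = Additive.ofMul (sq x)
    refine congrArg Additive.ofMul (congrArg QuotientGroup.mk (Subtype.ext ?_))
    show ((b : MulAut Y) x) ^ 2 = x ^ 2
    rw [← map_pow, hfix b _ (hsq x)]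
  have hWa : Nat.card (Additive W) ≤ 4 := by rwa [Nat.card_congr Additive.toMul]
  haveI : Finite (Additive W) := Finite.of_equiv W Additive.ofMul
  haveI : Finite (Additive (Y ⧸ center Y)) := Finite.of_equiv _ Additive.ofMul
  exact solvable hquad han hinvq (card_le_sixteen hquad han hWa) hWa

/-- Squares lie in the Frattini subgroup of a 2-group. -/
theorem sq_mem_frattini {C : Type*} [Group C] [Finite C] (hC : IsPGroup 2 C) (x : C) : x ^ 2 ∈ frattini C := by
  haveI := hC.isNilpotent
  rw [frattini, Order.radical]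
  simp only [Subgroup.mem_iInf]
  intro M hM
  haveI : M.Normal := Subgroup.NormalizerCondition.normal_of_coatom M normalizerCondition_of_isNilpotent hM
  have hmax : ∀ K : Subgroup (C ⧸ M), K ≠ ⊥ → K = ⊤ := by
    intro K hK
    have hle : M ≤ K.comap (QuotientGroup.mk' M) := fun y hy => by
      rw [Subgroup.mem_comap]
      show (y : C ⧸ M) ∈ K
      rw [(QuotientGroup.eq_one_iff y).mpr hy]
      exact one_mem K
    rcases hle.eq_or_lt with e | e
    · refine absurd ?_ hK
      rw [← Subgroup.map_comap_eq_self_of_surjective (QuotientGroup.mk'_surjective M) K, ← e]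
      exact QuotientGroup.map_mk'_self M
    · rw [← Subgroup.map_comap_eq_self_of_surjective (QuotientGroup.mk'_surjective M) K, hM.2 _ e,
        Subgroup.map_top_of_surjective _ (QuotientGroup.mk'_surjective M)]
  by_contra hx
  have hne : Subgroup.zpowers ((x ^ 2 : C) : C ⧸ M) ≠ ⊥ := by
    rw [Ne, Subgroup.zpowers_eq_bot, QuotientGroup.eq_one_iff]; exact hx
  have htop := hmax _ hne
  obtain ⟨m, hm⟩ : (x : C ⧸ M) ∈ Subgroup.zpowers ((x ^ 2 : C) : C ⧸ M) := htop ▸ Subgroup.mem_top _
  obtain ⟨k, hk⟩ := IsPGroup.iff_orderOf.mp (hC.to_quotient M) (x : C ⧸ M)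
  have hd : ((orderOf (x : C ⧸ M) : ℤ)) ∣ 2 * m - 1 := by
    rw [orderOf_dvd_iff_zpow_eq_one, zpow_sub, zpow_mul, zpow_one]
    show ((x : C ⧸ M) ^ (2 : ℤ)) ^ m * _ = 1
    rw [zpow_two, ← pow_two, ← QuotientGroup.mk_pow]
    simp only at hm
    rw [hm, mul_inv_cancel]
  cases k with
  | zero =>
    rw [pow_zero] at hk
    exact hx (pow_mem ((QuotientGroup.eq_one_iff x).mp (orderOf_eq_one_iff.mp hk)) 2)
  | succ k =>
    rw [hk, pow_succ', Nat.cast_mul] at hd
    have h2 := (dvd_mul_right (2 : ℤ) (2 ^ k)).trans (by simpa using hd)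
    omega

/-- The automorphism group of a 2-group with three involutions is solvable. -/
theorem main {X : Type*} [Group X] [Finite X] (hX : IsPGroup 2 X)
    (h3 : Nat.card {x : X // orderOf x = 2} ≤ 3) : Group.IsSolvable (MulAut X) := by
  obtain ⟨C, hC, h1, h2, hc3⟩ := Techniques.Critical.exists_critical hX
  have hsqC : ∀ x ∈ C, x ^ 2 ∈ centralizer (C : Set X) := fun x hx =>
    h1 ⟨⟨x, hx⟩ ^ 2, sq_mem_frattini (hX.to_subgroup C) _, rfl⟩
  have hcomC : ∀ x ∈ C, ∀ y : X, x * y * x⁻¹ * y⁻¹ ∈ centralizer (C : Set X) := fun x hx y =>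
    (h2 (commutator_mem_commutator hx (mem_top y))).2
  let S : Set X := {x | orderOf x = 2}
  let C₀ : Subgroup X := C ⊓ centralizer S
  have hCinv : ∀ (b : MulAut X) x, x ∈ C → b x ∈ C := fun b x hx =>
    characteristic_iff_map_le.mp hC b ⟨x, hx, rfl⟩
  have hC₀inv : ∀ (b : MulAut X) x, x ∈ C₀ → b x ∈ C₀ := by
    rintro b x ⟨hx1, hx2⟩
    refine ⟨hCinv b x hx1, fun s hs => ?_⟩
    have hs' : b.symm s ∈ S := (MulEquiv.orderOf_eq b.symm s).trans hs
    have := congrArg b (hx2 _ hs')
    rwa [map_mul, map_mul, MulEquiv.apply_symm_apply] at this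
  have hcen : ∀ x : C₀, (x : X) ∈ centralizer (C : Set X) → x ∈ center C₀ := fun x hx =>
    mem_center_iff.mpr fun y => Subtype.ext (hx _ y.2.1)
  have hsol : Group.IsSolvable (MulAut C₀) := by
    refine solvable_small (hX.to_subgroup _) (fun x => hcen _ (hsqC _ x.2.1))
      (fun x y => hcen _ (hcomC _ x.2.1 _)) (fun x hx => ?_) ?_
    · rcases eq_or_ne x 1 with rfl | hne
      · exact one_mem _
      · have hs : (x : X) ∈ S := (Subgroup.orderOf_coe x).trans (orderOf_eq_prime hx hne)
        exact mem_center_iff.mpr fun y => Subtype.ext (y.2.2 _ hs).symm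
    · exact (Nat.card_le_card_of_injective
        (fun x : {x : C₀ // orderOf x = 2} => (⟨x.1.1, (Subgroup.orderOf_coe x.1).trans x.2⟩ : {x : X // orderOf x = 2}))
        fun u v e => by simp only [Subtype.mk.injEq] at e; exact Subtype.ext (Subtype.ext e)).trans h3
  haveI := hsol
  refine solvable_of_hom (restr C₀ hC₀inv) inferInstance fun a ha hodd => ?_
  have hfix₀ := restr_eq_one ha
  refine S0121.result hX C hC h1 h2 hc3 a (Nat.coprime_two_right.mpr hodd) fun x hx => ?_
  by_cases hxS : x ∈ centralizer S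
  · exact hfix₀ x ⟨hx, hxS⟩
  refine fix_of_step hX hodd hfix₀ (mem_inf.mpr ⟨mul_mem (inv_mem hx) (hCinv a x hx), ?_⟩)
  have hax : a x ∉ centralizer S := fun h => hxS (by
    have hm : a x ∈ C₀ := ⟨hCinv a x hx, h⟩
    have := (hC₀inv a.symm _ hm).2
    rwa [MulEquiv.symm_apply_apply] at this)
  -- the conjugation action on the involutions
  have hmem : ∀ g : X, g ∈ centralizer S ↔ ∀ s ∈ S, g * s * g⁻¹ = s := fun g =>
    ⟨fun h s hs => by rw [mul_inv_eq_iff_eq_mul]; exact (h s hs).symm,
      fun h s hs => (mul_inv_eq_iff_eq_mul.mp (h s hs)).symm⟩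
  let π : X →* Equiv.Perm {x : X // orderOf x = 2} :=
    { toFun := fun g => (MulAut.conj g).toEquiv.subtypeEquiv fun s => by
        show orderOf s = 2 ↔ orderOf (MulAut.conj g s) = 2
        rw [MulEquiv.orderOf_eq]
      map_one' := Equiv.ext fun s => Subtype.ext (by simp)
      map_mul' := fun g g' => Equiv.ext fun s => Subtype.ext (by
        show MulAut.conj (g * g') (s : X) = MulAut.conj g (MulAut.conj g' (s : X))
        rw [map_mul]; rfl) }
  have hker : ∀ g, π g = 1 ↔ g ∈ centralizer S := fun g => by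
    rw [hmem]
    exact ⟨fun h s hs => congrArg Subtype.val (Equiv.ext_iff.mp h ⟨s, hs⟩),
      fun h => Equiv.ext fun s => Subtype.ext (h s.1 s.2)⟩
  classical
  haveI := Fintype.ofFinite {x : X // orderOf x = 2}
  have h6 : Nat.card (Equiv.Perm {x : X // orderOf x = 2}) ∣ Nat.factorial 3 := by
    rw [Nat.card_eq_fintype_card, Fintype.card_perm]
    exact Nat.factorial_dvd_factorial (by rwa [← Nat.card_eq_fintype_card])
  obtain ⟨k, hk⟩ := IsPGroup.iff_card.mp (hX.of_surjective π.rangeRestrict π.rangeRestrict_surjective)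
  have h2k : 2 ^ k ∣ Nat.factorial 3 := hk ▸ (Subgroup.card_subgroup_dvd_card π.range).trans h6
  have hk1 : k ≤ 1 := by
    by_contra hk2
    have h4 := (Nat.pow_dvd_pow 2 (show 2 ≤ k by omega)).trans h2k
    norm_num [Nat.factorial] at h4
  have hR : ∀ u v : π.range, u ≠ 1 → v ≠ 1 → u = v := by
    intro u v hu hv
    by_contra huv
    have h3le : 3 ≤ Nat.card π.range := by
      rw [Nat.card_eq_fintype_card]
      calc 3 = ({1, u, v} : Finset π.range).card := by
            rw [Finset.card_insert_of_notMem (by simp [Ne.symm hu, Ne.symm hv]), Finset.card_pair huv]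
        _ ≤ _ := Finset.card_le_univ _
    have : 2 ^ k ≤ 2 ^ 1 := Nat.pow_le_pow_right (by norm_num) hk1
    omega
  have he := hR (π.rangeRestrict x) (π.rangeRestrict (a x))
    (fun e => hxS ((hker x).mp (congrArg Subtype.val e)))
    (fun e => hax ((hker _).mp (congrArg Subtype.val e)))
  rw [← hker, map_mul, map_inv, show π x = π (a x) from congrArg Subtype.val he, inv_mul_cancel]

end Cfsg.Agent.InvChar.TwoGroupThreeInvolutions
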