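import Mathlib
import Cfsg.Prelude.Def_TwoFusion
import Cfsg.Agent.Lib.ZStar.Main
import Cfsg.Agent.Lib.Involutions.ThompsonTransfer
import Cfsg.Agent.Lib.SmallSimple.Basic
import Cfsg.Agent.Lib.AutPOmega.Groups
import Cfsg.Agent.InvChar.DihedralEightCentralizer
import Cfsg.Agent.InvChar.AltSixAut
import Cfsg.Agent.S0497
import Cfsg.Agent.S3277
set_option linter.all false

/-!
Groups with a 2-central involution centralizer `2 × S₄` and self-centralizing derived Sylow subgroups.
-/

set_option autoImplicit false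

namespace Cfsg.Agent.InvChar.TwoTimesSymFour

open Equiv

abbrev M4 : Type := Multiplicative (ZMod 2) × Perm (Fin 4)

def ι : Multiplicative (ZMod 2) := Multiplicative.ofAdd 1
def U : Perm (Fin 4) := swap 0 1
def U' : Perm (Fin 4) := swap 2 3
def W : Perm (Fin 4) := swap 0 1 * swap 2 3
def V : Perm (Fin 4) := swap 0 2 * swap 1 3
def R : Perm (Fin 4) := swap 0 1 * swap 1 2

theorem eps : ∀ ε : Multiplicative (ZMod 2), ε = 1 ∨ ε = ι := by decide
theorem s4_center : ∀ σ : Perm (Fin 4), (∀ π, σ * π = π * σ) → σ = 1 := by decide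
theorem s4_invol : ∀ σ : Perm (Fin 4), σ * σ = 1 → σ = 1 ∨ (∃ π, π * σ * π⁻¹ = U) ∨ ∃ π, π * σ * π⁻¹ = W := by decide +kernel
theorem s4_commU : ∀ σ : Perm (Fin 4), σ * U = U * σ → σ = 1 ∨ σ = U ∨ σ = U' ∨ σ = W := by decide
theorem s4_U'_conj : ∃ π : Perm (Fin 4), π * U' * π⁻¹ = U := by decide
theorem s4_commW_comm : ∀ σ τ : Perm (Fin 4), σ * W = W * σ → τ * W = W * τ →
    σ * τ * σ⁻¹ * τ⁻¹ = 1 ∨ σ * τ * σ⁻¹ * τ⁻¹ = W := by decide +kernel
theorem s4_commW_card : Fintype.card {σ : Perm (Fin 4) // σ * W = W * σ} = 8 := by decide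
theorem m4_commW_card : Fintype.card {p : M4 // p.2 * W = W * p.2} = 16 := by decide +kernel
theorem s4_square : ∀ σ : Perm (Fin 4), ∃ ρ, σ = ρ * ρ ∨ σ = U * (ρ * ρ) := by decide
theorem s4_transp : (Finset.univ.filter fun σ : Perm (Fin 4) => σ = 1 ∨ ∃ π, π * σ * π⁻¹ = U).card = 7 := by decide +kernel

variable {G : Type*} [Group G] [Finite G] {t : G}

structure Hyp (t : G) where
  e : ↥(Subgroup.centralizer ({t} : Set G)) ≃* M4
  ht : orderOf t = 2
  T : Sylow 2 G
  htc : ∀ s ∈ (T : Subgroup G), s * t = t * s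
  h2 : ∀ S : Sylow 2 G,
    Subgroup.centralizer ((⁅(S : Subgroup G), (S : Subgroup G)⁆ : Subgroup G) : Set G) = (S : Subgroup G)

variable (h : Hyp t)

/-- An element of the centralizer. -/
def el (p : M4) : G := (h.e.symm p : G)

theorem el_mul (p q : M4) : el h p * el h q = el h (p * q) := by simp [el]
theorem el_one : el h 1 = 1 := by simp [el]
theorem el_inv (p : M4) : (el h p)⁻¹ = el h p⁻¹ := by simp [el]
theorem el_inj {p q : M4} (he : el h p = el h q) : p = q := h.e.symm.injective (Subtype.ext he)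
theorem el_mem (p : M4) : el h p ∈ Subgroup.centralizer ({t} : Set G) := (h.e.symm p).2
theorem exists_el {c : G} (hc : c ∈ Subgroup.centralizer ({t} : Set G)) : ∃ p, el h p = c :=
  ⟨h.e ⟨c, hc⟩, by simp [el]⟩
theorem el_conj (p q : M4) : el h p * el h q * (el h p)⁻¹ = el h (p * q * p⁻¹) := by
  rw [el_inv, el_mul, el_mul]

include h in
theorem t_ne_one : t ≠ 1 := fun e => by
  have := h.ht
  rw [e, orderOf_one] at this
  omega

theorem el_iota : el h (ι, 1) = t := by
  have htC : t ∈ Subgroup.centralizer ({t} : Set G) := Subgroup.mem_centralizer_singleton_iff.2 rfl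
  obtain ⟨⟨ε, σ⟩, hp⟩ := exists_el h htC
  have hσ : σ = 1 := s4_center σ fun π => by
    have e1 : el h (ε, σ) * el h (1, π) = el h (1, π) * el h (ε, σ) := by
      rw [hp]
      exact (Subgroup.mem_centralizer_singleton_iff.1 (el_mem h (1, π))).symm
    rw [el_mul, el_mul] at e1
    exact congrArg Prod.snd (el_inj h e1)
  subst hσ
  rcases eps ε with rfl | rfl
  · exact absurd (hp.symm.trans (el_one h)) (t_ne_one h)
  · exact hp

theorem el_eq_t {p : M4} (hp : p = (ι, 1)) : el h p = t := (congrArg (el h) hp).trans (el_iota h)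

theorem el_ne_t {p : M4} (hp : p ≠ (ι, 1)) : el h p ≠ t := fun e =>
  hp (el_inj h (e.trans (el_iota h).symm))

theorem t_mul_el (ε : Multiplicative (ZMod 2)) (σ : Perm (Fin 4)) : t * el h (ε, σ) = el h (ι * ε, σ) := by
  refine (congrArg (· * el h (ε, σ)) (el_iota h).symm).trans ?_
  show el h (ι, 1) * el h (ε, σ) = _
  rw [el_mul, Prod.mk_mul_mk, one_mul]

theorem order_el {p : M4} (hp : p * p = 1) (hp1 : p ≠ 1) : orderOf (el h p) = 2 := by
  haveI : Fact (Nat.Prime 2) := ⟨Nat.prime_two⟩
  refine orderOf_eq_prime (by rw [pow_two, el_mul, hp, el_one]) fun e => hp1 ?_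
  exact el_inj h (e.trans (el_one h).symm)

/-- The involution `z`. -/
def z : G := el h (1, W)

theorem z_conj {σ : Perm (Fin 4)} {ε : Multiplicative (ZMod 2)} {π : Perm (Fin 4)} (hπ : π * σ * π⁻¹ = W) :
    IsConj (el h (ε, σ)) (el h (ε, W)) :=
  isConj_iff.2 ⟨el h (1, π), by rw [el_conj]; simp [hπ]⟩

theorem conj_of_snd {σ τ π : Perm (Fin 4)} (ε : Multiplicative (ZMod 2)) (hπ : π * σ * π⁻¹ = τ) :
    IsConj (el h (ε, σ)) (el h (ε, τ)) :=
  isConj_iff.2 ⟨el h (1, π), by rw [el_conj]; simp [hπ]⟩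

include h in
theorem card_C : Nat.card ↥(Subgroup.centralizer ({t} : Set G)) = 48 := by
  rw [Nat.card_congr h.e.toEquiv, Nat.card_prod, Nat.card_perm, Nat.card_fin, Nat.card_eq_fintype_card]
  rfl

theorem exists_sylow_z : ∃ P : Sylow 2 G, (P : Subgroup G) =
    Subgroup.centralizer ({t} : Set G) ⊓ Subgroup.centralizer ({z h} : Set G) ∧ Nat.card ↥(P : Subgroup G) = 16 := by
  classical
  haveI : Fact (Nat.Prime 2) := ⟨Nat.prime_two⟩
  set H := Subgroup.centralizer ({t} : Set G) ⊓ Subgroup.centralizer ({z h} : Set G) with hH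
  have hiff : ∀ p : M4, el h p ∈ H ↔ p.2 * W = W * p.2 := fun p => by
    rw [hH, Subgroup.mem_inf, Subgroup.mem_centralizer_singleton_iff (g := z h), z, el_mul, el_mul]
    constructor
    · rintro ⟨-, e⟩; exact congrArg Prod.snd (el_inj h e)
    · intro e
      refine ⟨el_mem h p, congrArg (el h) (Prod.ext ?_ e)⟩
      show p.1 * 1 = 1 * p.1
      rw [one_mul, mul_one]
  have hH16 : Nat.card ↥H = 16 := by
    let f : {p : M4 // p.2 * W = W * p.2} → ↥H := fun p => ⟨el h p.1, (hiff p.1).2 p.2⟩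
    have hb : Function.Bijective f := ⟨fun p q e => Subtype.ext (el_inj h (show el h p.1 = el h q.1 from congrArg (fun c : ↥H => (c : G)) e)), fun c => by
      obtain ⟨p, hp⟩ := exists_el h c.2.1
      exact ⟨⟨p, (hiff p).1 (hp ▸ c.2)⟩, Subtype.ext hp⟩⟩
    rw [← Nat.card_eq_of_bijective f hb, Nat.card_eq_fintype_card, m4_commW_card]
  obtain ⟨P, hP⟩ := (IsPGroup.of_card (n := 4) (by rw [hH16]; norm_num) : IsPGroup 2 ↥H).exists_le_sylow
  have hPT : Nat.card ↥(P : Subgroup G) = Nat.card ↥(h.T : Subgroup G) := by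
    rw [P.card_eq_multiplicity, h.T.card_eq_multiplicity]
  have hT48 : Nat.card ↥(h.T : Subgroup G) ∣ 48 := card_C h ▸ Subgroup.card_dvd_of_le
    fun s hs => Subgroup.mem_centralizer_singleton_iff.2 (h.htc s hs)
  obtain ⟨n, hn⟩ := IsPGroup.iff_card.1 P.isPGroup'
  have h16 : 16 ∣ Nat.card ↥(P : Subgroup G) := hH16 ▸ Subgroup.card_dvd_of_le hP
  have hle : n ≤ 4 := by
    rw [← hPT, hn] at hT48
    by_contra hc
    have := (pow_dvd_pow 2 (show 5 ≤ n by omega)).trans hT48
    norm_num at this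
  have hP16 : Nat.card ↥(P : Subgroup G) = 16 := by
    refine le_antisymm ?_ (Nat.le_of_dvd Nat.card_pos h16)
    rw [hn]
    exact (Nat.pow_le_pow_right (by norm_num) hle)
  exact ⟨P, (Subgroup.eq_of_le_of_card_ge hP (by rw [hP16, hH16])).symm, hP16⟩

theorem centralizer_z {P : Sylow 2 G}
    (hP : (P : Subgroup G) = Subgroup.centralizer ({t} : Set G) ⊓ Subgroup.centralizer ({z h} : Set G)) :
    ⁅(P : Subgroup G), (P : Subgroup G)⁆ = Subgroup.zpowers (z h) ∧
      Subgroup.centralizer ({z h} : Set G) = (P : Subgroup G) := by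
  have hmem : ∀ p : M4, el h p ∈ (P : Subgroup G) ↔ p.2 * W = W * p.2 := fun p => by
    rw [hP, Subgroup.mem_inf, Subgroup.mem_centralizer_singleton_iff (g := z h), z, el_mul, el_mul]
    constructor
    · rintro ⟨-, e⟩; exact congrArg Prod.snd (el_inj h e)
    · intro e
      refine ⟨el_mem h p, congrArg (el h) (Prod.ext ?_ e)⟩
      show p.1 * 1 = 1 * p.1
      rw [one_mul, mul_one]
  have hle : ⁅(P : Subgroup G), (P : Subgroup G)⁆ ≤ Subgroup.zpowers (z h) := by
    rw [Subgroup.commutator_le]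
    intro x hx y hy
    obtain ⟨p, rfl⟩ := exists_el h (show x ∈ Subgroup.centralizer ({t} : Set G) from (hP.le hx).1)
    obtain ⟨q, rfl⟩ := exists_el h (show y ∈ Subgroup.centralizer ({t} : Set G) from (hP.le hy).1)
    rw [commutatorElement_def, el_inv, el_inv, el_mul, el_mul, el_mul]
    have e1 : (p * q * p⁻¹ * q⁻¹).1 = 1 := by
      show p.1 * q.1 * p.1⁻¹ * q.1⁻¹ = 1
      rw [mul_comm p.1 q.1]; group
    rcases s4_commW_comm p.2 q.2 ((hmem p).1 hx) ((hmem q).1 hy) with e | e
    · rw [show p * q * p⁻¹ * q⁻¹ = 1 from Prod.ext e1 e, el_one]; exact one_mem _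
    · rw [show p * q * p⁻¹ * q⁻¹ = (1, W) from Prod.ext e1 e]; exact Subgroup.mem_zpowers _
  refine ⟨le_antisymm hle (Subgroup.zpowers_le.2 ?_), le_antisymm ?_ (hP.le.trans inf_le_right)⟩
  · have := Subgroup.commutator_mem_commutator (H₁ := (P : Subgroup G)) (H₂ := (P : Subgroup G))
      ((hmem (1, U)).2 (by decide)) ((hmem (1, V)).2 (by decide))
    rw [commutatorElement_def, el_inv, el_inv, el_mul, el_mul, el_mul] at this
    rwa [show ((1, U) : M4) * (1, V) * (1, U)⁻¹ * (1, V)⁻¹ = (1, W) by decide] at this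
  · rw [← h.h2 P]
    intro g hg
    refine Subgroup.mem_centralizer_iff.2 fun x hx => ?_
    obtain ⟨i, rfl⟩ := Subgroup.mem_zpowers_iff.1 (hle hx)
    exact (Commute.zpow_left (show Commute (z h) g from (Subgroup.mem_centralizer_singleton_iff.1 hg).symm) i).eq

theorem z_order : orderOf (z h) = 2 := order_el h (by decide) (by decide)

/-- Conjugate elements among `t`, `z`, `tz` coincide. -/
theorem burnside {x y : M4} (hx : x.2 = 1 ∨ x.2 = W) (hy : y.2 = 1 ∨ y.2 = W) (hc : IsConj (el h x) (el h y)) :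
    el h x = el h y := by
  classical
  haveI : Fact (Nat.Prime 2) := ⟨Nat.prime_two⟩
  obtain ⟨P, hP, -⟩ := exists_sylow_z h
  obtain ⟨hcomm, hCz⟩ := centralizer_z h hP
  have hcent : ∀ x : M4, x.2 = 1 ∨ x.2 = W → el h x ∈ Subgroup.centralizer ((P : Subgroup G) : Set G) := by
    intro x hx
    refine Subgroup.mem_centralizer_iff.2 fun s hs => ?_
    obtain ⟨p, rfl⟩ := exists_el h (show s ∈ Subgroup.centralizer ({t} : Set G) from (hP.le hs).1)
    have := Subgroup.mem_centralizer_singleton_iff.1 (hP.le hs).2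
    rw [z, el_mul, el_mul] at this
    rw [el_mul, el_mul]
    refine congrArg (el h) (Prod.ext (mul_comm _ _) ?_)
    show p.2 * x.2 = x.2 * p.2
    rcases hx with e | e <;> rw [e]
    · rw [one_mul, mul_one]
    · exact congrArg Prod.snd (el_inj h this)
  obtain ⟨g, hg⟩ := isConj_iff.1 hc
  obtain ⟨n, hn, hne⟩ := Sylow.conj_eq_normalizer_conj_of_mem_centralizer P (el h x) g⁻¹ (hcent x hx)
    (by rw [inv_inv, hg]; exact hcent y hy)
  rw [inv_inv, hg] at hne
  have hnP : n⁻¹ ∈ (P : Subgroup G) := by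
    rw [← hCz, Subgroup.mem_centralizer_singleton_iff]
    have hmap : (P : Subgroup G).map (MulAut.conj n⁻¹).toMonoidHom = (P : Subgroup G) :=
      Subgroup.mem_normalizer_iff_map_conj_eq.1 (inv_mem hn)
    have hz : n⁻¹ * z h * n⁻¹⁻¹ ∈ Subgroup.zpowers (z h) := by
      rw [← hcomm]
      have : (MulAut.conj n⁻¹).toMonoidHom (z h) ∈ ⁅(P : Subgroup G), (P : Subgroup G)⁆.map (MulAut.conj n⁻¹).toMonoidHom :=
        Subgroup.mem_map_of_mem _ (hcomm.ge (Subgroup.mem_zpowers _))
      rwa [Subgroup.map_commutator, hmap] at this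
    rw [mem_zpowers_iff_mem_range_orderOf, z_order h] at hz
    obtain ⟨k, hk, hk'⟩ := Finset.mem_image.1 hz
    have hk2 := Finset.mem_range.1 hk
    interval_cases k
    · exfalso
      have := z_order h
      rw [show z h = 1 from conj_eq_one_iff.1 (hk'.symm.trans (pow_zero _)), orderOf_one] at this
      omega
    · rw [pow_one] at hk'
      exact mul_inv_eq_iff_eq_mul.1 hk'.symm
  have := Subgroup.mem_centralizer_iff.1 (hcent x hx) _ hnP
  rw [hne, this]
  group

theorem not_conj_z : ¬ IsConj (el h (1, W)) t := fun hc => by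
  have e := burnside h (x := (1, W)) (y := (ι, 1)) (Or.inr rfl) (Or.inl rfl) (by rwa [el_iota])
  exact absurd (el_inj h e) (by decide)

theorem not_conj_tz : ¬ IsConj (el h (ι, W)) t := fun hc => by
  have e := burnside h (x := (ι, W)) (y := (ι, 1)) (Or.inr rfl) (Or.inl rfl) (by rwa [el_iota])
  exact absurd (el_inj h e) (by decide)

/-- The conjugates of `t` centralizing `t`. -/
theorem class_in_C {y : G} (hy : IsConj y t) (hyC : y ∈ Subgroup.centralizer ({t} : Set G)) :
    y = t ∨ ∃ ε π σ, y = el h (ε, σ) ∧ π * σ * π⁻¹ = U := by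
  obtain ⟨⟨ε, σ⟩, rfl⟩ := exists_el h hyC
  obtain ⟨g, hg⟩ := isConj_iff.1 hy
  have hy2 : el h (ε, σ) * el h (ε, σ) = 1 := by
    have ho : orderOf (el h (ε, σ)) = 2 := by
      have := MulEquiv.orderOf_eq (MulAut.conj g) (el h (ε, σ))
      rw [show MulAut.conj g (el h (ε, σ)) = t from hg] at this
      exact this.symm.trans h.ht
    have := pow_orderOf_eq_one (el h (ε, σ))
    rwa [ho, pow_two] at this
  rw [el_mul, ← el_one h] at hy2
  rcases s4_invol σ (congrArg Prod.snd (el_inj h hy2)) with rfl | ⟨π, hπ⟩ | ⟨π, hπ⟩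
  · rcases eps ε with rfl | rfl
    · have e1 : g * el h ((1, 1) : M4) * g⁻¹ = t := hg
      rw [show ((1, 1) : M4) = 1 from rfl, el_one, mul_one, mul_inv_cancel] at e1
      exact absurd e1.symm (t_ne_one h)
    · exact Or.inl (el_iota h)
  · exact Or.inr ⟨ε, π, σ, rfl, hπ⟩
  · exfalso
    have := (conj_of_snd h ε hπ).symm.trans hy
    rcases eps ε with rfl | rfl
    · exact not_conj_z h this
    · exact not_conj_tz h this

/-- Not both classes of transpositions fuse to `t`. -/
theorem not_both (ha : IsConj (el h (1, U)) t) (hb : IsConj (el h (ι, U)) t) : False := by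
  obtain ⟨g, hg⟩ := isConj_iff.1 ha
  have hy : g * t * g⁻¹ ∈ Subgroup.centralizer ({t} : Set G) := by
    refine Subgroup.mem_centralizer_singleton_iff.2 ?_
    have e : el h (1, U) * t = t * el h (1, U) := Subgroup.mem_centralizer_singleton_iff.1 (el_mem h _)
    conv_lhs => arg 2; rw [← hg]
    conv_rhs => arg 1; rw [← hg]
    calc g * t * g⁻¹ * (g * el h (1, U) * g⁻¹) = g * (t * el h (1, U)) * g⁻¹ := by group
      _ = _ := by rw [← e]; group
  have hat : el h (1, U) ≠ t := el_ne_t h (by decide)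
  rcases class_in_C h (isConj_iff.2 ⟨g⁻¹, by group⟩) hy with e | ⟨ε, π, σ, hyσ, hπ⟩
  · refine hat ?_
    calc el h (1, U) = g⁻¹ * (g * el h (1, U) * g⁻¹) * g := by group
      _ = g⁻¹ * (g * t * g⁻¹) * g := by rw [hg, e]
      _ = t := by group
  · obtain ⟨n, hn⟩ : ∃ n, n = el h (1, π) * g := ⟨_, rfl⟩
    have hna : n * el h (1, U) * n⁻¹ = t := by
      rw [hn]
      calc el h (1, π) * g * el h (1, U) * (el h (1, π) * g)⁻¹
          = el h (1, π) * (g * el h (1, U) * g⁻¹) * (el h (1, π))⁻¹ := by group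
        _ = el h (1, π) * el h (ι, 1) * (el h (1, π))⁻¹ := by rw [hg, el_iota]
        _ = t := by
            rw [el_conj]
            exact el_eq_t h (by ext <;> simp)
    have hnt : n * t * n⁻¹ = el h (ε, U) := by
      rw [hn]
      calc el h (1, π) * g * t * (el h (1, π) * g)⁻¹ = el h (1, π) * (g * t * g⁻¹) * (el h (1, π))⁻¹ := by group
        _ = el h (ε, U) := by rw [hyσ, el_conj]; congr 1; ext <;> simp [hπ]
    -- such an element fixes `z` and `tz`
    have hfix : ∀ x : M4, x.2 = W → n * el h x * n⁻¹ = el h x := by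
      intro x hx
      have hxt : el h x * t = t * el h x := Subgroup.mem_centralizer_singleton_iff.1 (el_mem h x)
      have hxa : el h x * el h (1, U) = el h (1, U) * el h x := by
        rw [el_mul, el_mul]
        refine congrArg (el h) (Prod.ext (mul_comm _ _) ?_)
        show x.2 * U = U * x.2
        rw [hx]; decide
      have h1 : n * el h x * n⁻¹ ∈ Subgroup.centralizer ({t} : Set G) := by
        refine Subgroup.mem_centralizer_singleton_iff.2 ?_
        have e : n * el h x * n⁻¹ * (n * el h (1, U) * n⁻¹) = n * el h (1, U) * n⁻¹ * (n * el h x * n⁻¹) := by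
          calc _ = n * (el h x * el h (1, U)) * n⁻¹ := by group
            _ = _ := by rw [hxa]; group
        rwa [hna] at e
      obtain ⟨q, hq⟩ := exists_el h h1
      have h2 : q.2 * U = U * q.2 := by
        have e : n * el h x * n⁻¹ * (n * t * n⁻¹) = n * t * n⁻¹ * (n * el h x * n⁻¹) := by
          calc _ = n * (el h x * t) * n⁻¹ := by group
            _ = _ := by rw [hxt]; group
        rw [hnt, ← hq, el_mul, el_mul] at e
        exact congrArg Prod.snd (el_inj h e)
      have hcq : IsConj (el h x) (el h q) := isConj_iff.2 ⟨n, hq.symm⟩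
      have hnot : ¬ IsConj (el h x) t := by
        obtain ⟨x₁, x₂⟩ := x
        subst hx
        rcases eps x₁ with rfl | rfl
        · exact not_conj_z h
        · exact not_conj_tz h
      rw [← hq]
      obtain ⟨q₁, q₂⟩ := q
      rcases s4_commU q₂ h2 with rfl | rfl | rfl | rfl
      · exact (burnside h (Or.inr hx) (Or.inl rfl) hcq).symm
      · exfalso
        rcases eps q₁ with rfl | rfl
        · exact hnot (hcq.trans ha)
        · exact hnot (hcq.trans hb)
      · exfalso
        obtain ⟨ρ, hρ⟩ := s4_U'_conj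
        rcases eps q₁ with rfl | rfl
        · exact hnot ((hcq.trans (conj_of_snd h 1 hρ)).trans ha)
        · exact hnot ((hcq.trans (conj_of_snd h ι hρ)).trans hb)
      · exact (burnside h (Or.inr hx) (Or.inr rfl) hcq).symm
    have : n * t * n⁻¹ = t := by
      refine (congrArg (fun x => n * x * n⁻¹) (show t = el h (1, W) * el h (ι, W) from ((el_mul h _ _).trans (el_eq_t h (by decide))).symm)).trans ?_
      show n * (el h (1, W) * el h (ι, W)) * n⁻¹ = t
      rw [show n * (el h (1, W) * el h (ι, W)) * n⁻¹ = (n * el h (1, W) * n⁻¹) * (n * el h (ι, W) * n⁻¹) by group,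
        hfix _ rfl, hfix _ rfl, el_mul]
      exact el_eq_t h (by decide)
    rw [hnt] at this
    exact el_ne_t h (fun e => absurd (congrArg Prod.snd e) (by decide : U ≠ 1)) this

/-- Twisting the isomorphism by the sign. -/
def twistHom : M4 →* M4 where
  toFun p := (if Perm.sign p.2 = 1 then p.1 else ι * p.1, p.2)
  map_one' := by simp
  map_mul' p q := by
    refine Prod.ext ?_ rfl
    show (if Perm.sign (p.2 * q.2) = 1 then p.1 * q.1 else ι * (p.1 * q.1)) =
      (if Perm.sign p.2 = 1 then p.1 else ι * p.1) * (if Perm.sign q.2 = 1 then q.1 else ι * q.1)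
    rw [map_mul]
    rcases Int.units_eq_one_or (Perm.sign p.2) with hp | hp <;>
      rcases Int.units_eq_one_or (Perm.sign q.2) with hq | hq <;>
      simp [hp, hq, mul_assoc, mul_left_comm]
    · rw [← mul_assoc ι ι, show ι * ι = 1 by decide, one_mul]

theorem twist_twist (p : M4) : twistHom (twistHom p) = p := by
  refine Prod.ext ?_ rfl
  show (if Perm.sign p.2 = 1 then (twistHom p).1 else ι * (twistHom p).1) = p.1
  show (if Perm.sign p.2 = 1 then (if Perm.sign p.2 = 1 then p.1 else ι * p.1) else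
    ι * (if Perm.sign p.2 = 1 then p.1 else ι * p.1)) = p.1
  split_ifs
  · rfl
  · rw [← mul_assoc, show ι * ι = 1 by decide, one_mul]

def twist : M4 ≃* M4 where
  toFun := twistHom
  invFun := twistHom
  left_inv := twist_twist
  right_inv := twist_twist
  map_mul' := twistHom.map_mul

include h in
/-- One may suppose that the transpositions of the factor `S₄` are not conjugate to `t`. -/
theorem exists_normalized : ∃ h' : Hyp t, ¬ IsConj (el h' (1, U)) t := by
  by_cases ha : IsConj (el h (1, U)) t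
  · refine ⟨{ h with e := h.e.trans twist }, fun hb => not_both h ha ?_⟩
    have e : twistHom (1, U) = (ι, U) := by decide
    have : el ({ h with e := h.e.trans twist } : Hyp t) (1, U) = el h (ι, U) := by
      show ((h.e.symm (twistHom (1, U)) : ↥(Subgroup.centralizer ({t} : Set G))) : G) = _
      rw [e]
      rfl
    rwa [this] at hb
  · exact ⟨h, ha⟩

end Cfsg.Agent.InvChar.TwoTimesSymFour
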