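import Mathlib
import Cfsg.Agent.InvChar.TwoTimesSymFour
set_option linter.all false

/-!
A group with centralizer `2 × S₄` of a 2-central involution is that centralizer or `S₆`.
-/

set_option autoImplicit false

namespace Cfsg.Agent.InvChar.TwoTimesSymFour

open Equiv

variable {G : Type*} [Group G] [Finite G] {t : G} (h : Hyp t)

theorem s4_R : R * R * R = 1 ∧ R ≠ 1 ∧ R⁻¹ * R⁻¹ = R := by decide

theorem iota_ne : ι ≠ 1 := by decide
theorem iota_sq : ι * ι = 1 := by decide
theorem W_sq : ((1, W) : M4) * (1, W) = 1 := by decide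
theorem U_sq : ((1, U) : M4) * (1, U) = 1 := by decide
theorem V_sq : ((1, V) : M4) * (1, V) = 1 := by decide
theorem UV_ne : (((1, U) : M4) * (1, V)).2 ≠ (((1, V) : M4) * (1, U)).2 := by decide
theorem U_ne_one : ((1, U) : M4) ≠ 1 := by decide
theorem R_ne_one : ((1, R) : M4) ≠ 1 := by decide
theorem R_cube : ((1, R) : M4) * (1, R) * (1, R) = 1 := by decide
theorem RW_sq : ((1, R * (W * R⁻¹ * W⁻¹)) : M4) * (1, R * (W * R⁻¹ * W⁻¹)) = 1 ∧ ((1, R * (W * R⁻¹ * W⁻¹)) : M4) ≠ 1 := by decide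
theorem four_comm : ∀ σ : Perm (Fin 4), (σ = 1 ∨ σ = W ∨ σ = V ∨ σ = W * V) →
    ((1, σ) : M4) * (1, W) = (1, W) * (1, σ) := by decide +kernel
theorem four_sq : ∀ σ : Perm (Fin 4), (σ = 1 ∨ σ = W ∨ σ = V ∨ σ = W * V) →
    ((1, σ) : M4) * (1, σ) = 1 := by decide +kernel
theorem four_card : Fintype.card {σ : Perm (Fin 4) // σ = 1 ∨ σ = W ∨ σ = V ∨ σ = W * V} = 4 := by decide +kernel

include h in
theorem centralizer_z_card : Nat.card ↥(Subgroup.centralizer ({z h} : Set G)) = 16 := by
  obtain ⟨P, hP, h16⟩ := exists_sylow_z h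
  rw [(centralizer_z h hP).2, h16]

theorem mem_centralizer_z {g : G} :
    g ∈ Subgroup.centralizer ({z h} : Set G) ↔ ∃ p : M4, p.2 * W = W * p.2 ∧ el h p = g := by
  obtain ⟨P, hP, -⟩ := exists_sylow_z h
  constructor
  · intro hg
    have hgC := (hP.le ((centralizer_z h hP).2.le hg)).1
    obtain ⟨p, rfl⟩ := exists_el h hgC
    have := Subgroup.mem_centralizer_singleton_iff.1 hg
    rw [z, el_mul, el_mul] at this
    exact ⟨p, congrArg Prod.snd (el_inj h this), rfl⟩
  · rintro ⟨p, hp, rfl⟩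
    refine Subgroup.mem_centralizer_singleton_iff.2 ?_
    rw [z, el_mul, el_mul]
    exact congrArg (el h) (Prod.ext (mul_comm _ _) hp)

include h in
theorem oddCore_bot : Cfsg.oddCore G = ⊥ := by
  haveI : Fact (Nat.Prime 2) := ⟨Nat.prime_two⟩
  have hNn : (Cfsg.oddCore G).Normal := inferInstance
  have hodd := InvChar.Core.odd_card_oddCore (G := G)
  -- involutions conjugate to `z` act without fixed points
  have hfree : ∀ u : G, IsConj (z h) u → ∀ x ∈ Cfsg.oddCore G, u * x = x * u → x = 1 := by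
    intro u hu x hx hux
    obtain ⟨g, rfl⟩ := isConj_iff.1 hu
    have hgx : g⁻¹ * x * g ∈ Subgroup.centralizer ({z h} : Set G) := by
      refine Subgroup.mem_centralizer_singleton_iff.2 ?_
      calc g⁻¹ * x * g * z h = g⁻¹ * (x * (g * z h * g⁻¹)) * g := by group
        _ = z h * (g⁻¹ * x * g) := by rw [← hux]; group
    have h1 : orderOf (g⁻¹ * x * g) ∣ 2 ^ 4 := by
      have := orderOf_dvd_natCard (⟨_, hgx⟩ : ↥(Subgroup.centralizer ({z h} : Set G)))
      rwa [← Subgroup.orderOf_coe, centralizer_z_card h] at this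
    have h2 : orderOf (g⁻¹ * x * g) ∣ Nat.card ↥(Cfsg.oddCore G) := by
      have := orderOf_dvd_natCard (⟨_, hNn.conj_mem' x hx g⟩ : ↥(Cfsg.oddCore G))
      rwa [← Subgroup.orderOf_coe] at this
    have h3 := Nat.eq_one_of_dvd_coprimes ((Nat.coprime_two_left.2 hodd).pow_left 4) h1 h2
    have h4 : g⁻¹ * x * g = 1 := orderOf_eq_one_iff.1 h3
    calc x = g * (g⁻¹ * x * g) * g⁻¹ := by group
      _ = 1 := by rw [h4]; group
  have hinv : ∀ u : G, IsConj (z h) u → ∀ x ∈ Cfsg.oddCore G, u * x * u⁻¹ = x⁻¹ := by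
    intro u hu x hx
    have hu2 : u * u = 1 := by
      obtain ⟨g, rfl⟩ := isConj_iff.1 hu
      calc g * z h * g⁻¹ * (g * z h * g⁻¹) = g * (z h * z h) * g⁻¹ := by group
        _ = 1 := by rw [z, el_mul, W_sq, el_one]; group
    have key := MonoidHom.FixedPointFree.coe_eq_inv_of_involutive
      (φ := (MulAut.conjNormal u : MulAut ↥(Cfsg.oddCore G)))
      (fun y hy => by
        have h' : u * (y : G) * u⁻¹ = y := congrArg Subtype.val hy
        exact Subtype.ext (hfree u hu y y.2 (mul_inv_eq_iff_eq_mul.1 h')))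
      (fun y => Subtype.ext (by
        show u * (u * (y : G) * u⁻¹) * u⁻¹ = y
        calc _ = (u * u) * y * (u * u)⁻¹ := by group
          _ = _ := by rw [hu2]; group))
    exact congrArg Subtype.val (congrFun key ⟨x, hx⟩)
  obtain ⟨π₁, hπ₁⟩ : ∃ π : Perm (Fin 4), π * W * π⁻¹ = V := by decide
  obtain ⟨π₂, hπ₂⟩ : ∃ π : Perm (Fin 4), π * W * π⁻¹ = W * V := by decide
  rw [eq_bot_iff]
  intro x hx
  have e1 := hinv _ (conj_of_snd h 1 hπ₁) x hx
  have e2 := hinv _ (conj_of_snd h 1 hπ₂) x hx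
  have e0 := hinv _ (IsConj.refl _) x⁻¹ (inv_mem hx)
  have e3 : el h (1, W * V) * x * (el h (1, W * V))⁻¹ = x := by
    calc el h (1, W * V) * x * (el h (1, W * V))⁻¹
        = z h * el h (1, V) * x * (z h * el h (1, V))⁻¹ := by rw [z, el_mul, Prod.mk_mul_mk, one_mul]
      _ = z h * (el h (1, V) * x * (el h (1, V))⁻¹) * (z h)⁻¹ := by group
      _ = x := by rw [e1, e0, inv_inv]
  rw [e3] at e2
  have hx2 : x ^ 2 = 1 := by
    rw [pow_two]
    exact mul_eq_one_iff_eq_inv.2 e2
  have h2 : orderOf x ∣ Nat.card ↥(Cfsg.oddCore G) := by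
    have := orderOf_dvd_natCard (⟨x, hx⟩ : ↥(Cfsg.oddCore G))
    rwa [← Subgroup.orderOf_coe] at this
  exact Subgroup.mem_bot.2 (orderOf_eq_one_iff.1
    (Nat.eq_one_of_dvd_coprimes (Nat.coprime_two_left.2 hodd) (orderOf_dvd_of_pow_eq_one hx2) h2))

variable (hat : ¬ IsConj (el h (1, U)) t) (hne : Subgroup.centralizer ({t} : Set G) ≠ ⊤)

include hat hne in
/-- The other class of transpositions fuses to `t`. -/
theorem b_conj : IsConj (el h (ι, U)) t := by
  by_contra hb
  refine hne ?_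
  have hiso : Cfsg.IsIsolatedInvolution t := by
    refine ⟨h.ht, fun g hg => ?_⟩
    have hgC : g * t * g⁻¹ ∈ Subgroup.centralizer ({t} : Set G) := Subgroup.mem_centralizer_singleton_iff.2 hg.eq.symm
    have hconj : IsConj (g * t * g⁻¹) t := (isConj_iff.2 ⟨g, rfl⟩ : IsConj t (g * t * g⁻¹)).symm
    rcases class_in_C h hconj hgC with e | ⟨ε, π, σ, hy, hπ⟩
    · exact e
    · exfalso
      rw [hy] at hconj
      have := (conj_of_snd h ε hπ).symm.trans hconj
      rcases eps ε with rfl | rfl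
      · exact hat this
      · exact hb this
  have hc := ZStar.Main.mem_center_of_isolated (oddCore_bot h) hiso
  rw [eq_top_iff]
  exact fun g _ => Subgroup.mem_centralizer_singleton_iff.2 (Subgroup.mem_center_iff.1 hc g)

include hat in
/-- There is a subgroup of index two avoiding `t` and containing `el (1, σ)`. -/
theorem exists_G0 (hb : IsConj (el h (ι, U)) t) :
    ∃ G0 : Subgroup G, G0.index = 2 ∧ t ∉ G0 ∧ ∀ σ : Perm (Fin 4), el h (1, σ) ∈ G0 := by
  classical
  haveI : Fact (Nat.Prime 2) := ⟨Nat.prime_two⟩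
  obtain ⟨P, hP, h16⟩ := exists_sylow_z h
  let φ : ↥(Subgroup.centralizer ({t} : Set G)) →* Multiplicative (ZMod 2) := (MonoidHom.fst _ _).comp h.e.toMonoidHom
  let M : Subgroup G := (φ.ker.map (Subgroup.centralizer ({t} : Set G)).subtype) ⊓ (P : Subgroup G)
  have hmem : ∀ p : M4, el h p ∈ M ↔ p.1 = 1 ∧ p.2 * W = W * p.2 := by
    intro p
    constructor
    · rintro ⟨⟨c, hc, hce⟩, hp⟩
      have hce' : c = h.e.symm p := Subtype.ext hce
      subst hce'
      have hc' : (h.e (h.e.symm p)).1 = 1 := hc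
      rw [MulEquiv.apply_symm_apply] at hc'
      obtain ⟨q, hq, hqe⟩ := (mem_centralizer_z h).1 ((centralizer_z h hP).2.ge hp)
      rw [el_inj h hqe] at hq
      exact ⟨hc', hq⟩
    · rintro ⟨h1, h2⟩
      refine ⟨⟨h.e.symm p, ?_, rfl⟩, (centralizer_z h hP).2.le ((mem_centralizer_z h).2 ⟨p, h2, rfl⟩)⟩
      show (h.e (h.e.symm p)).1 = 1
      rw [MulEquiv.apply_symm_apply, h1]
  have hrel : M.relIndex (P : Subgroup G) = 2 := by
    rw [Subgroup.relIndex, Subgroup.index_eq_two_iff]
    have htP : t ∈ (P : Subgroup G) := by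
      rw [← el_iota h]
      exact (centralizer_z h hP).2.le ((mem_centralizer_z h).2 ⟨_, by simp, rfl⟩)
    refine ⟨⟨t, htP⟩, fun b => ?_⟩
    obtain ⟨p, hp⟩ := exists_el h (hP.le b.2).1
    have hpz : p.2 * W = W * p.2 := by
      obtain ⟨q, hq, hqe⟩ := (mem_centralizer_z h).1 ((centralizer_z h hP).2.ge b.2)
      rwa [el_inj h (hqe.trans hp.symm)] at hq
    have hbt : (b : G) * t = el h (p * (ι, 1)) := by rw [← el_mul, hp, el_iota]
    show Xor' ((b : G) * t ∈ M) ((b : G) ∈ M)
    rw [hbt, ← hp, hmem, hmem]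
    simp only [Prod.fst_mul, Prod.snd_mul, mul_one, hpz, and_true]
    rcases eps p.1 with e | e <;> rw [e]
    · exact Or.inr ⟨rfl, by rw [one_mul]; exact iota_ne⟩
    · exact Or.inl ⟨iota_sq, iota_ne⟩
  have hno : ∀ g : G, g * t * g⁻¹ ∉ M := by
    intro g hg
    have hgC : g * t * g⁻¹ ∈ Subgroup.centralizer ({t} : Set G) := (hP.le hg.2).1
    have hconj : IsConj (g * t * g⁻¹) t := (isConj_iff.2 ⟨g, rfl⟩ : IsConj t (g * t * g⁻¹)).symm
    rcases class_in_C h hconj hgC with e | ⟨ε, π, σ, hy, hπ⟩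
    · rw [e] at hg
      have := (hmem (ι, 1)).1 (by rwa [el_iota])
      exact absurd this.1 iota_ne
    · rw [hy] at hg hconj
      have h1 : ε = 1 := ((hmem _).1 hg).1
      subst h1
      exact hat ((conj_of_snd h 1 hπ).symm.trans hconj)
  obtain ⟨G0, hG0, htG0⟩ := Involutions.ThompsonTransfer.exists_index_two_of_no_conj M
    (Involutions.ThompsonTransfer.index_mod_four inf_le_right hrel (Nat.odd_iff.mpr (Nat.two_dvd_ne_zero.mp P.not_dvd_index)))
    t h.ht hno
  refine ⟨G0, hG0, htG0, ?_⟩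
  haveI := Subgroup.normal_of_index_eq_two hG0
  have hbG0 : el h (ι, U) ∉ G0 := by
    obtain ⟨g, hg⟩ := isConj_iff.1 hb
    exact fun hin => htG0 ((congrArg (· ∈ G0) hg).mp (Subgroup.Normal.conj_mem inferInstance _ hin g))
  have haG0 : el h (1, U) ∈ G0 := by
    have : t * el h (ι, U) ∈ G0 := (Subgroup.mul_mem_iff_of_index_two hG0).2 ⟨fun e => absurd e htG0, fun e => absurd e hbG0⟩
    rwa [t_mul_el, iota_sq] at this
  intro σ
  obtain ⟨ρ, e | e⟩ := s4_square σ <;> rw [e]
  · rw [show ((1, ρ * ρ) : M4) = (1, ρ) * (1, ρ) by simp, ← el_mul]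
    exact Subgroup.mul_self_mem_of_index_two hG0 _
  · rw [show ((1, U * (ρ * ρ)) : M4) = (1, U) * ((1, ρ) * (1, ρ)) by simp, ← el_mul, ← el_mul]
    exact mul_mem haG0 (Subgroup.mul_self_mem_of_index_two hG0 _)

include h in
theorem class_card : Nat.card {y : G // IsConj t y} * 48 = Nat.card G := by
  rw [mul_comm, ← card_C h]
  exact SmallSimple.Basic.card_centralizer_mul_card_class t

include h in
theorem seven_le (hb : IsConj (el h (ι, U)) t) :
    ∀ y : Fin 7 → G, True → 7 ≤ Nat.card {y : G // IsConj t y} := by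
  classical
  intro _ _
  haveI := Fintype.ofFinite {y : G // IsConj t y}
  obtain ⟨s, hs⟩ : ∃ s, s = Finset.univ.filter fun σ : Perm (Fin 4) => σ = 1 ∨ ∃ π, π * σ * π⁻¹ = U := ⟨_, rfl⟩
  let f : {σ // σ ∈ s} → {y : G // IsConj t y} := fun σ => ⟨el h (ι, σ.1), by
    have := (Finset.ext_iff.1 hs σ.1).1 σ.2
    rw [Finset.mem_filter] at this
    rcases this.2 with e | ⟨π, hπ⟩
    · refine isConj_iff.2 ⟨1, ?_⟩
      rw [one_mul, inv_one, mul_one]
      exact (el_eq_t h (p := (ι, σ.1)) (by rw [e])).symm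
    · exact ((conj_of_snd h ι hπ).trans hb).symm⟩
  have hinj : Function.Injective f := fun a b e =>
    Subtype.ext (congrArg Prod.snd (el_inj h (p := (ι, a.1)) (q := (ι, b.1)) (congrArg (fun y : {y : G // IsConj t y} => (y : G)) e)))
  have := Fintype.card_le_of_injective f hinj
  rw [Fintype.card_coe, hs, s4_transp] at this
  rw [Nat.card_eq_fintype_card]
  exact this

variable {G0 : Subgroup G} (hG0 : G0.index = 2) (htG0 : t ∉ G0) (hel : ∀ σ : Perm (Fin 4), el h (1, σ) ∈ G0)

include hG0 in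
theorem card_G : Nat.card G = 2 * Nat.card ↥G0 := by
  rw [← G0.card_mul_index, hG0, mul_comm]

include htG0 hel in
theorem el_mem_G0 {p : M4} : el h p ∈ G0 ↔ p.1 = 1 := by
  obtain ⟨ε, σ⟩ := p
  rcases eps ε with rfl | rfl
  · exact iff_of_true (hel σ) rfl
  · refine iff_of_false (fun hin => htG0 ?_) iota_ne
    have := mul_mem hin (inv_mem (hel σ))
    rwa [el_inv, el_mul, show ((ι, σ) : M4) * (1, σ)⁻¹ = (ι, 1) by simp, el_iota] at this

include hG0 htG0 hel in
/-- The index two subgroup has an involution with dihedral centralizer of order eight, central in a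
Sylow subgroup. -/
theorem G0_data : ∃ (z₀ : ↥G0) (S₀ : Sylow 2 ↥G0), (z₀ : G) = z h ∧ orderOf z₀ = 2 ∧
    (∀ s ∈ (S₀ : Subgroup ↥G0), s * z₀ = z₀ * s) ∧ Nat.card ↥(S₀ : Subgroup ↥G0) = 8 ∧
    Nonempty (↥(Subgroup.centralizer ({z₀} : Set ↥G0)) ≃* DihedralGroup 4) := by
  classical
  haveI : Fact (Nat.Prime 2) := ⟨Nat.prime_two⟩
  obtain ⟨z₀, hz₀⟩ : ∃ z₀ : ↥G0, (z₀ : G) = z h := ⟨⟨z h, hel W⟩, rfl⟩
  have hiff : ∀ c : ↥G0, c ∈ Subgroup.centralizer ({z₀} : Set ↥G0) ↔ (c : G) ∈ Subgroup.centralizer ({z h} : Set G) := by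
    intro c
    simp only [Subgroup.mem_centralizer_singleton_iff, ← hz₀, Subtype.ext_iff, Subgroup.coe_mul]
  let F : {σ : Perm (Fin 4) // σ * W = W * σ} → ↥(Subgroup.centralizer ({z₀} : Set ↥G0)) := fun σ =>
    ⟨⟨el h (1, σ.1), hel σ.1⟩, (hiff _).2 ((mem_centralizer_z h).2 ⟨(1, σ.1), σ.2, rfl⟩)⟩
  have hF : ∀ σ, ((F σ : ↥G0) : G) = el h (1, σ.1) := fun σ => rfl
  have hb : Function.Bijective F := by
    constructor
    · intro a b e
      have e' : el h (1, a.1) = el h (1, b.1) := by rw [← hF a, ← hF b, e]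
      exact Subtype.ext (congrArg Prod.snd (el_inj h e'))
    · intro c
      obtain ⟨p, hp, hpe⟩ := (mem_centralizer_z h).1 ((hiff c.1).1 c.2)
      obtain ⟨ε, σ⟩ := p
      have h1 : ε = 1 := (el_mem_G0 h htG0 hel).1 (hpe ▸ c.1.2 : el h (ε, σ) ∈ G0)
      subst h1
      exact ⟨⟨σ, hp⟩, Subtype.ext (Subtype.ext hpe)⟩
  have h8 : Nat.card ↥(Subgroup.centralizer ({z₀} : Set ↥G0)) = 8 := by
    rw [← Nat.card_eq_of_bijective F hb, Nat.card_eq_fintype_card, s4_commW_card]
  obtain ⟨P, -, h16⟩ := exists_sylow_z h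
  have hidx : ¬ 2 ∣ (Subgroup.centralizer ({z₀} : Set ↥G0)).index := by
    have e1 := (Subgroup.centralizer ({z₀} : Set ↥G0)).card_mul_index
    have e2 := (P : Subgroup G).card_mul_index
    have e3 := card_G hG0
    have e4 := P.not_dvd_index
    rw [h8] at e1
    rw [h16] at e2
    omega
  refine ⟨z₀, (IsPGroup.of_card (n := 3) (by rw [h8]; norm_num) : IsPGroup 2 ↥(Subgroup.centralizer ({z₀} : Set ↥G0))).toSylow hidx,
    hz₀, by rw [← Subgroup.orderOf_coe, hz₀, z_order h], ?_, h8, ?_⟩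
  · exact fun s hs => Subgroup.mem_centralizer_singleton_iff.1 hs
  · refine AutPOmega.Groups.dihedral_four h8 (a := F ⟨U, by decide⟩) (b := F ⟨V, by decide⟩) ?_ ?_ ?_
    · refine Subtype.ext (Subtype.ext ?_)
      show el h (1, U) * el h (1, U) = 1
      rw [el_mul, U_sq, el_one]
    · refine Subtype.ext (Subtype.ext ?_)
      show el h (1, V) * el h (1, V) = 1
      rw [el_mul, V_sq, el_one]
    · intro e
      have e' : el h (1, U) * el h (1, V) = el h (1, V) * el h (1, U) := congrArg (fun c : ↥(Subgroup.centralizer ({z₀} : Set ↥G0)) => ((c : ↥G0) : G)) e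
      rw [el_mul, el_mul] at e'
      exact absurd (congrArg Prod.snd (el_inj h e')) UV_ne

include hG0 htG0 hel hne in
/-- The index two subgroup has no subgroup of index two. -/
theorem G0_no_index_two (hb : IsConj (el h (ι, U)) t) : ∀ K : Subgroup ↥G0, K.index ≠ 2 := by
  classical
  intro K hK
  haveI : Fact (Nat.Prime 2) := ⟨Nat.prime_two⟩
  haveI := Subgroup.normal_of_index_eq_two hK
  obtain ⟨z₀, S₀, hz₀, hz₀2, hS₀, hS8, -⟩ := G0_data h hG0 htG0 hel
  have hsq : ∀ σ : Perm (Fin 4), (⟨el h (1, σ * σ), hel _⟩ : ↥G0) ∈ K := by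
    intro σ
    rw [show (⟨el h (1, σ * σ), hel _⟩ : ↥G0) = ⟨el h (1, σ), hel σ⟩ * ⟨el h (1, σ), hel σ⟩ from
      Subtype.ext (by show _ = el h (1, σ) * el h (1, σ); rw [el_mul, Prod.mk_mul_mk, one_mul])]
    exact Subgroup.mul_self_mem_of_index_two hK _
  obtain ⟨ρW, hρW⟩ : ∃ ρ : Perm (Fin 4), W = ρ * ρ := by decide
  obtain ⟨zK, hzK⟩ : ∃ zK : ↥K, ((zK : ↥G0) : G) = z h :=
    ⟨⟨⟨el h (1, ρW * ρW), hel _⟩, hsq ρW⟩, by show el h (1, ρW * ρW) = el h (1, W); rw [← hρW]⟩
  have hzK2 : orderOf zK = 2 := by rw [← Subgroup.orderOf_coe, ← Subgroup.orderOf_coe, hzK, z_order h]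
  -- the centralizer in `K`
  have hCform : ∀ c ∈ Subgroup.centralizer ({zK} : Set ↥K), ∃ σ : Perm (Fin 4), σ * W = W * σ ∧ el h (1, σ) = ((c : ↥G0) : G) := by
    intro c hc
    have e : ((c : ↥G0) : G) * z h = z h * ((c : ↥G0) : G) := by
      rw [← hzK]
      exact congrArg (fun u : ↥K => ((u : ↥G0) : G)) (Subgroup.mem_centralizer_singleton_iff.1 hc)
    obtain ⟨⟨ε, σ⟩, hp, hpe⟩ := (mem_centralizer_z h).1 (Subgroup.mem_centralizer_singleton_iff.2 e)
    have h1 : ε = 1 := (el_mem_G0 h htG0 hel).1 (hpe ▸ (c : ↥G0).2 : el h (ε, σ) ∈ G0)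
    subst h1
    exact ⟨σ, hp, hpe⟩
  have hK8 : ¬ 8 ∣ Nat.card ↥K := by
    intro h8
    obtain ⟨P, -, h16⟩ := exists_sylow_z h
    have e1 := K.card_mul_index
    have e2 := (P : Subgroup G).card_mul_index
    have e3 := card_G hG0
    have e4 := P.not_dvd_index
    rw [hK] at e1
    rw [h16] at e2
    omega
  have hC4 : Nat.card ↥(Subgroup.centralizer ({zK} : Set ↥K)) = 4 ∧
      ∀ c ∈ Subgroup.centralizer ({zK} : Set ↥K), c ^ 2 = 1 := by
    let F : ↥(Subgroup.centralizer ({zK} : Set ↥K)) → {σ : Perm (Fin 4) // σ * W = W * σ} := fun c =>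
      ⟨(hCform c.1 c.2).choose, (hCform c.1 c.2).choose_spec.1⟩
    have hFs : ∀ c, el h (1, (F c).1) = (((c : ↥K) : ↥G0) : G) := fun c => (hCform c.1 c.2).choose_spec.2
    have hinj : Function.Injective F := fun a b e =>
      Subtype.ext (Subtype.ext (Subtype.ext (by rw [← hFs a, ← hFs b, e])))
    have hle : Nat.card ↥(Subgroup.centralizer ({zK} : Set ↥K)) ≤ 8 := by
      refine (Nat.card_le_card_of_injective F hinj).trans ?_
      rw [Nat.card_eq_fintype_card, s4_commW_card]
    have hdvd := Subgroup.card_subgroup_dvd_card (Subgroup.centralizer ({zK} : Set ↥K))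
    -- four elements
    let E : {σ : Perm (Fin 4) // σ = 1 ∨ σ = W ∨ σ = V ∨ σ = W * V} → ↥(Subgroup.centralizer ({zK} : Set ↥K)) := fun σ =>
      ⟨⟨⟨el h (1, σ.1), hel _⟩, by
          obtain ⟨ρ, hρ⟩ : ∃ ρ : Perm (Fin 4), σ.1 = ρ * ρ := by
            rcases σ.2 with e | e | e | e <;> rw [e] <;> decide
          simp only [hρ]
          exact hsq ρ⟩, by
        refine Subgroup.mem_centralizer_singleton_iff.2 (Subtype.ext (Subtype.ext ?_))
        show el h (1, σ.1) * ((zK : ↥G0) : G) = ((zK : ↥G0) : G) * el h (1, σ.1)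
        rw [hzK, z, el_mul, el_mul]
        exact congrArg (el h) (four_comm σ.1 σ.2)⟩
    have hEinj : Function.Injective E := fun a b e => by
      have e' : el h (1, a.1) = el h (1, b.1) :=
        congrArg (fun u : ↥(Subgroup.centralizer ({zK} : Set ↥K)) => (((u : ↥K) : ↥G0) : G)) e
      exact Subtype.ext (congrArg Prod.snd (el_inj h e'))
    have h4 : 4 ≤ Nat.card ↥(Subgroup.centralizer ({zK} : Set ↥K)) := by
      refine le_trans (le_of_eq ?_) (Nat.card_le_card_of_injective E hEinj)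
      rw [Nat.card_eq_fintype_card, four_card]
    obtain ⟨n, hn, hcard⟩ := (Nat.dvd_prime_pow Nat.prime_two).1
      (show Nat.card ↥(Subgroup.centralizer ({zK} : Set ↥K)) ∣ 2 ^ 3 by
        rw [show (2 : ℕ) ^ 3 = 8 from rfl]
        have hd := Subgroup.card_dvd_of_injective ((K.subtype).comp (Subgroup.centralizer ({zK} : Set ↥K)).subtype |>.codRestrict
          (Subgroup.centralizer ({z₀} : Set ↥G0)) (fun c => by
            refine Subgroup.mem_centralizer_singleton_iff.2 (Subtype.ext ?_)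
            show (((c : ↥K) : ↥G0) : G) * (z₀ : G) = (z₀ : G) * (((c : ↥K) : ↥G0) : G)
            rw [hz₀, ← hzK]
            exact congrArg (fun u : ↥K => ((u : ↥G0) : G)) (Subgroup.mem_centralizer_singleton_iff.1 c.2)))
          (fun a b e => Subtype.ext (Subtype.ext (congrArg (fun u : ↥(Subgroup.centralizer ({z₀} : Set ↥G0)) => (u : ↥G0)) e)))
        obtain ⟨_, _, _, _, _, h8', ⟨eD⟩⟩ := G0_data h hG0 htG0 hel
        rename_i z₁ _ hz₁ _ _
        have : z₁ = z₀ := Subtype.ext (hz₁.trans hz₀.symm)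
        subst this
        rwa [Nat.card_congr eD.toEquiv, DihedralGroup.nat_card] at hd)
    have hC4 : Nat.card ↥(Subgroup.centralizer ({zK} : Set ↥K)) = 4 := by
      have : n ≠ 3 := fun e => hK8 (by rw [hcard, e] at hdvd; exact hdvd)
      interval_cases n <;> omega
    refine ⟨hC4, fun c hc => ?_⟩
    have hbij : Function.Bijective E := (Nat.bijective_iff_injective_and_card E).2
      ⟨hEinj, by rw [hC4, Nat.card_eq_fintype_card, four_card]⟩
    obtain ⟨σ, hσ⟩ := hbij.2 ⟨c, hc⟩
    refine Subtype.ext (Subtype.ext ?_)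
    have e : el h (1, σ.1) = ((c : ↥G0) : G) :=
      congrArg (fun u : ↥(Subgroup.centralizer ({zK} : Set ↥K)) => (((u : ↥K) : ↥G0) : G)) hσ
    rw [Subgroup.coe_pow, Subgroup.coe_pow, ← e, pow_two, el_mul, Subgroup.coe_one, Subgroup.coe_one, ← el_one h]
    refine congrArg (el h) ?_
    exact four_sq σ.1 σ.2
  -- an element of order three
  obtain ⟨xK, hxK⟩ : ∃ xK : ↥K, ((xK : ↥G0) : G) = el h (1, R) :=
    ⟨⟨⟨el h (1, R⁻¹ * R⁻¹), hel _⟩, hsq _⟩, by show el h (1, R⁻¹ * R⁻¹) = _; rw [s4_R.2.2]⟩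
  have hcomm_ne : ∀ (N : Subgroup ↥K), N.Normal → xK ∈ N → ¬ Odd (Nat.card ↥N) := by
    intro N hN hx hodd
    have hm : xK * (zK * xK⁻¹ * zK⁻¹) ∈ N := mul_mem hx (hN.conj_mem _ (inv_mem hx) zK)
    have hval : ((((xK * (zK * xK⁻¹ * zK⁻¹) : ↥K) : ↥G0)) : G) = el h (1, R * (W * R⁻¹ * W⁻¹)) := by
      simp only [Subgroup.coe_mul, Subgroup.coe_inv, hxK, hzK, z, el_inv, el_mul]
      refine congrArg (el h) (Prod.ext ?_ rfl)
      simp
    have ho : orderOf (xK * (zK * xK⁻¹ * zK⁻¹)) = 2 := by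
      rw [← Subgroup.orderOf_coe, ← Subgroup.orderOf_coe, hval]
      exact order_el h RW_sq.1 RW_sq.2
    have hd := orderOf_dvd_natCard (⟨_, hm⟩ : ↥N)
    rw [← Subgroup.orderOf_coe, ho] at hd
    exact Nat.not_even_iff_odd.2 hodd (even_iff_two_dvd.2 hd)
  have hVcent : ∀ u : ↥K, u ≠ 1 → u ∈ Subgroup.centralizer ({zK} : Set ↥K) → u * xK ≠ xK * u := by
    intro u hu1 hu e
    obtain ⟨σ, hσ, hσe⟩ := hCform u hu
    have e' : el h (1, σ) * el h (1, R) = el h (1, R) * el h (1, σ) := by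
      rw [hσe, ← hxK]
      exact congrArg (fun v : ↥K => ((v : ↥G0) : G)) e
    rw [el_mul, el_mul] at e'
    have hcases : ∀ σ : Perm (Fin 4), σ * W = W * σ → σ * R = R * σ → σ = 1 := by decide
    have hs1 := hcases σ hσ (congrArg Prod.snd (el_inj h e'))
    refine hu1 (Subtype.ext (Subtype.ext ?_))
    rw [← hσe, hs1]
    exact el_one h
  -- apply the characterization of A₅
  have hnot : ∀ W' : Subgroup ↥K, W'.Normal → Nat.card ↥W' = 4 → zK ∈ W' → False := by
    intro W' hW' h4 hz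
    have hWC : W' = Subgroup.centralizer ({zK} : Set ↥K) := by
      refine Subgroup.eq_of_le_of_card_ge (fun u hu => ?_) (by rw [hC4.1, h4])
      haveI : IsMulCommutative ↥W' := IsPGroup.isMulCommutative_of_card_eq_prime_sq (p := 2) (by rw [h4]; norm_num)
      exact Subgroup.mem_centralizer_singleton_iff.2 (congrArg Subtype.val (mul_comm' (⟨u, hu⟩ : ↥W') ⟨zK, hz⟩))
    have hcl : Nat.card {y : ↥K // IsConj zK y} ≤ 3 := by
      haveI := Fintype.ofFinite ↥W'
      let g : {y : ↥K // IsConj zK y} → {w : ↥W' // w ≠ 1} := fun y => ⟨⟨y.1, by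
          obtain ⟨k, hk⟩ := isConj_iff.1 y.2
          rw [← hk]
          exact hW'.conj_mem zK hz k⟩, fun e => by
        obtain ⟨k, hk⟩ := isConj_iff.1 y.2
        have e1 : k * zK * k⁻¹ = 1 := hk.trans (congrArg Subtype.val e)
        rw [conj_eq_one_iff.1 e1, orderOf_one] at hzK2
        omega⟩
      refine (Nat.card_le_card_of_injective g (fun a b e =>
        Subtype.ext (congrArg (fun w : {w : ↥W' // w ≠ 1} => ((w.1 : ↥W') : ↥K)) e))).trans (le_of_eq ?_)
      rw [Nat.card_eq_fintype_card, Fintype.card_subtype_compl, Fintype.card_subtype_eq, ← Nat.card_eq_fintype_card, h4]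
    have hK12 := SmallSimple.Basic.card_centralizer_mul_card_class zK
    rw [hC4.1] at hK12
    have e1 := K.card_mul_index
    rw [hK] at e1
    have e3 := card_G hG0
    refine hne ?_
    refine Subgroup.eq_top_of_le_card _ ?_
    rw [card_C h]
    omega
  have hA5 : Nonempty (↥K ≃* ↥(alternatingGroup (Fin 5))) := by
    refine S3277.result zK hzK2 hC4.1 hC4.2 ?_ ?_
    · rintro ⟨P, N, hN, hNP⟩
      have hodd : Odd (Nat.card ↥N) := by
        rw [← hNP.index_eq_card]
        · exact Nat.odd_iff.mpr (Nat.two_dvd_ne_zero.mp P.not_dvd_index)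
      haveI := hN
      have hx3 : xK ^ 3 = 1 := by
        refine Subtype.ext (Subtype.ext ?_)
        rw [Subgroup.coe_pow, Subgroup.coe_pow, hxK, pow_succ, pow_two, el_mul, el_mul, Subgroup.coe_one, Subgroup.coe_one,
          ← el_one h]
        exact congrArg (el h) R_cube
      have hxN : xK ∈ N := by
        rw [← QuotientGroup.eq_one_iff]
        have h1 : orderOf (xK : ↥K ⧸ N) ∣ 3 := orderOf_dvd_of_pow_eq_one (by rw [← QuotientGroup.mk_pow, hx3]; rfl)
        obtain ⟨n, hn⟩ := IsPGroup.iff_card.1 P.isPGroup'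
        have h2 : orderOf (xK : ↥K ⧸ N) ∣ 2 ^ n := by
          rw [← hn, ← hNP.symm.index_eq_card, Subgroup.index_eq_card]
          exact orderOf_dvd_natCard _
        exact orderOf_eq_one_iff.1 (Nat.eq_one_of_dvd_coprimes ((Nat.Coprime.pow_right n) (by norm_num)) h1 h2)
      exact hcomm_ne N hN hxN hodd
    · intro E hE hEel
      haveI := hE
      constructor
      · intro h2
        haveI := Fintype.ofFinite ↥E
        obtain ⟨u, hu⟩ := exists_prime_orderOf_dvd_card' (G := ↥E) 2 (by rw [h2])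
        rw [← Subgroup.orderOf_coe] at hu
        have hu1 : (u : ↥K) ≠ 1 := fun e => by rw [e, orderOf_one] at hu; omega
        have hcen : ∀ k : ↥K, (u : ↥K) * k = k * u := by
          intro k
          have hall : ∀ w : ↥E, w = 1 ∨ w = u := by
            intro w
            by_contra hw
            push Not at hw
            have : 3 ≤ Fintype.card ↥E := by
              have h1u : ¬ (1 : ↥E) = u := fun e => hu1 (congrArg Subtype.val e.symm)
              have := Finset.card_le_univ ({1, u, w} : Finset ↥E)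
              rwa [Finset.card_insert_of_notMem (by simp [Ne.symm hw.1, h1u]),
                Finset.card_insert_of_notMem (by simp [Ne.symm hw.2]), Finset.card_singleton] at this
            rw [← Nat.card_eq_fintype_card, h2] at this
            omega
          rcases hall ⟨k * u * k⁻¹, hE.conj_mem _ u.2 k⟩ with e | e
          · exact absurd (conj_eq_one_iff.1 (congrArg Subtype.val e)) hu1
          · exact (mul_inv_eq_iff_eq_mul.1 (congrArg Subtype.val e)).symm
        exact hVcent u hu1 (Subgroup.mem_centralizer_singleton_iff.2 (hcen zK)) (hcen xK)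
      · intro h4
        -- a normal subgroup of order four is the Sylow subgroup containing `zK`
        have hidx : ¬ 2 ∣ E.index := by
          intro hd
          refine hK8 ?_
          have := E.card_mul_index
          rw [h4] at this
          omega
        let Q : Sylow 2 ↥K := (IsPGroup.of_card (n := 2) (by rw [h4]; norm_num) : IsPGroup 2 ↥E).toSylow hidx
        haveI : (Q : Subgroup ↥K).Normal := hE
        obtain ⟨Q', hQ'⟩ := (IsPGroup.of_card (n := 1) (by rw [Nat.card_zpowers, hzK2, pow_one]) :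
          IsPGroup 2 ↥(Subgroup.zpowers zK)).exists_le_sylow
        obtain ⟨k, hk⟩ := MulAction.exists_smul_eq ↥K Q Q'
        have hQQ : Q' = Q := by
          rw [← hk, Sylow.smul_eq_iff_mem_normalizer]
          exact (Subgroup.normalizer_eq_top (Q : Subgroup ↥K)).ge (Subgroup.mem_top k)
        exact hnot E hE h4 ((hQQ ▸ hQ') (Subgroup.mem_zpowers zK))
  obtain ⟨e5⟩ := hA5
  have h60 : Nat.card ↥K = 60 := by
    rw [Nat.card_congr e5.toEquiv]
    have := two_mul_nat_card_alternatingGroup (α := Fin 5)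
    have h120 : Nat.card (Perm (Fin 5)) = 120 := by rw [Nat.card_perm, Nat.card_fin]; decide
    omega
  have e1 := K.card_mul_index
  rw [hK, h60] at e1
  have e3 := card_G hG0
  have e4 := class_card h
  have := seven_le h hb (fun _ => t) trivial
  omega

include hG0 in
theorem comm_mem (a b : G) : a * b * a⁻¹ * b⁻¹ ∈ G0 := by
  have ha := Subgroup.mul_mem_iff_of_index_two hG0 (a := a * b * a⁻¹) (b := b⁻¹)
  have hb := Subgroup.mul_mem_iff_of_index_two hG0 (a := a * b) (b := a⁻¹)
  have hc := Subgroup.mul_mem_iff_of_index_two hG0 (a := a) (b := b)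
  rw [ha, hb, hc, inv_mem_iff, inv_mem_iff]
  tauto

include h hat hne in
theorem iso_S6 : ¬ Group.IsSolvable G ∧ Nonempty (G ≃* Perm (Fin 6)) := by
  classical
  haveI : Fact (Nat.Prime 2) := ⟨Nat.prime_two⟩
  have hb := b_conj h hat hne
  obtain ⟨G0, hG0, htG0, hel⟩ := exists_G0 h hat hb
  haveI := Subgroup.normal_of_index_eq_two hG0
  obtain ⟨z₀, S₀, hz₀, hz₀2, hS₀, hS8, ⟨eD⟩⟩ := G0_data h hG0 htG0 hel
  obtain ⟨hsimple, hord⟩ := DihedralEightCentralizer.simple_order (G0_no_index_two h hne hG0 htG0 hel hb) z₀ hz₀2 S₀ hS₀ eD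
  haveI := hsimple
  have hnab : ¬ IsMulCommutative ↥G0 := SmallSimple.Basic.not_comm_of_not_prime (by rcases hord with e | e <;> rw [e] <;> decide +kernel)
  rcases hord with h168 | h360
  · exfalso
    -- seven commuting conjugates
    have hcard : Nat.card {y : G // IsConj t y} = 7 := by
      have := class_card h
      rw [card_G hG0, h168] at this
      omega
    obtain ⟨s, hs⟩ : ∃ s, s = Finset.univ.filter fun σ : Perm (Fin 4) => σ = 1 ∨ ∃ π, π * σ * π⁻¹ = U := ⟨_, rfl⟩
    let f : {σ // σ ∈ s} → {y : G // IsConj t y} := fun σ => ⟨el h (ι, σ.1), by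
      have := (Finset.ext_iff.1 hs σ.1).1 σ.2
      rw [Finset.mem_filter] at this
      rcases this.2 with e | ⟨π, hπ⟩
      · refine isConj_iff.2 ⟨1, ?_⟩
        rw [one_mul, inv_one, mul_one]
        exact (el_eq_t h (p := (ι, σ.1)) (by rw [e])).symm
      · exact ((conj_of_snd h ι hπ).trans hb).symm⟩
    have hbij : Function.Bijective f := (Nat.bijective_iff_injective_and_card f).2
      ⟨fun a b e => Subtype.ext (congrArg Prod.snd (el_inj h (p := (ι, a.1)) (q := (ι, b.1)) (congrArg (fun y : {y : G // IsConj t y} => (y : G)) e))), by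
        rw [hcard, Nat.card_eq_fintype_card, Fintype.card_coe, hs, s4_transp]⟩
    have hall : ∀ y : G, IsConj t y → t * y = y * t := by
      intro y hy
      obtain ⟨σ, hσ⟩ := hbij.2 ⟨y, hy⟩
      rw [← show el h (ι, σ.1) = y from congrArg Subtype.val hσ]
      exact (Subgroup.mem_centralizer_singleton_iff.1 (el_mem h _)).symm
    have hcomm : ∀ x ∈ {y : G | IsConj t y}, ∀ y ∈ {y : G | IsConj t y}, x * y = y * x := by
      intro x hx y hy
      obtain ⟨g, rfl⟩ := isConj_iff.1 hx
      have := hall (g⁻¹ * y * g) (hy.trans (isConj_iff.2 ⟨g⁻¹, by group⟩))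
      calc g * t * g⁻¹ * y = g * (t * (g⁻¹ * y * g)) * g⁻¹ := by group
        _ = _ := by rw [this]; group
    let N := Subgroup.closure {y : G | IsConj t y}
    haveI hNn : N.Normal := by
      refine ⟨fun n hn g => ?_⟩
      induction hn using Subgroup.closure_induction with
      | mem x hx => exact Subgroup.subset_closure (hx.trans (isConj_iff.2 ⟨g, rfl⟩))
      | one => rw [mul_one, mul_inv_cancel]; exact one_mem N
      | mul x y _ _ hx hy => rw [← conj_mul]; exact mul_mem hx hy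
      | inv x _ hx => rw [← conj_inv]; exact inv_mem hx
    haveI hNc : IsMulCommutative ↥N := Subgroup.isMulCommutative_closure hcomm
    rcases (inferInstance : (N.subgroupOf G0).Normal).eq_bot_or_eq_top with e | e
    · have hbN : t * el h (ι, U) ∈ N := mul_mem (Subgroup.subset_closure (IsConj.refl t)) (Subgroup.subset_closure hb.symm)
      rw [t_mul_el, iota_sq] at hbN
      have : (⟨el h (1, U), hel U⟩ : ↥G0) ∈ N.subgroupOf G0 := Subgroup.mem_subgroupOf.2 hbN
      rw [e, Subgroup.mem_bot] at this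
      exact absurd (el_inj h ((congrArg Subtype.val this).trans (el_one h).symm)) U_ne_one
    · refine hnab ⟨⟨fun a b => Subtype.ext ?_⟩⟩
      have ha : (a : G) ∈ N := Subgroup.mem_subgroupOf.1 (e.ge (Subgroup.mem_top a))
      have hb' : (b : G) ∈ N := Subgroup.mem_subgroupOf.1 (e.ge (Subgroup.mem_top b))
      show (a : G) * (b : G) = (b : G) * (a : G)
      exact congrArg (fun u : ↥N => (u : G)) (mul_comm' (⟨_, ha⟩ : ↥N) ⟨_, hb'⟩)
  · obtain ⟨φ⟩ := S0497.result (G := ↥G0) h360
    obtain ⟨τ, hτ⟩ : ∃ τ : AltSixAut.A6 ≃* AltSixAut.A6, ∀ a, ((φ.symm (τ a) : ↥G0) : G) = t * ((φ.symm a : ↥G0) : G) * t⁻¹ := by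
      refine ⟨φ.symm.trans ((MulAut.conjNormal t : MulAut ↥G0).trans φ), fun a => ?_⟩
      simp
    obtain ⟨c, hc⟩ : ∃ c, c = φ ⟨el h (1, R), hel R⟩ := ⟨_, rfl⟩
    have hc' : ((φ.symm c : ↥G0) : G) = el h (1, R) := by rw [hc, MulEquiv.symm_apply_apply]
    have hinj6 : ∀ a b : AltSixAut.A6, ((φ.symm a : ↥G0) : G) = ((φ.symm b : ↥G0) : G) → a = b :=
      fun a b e => φ.symm.injective (Subtype.ext e)
    have hτc : τ c = c := hinj6 _ _ (by
      rw [hτ, hc']
      have := Subgroup.mem_centralizer_singleton_iff.1 (el_mem h (1, R))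
      rw [← this]; group)
    have hc3 : c * c * c = 1 := hinj6 _ _ (by
      simp only [map_mul, map_one, Subgroup.coe_mul, hc', el_mul, Subgroup.coe_one, ← el_one h]
      exact congrArg (el h) R_cube)
    have hc1 : c ≠ 1 := fun e => by
      rw [e, map_one, Subgroup.coe_one, ← el_one h] at hc'
      exact absurd (el_inj h hc') R_ne_one.symm
    -- the six subgroups
    let H : Fin 6 → Subgroup G := fun i => ((AltSixAut.stab i).map φ.symm.toMonoidHom).map G0.subtype
    have hHmem : ∀ i (a : AltSixAut.A6), ((φ.symm a : ↥G0) : G) ∈ H i ↔ (a : Perm (Fin 6)) i = i := by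
      intro i a
      constructor
      · rintro ⟨x, ⟨y, hy, rfl⟩, e⟩
        rw [← hinj6 y a e]
        exact hy
      · exact fun ha => ⟨φ.symm a, ⟨a, ha, rfl⟩, rfl⟩
    have hHinj : Function.Injective H := by
      intro i j e
      by_contra hij
      have hex : ∀ i j : Fin 6, i ≠ j → ∃ a b : Fin 6, Perm.sign (swap j a * swap a b) = 1 ∧
          (swap j a * swap a b) i = i ∧ (swap j a * swap a b) j ≠ j := by decide +kernel
      obtain ⟨a, b, hs, hi, hj⟩ := hex i j hij
      have := (hHmem i ⟨_, Perm.mem_alternatingGroup.2 hs⟩).2 hi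
      rw [e] at this
      exact hj ((hHmem j _).1 this)
    have hG0act : ∀ g ∈ G0, ∀ i, ∃ j, (H i).map (MulAut.conj g).toMonoidHom = H j := by
      intro g hg i
      refine ⟨((φ ⟨g, hg⟩ : AltSixAut.A6) : Perm (Fin 6)) i, ?_⟩
      show _ = ((AltSixAut.stab _).map φ.symm.toMonoidHom).map G0.subtype
      rw [← AltSixAut.stab_conj, Subgroup.map_map, Subgroup.map_map, Subgroup.map_map, Subgroup.map_map]
      congr 1
      ext a
      simp
    have htact : ∀ i, ∃ j, (H i).map (MulAut.conj t).toMonoidHom = H j := by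
      intro i
      obtain ⟨j, hj⟩ := AltSixAut.map_stab τ hc3 hc1 hτc i
      refine ⟨j, ?_⟩
      show _ = ((AltSixAut.stab _).map φ.symm.toMonoidHom).map G0.subtype
      rw [← hj, Subgroup.map_map, Subgroup.map_map, Subgroup.map_map, Subgroup.map_map]
      congr 1
      ext a
      exact (hτ a).symm
    have hcc : ∀ (a b : G) (L : Subgroup G), (L.map (MulAut.conj b).toMonoidHom).map (MulAut.conj a).toMonoidHom =
        L.map (MulAut.conj (a * b)).toMonoidHom := fun a b L =>
      (Subgroup.map_map L (MulAut.conj a).toMonoidHom (MulAut.conj b).toMonoidHom).trans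
        (congrArg (fun F : G →* G => L.map F) (MonoidHom.ext fun x => by simp [mul_assoc]))
    have hact : ∀ g : G, ∀ i, ∃ j, (H i).map (MulAut.conj g).toMonoidHom = H j := by
      intro g i
      by_cases hg : g ∈ G0
      · exact hG0act g hg i
      · obtain ⟨j, hj⟩ := htact i
        have hgt : g * t⁻¹ ∈ G0 := (Subgroup.mul_mem_iff_of_index_two hG0).2 ⟨fun e => absurd e hg, fun e => absurd (inv_mem_iff.1 e) htG0⟩
        obtain ⟨k, hk⟩ := hG0act _ hgt j
        refine ⟨k, ?_⟩
        rw [← hk, ← hj, hcc, inv_mul_cancel_right]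
    choose f hf using hact
    have hmul : ∀ g g' i, f (g * g') i = f g (f g' i) := fun g g' i => hHinj (by
      rw [← hf, ← hf, ← hf, hcc])
    have hone : ∀ i, f 1 i = i := fun i => hHinj (by
      rw [← hf]
      exact (congrArg (fun F : G →* G => (H i).map F) (MonoidHom.ext fun a => by simp :
        (MulAut.conj (1 : G)).toMonoidHom = MonoidHom.id G)).trans (Subgroup.map_id _))
    let ψ : G →* Perm (Fin 6) :=
      { toFun := fun g => ⟨f g, f g⁻¹, fun i => by rw [← hmul, inv_mul_cancel, hone],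
          fun i => by rw [← hmul, mul_inv_cancel, hone]⟩
        map_one' := Equiv.ext hone
        map_mul' := fun g g' => Equiv.ext (hmul g g') }
    have hk0 : ∀ k ∈ ψ.ker, k ∈ G0 → k = 1 := by
      intro k hk hk0
      have hfix : ∀ i, f k i = i := fun i => Equiv.ext_iff.1 (MonoidHom.mem_ker.1 hk) i
      have heq : ((φ ⟨k, hk0⟩ : AltSixAut.A6) : Perm (Fin 6)) = 1 := Equiv.ext fun i => by
        refine hHinj ?_
        rw [Perm.one_apply]
        conv_rhs => rw [← hfix i, ← hf]
        show ((AltSixAut.stab _).map φ.symm.toMonoidHom).map G0.subtype = _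
        rw [← AltSixAut.stab_conj, Subgroup.map_map, Subgroup.map_map, Subgroup.map_map, Subgroup.map_map]
        congr 1
        ext a
        simp
      have : (⟨k, hk0⟩ : ↥G0) = 1 := φ.injective (by rw [map_one]; exact Subtype.ext heq)
      exact congrArg Subtype.val this
    have hker : Function.Injective ψ := by
      rw [← MonoidHom.ker_eq_bot_iff, eq_bot_iff]
      intro k hk
      by_contra hk1
      rw [Subgroup.mem_bot] at hk1
      have hkG0 : k ∉ G0 := fun e => hk1 (hk0 k hk e)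
      have hcen : ∀ g : G, g * k = k * g := fun g => by
        have hm : g * k * g⁻¹ * k⁻¹ ∈ ψ.ker := mul_mem ((MonoidHom.normal_ker ψ).conj_mem k hk g) (inv_mem hk)
        exact mul_inv_eq_iff_eq_mul.1 (mul_inv_eq_one.1 (hk0 _ hm (comm_mem hG0 g k)))
      have hkC : k ∈ Subgroup.centralizer ({t} : Set G) := Subgroup.mem_centralizer_singleton_iff.2 (hcen t).symm
      obtain ⟨⟨ε, σ⟩, rfl⟩ := exists_el h hkC
      have hσ : σ = 1 := s4_center σ fun π => by
        have := (hcen (el h (1, π))).symm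
        rw [el_mul, el_mul] at this
        exact congrArg Prod.snd (el_inj h this)
      subst hσ
      rcases eps ε with rfl | rfl
      · exact hk1 (el_one h)
      · refine hne (eq_top_iff.2 fun g _ => Subgroup.mem_centralizer_singleton_iff.2 ?_)
        have := hcen g
        rwa [el_iota] at this
    have hbij : Function.Bijective ψ := (Nat.bijective_iff_injective_and_card ψ).2
      ⟨hker, by rw [card_G hG0, h360, Nat.card_perm, Nat.card_fin]; decide⟩
    refine ⟨fun hsol => ?_, ⟨MulEquiv.ofBijective ψ hbij⟩⟩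
    exact Equiv.Perm.not_solvable (Fin 6) (by simp; norm_num) (solvable_of_surjective hbij.2)

end Cfsg.Agent.InvChar.TwoTimesSymFour
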