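import Cfsg.Agent.InvChar.UnitaryThreeSylowExtension

/-!
# No automorphism group `S₃` on the Sylow 2-subgroup of `SU₃(4)`
-/

set_option autoImplicit false
set_option linter.all false

namespace Cfsg.Agent.InvChar.UnitaryThreeFourSylowAut

open Cfsg.Agent.Classical Cfsg.Agent.Classical.Unitary Cfsg.Agent.Forms
  Cfsg.Agent.Involutions.SylowPSUThree

variable {F : Type*} [Field F] [Fintype F] [CharP F 2]

local notation "q₄" => 2 ^ 2

set_option maxHeartbeats 1000000 in
/-- An automorphism of order dividing three which is inverted by an involutory automorphism is trivial. -/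
theorem eq_one (hF : Fintype.card F = (2 ^ 2) ^ 2) (B : Base F 2) (ρ x : MulAut (heis hF B))
    (hρ : ρ ^ 3 = 1) (hx : x * x = 1) (hxr : x * ρ * x⁻¹ = ρ⁻¹) : ρ = 1 := by
  classical
  let τ := ρ
  have hxz : ∀ z ∈ Subgroup.center (heis hF B), x z = z := fun z hz =>
    UnitaryThreeSylowExtension.center_fixed hF B x 1 (fun s => by
      rw [← MulAut.mul_apply, hx, one_mul, inv_one, mul_one]; rfl) z hz
  let θ := HermStd.qHom hF
  have θap : ∀ x : F, θ x = x ^ (2 ^ 2) := fun x => HermStd.qHom_apply hF x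
  -- canonical elements
  have hlift : ∀ b : F, ∃ (s : heis hF B) (a : F), IsCoord B (s : Cfsg.SU 3 F (2 ^ 2)) b a :=
    fun b => by
      obtain ⟨a, ha⟩ := exists_trace_eq hF (norm_fixed hF b)
      obtain ⟨s, hs⟩ := exists_el hF B ha
      exact ⟨s, a, hs⟩
  choose L aL hL using hlift
  choose bc ac hcoord using fun s : heis hF B => exists_coord hF B s.2
  have hbc : ∀ (s : heis hF B) b a, IsCoord B (s : Cfsg.SU 3 F (2 ^ 2)) b a →
      bc s = b ∧ ac s = a := fun s b a h => IsCoord.unique hF B (hcoord s) h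
  have hbmul : ∀ s t : heis hF B, bc (s * t) = bc s + bc t := fun s t =>
    (hbc (s * t) _ _ ((hcoord s).mul hF B (hcoord t))).1
  have hcen : ∀ s, s ∈ Subgroup.center (heis hF B) ↔ bc s = 0 := fun s =>
    mem_center_iff' hF B (hcoord s)
  have hb1 : bc (1 : heis hF B) = 0 := (hcen 1).1 (one_mem _)
  have hbinv : ∀ s : heis hF B, bc s⁻¹ = bc s := fun s => by
    have := hbmul s s⁻¹
    rw [mul_inv_cancel, hb1] at this
    exact (CharTwo.add_eq_zero.1 this.symm).symm
  have hcτ : ∀ s, s ∈ Subgroup.center (heis hF B) → τ s ∈ Subgroup.center (heis hF B) :=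
    fun s hs => Subgroup.mem_center_iff.2 fun t => by
      obtain ⟨t, rfl⟩ := τ.surjective t
      rw [← map_mul, ← map_mul, Subgroup.mem_center_iff.1 hs t]
  have hρz : ∀ z ∈ Subgroup.center (heis hF B), τ z = z := by
    intro z hz
    have h1 : x (ρ z) = ρ⁻¹ (x z) := by
      rw [← MulAut.mul_apply, ← MulAut.mul_apply, ← hxr, inv_mul_cancel_right]
    rw [hxz z hz, hxz _ (hcτ z hz)] at h1
    have h2 : ρ (ρ z) = z := by
      conv_lhs => rw [h1]
      rw [← MulAut.mul_apply, mul_inv_cancel]; rfl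
    have h3 : (ρ ^ 3) z = z := by rw [hρ]; rfl
    rw [pow_three, MulAut.mul_apply, MulAut.mul_apply, h2] at h3
    exact h3
  let σ : F → F := fun b => bc (τ (L b))
  have hσ : ∀ s, bc (τ s) = σ (bc s) := by
    intro s
    have hmem : (L (bc s))⁻¹ * s ∈ Subgroup.center (heis hF B) := by
      rw [hcen, hbmul, hbinv, (hbc _ _ _ (hL (bc s))).1, CharTwo.add_self_eq_zero]
    have h1 := (hcen _).1 (hcτ _ hmem)
    rw [map_mul, map_inv, hbmul, hbinv] at h1
    exact (CharTwo.add_eq_zero.1 h1).symm
  have hbL : ∀ b, bc (L b) = b := fun b => (hbc _ _ _ (hL b)).1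
  have hsq : ∀ s : heis hF B, ac (s * s) = bc s * θ (bc s) := fun s => by
    rw [θap]
    exact (hbc (s * s) _ _ (mul_self hF B (hcoord s))).2
  have hadd : ∀ u v, σ (u + v) = σ u + σ v := by
    intro u v
    have h1 := hσ (L u * L v)
    rw [map_mul, hbmul, hbmul, hσ, hσ, hbL, hbL] at h1
    exact h1.symm
  have hN : ∀ u, σ u * θ (σ u) = u * θ u := by
    intro u
    have h1 := congrArg ac (hρz _ (sq_mem_center hF B (L u)))
    rw [map_mul, hsq, hsq, hσ, hbL] at h1
    exact h1
  have hσ0 : σ 0 = 0 := by simpa [CharTwo.add_self_eq_zero] using hadd 0 0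
  have hinj : Function.Injective σ := by
    intro u v h
    have h1 := hN (u + v)
    rw [hadd, h, CharTwo.add_self_eq_zero, zero_mul] at h1
    rcases mul_eq_zero.1 h1.symm with h2 | h2
    · exact CharTwo.add_eq_zero.1 h2
    · exact CharTwo.add_eq_zero.1 ((map_eq_zero θ).1 h2)
  have hθ : ∀ u, θ (θ u) = u := fun u => by rw [θap, θap, pow_qq hF]
  -- linearity over the fixed field
  have hlin : ∀ u t, θ t = t → σ (t * u) = t * σ u := by
    intro u t ht
    rcases eq_or_ne u 0 with rfl | hu
    · simp [hσ0]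
    have hσu : σ u ≠ 0 := fun h => hu (hinj (h.trans hσ0.symm))
    have hσu' : θ (σ u) ≠ 0 := (map_ne_zero θ).2 hσu
    have hB : σ u * θ (σ (t * u)) + σ (t * u) * θ (σ u) = 0 := by
      have h1 := hN (u + t * u)
      rw [hadd, map_add, map_add, map_mul, ht] at h1
      have h2 := hN (t * u)
      rw [map_mul, ht] at h2
      linear_combination h1 - hN u - h2 + (t * (u * θ u)) * (CharTwo.two_eq_zero : (2 : F) = 0)
    set s := σ (t * u) / σ u with hsd
    have hs : σ (t * u) = s * σ u := (div_mul_cancel₀ _ hσu).symm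
    have hsK : θ s = s := by
      rw [hsd, map_div₀, div_eq_div_iff hσu' hσu]
      linear_combination hB - (σ (t * u) * θ (σ u)) * (CharTwo.two_eq_zero : (2 : F) = 0)
    have h1 := hN (t * u)
    rw [hs, map_mul, map_mul, hsK, ht] at h1
    have h2 : (s + t) * (s + t) * (u * θ u) = 0 := by
      linear_combination h1 - (s * s) * hN u + (t * t + s * t) * (u * θ u) * (CharTwo.two_eq_zero : (2 : F) = 0)
    rcases mul_eq_zero.1 h2 with h3 | h3
    · rw [hs, CharTwo.add_eq_zero.1 (mul_self_eq_zero.1 h3)]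
    · exact absurd h3 (mul_ne_zero hu ((map_ne_zero θ).2 hu))
  have hperiod : ∀ u, σ (σ (σ u)) = u := by
    intro u
    have h1 : (ρ ^ 3) (L u) = L u := by rw [hρ]; rfl
    rw [pow_three, MulAut.mul_apply, MulAut.mul_apply] at h1
    have h2 := congrArg bc h1
    rw [hσ, hσ, hσ, hbL] at h2
    exact h2
  -- two fixed vectors on the unit circle
  haveI : Fact (Nat.Prime 3) := ⟨Nat.prime_three⟩
  obtain ⟨u, v, hu, hv, huv, hNu, hNv⟩ : ∃ u v : F, σ u = u ∧ σ v = v ∧ u ≠ v ∧ u * θ u = 1 ∧ v * θ v = 1 := by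
    let C := {u : F // u * θ u = 1}
    let e : C → C := fun u => ⟨σ u.1, (hN u.1).trans u.2⟩
    have he : Function.Bijective e :=
      Finite.injective_iff_bijective.1 fun a b h => Subtype.ext (hinj (congrArg Subtype.val h))
    let π : Equiv.Perm C := Equiv.ofBijective e he
    have hπ : π ^ 3 = 1 := Equiv.ext fun u => Subtype.ext (hperiod u.1)
    have hcard : Fintype.card C = 5 := by
      obtain ⟨g, hg⟩ := IsCyclic.exists_generator (α := Fˣ)
      have hcK : Nat.card (powMonoidHom 5 : Fˣ →* Fˣ).ker = 5 := by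
        rw [IsCyclic.card_powMonoidHom_ker, Nat.card_units, Nat.card_eq_fintype_card, hF]
        norm_num
      rw [← Nat.card_eq_fintype_card, ← hcK]
      refine Nat.card_congr ⟨fun u => ⟨Units.mk0 u.1 (fun h => by simpa [h] using u.2), ?_⟩,
        fun u => ⟨((u : Fˣ) : F), ?_⟩, fun u => rfl, fun u => Subtype.ext (Units.ext rfl)⟩
      · refine Units.ext ?_
        have h := u.2
        rw [θap, ← pow_succ'] at h
        simpa using h
      · rw [θap, ← pow_succ']
        simpa using congrArg Units.val u.2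
    have hsupp := Equiv.Perm.card_compl_support_modEq (p := 3) (n := 1) (σ := π) (by rwa [pow_one])
    rw [hcard] at hsupp
    have h2 : 1 < (π.supportᶜ).card := by
      have hle : (π.supportᶜ).card ≤ 5 := hcard ▸ Finset.card_le_univ _
      unfold Nat.ModEq at hsupp
      omega
    obtain ⟨a, ha, b, hb, hab⟩ := Finset.one_lt_card.1 h2
    simp only [Finset.mem_compl, Equiv.Perm.mem_support, not_not] at ha hb
    exact ⟨a.1, b.1, congrArg Subtype.val ha, congrArg Subtype.val hb, fun h => hab (Subtype.ext h),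
      a.2, b.2⟩
  have hind : θ (v / u) ≠ v / u := by
    intro h
    have hu0 : u ≠ 0 := fun h' => by simp [h'] at hNu
    have h1 : v / u * θ (v / u) = 1 := by
      rw [map_div₀, div_mul_div_comm, hNu, hNv, div_one]
    rw [h] at h1
    have h2 : (v / u + 1) * (v / u + 1) = 0 := by
      linear_combination h1 + (v / u + 1) * (CharTwo.two_eq_zero : (2 : F) = 0)
    exact huv ((div_eq_one_iff_eq hu0).1 (CharTwo.add_eq_zero.1 (mul_self_eq_zero.1 h2))).symm
  have hid : ∀ w, σ w = w := by
    intro w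
    have hu0 : u ≠ 0 := fun h' => by simp [h'] at hNu
    set r := v / u with hr
    set y := w / u with hy
    have hd : θ r + r ≠ 0 := fun h => hind (CharTwo.add_eq_zero.1 h)
    set b := (θ y + y) / (θ r + r) with hb
    set a := y + b * r with ha
    have hbK : θ b = b := by
      rw [hb, map_div₀, map_add, map_add, hθ, hθ, add_comm y, add_comm r]
    have haK : θ a = a := by
      rw [ha, map_add, map_mul, hbK]
      have h1 : b * (θ r + r) = θ y + y := div_mul_cancel₀ _ hd
      linear_combination h1 + (θ y - b * r) * (CharTwo.two_eq_zero : (2 : F) = 0)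
    have hw : w = a * u + b * v := by
      have h1 : v = r * u := (div_mul_cancel₀ _ hu0).symm
      have h2 : w = y * u := (div_mul_cancel₀ _ hu0).symm
      rw [h1, h2, ha]
      linear_combination (-(b * r * u)) * (CharTwo.two_eq_zero : (2 : F) = 0)
    rw [hw, hadd, hlin u a haK, hlin v b hbK, hu, hv]
  refine MulEquiv.ext fun s => ?_
  obtain ⟨z, hz, hsz⟩ : ∃ z ∈ Subgroup.center (heis hF B), ρ s = s * z := by
    refine ⟨s⁻¹ * ρ s, ?_, by rw [mul_inv_cancel_left]⟩
    rw [hcen, hbmul, hbinv, hσ, hid, CharTwo.add_self_eq_zero]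
  have hz2 : z * z = 1 := isPow_two hF B z hz
  have h1 : (ρ ^ 3) s = s := by rw [hρ]; rfl
  rw [pow_three, MulAut.mul_apply, MulAut.mul_apply, hsz, map_mul, map_mul, hρz z hz, hsz,
    map_mul, hρz z hz] at h1
  show ρ s = s
  rwa [mul_assoc, hz2, mul_one] at h1

end Cfsg.Agent.InvChar.UnitaryThreeFourSylowAut
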