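import Cfsg.Agent.InvChar.UnitaryThreeSylowExtension
import Cfsg.Agent.Lib.Cores.Basic
import Cfsg.Agent.Lib.AutPSL.Out

/-!
# The automorphism group of a Sylow 2-subgroup of `SU₃(2^n)`
-/

set_option autoImplicit false
set_option linter.all false

namespace Cfsg.Agent.InvChar.UnitaryThreeSylowAutGroup

open Cfsg.Agent.Classical Cfsg.Agent.Classical.Unitary Cfsg.Agent.Forms
  Cfsg.Agent.Involutions.SylowPSUThree

variable {F : Type*} [Field F] [Fintype F] [CharP F 2] {n : ℕ}
variable {hF : Fintype.card F = (2 ^ n) ^ 2} {B : Base F n}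

local notation "P" => heis hF B
local notation "θ" => HermStd.qHom hF

theorem theta_theta (x : F) : θ (θ x) = x := by
  rw [HermStd.qHom_apply, HermStd.qHom_apply, pow_qq hF]

/-- The first coordinate. -/
noncomputable def bc (s : P) : F := (exists_coord hF B s.2).choose

/-- The second coordinate. -/
noncomputable def ac (s : P) : F := (exists_coord hF B s.2).choose_spec.choose

theorem coord (s : P) : IsCoord B (s : Cfsg.SU 3 F (2 ^ n)) (bc s) (ac s) :=
  (exists_coord hF B s.2).choose_spec.choose_spec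

theorem coord_eq {s : P} {b a : F} (h : IsCoord B (s : Cfsg.SU 3 F (2 ^ n)) b a) :
    bc s = b ∧ ac s = a := IsCoord.unique hF B (coord s) h

theorem ext {s t : P} (hb : bc s = bc t) (ha : ac s = ac t) : s = t := by
  refine Subtype.ext (IsCoord.ext hF B (coord s) ?_)
  rw [hb, ha]
  exact coord t

theorem valid (s : P) : ac s + θ (ac s) = bc s * θ (bc s) := by
  rw [HermStd.qHom_apply, HermStd.qHom_apply]
  exact (coord s).2

theorem exists_bc_ac {b a : F} (h : a + θ a = b * θ b) : ∃ s : P, bc s = b ∧ ac s = a := by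
  rw [HermStd.qHom_apply, HermStd.qHom_apply] at h
  obtain ⟨s, hs⟩ := exists_el hF B h
  exact ⟨s, coord_eq hs⟩

theorem mul_coord (s t : P) :
    bc (s * t) = bc s + bc t ∧ ac (s * t) = ac s + ac t + bc t * θ (bc s) := by
  rw [HermStd.qHom_apply]
  exact coord_eq (s := s * t) ((coord s).mul hF B (coord t))

theorem bc_one : bc (1 : P) = 0 ∧ ac (1 : P) = 0 :=
  coord_eq (s := (1 : P)) (isCoord_one hF B)

theorem sq_coord (s : P) : bc (s * s) = 0 ∧ ac (s * s) = bc s * θ (bc s) := by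
  obtain ⟨h1, h2⟩ := mul_coord s s
  rw [CharTwo.add_self_eq_zero] at h1
  rw [CharTwo.add_self_eq_zero, zero_add] at h2
  exact ⟨h1, h2⟩

theorem bc_inv (s : P) : bc s⁻¹ = bc s := by
  have h := (mul_coord s s⁻¹).1
  rw [mul_inv_cancel, bc_one.1] at h
  exact (CharTwo.add_eq_zero.1 h.symm).symm

theorem mem_center {s : P} : s ∈ Subgroup.center P ↔ bc s = 0 := mem_center_iff' hF B (coord s)

theorem exists_lift (b : F) : ∃ s : P, bc s = b := by
  obtain ⟨a, ha⟩ := exists_trace_eq hF (norm_fixed hF b)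
  obtain ⟨s, hs, -⟩ := exists_bc_ac (B := B) (hF := hF) (b := b) (a := a)
    (by rw [HermStd.qHom_apply, HermStd.qHom_apply]; exact ha)
  exact ⟨s, hs⟩

theorem exists_central {c : F} (hc : θ c = c) : ∃ s : P, bc s = 0 ∧ ac s = c :=
  exists_bc_ac (by rw [hc, CharTwo.add_self_eq_zero, zero_mul])

theorem central_fixed {s : P} (hs : bc s = 0) : θ (ac s) = ac s := by
  have h := valid s
  rw [hs, zero_mul] at h
  exact (CharTwo.add_eq_zero.1 h).symm

theorem exists_norm {c : F} (hc : θ c = c) : ∃ x : F, x * θ x = c := by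
  rcases eq_or_ne c 0 with rfl | h0
  · exact ⟨0, by rw [zero_mul]⟩
  obtain ⟨x, hx⟩ := UnitaryCount.exists_norm_eq hF h0 (by rwa [← HermStd.qHom_apply hF])
  refine ⟨x, ?_⟩
  rw [HermStd.qHom_apply, ← hx, pow_succ']

theorem exists_not_fixed : ∃ w : F, θ w ≠ w := by
  by_contra h
  push Not at h
  exact HermStd.qHom_ne_id hF (RingHom.ext h)

/-! ### The induced permutation of `F` -/

/-- The map induced on the first coordinate. -/
noncomputable def bmap (ρ : MulAut P) (b : F) : F := bc (ρ (exists_lift (B := B) b).choose)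

theorem map_center (ρ : MulAut P) {s : P} (hs : bc s = 0) : bc (ρ s) = 0 := by
  rw [← mem_center] at hs ⊢
  refine Subgroup.mem_center_iff.2 fun t => ?_
  obtain ⟨t, rfl⟩ := ρ.surjective t
  rw [← map_mul, ← map_mul, Subgroup.mem_center_iff.1 hs t]

theorem bc_map (ρ : MulAut P) (s : P) : bc (ρ s) = bmap ρ (bc s) := by
  have hl := (exists_lift (B := B) (hF := hF) (bc s)).choose_spec
  have h0 := map_center ρ (s := (exists_lift (B := B) (hF := hF) (bc s)).choose⁻¹ * s) (by
    rw [(mul_coord _ _).1, bc_inv, hl, CharTwo.add_self_eq_zero])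
  rw [map_mul, map_inv, (mul_coord _ _).1, bc_inv] at h0
  exact (CharTwo.add_eq_zero.1 h0).symm

theorem bmap_one (b : F) : bmap (1 : MulAut P) b = b := (exists_lift (B := B) (hF := hF) b).choose_spec

theorem bmap_mul (ρ τ : MulAut P) (b : F) : bmap (ρ * τ) b = bmap ρ (bmap τ b) := by
  show bc ((ρ * τ) _) = _
  rw [MulAut.mul_apply, bc_map]
  rfl

/-- The action on the first coordinate. -/
noncomputable def Ψ : MulAut P →* Equiv.Perm F where
  toFun ρ :=
    { toFun := bmap ρ
      invFun := bmap ρ⁻¹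
      left_inv := fun b => by rw [← bmap_mul, inv_mul_cancel, bmap_one]
      right_inv := fun b => by rw [← bmap_mul, mul_inv_cancel, bmap_one] }
  map_one' := Equiv.ext bmap_one
  map_mul' ρ τ := Equiv.ext (bmap_mul ρ τ)

theorem Psi_apply (ρ : MulAut P) (b : F) : Ψ ρ b = bmap ρ b := rfl

theorem bmap_add (ρ : MulAut P) (u v : F) : bmap ρ (u + v) = bmap ρ u + bmap ρ v := by
  obtain ⟨s, rfl⟩ := exists_lift (B := B) (hF := hF) u
  obtain ⟨t, rfl⟩ := exists_lift (B := B) (hF := hF) v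
  rw [← (mul_coord s t).1, ← bc_map, ← bc_map, ← bc_map, map_mul, (mul_coord _ _).1]

theorem norm_map (ρ : MulAut P) {x : F} {z : P} (hz : bc z = 0) (h : ac z = x * θ x) :
    ac (ρ z) = bmap ρ x * θ (bmap ρ x) := by
  obtain ⟨s, rfl⟩ := exists_lift (B := B) (hF := hF) x
  have hzs : z = s * s := ext (by rw [hz, (sq_coord s).1]) (by rw [h, (sq_coord s).2])
  rw [hzs, map_mul, (sq_coord _).2, bc_map]

theorem norm_map_eq (ρ : MulAut P) (s : P) :
    ac (ρ (s * s)) = bmap ρ (bc s) * θ (bmap ρ (bc s)) :=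
  norm_map ρ (sq_coord s).1 (sq_coord s).2

/-! ### Constructing automorphisms -/

theorem exists_aut (σ : F →+ F) (G : F → F → F) (hσ : Function.Injective σ)
    (hval : ∀ b a, a + θ a = b * θ b → G b a + θ (G b a) = σ b * θ (σ b))
    (hmul : ∀ b a b' a', a + θ a = b * θ b → a' + θ a' = b' * θ b' →
      G (b + b') (a + a' + b' * θ b) = G b a + G b' a' + σ b' * θ (σ b))
    (hG : ∀ b a a', G b a = G b a' → a = a') :
    ∃ ρ : MulAut P, ∀ s, bc (ρ s) = σ (bc s) ∧ ac (ρ s) = G (bc s) (ac s) := by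
  choose g hg using fun s : P => exists_bc_ac (B := B) (hval _ _ (valid s))
  have hgm : ∀ s t, g (s * t) = g s * g t := fun s t => by
    refine ext ?_ ?_
    · rw [(hg _).1, (mul_coord s t).1, map_add, (mul_coord (g s) (g t)).1, (hg s).1, (hg t).1]
    · rw [(hg _).2, (mul_coord s t).1, (mul_coord s t).2, (mul_coord (g s) (g t)).2, (hg s).2, (hg t).2,
        (hg s).1, (hg t).1]
      exact hmul _ _ _ _ (valid s) (valid t)
  let f : P →* P := MonoidHom.mk' g hgm
  have hf : Function.Injective f := by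
    intro s t h
    have hb : bc s = bc t := hσ (by rw [← (hg s).1, ← (hg t).1]; exact congrArg bc h)
    refine ext hb (hG (bc s) _ _ ?_)
    rw [← (hg s).2, hb, ← (hg t).2]
    exact congrArg ac h
  exact ⟨MulEquiv.ofBijective f (Finite.injective_iff_bijective.1 hf), hg⟩

/-- The semilinear automorphisms. -/
theorem exists_semilinear (a : Fˣ) (φ : F ≃+* F) :
    ∃ ρ : MulAut P, ∀ b, Ψ ρ b = (a : F) * φ b := by
  have hcomm : ∀ x, θ (φ x) = φ (θ x) := fun x => by
    rw [HermStd.qHom_apply, HermStd.qHom_apply, map_pow]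
  obtain ⟨ρ, hρ⟩ := exists_aut (B := B) (hF := hF)
    ((AddMonoidHom.mulLeft (a : F)).comp φ.toAddMonoidHom)
    (fun b c => ((a : F) * θ (a : F)) * φ c)
    (fun x y h => φ.injective (mul_left_cancel₀ a.ne_zero h))
    (fun b c h => by
      show _ = (a : F) * φ b * θ ((a : F) * φ b)
      rw [map_mul, map_mul, map_mul, theta_theta, hcomm, hcomm,
        show (a : F) * φ b * (θ (a : F) * φ (θ b)) = ((a : F) * θ (a : F)) * φ (b * θ b) by
          rw [map_mul]; ring, ← h, map_add]
      ring)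
    (fun b c b' c' _ _ => by
      show _ = _ + _ + (a : F) * φ b' * θ ((a : F) * φ b)
      rw [map_add, map_add, map_mul, map_mul, hcomm]; ring)
    (fun b c c' h => φ.injective (mul_left_cancel₀
      (mul_ne_zero a.ne_zero ((map_ne_zero θ).2 a.ne_zero)) h))
  refine ⟨ρ, fun b => ?_⟩
  obtain ⟨s, rfl⟩ := exists_lift (B := B) (hF := hF) b
  rw [Psi_apply, ← bc_map, (hρ s).1]
  rfl

/-! ### The image -/

theorem exists_eq_semilinear (ρ : MulAut P) :
    ∃ (a : Fˣ) (φ : F ≃+* F), ∀ b, Ψ ρ b = (a : F) * φ b := by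
  classical
  have hinj : Function.Injective (bmap ρ) := (Ψ ρ).injective
  have h0 : bmap ρ 0 = 0 := by simpa [CharTwo.add_self_eq_zero] using bmap_add ρ 0 0
  have ha : bmap ρ 1 ≠ 0 := fun h => one_ne_zero (hinj (h.trans h0.symm))
  -- the map on the fixed field
  choose Z hZ using fun (c : F) (hc : θ c = c) => exists_central (B := B) hc
  let h : F → F := fun c => if hc : θ c = c then ac (ρ (Z c hc)) else 0
  have hh : ∀ z : P, bc z = 0 → ac (ρ z) = h (ac z) := fun z hz => by
    have hc := central_fixed hz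
    simp only [h, dif_pos hc]
    rw [show Z (ac z) hc = z from ext (by rw [hz, (hZ _ hc).1]) (hZ _ hc).2]
  have hN : ∀ x, bmap ρ x * θ (bmap ρ x) = h (x * θ x) := by
    intro x
    obtain ⟨s, rfl⟩ := exists_lift (B := B) (hF := hF) x
    rw [← norm_map_eq, hh _ (sq_coord s).1, (sq_coord s).2]
  have hha : ∀ c d, θ c = c → θ d = d → h (c + d) = h c + h d := by
    intro c d hc hd
    have h1 := hh (Z c hc * Z d hd) (by rw [(mul_coord _ _).1, (hZ c hc).1, (hZ d hd).1, add_zero])
    rw [map_mul, (mul_coord _ _).2, (mul_coord (Z c hc) (Z d hd)).2, map_center ρ (hZ d hd).1,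
      (hZ d hd).1, zero_mul, add_zero, zero_mul, add_zero, (hZ c hc).2, (hZ d hd).2, hh _ (hZ c hc).1,
      hh _ (hZ d hd).1, (hZ c hc).2, (hZ d hd).2] at h1
    exact h1.symm
  set a := bmap ρ 1 with hadef
  let e := a * θ a
  have he0 : e ≠ 0 := mul_ne_zero ha ((map_ne_zero θ).2 ha)
  have heK : θ e = e := by show θ (a * θ a) = a * θ a; rw [map_mul, theta_theta, mul_comm]
  -- normalise
  let σ : F → F := fun x => bmap ρ x / a
  let f : F → F := fun c => h c / e
  have σadd : ∀ u v, σ (u + v) = σ u + σ v := fun u v => by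
    simp only [σ]; rw [bmap_add, add_div]
  have σone : σ 1 = 1 := div_self ha
  have σinj : Function.Injective σ := fun u v h => hinj ((div_left_inj' ha).1 h)
  have σN : ∀ x, σ x * θ (σ x) = f (x * θ x) := fun x => by
    simp only [σ, f, e]
    rw [map_div₀, div_mul_div_comm, hN]
  have hNK : ∀ x : F, θ (x * θ x) = x * θ x := fun x => by rw [map_mul, theta_theta, mul_comm]
  have hBK : ∀ x y : F, θ (x * θ y + y * θ x) = x * θ y + y * θ x := fun x y => by
    rw [map_add, map_mul, map_mul, theta_theta, theta_theta]; ring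
  have fadd : ∀ c d, θ c = c → θ d = d → f (c + d) = f c + f d := fun c d hc hd => by
    simp only [f]; rw [hha c d hc hd, add_div]
  have f1 : f 1 = 1 := by
    have := σN 1
    rw [σone, map_one, mul_one] at this
    exact this.symm
  have σB : ∀ x y, σ x * θ (σ y) + σ y * θ (σ x) = f (x * θ y + y * θ x) := by
    intro x y
    have e1 := σN (x + y)
    rw [σadd, map_add, map_add,
      show (x + y) * (θ x + θ y) = x * θ x + (y * θ y + (x * θ y + y * θ x)) by ring,
      fadd _ _ (hNK x) (by rw [map_add, hNK, hBK]), fadd _ _ (hNK y) (hBK x y)] at e1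
    linear_combination e1 - σN x - σN y
  have σ0 : σ 0 = 0 := by simpa [CharTwo.add_self_eq_zero] using σadd 0 0
  have f0 : f 0 = 0 := by simpa [CharTwo.add_self_eq_zero] using fadd 0 0 (map_zero θ) (map_zero θ)
  have two0 : (2 : F) = 0 := CharTwo.two_eq_zero
  -- semilinearity
  have key : ∀ x t, θ t = t → σ (t * x) = σ t * σ x ∧ θ (σ t) = σ t ∧ ∀ c, θ c = c → f (t * c) = σ t * f c := by
    have step : ∀ x, x ≠ 0 → ∀ t, θ t = t →
        ∃ s, θ s = s ∧ σ (t * x) = s * σ x ∧ ∀ c, θ c = c → f (t * c) = s * f c := by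
      intro x hx t ht
      have hσx : σ x ≠ 0 := fun h' => hx (σinj (h'.trans σ0.symm))
      have hσx' : θ (σ x) ≠ 0 := (map_ne_zero θ).2 hσx
      have hzero : σ x * θ (σ (t * x)) + σ (t * x) * θ (σ x) = 0 := by
        rw [σB, map_mul, ht, show x * (t * θ x) + t * x * θ x = 0 by
          linear_combination (t * x * θ x) * two0]
        exact f0
      refine ⟨σ (t * x) / σ x, ?_, (div_mul_cancel₀ _ hσx).symm, ?_⟩
      · rw [map_div₀, div_eq_div_iff hσx' hσx]
        linear_combination hzero - (σ (t * x) * θ (σ x)) * two0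
      intro c hc
      obtain ⟨z, hz⟩ := exists_trace_eq hF (c := c) (by rw [← HermStd.qHom_apply hF]; exact hc)
      have hx' : θ x ≠ 0 := (map_ne_zero θ).2 hx
      set y := z / θ x with hy
      have hyc : x * θ y + y * θ x = c := by
        rw [hy, map_div₀, theta_theta, mul_div_cancel₀ _ hx, div_mul_cancel₀ _ hx', HermStd.qHom_apply]
        linear_combination hz
      have hsK : θ (σ (t * x) / σ x) = σ (t * x) / σ x := by
        rw [map_div₀, div_eq_div_iff hσx' hσx]
        linear_combination hzero - (σ (t * x) * θ (σ x)) * two0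
      have h1 := σB (t * x) y
      rw [show σ (t * x) = σ (t * x) / σ x * σ x from (div_mul_cancel₀ _ hσx).symm, map_mul, hsK,
        show t * x * θ y + y * θ (t * x) = t * c by rw [map_mul, ht, ← hyc]; ring] at h1
      have h2 := σB x y
      rw [hyc] at h2
      linear_combination (σ (t * x) / σ x) * h2 - h1
    intro x t ht
    obtain ⟨s, hsK, hs, hsf⟩ := step 1 one_ne_zero t ht
    rw [mul_one, σone, mul_one] at hs
    refine ⟨?_, hs ▸ hsK, fun c hc => hs ▸ hsf c hc⟩
    rcases eq_or_ne x 0 with rfl | hx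
    · rw [mul_zero, σ0, mul_zero]
    obtain ⟨s', -, hs', hsf'⟩ := step x hx t ht
    have h1 := hsf 1 (map_one θ)
    rw [hsf' 1 (map_one θ), f1, mul_one, mul_one] at h1
    rw [hs', h1, hs]
  have fσ : ∀ t, θ t = t → f t = σ t := fun t ht => by
    have := (key 1 t ht).2.2 1 (map_one θ)
    rwa [mul_one, f1, mul_one] at this
  obtain ⟨w, hw⟩ := exists_not_fixed (hF := hF)
  have hd : θ w + w ≠ 0 := fun h' => hw (CharTwo.add_eq_zero.1 h')
  set T := w + θ w with hT
  set N := w * θ w with hNd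
  have TK : θ T = T := by rw [hT, map_add, theta_theta, add_comm]
  have NK : θ N = N := hNK w
  have hw2 : w * w = T * w + N := by
    rw [hT, hNd]; linear_combination (-(w * θ w)) * two0
  have hσT : σ w + θ (σ w) = σ T := by
    have := σB 1 w
    simp only [σone, map_one, one_mul, mul_one] at this
    rw [add_comm (θ w), ← hT, fσ T TK] at this
    rw [← this, add_comm]
  have hσN : σ w * θ (σ w) = σ N := by rw [σN, ← hNd, fσ N NK]
  have hdec : ∀ x, ∃ c d, θ c = c ∧ θ d = d ∧ x = c + d * w := by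
    intro x
    set d := (θ x + x) / (θ w + w) with hddef
    have dK : θ d = d := by
      rw [hddef, map_div₀, map_add, map_add, theta_theta, theta_theta, add_comm x, add_comm w]
    refine ⟨x + d * w, d, ?_, dK, by linear_combination (-(d * w)) * two0⟩
    have h1 : d * (θ w + w) = θ x + x := div_mul_cancel₀ _ hd
    rw [map_add, map_mul, dK]
    linear_combination h1 + (θ x - d * w) * two0
  have σmul : ∀ x y, σ (x * y) = σ x * σ y := by
    intro x y
    obtain ⟨c, d, cK, dK, rfl⟩ := hdec x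
    obtain ⟨c', d', cK', dK', rfl⟩ := hdec y
    have e1 : (c + d * w) * (c' + d' * w) = (c * c' + d * d' * N) + (c * d' + d * c' + d * d' * T) * w := by
      linear_combination (d * d') * hw2
    have m2 : ∀ u v, θ u = u → σ (u * v) = σ u * σ v := fun u v hu => (key v u hu).1
    rw [e1, σadd, σadd, σadd, σadd, m2 _ w (by simp [map_mul, map_add, cK, dK, cK', dK', TK]),
      σadd, σadd, m2 c _ cK, m2 c _ cK, m2 d _ dK, m2 d w dK, m2 d' w dK', m2 (d * d') N (by rw [map_mul, dK, dK']),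
      m2 d d' dK, m2 (d * d') T (by rw [map_mul, dK, dK']), m2 d d' dK]
    have hσw2 : σ w * σ w = σ T * σ w + σ N := by
      rw [← hσT, ← hσN]; linear_combination (-(σ w * θ (σ w))) * two0
    linear_combination (-(σ d * σ d')) * hσw2
  let φ₀ : F →+* F :=
    { toFun := σ, map_one' := σone, map_mul' := σmul, map_zero' := σ0, map_add' := σadd }
  refine ⟨Units.mk0 a ha, RingEquiv.ofBijective φ₀ (Finite.injective_iff_bijective.1 σinj), fun b => ?_⟩
  show bmap ρ b = a * (bmap ρ b / a)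
  rw [mul_div_cancel₀ _ ha]

theorem semilinear_inj {a a' : Fˣ} {φ φ' : F ≃+* F} (h : ∀ b, (a : F) * φ b = (a' : F) * φ' b) :
    a = a' ∧ φ = φ' := by
  have h1 : a = a' := Units.ext (by simpa using h 1)
  exact ⟨h1, RingEquiv.ext fun b => mul_left_cancel₀ a'.ne_zero (by rw [← h b, h1])⟩

theorem card_ringAut (hn : n ≠ 0) (hF : Fintype.card F = (2 ^ n) ^ 2) : Nat.card (F ≃+* F) = 2 * n := by
  haveI : Fact (Nat.Prime 2) := ⟨Nat.prime_two⟩
  obtain ⟨ea⟩ := AutPSL.Out.exists_ringAut_equiv (p := 2) (f := n * 2) (F := F) (by rw [hF, ← pow_mul])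
  rw [Nat.card_congr ea.toEquiv, Nat.card_congr Multiplicative.toAdd, Nat.card_zmod, mul_comm]

theorem card_range (hn : n ≠ 0) :
    Nat.card (Ψ (hF := hF) (B := B)).range = 2 * n * ((2 ^ n) ^ 2 - 1) := by
  classical
  let g : Fˣ × (F ≃+* F) → (Ψ (hF := hF) (B := B)).range := fun p =>
    ⟨Ψ (exists_semilinear (B := B) (hF := hF) p.1 p.2).choose, _, rfl⟩
  have hg : ∀ p b, ((g p : Equiv.Perm F)) b = (p.1 : F) * p.2 b := fun p b =>
    (exists_semilinear (B := B) (hF := hF) p.1 p.2).choose_spec b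
  rw [← Nat.card_eq_of_bijective g ⟨?_, ?_⟩, Nat.card_prod, card_ringAut hn hF, Nat.card_units,
    Nat.card_eq_fintype_card, hF, mul_comm]
  · rintro ⟨a, φ⟩ ⟨a', φ'⟩ h
    obtain ⟨h1, h2⟩ := semilinear_inj (a := a) (a' := a') (φ := φ) (φ' := φ') fun b => by
      rw [← hg (a, φ) b, ← hg (a', φ') b, h]
    rw [h1, h2]
  · rintro ⟨_, ρ, rfl⟩
    obtain ⟨a, φ, h⟩ := exists_eq_semilinear ρ
    exact ⟨(a, φ), Subtype.ext (Equiv.ext fun b => by rw [hg, h])⟩

/-! ### The kernel -/

theorem ker_bc {ρ : MulAut P} (h : ρ ∈ (Ψ (hF := hF) (B := B)).ker) (s : P) : bc (ρ s) = bc s := by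
  rw [bc_map, ← Psi_apply, MonoidHom.mem_ker.1 h]
  rfl

theorem ker_center {ρ : MulAut P} (h : ρ ∈ (Ψ (hF := hF) (B := B)).ker) {z : P} (hz : bc z = 0) :
    ρ z = z := by
  obtain ⟨x, hx⟩ := exists_norm (central_fixed hz)
  refine ext (ker_bc h z) ?_
  rw [norm_map ρ hz hx.symm, ← Psi_apply, MonoidHom.mem_ker.1 h]
  exact hx

theorem ker_shift {ρ : MulAut P} (h : ρ ∈ (Ψ (hF := hF) (B := B)).ker) {s t : P} (hst : bc s = bc t) :
    ac (ρ s) + ac s = ac (ρ t) + ac t := by
  set z := s * t⁻¹ with hz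
  have hz0 : bc z = 0 := by rw [hz, (mul_coord _ _).1, bc_inv, hst, CharTwo.add_self_eq_zero]
  have hs : s = z * t := by rw [hz, inv_mul_cancel_right]
  rw [hs, map_mul, ker_center h hz0, (mul_coord _ _).2, (mul_coord z t).2, hz0, map_zero,
    mul_zero, mul_zero, add_zero, add_zero]
  linear_combination (ac z) * (CharTwo.two_eq_zero : (2 : F) = 0)

/-- The fixed field as an additive group. -/
def fixedAdd (hF : Fintype.card F = (2 ^ n) ^ 2) : AddSubgroup F where
  carrier := {c | HermStd.qHom hF c = c}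
  add_mem' {a b} ha hb := by
    show HermStd.qHom hF (a + b) = a + b
    rw [map_add, ha, hb]
  zero_mem' := map_zero _
  neg_mem' {a} ha := by
    show HermStd.qHom hF (-a) = -a
    rw [map_neg, ha]

theorem ker_kill {ρ : MulAut P} (h : ρ ∈ (Ψ (hF := hF) (B := B)).ker) :
    ρ * ρ = 1 ∧ ∀ τ ∈ (Ψ (hF := hF) (B := B)).ker, ρ * τ = τ * ρ := by
  have hsplit : ∀ (τ : MulAut P), τ ∈ (Ψ (hF := hF) (B := B)).ker → ∀ u s : P, bc u = bc s →
      ac (τ u) = ac u + (ac (τ s) + ac s) := fun τ hτ u s hus => by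
    rw [← ker_shift hτ hus]
    linear_combination (-(ac u)) * (CharTwo.two_eq_zero : (2 : F) = 0)
  refine ⟨MulEquiv.ext fun s => ?_, fun τ hτ => MulEquiv.ext fun s => ?_⟩
  · rw [MulAut.mul_apply, MulAut.one_apply]
    refine ext (by rw [ker_bc h, ker_bc h]) ?_
    rw [hsplit ρ h (ρ s) s (ker_bc h s)]
    linear_combination (ac (ρ s)) * (CharTwo.two_eq_zero : (2 : F) = 0)
  · rw [MulAut.mul_apply, MulAut.mul_apply]
    refine ext (by rw [ker_bc h, ker_bc hτ, ker_bc hτ, ker_bc h]) ?_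
    rw [hsplit ρ h (τ s) s (ker_bc hτ s), hsplit τ hτ (ρ s) s (ker_bc h s)]
    ring

theorem card_ker : Nat.card (Ψ (hF := hF) (B := B)).ker = Nat.card (F →+ fixedAdd hF) := by
  classical
  choose L hL using exists_lift (B := B) (hF := hF)
  have hK : ∀ ρ ∈ (Ψ (hF := hF) (B := B)).ker, ∀ b, ac (ρ (L b)) + ac (L b) ∈ fixedAdd hF := by
    intro ρ hρ b
    show θ _ = _
    have h1 := valid (ρ (L b))
    have h2 := valid (L b)
    rw [ker_bc hρ] at h1
    rw [map_add]
    linear_combination h1 - h2 + (ac (L b) - ac (ρ (L b))) * (CharTwo.two_eq_zero : (2 : F) = 0) -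
      (ac (L b) - θ (ac (L b))) * (CharTwo.two_eq_zero : (2 : F) = 0)
  let g : (Ψ (hF := hF) (B := B)).ker → (F →+ fixedAdd hF) := fun ρ =>
    AddMonoidHom.mk' (fun b => ⟨_, hK ρ.1 ρ.2 b⟩) fun u v => Subtype.ext (by
      show ac ((ρ : MulAut P) (L (u + v))) + ac (L (u + v)) = (ac ((ρ : MulAut P) (L u)) + ac (L u)) +
        (ac ((ρ : MulAut P) (L v)) + ac (L v))
      rw [ker_shift ρ.2 (show bc (L (u + v)) = bc (L u * L v) by rw [(mul_coord _ _).1, hL, hL, hL]),
        map_mul, (mul_coord _ _).2, (mul_coord (L u) (L v)).2, ker_bc ρ.2, ker_bc ρ.2]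
      linear_combination (bc (L v) * θ (bc (L u))) * (CharTwo.two_eq_zero : (2 : F) = 0))
  refine Nat.card_eq_of_bijective g ⟨?_, ?_⟩
  · intro ρ τ h
    refine Subtype.ext (MulEquiv.ext fun s => ext (by rw [ker_bc ρ.2, ker_bc τ.2]) ?_)
    have h1 := congrArg (fun d : F →+ fixedAdd hF => ((d (bc s) : fixedAdd hF) : F)) h
    simp only [g, AddMonoidHom.mk'_apply] at h1
    rw [← ker_shift ρ.2 (hL (bc s)).symm, ← ker_shift τ.2 (hL (bc s)).symm] at h1
    exact add_right_cancel h1
  · intro d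
    obtain ⟨ρ, hρ⟩ := exists_aut (B := B) (hF := hF) (AddMonoidHom.id F)
      (fun b a => a + (d b : F)) Function.injective_id
      (fun b a h => by
        have hd : θ ((d b : F)) = d b := (d b).2
        show a + (d b : F) + θ (a + (d b : F)) = b * θ b
        rw [map_add, hd, ← h]
        linear_combination (d b : F) * (CharTwo.two_eq_zero : (2 : F) = 0))
      (fun b a b' a' _ _ => by
        show a + a' + b' * θ b + ((d (b + b') : fixedAdd hF) : F) = a + (d b : F) + (a' + (d b' : F)) + b' * θ b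
        rw [map_add, AddSubgroup.coe_add]; ring)
      (fun b a a' h => add_right_cancel h)
    have hker : ρ ∈ (Ψ (hF := hF) (B := B)).ker := MonoidHom.mem_ker.2 (Equiv.ext fun b => by
      obtain ⟨s, rfl⟩ := exists_lift (B := B) (hF := hF) b
      rw [Psi_apply, ← bc_map, (hρ s).1]; rfl)
    refine ⟨⟨ρ, hker⟩, AddMonoidHom.ext fun b => Subtype.ext ?_⟩
    show ac (ρ (L b)) + ac (L b) = (d b : F)
    rw [(hρ (L b)).2, hL]
    linear_combination (ac (L b)) * (CharTwo.two_eq_zero : (2 : F) = 0)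

theorem card_hom : Nat.card (F →+ fixedAdd hF) = 2 ^ (2 * n ^ 2) := by
  haveI : Fact (Nat.Prime 2) := ⟨Nat.prime_two⟩
  letI : Module (ZMod 2) F := AddCommGroup.zmodModule fun x => by rw [two_nsmul, CharTwo.add_self_eq_zero]
  letI : Module (ZMod 2) (fixedAdd hF) := AddCommGroup.zmodModule fun x =>
    Subtype.ext (by simp [two_nsmul, CharTwo.add_self_eq_zero])
  haveI : Module.Finite (ZMod 2) F := Module.Finite.of_finite
  have hr := Module.natCard_eq_pow_finrank (K := ZMod 2) (V := F)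
  rw [Nat.card_eq_fintype_card, hF, Nat.card_zmod, ← pow_mul] at hr
  have hd : n * 2 = Module.finrank (ZMod 2) F := Nat.pow_right_injective le_rfl hr
  have hK : Nat.card (fixedAdd hF) = 2 ^ n := by
    rw [← card_fixed hF]
    exact Nat.card_congr (Equiv.subtypeEquivRight fun a => by
      show θ a = a ↔ a ^ 2 ^ n = a
      rw [HermStd.qHom_apply])
  let b := Module.finBasis (ZMod 2) F
  rw [Nat.card_congr ((AddMonoidHom.toZModLinearMapEquiv 2).toEquiv.trans
    (b.constr ℕ).symm.toEquiv), Nat.card_fun, hK, Nat.card_fin, ← hd, ← pow_mul]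
  ring_nf

theorem card_ker_eq : Nat.card (Ψ (hF := hF) (B := B)).ker = 2 ^ (2 * n ^ 2) := by
  rw [card_ker, card_hom]

theorem pCore_eq_ker : Cfsg.pCore 2 (MulAut P) = (Ψ (hF := hF) (B := B)).ker := by
  classical
  haveI : Fact (Nat.Prime 2) := ⟨Nat.prime_two⟩
  refine le_antisymm (Cores.pCore_le fun R hR hR2 ρ hρ => ?_)
    (Cores.le_pCore (IsPGroup.of_card (n := 2 * n ^ 2) card_ker_eq))
  obtain ⟨a, φ, hρe⟩ := exists_eq_semilinear ρ
  have hn : n ≠ 0 := n_pos hF
  have hodd : ∀ (u : F) (k : ℕ), u ≠ 0 → u ^ 2 ^ k = 1 → u = 1 := fun u k hu h => by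
    have h' : iterateFrobenius F 2 k u = iterateFrobenius F 2 k 1 := by
      rw [iterateFrobenius_def, iterateFrobenius_def, h, one_pow]
    exact iterateFrobenius_inj F 2 k h'
  have hmul : ∀ (τ : MulAut P) (u : F), (∀ b, Ψ τ b = u * b) → τ ∈ R → u ≠ 0 → u = 1 := by
    intro τ u hu hτ hu0
    obtain ⟨k, hk⟩ := hR2 ⟨τ, hτ⟩
    have h1 : τ ^ 2 ^ k = 1 := congrArg Subtype.val hk
    have h2 : ∀ j : ℕ, ∀ b, Ψ (τ ^ j) b = u ^ j * b := by
      intro j
      induction j with
      | zero => intro b; simp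
      | succ j ih => intro b; rw [pow_succ, map_mul, Equiv.Perm.mul_apply, hu, ih, pow_succ, mul_assoc]
    refine hodd u k hu0 ?_
    have h3 := h2 (2 ^ k) 1
    simp only [h1, map_one, Equiv.Perm.one_apply, mul_one] at h3
    exact h3.symm
  have hφ : ∀ c : Fˣ, φ (c : F) = c := by
    intro c
    obtain ⟨μ, hμ⟩ := exists_semilinear (B := B) (hF := hF) c (RingEquiv.refl F)
    obtain ⟨μ', hμ'⟩ := exists_semilinear (B := B) (hF := hF) c⁻¹ (RingEquiv.refl F)
    have hinv : Ψ μ⁻¹ = Ψ μ' := by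
      rw [map_inv, inv_eq_iff_mul_eq_one]
      refine Equiv.ext fun b => ?_
      rw [Equiv.Perm.mul_apply, hμ, hμ']
      simp
    have hcom : ρ * μ * ρ⁻¹ * μ⁻¹ ∈ R := by
      rw [mul_assoc ρ μ, mul_assoc ρ]
      exact R.mul_mem hρ (hR.conj_mem _ (R.inv_mem hρ) μ)
    have hu : ∀ b, Ψ (ρ * μ * ρ⁻¹ * μ⁻¹) b = (φ (c : F) / c) * b := by
      intro b
      rw [map_mul, map_mul, map_mul, hinv, Equiv.Perm.mul_apply, Equiv.Perm.mul_apply,
        Equiv.Perm.mul_apply, hμ']
      set y := Ψ ρ⁻¹ ((c⁻¹ : Fˣ) * RingEquiv.refl F b) with hy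
      have h1 : Ψ ρ y = (c⁻¹ : Fˣ) * RingEquiv.refl F b := by
        rw [hy, map_inv, ← Equiv.Perm.mul_apply, mul_inv_cancel, Equiv.Perm.one_apply]
      rw [hμ y, hρe, RingEquiv.refl_apply, map_mul]
      rw [hρe] at h1
      rw [mul_left_comm, h1, RingEquiv.refl_apply, Units.val_inv_eq_inv_val]
      ring
    have := hmul _ _ hu hcom (div_ne_zero ((map_ne_zero φ).2 c.ne_zero) c.ne_zero)
    rwa [div_eq_one_iff_eq c.ne_zero] at this
  have hφ' : ∀ b, φ b = b := fun b => by
    rcases eq_or_ne b 0 with rfl | hb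
    · exact map_zero φ
    · exact hφ (Units.mk0 b hb)
  have ha1 := hmul ρ a (fun b => by rw [hρe, hφ']) hρ a.ne_zero
  exact MonoidHom.mem_ker.2 (Equiv.ext fun b => by rw [hρe, hφ', ha1, one_mul]; rfl)

end Cfsg.Agent.InvChar.UnitaryThreeSylowAutGroup
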