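import Cfsg.Agent.Lib.Involutions.SylowPSUThree

/-!
# Automorphisms of order two of the Sylow 2-subgroup of `SU₃(2^n)` fix its centre
-/

set_option autoImplicit false
set_option linter.all false

namespace Cfsg.Agent.InvChar.UnitaryThreeSylowExtension

variable {F : Type*} [Field F] [Fintype F] [CharP F 2]

/-- `θ` is the field involution with fixed field `K`; `σ` is an additive involution intertwining the
norm with an additive involution `h` of `K`. Then `h` is the identity. -/
theorem fix_of_norm (θ : F →+* F) (hθ : ∀ x, θ (θ x) = x)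
    (htr : ∀ c, θ c = c → ∃ y, y + θ y = c) (hne : ∃ x, θ x ≠ x)
    (σ : F → F) (hσa : ∀ x y, σ (x + y) = σ x + σ y) (hσ2 : ∀ x, σ (σ x) = x)
    (h : F → F) (hK : ∀ c, θ c = c → θ (h c) = h c)
    (hha : ∀ c d, θ c = c → θ d = d → h (c + d) = h c + h d)
    (hh2 : ∀ c, θ c = c → h (h c) = c)
    (hN : ∀ x, σ x * θ (σ x) = h (x * θ x)) :
    ∀ c, θ c = c → h c = c := by
  classical
  have two0 : (2 : F) = 0 := CharTwo.two_eq_zero
  have hσ0 : σ 0 = 0 := by simpa [CharTwo.add_self_eq_zero] using hσa 0 0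
  have h0 : h 0 = 0 := by
    simpa [CharTwo.add_self_eq_zero] using hha 0 0 (map_zero θ) (map_zero θ)
  have hNK : ∀ x, θ (x * θ x) = x * θ x := fun x => by rw [map_mul, hθ, mul_comm]
  have hBK : ∀ x y, θ (x * θ y + y * θ x) = x * θ y + y * θ x := fun x y => by
    rw [map_add, map_mul, map_mul, hθ, hθ]; ring
  -- polarisation
  have hB : ∀ x y, σ x * θ (σ y) + σ y * θ (σ x) = h (x * θ y + y * θ x) := by
    intro x y
    have e := hN (x + y)
    rw [hσa, map_add, map_add,
      show (x + y) * (θ x + θ y) = x * θ x + (y * θ y + (x * θ y + y * θ x)) by ring,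
      hha _ _ (hNK x) (by rw [map_add, hNK, hBK]), hha _ _ (hNK y) (hBK x y)] at e
    linear_combination e - hN x - hN y
  have hB0 : ∀ x y, x ≠ 0 → x * θ y + y * θ x = 0 → θ (y / x) = y / x := by
    intro x y hx hxy
    have hx' : θ x ≠ 0 := (map_ne_zero θ).2 hx
    rw [map_div₀, div_eq_div_iff hx' hx]
    linear_combination hxy - (y * θ x) * two0
  have hsurj : ∀ x, x ≠ 0 → ∀ c, θ c = c → ∃ y, x * θ y + y * θ x = c := by
    intro x hx c hc
    obtain ⟨z, hz⟩ := htr c hc
    have hx' : θ x ≠ 0 := (map_ne_zero θ).2 hx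
    refine ⟨z / θ x, ?_⟩
    rw [map_div₀, hθ, mul_div_cancel₀ _ hx, div_mul_cancel₀ _ hx']
    linear_combination hz
  have he0 : h 1 ≠ 0 := by
    intro he
    have := hh2 1 (map_one θ)
    rw [he, h0] at this
    exact zero_ne_one this
  set e := h 1 with he
  have heK : θ e = e := hK 1 (map_one θ)
  -- the semilinearity
  have hsemi : ∀ x, x ≠ 0 → ∀ t, θ t = t →
      σ (t * x) = h t / e * σ x ∧ ∀ c, θ c = c → h (t * c) = h t / e * h c := by
    intro x hx t ht
    have hσx : σ x ≠ 0 := fun h' => hx (by rw [← hσ2 x, h', hσ0])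
    have hzero : σ x * θ (σ (t * x)) + σ (t * x) * θ (σ x) = 0 := by
      rw [hB, show x * θ (t * x) + t * x * θ x = 0 by
        rw [map_mul, ht]; linear_combination (t * x * θ x) * two0]
      exact h0
    have hs := hB0 _ _ hσx hzero
    set s := σ (t * x) / σ x with hsdef
    have hsx : σ (t * x) = s * σ x := (div_mul_cancel₀ _ hσx).symm
    have key : ∀ c, θ c = c → h (t * c) = s * h c := by
      intro c hc
      obtain ⟨y, hy⟩ := hsurj x hx c hc
      have h1 := hB (t * x) y
      rw [hsx, map_mul, hs, show t * x * θ y + y * θ (t * x) = t * c by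
        rw [map_mul, ht, ← hy]; ring] at h1
      have h2 := hB x y
      rw [hy] at h2
      linear_combination s * h2 - h1
    have hse : s = h t / e := by
      rw [eq_div_iff he0]
      have := key 1 (map_one θ)
      rw [mul_one] at this
      exact this.symm
    exact ⟨by rw [hsx, hse], fun c hc => by rw [key c hc, hse]⟩
  have hmul : ∀ t c, θ t = t → θ c = c → h (t * c) = h t / e * h c :=
    fun t c ht hc => (hsemi 1 one_ne_zero t ht).2 c hc
  let f : F → F := fun t => h t / e
  have hfK : ∀ t, θ t = t → θ (f t) = f t := fun t ht => by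
    simp only [f]; rw [map_div₀, hK t ht, heK]
  have hf1 : f 1 = 1 := div_self he0
  have hfadd : ∀ a b, θ a = a → θ b = b → f (a + b) = f a + f b := fun a b ha hb => by
    simp only [f]; rw [hha a b ha hb, add_div]
  have hfmul : ∀ a b, θ a = a → θ b = b → f (a * b) = f a * f b := fun a b ha hb => by
    simp only [f]; rw [hmul a b ha hb]; field_simp
  have hσt : ∀ x t, θ t = t → σ (t * x) = f t * σ x := by
    intro x t ht
    rcases eq_or_ne x 0 with rfl | hx
    · simp [hσ0]
    · exact (hsemi x hx t ht).1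
  have hff : ∀ t, θ t = t → f (f t) = t := by
    intro t ht
    have h1 := hσt (σ 1) _ (hfK t ht)
    rw [hσ2, ← hσt 1 t ht, hσ2, mul_one, mul_one] at h1
    exact h1.symm
  have hff' : f (e) = 1 / e := by
    simp only [f, he]; rw [hh2 1 (map_one θ)]
  intro c hc
  by_contra hcne
  -- `f` is not the identity
  have hfne : ∃ t, θ t = t ∧ f t ≠ t := by
    by_contra hcon
    push Not at hcon
    have he1 : e = 1 := by
      have h1 := hcon e heK
      rw [hff', div_eq_iff he0] at h1
      have h2 : (e + 1) * (e + 1) = 0 := by linear_combination -h1 + (e + 1) * two0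
      have h3 := mul_self_eq_zero.1 h2
      rwa [CharTwo.add_eq_zero] at h3
    apply hcne
    have := hcon c hc
    simp only [f] at this
    rwa [he1, div_one] at this
  obtain ⟨t₀, ht₀, hft₀⟩ := hfne
  -- two independent fixed vectors
  have hW : ∃ u v, σ u = u ∧ σ v = v ∧ u ≠ 0 ∧ v ≠ 0 ∧ u * θ v + v * θ u ≠ 0 := by
    have hfix : ∀ x, σ (x + σ x) = x + σ x := fun x => by rw [hσa, hσ2, add_comm]
    have hfix' : ∀ x, σ (t₀ * x + f t₀ * σ x) = t₀ * x + f t₀ * σ x := fun x => by
      rw [hσa, hσt x t₀ ht₀, hσt (σ x) _ (hfK _ ht₀), hff t₀ ht₀, hσ2, add_comm]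
    have hδ : f t₀ + t₀ ≠ 0 := fun h' => hft₀ (CharTwo.add_eq_zero.1 h')
    have hgen : ∀ x, σ x = ((t₀ * x + f t₀ * σ x) + t₀ * (x + σ x)) / (f t₀ + t₀) := fun x => by
      rw [eq_div_iff hδ]
      linear_combination -(t₀ * x) * two0
    by_contra hcon
    push Not at hcon
    obtain ⟨u, hu, hu0⟩ : ∃ u, σ u = u ∧ u ≠ 0 := by
      by_contra h'
      push Not at h'
      have := hgen 1
      rw [h' _ (hfix 1), h' _ (hfix' 1), mul_zero, zero_add, zero_div] at this
      exact one_ne_zero (by rw [← hσ2 1, this, hσ0] : (1 : F) = 0)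
    have hline : ∀ w, σ w = w → θ (w / u) = w / u := by
      intro w hw
      rcases eq_or_ne w 0 with rfl | hw0
      · simp
      · exact hB0 u w hu0 (hcon u w hu hw hu0 hw0)
    obtain ⟨z, hz⟩ := hne
    apply hz
    have h1 : z = σ (σ (z * u)) / u := by rw [hσ2, mul_div_cancel_right₀ _ hu0]
    rw [h1, hgen, add_div, mul_div_assoc]
    rw [show ((t₀ * σ (z * u) + f t₀ * σ (σ (z * u))) / (f t₀ + t₀) +
        t₀ * ((σ (z * u) + σ (σ (z * u))) / (f t₀ + t₀))) / u =
        ((t₀ * σ (z * u) + f t₀ * σ (σ (z * u))) / u +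
        t₀ * ((σ (z * u) + σ (σ (z * u))) / u)) / (f t₀ + t₀) by ring]
    rw [map_div₀, map_add, map_add, map_mul, hline _ (hfix' _), hline _ (hfix _), hfK _ ht₀, ht₀]
  obtain ⟨u, v, hu, hv, hu0, hv0, huv⟩ := hW
  set a₀ := u * θ u with ha₀
  set a₁ := u * θ v + v * θ u with ha₁
  set a₂ := v * θ v with ha₂
  have k0 : h a₀ = a₀ := by have := hN u; rw [hu] at this; exact this.symm
  have k1 : h a₁ = a₁ := by have := hB u v; rw [hu, hv] at this; exact this.symm
  have k2 : h a₂ = a₂ := by have := hN v; rw [hv] at this; exact this.symm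
  have a20 : a₂ ≠ 0 := mul_ne_zero hv0 ((map_ne_zero θ).2 hv0)
  have kdiv : ∀ a, θ a = a → h a = a → f (a / a₂) = a / a₂ := by
    intro a ha hka
    have hd : θ (a / a₂) = a / a₂ := by rw [map_div₀, ha, hNK v]
    have h1 := hmul _ _ hd (hNK v)
    rw [div_mul_cancel₀ a a20, k2, hka] at h1
    rw [eq_div_iff a20]
    exact h1.symm
  set r := a₁ / a₂ with hr
  set s := a₀ / a₂ with hs
  have rK : θ r = r := by rw [hr, map_div₀, hBK, hNK]
  have sK : θ s = s := by rw [hs, map_div₀, hNK, hNK]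
  have fr : f r = r := kdiv _ (hBK u v) k1
  have fs : f s = s := kdiv _ (hNK u) k0
  have r0 : r ≠ 0 := div_ne_zero huv a20
  -- the fixed field of `f`
  let L : AddSubgroup F :=
    { carrier := {x | θ x = x ∧ f x = x}
      add_mem' := fun {a b} ha hb => ⟨by rw [map_add, ha.1, hb.1],
        by rw [hfadd a b ha.1 hb.1, ha.2, hb.2]⟩
      zero_mem' := ⟨map_zero θ, by simp [f, h0]⟩
      neg_mem' := fun {a} ha => by
        show θ (-a) = -a ∧ f (-a) = -a
        rwa [CharTwo.neg_eq] }
  have hLmul : ∀ a b, a ∈ L → b ∈ L → a * b ∈ L := fun a b ha hb =>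
    ⟨by rw [map_mul, ha.1, hb.1], by rw [hfmul a b ha.1 hb.1, ha.2, hb.2]⟩
  let φ : L →+ L :=
    { toFun := fun y => ⟨(y : F) * y + y, L.add_mem (hLmul _ _ y.2 y.2) y.2⟩
      map_zero' := Subtype.ext (by simp)
      map_add' := fun a b => Subtype.ext (by
        show ((a : F) + b) * ((a : F) + b) + ((a : F) + b) = ((a : F) * a + a) + ((b : F) * b + b)
        linear_combination ((a : F) * b) * two0) }
  have h1L : (1 : F) ∈ L := ⟨map_one θ, hf1⟩
  have hker : Nat.card φ.ker = 2 := by
    rw [Nat.card_eq_two_iff]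
    refine ⟨⟨0, map_zero φ⟩, ⟨⟨1, h1L⟩, Subtype.ext (by simp [φ, CharTwo.add_self_eq_zero])⟩, ?_, ?_⟩
    · intro h'
      exact zero_ne_one (congrArg (fun x : φ.ker => ((x : L) : F)) h')
    · ext ⟨⟨y, hy⟩, hy'⟩
      simp only [Set.mem_insert_iff, Set.mem_singleton_iff, Set.mem_univ, iff_true, Subtype.mk.injEq]
      have h' : y * (y + 1) = 0 := by
        have := congrArg Subtype.val hy'
        simp only [φ, AddMonoidHom.coe_mk, ZeroHom.coe_mk, AddSubgroup.coe_zero] at this
        linear_combination this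
      rcases mul_eq_zero.1 h' with h'' | h''
      · exact Or.inl (Subtype.ext (Subtype.ext h''))
      · exact Or.inr (Subtype.ext (Subtype.ext (CharTwo.add_eq_zero.1 h'')))
  have hidx : φ.range.index = 2 := by
    have h1 := φ.ker.index_mul_card
    rw [AddSubgroup.index_ker, hker] at h1
    have h2 := φ.range.index_mul_card
    have h3 : 0 < Nat.card φ.range := Nat.card_pos
    nlinarith [h1, h2, h3]
  -- an Artin-Schreier generator of the fixed field of `θ` over `L`
  set δ := t₀ + f t₀ with hδdef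
  have hδ : δ ≠ 0 := fun h' => hft₀ (CharTwo.add_eq_zero.1 h').symm
  have δL : δ ∈ L := ⟨by rw [hδdef, map_add, ht₀, hfK _ ht₀],
    by rw [hδdef, hfadd _ _ ht₀ (hfK _ ht₀), hff _ ht₀, add_comm]⟩
  set a := t₀ / δ with hadef
  have aK : θ a = a := by rw [hadef, map_div₀, ht₀, δL.1]
  have fa : f a = a + 1 := by
    have h1 : f (a * δ) = f a * δ := by rw [hfmul a δ aK δL.1, δL.2]
    rw [hadef, div_mul_cancel₀ _ hδ, ← hadef] at h1
    have h2 : a * δ = t₀ := by rw [hadef, div_mul_cancel₀ _ hδ]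
    refine mul_right_cancel₀ hδ ?_
    linear_combination -h1 - h2 - hδdef + (-t₀) * two0
  have c0L : a * a + a ∈ L := by
    refine ⟨by rw [map_add, map_mul, aK], ?_⟩
    rw [hfadd _ _ (by rw [map_mul, aK]) aK, hfmul a a aK aK, fa]
    linear_combination (a + 1) * two0
  have c0n : (⟨_, c0L⟩ : L) ∉ φ.range := by
    rintro ⟨y, hy⟩
    have h' := congrArg Subtype.val hy
    simp only [φ, AddMonoidHom.coe_mk, ZeroHom.coe_mk] at h'
    have h'' : ((y : F) + a) * ((y : F) + a + 1) = 0 := by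
      linear_combination h' + ((y : F) * a + a * a + a) * two0
    rcases mul_eq_zero.1 h'' with h3 | h3
    · have : (y : F) = a := CharTwo.add_eq_zero.1 h3
      rw [← this] at fa
      rw [y.2.2] at fa
      exact one_ne_zero (left_eq_add.1 fa)
    · rw [add_assoc] at h3
      have : (y : F) = a + 1 := CharTwo.add_eq_zero.1 h3
      have h4 := y.2.2
      rw [this, hfadd a 1 aK (map_one θ), fa, hf1] at h4
      exact one_ne_zero (left_eq_add.1 h4.symm)
  set cL : L := ⟨s / (r * r), by rw [map_div₀, map_mul, rK, sK],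
    by
      have h1 : f (s / (r * r) * (r * r)) = f (s / (r * r)) * f (r * r) :=
        hfmul _ _ (by rw [map_div₀, map_mul, rK, sK]) (by rw [map_mul, rK])
      rw [div_mul_cancel₀ s (mul_ne_zero r0 r0), hfmul r r rK rK, fr, fs] at h1
      rw [eq_div_iff (mul_ne_zero r0 r0)]
      exact h1.symm⟩ with hcL
  obtain ⟨y, hyK, hy⟩ : ∃ y, θ y = y ∧ y * y + y = s / (r * r) := by
    by_cases hc' : cL ∈ φ.range
    · obtain ⟨y, hy⟩ := hc'
      exact ⟨y, y.2.1, congrArg Subtype.val hy⟩
    · have h1 : cL + ⟨_, c0L⟩ ∈ φ.range := by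
        rw [AddSubgroup.add_mem_iff_of_index_two hidx]
        exact iff_of_false hc' c0n
      obtain ⟨y, hy⟩ := h1
      refine ⟨y + a, by rw [map_add, y.2.1, aK], ?_⟩
      have h2 := congrArg Subtype.val hy
      simp only [φ, cL, AddMonoidHom.coe_mk, ZeroHom.coe_mk, AddSubgroup.coe_add] at h2
      linear_combination h2 + ((y : F) * a + a * a + a) * two0
  set t := r * y with ht
  have tK : θ t = t := by rw [ht, map_mul, rK, hyK]
  have hroot : t * t + r * t + s = 0 := by
    have h1 : r * r * (y * y + y) = s := by rw [hy, mul_div_cancel₀ _ (mul_ne_zero r0 r0)]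
    rw [ht]
    linear_combination h1 + s * two0
  have hnorm : (u + t * v) * θ (u + t * v) = 0 := by
    rw [map_add, map_mul, tK]
    have e1 : a₂ * r = a₁ := mul_div_cancel₀ _ a20
    have e2 : a₂ * s = a₀ := mul_div_cancel₀ _ a20
    have key : a₀ + t * a₁ + t * t * a₂ = 0 := by
      rw [← e1, ← e2]; linear_combination a₂ * hroot
    linear_combination key
  have huz : u + t * v = 0 := by
    rcases mul_eq_zero.1 hnorm with h' | h'
    · exact h'
    · exact (map_eq_zero θ).1 h'
  apply huv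
  have hu' : u = t * v := CharTwo.add_eq_zero.1 huz
  rw [ha₁, hu', map_mul, tK]
  linear_combination (t * v * θ v) * two0

section Heis

open Cfsg.Agent.Classical Cfsg.Agent.Classical.Unitary Cfsg.Agent.Forms
  Cfsg.Agent.Involutions.SylowPSUThree

variable {n : ℕ}

omit [CharP F 2] in
theorem charTwo (hn : n ≠ 0) (hF : Fintype.card F = (2 ^ n) ^ 2) : CharP F 2 := by
  haveI : Fact (Nat.Prime 2) := ⟨Nat.prime_two⟩
  exact charP_of_card_eq_prime_pow (f := n * 2) (by rw [← pow_mul] at hF; exact hF)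

/-- A Sylow 2-subgroup of `SU₃(2^n)` is isomorphic to the Heisenberg group. -/
theorem sylow_SU_equiv (hF : Fintype.card F = (2 ^ n) ^ 2) (B : Base F n)
    (S : Sylow 2 (Cfsg.SU 3 F (2 ^ n))) :
    Nonempty (heis hF B ≃* (S : Subgroup (Cfsg.SU 3 F (2 ^ n)))) := by
  haveI : Fact (Nat.Prime 2) := ⟨Nat.prime_two⟩
  have hn := n_pos hF
  have hodd : (Nat.gcd 3 (2 ^ n + 1)).factorization 2 = 0 :=
    Nat.factorization_eq_zero_of_not_dvd fun hd => by
      have : 2 ∣ 3 := hd.trans (Nat.gcd_dvd_left _ _)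
      omega
  have hcard : Nat.card (heis hF B) = 2 ^ (Nat.card (Cfsg.SU 3 F (2 ^ n))).factorization 2 := by
    rw [Subgroup.card_eq_card_quotient_mul_card_subgroup (Subgroup.center (Cfsg.SU 3 F (2 ^ n))),
      natCard_center hF (by norm_num : 2 ≤ 3),
      Nat.factorization_mul Nat.card_pos.ne'
        (Nat.gcd_pos_of_pos_left _ (by norm_num)).ne', Finsupp.add_apply, hodd, add_zero,
      factorization_PSU hF, card_heis hF B, ← pow_mul, mul_comm]
  exact ⟨Sylow.equiv (Sylow.ofCard (heis hF B) hcard) S⟩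

set_option maxHeartbeats 1000000 in
/-- An automorphism of the Heisenberg group with inner square fixes the centre. -/
theorem center_fixed (hF : Fintype.card F = (2 ^ n) ^ 2) (B : Base F n)
    (τ : heis hF B ≃* heis hF B) (g : heis hF B) (hτ : ∀ s, τ (τ s) = g * s * g⁻¹)
    (z : heis hF B) (hz : z ∈ Subgroup.center (heis hF B)) : τ z = z := by
  classical
  have hq0 : (0 : F) ^ (2 ^ n) = 0 := zero_pow (Nat.two_pow_pos n).ne'
  let θ := HermStd.qHom hF
  have θap : ∀ x : F, θ x = x ^ (2 ^ n) := fun x => HermStd.qHom_apply hF x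
  -- canonical elements
  have hlift : ∀ b : F, ∃ (s : heis hF B) (a : F), IsCoord B (s : Cfsg.SU 3 F (2 ^ n)) b a :=
    fun b => by
      obtain ⟨a, ha⟩ := exists_trace_eq hF (norm_fixed hF b)
      obtain ⟨s, hs⟩ := exists_el hF B ha
      exact ⟨s, a, hs⟩
  choose L aL hL using hlift
  choose bc ac hcoord using fun s : heis hF B => exists_coord hF B s.2
  have hbc : ∀ (s : heis hF B) b a, IsCoord B (s : Cfsg.SU 3 F (2 ^ n)) b a →
      bc s = b ∧ ac s = a := fun s b a h => IsCoord.unique hF B (hcoord s) h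
  have hbmul : ∀ s t : heis hF B, bc (s * t) = bc s + bc t := fun s t =>
    (hbc (s * t) _ _ ((hcoord s).mul hF B (hcoord t))).1
  have hcen : ∀ s, s ∈ Subgroup.center (heis hF B) ↔ bc s = 0 := fun s =>
    mem_center_iff' hF B (hcoord s)
  have hb1 : bc (1 : heis hF B) = 0 := (hcen 1).1 (one_mem _)
  have hbinv : ∀ s : heis hF B, bc s⁻¹ = bc s := fun s => by
    have := hbmul s s⁻¹
    rw [mul_inv_cancel, hb1] at this
    exact (CharTwo.add_eq_zero.1 this.symm).symm
  have hcτ : ∀ s, s ∈ Subgroup.center (heis hF B) → τ s ∈ Subgroup.center (heis hF B) :=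
    fun s hs => Subgroup.mem_center_iff.2 fun t => by
      obtain ⟨t, rfl⟩ := τ.surjective t
      rw [← map_mul, ← map_mul, Subgroup.mem_center_iff.1 hs t]
  let σ : F → F := fun b => bc (τ (L b))
  have hσ : ∀ s, bc (τ s) = σ (bc s) := by
    intro s
    have hmem : (L (bc s))⁻¹ * s ∈ Subgroup.center (heis hF B) := by
      rw [hcen, hbmul, hbinv, (hbc _ _ _ (hL (bc s))).1, CharTwo.add_self_eq_zero]
    have h1 := (hcen _).1 (hcτ _ hmem)
    rw [map_mul, map_inv, hbmul, hbinv] at h1
    exact (CharTwo.add_eq_zero.1 h1).symm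
  have hzex : ∀ c : F, θ c = c → ∃ s : heis hF B, IsCoord B (s : Cfsg.SU 3 F (2 ^ n)) 0 c :=
    fun c hc => exists_el hF B (by
      rw [← θap c, hc, CharTwo.add_self_eq_zero, zero_mul])
  choose Z hZ using hzex
  let h : F → F := fun c => if hc : θ c = c then ac (τ (Z c hc)) else 0
  have hcen0 : ∀ s ∈ Subgroup.center (heis hF B),
      IsCoord B (s : Cfsg.SU 3 F (2 ^ n)) 0 (ac s) ∧ θ (ac s) = ac s := by
    intro s hs
    have h1 := hcoord s
    rw [(hcen s).1 hs] at h1
    refine ⟨h1, ?_⟩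
    have h2 := h1.2
    rw [zero_mul] at h2
    rw [θap]
    exact (CharTwo.add_eq_zero.1 h2).symm
  have hZc : ∀ c hc, Z c hc ∈ Subgroup.center (heis hF B) := fun c hc =>
    (mem_center_iff' hF B (hZ c hc)).2 rfl
  have hh : ∀ s, s ∈ Subgroup.center (heis hF B) → ac (τ s) = h (ac s) := by
    intro s hs
    obtain ⟨h1, h2⟩ := hcen0 s hs
    simp only [h, dif_pos h2]
    rw [show Z (ac s) h2 = s from Subtype.ext (IsCoord.ext hF B (hZ _ h2) h1)]
  have hamul : ∀ s t, s ∈ Subgroup.center (heis hF B) → ac (s * t) = ac s + ac t := by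
    intro s t hs
    have h1 := (hbc (s * t) _ _ ((hcen0 s hs).1.mul hF B (hcoord t))).2
    rwa [hq0, mul_zero, add_zero] at h1
  have hacZ : ∀ c hc, ac (Z c hc) = c := fun c hc => (hbc _ _ _ (hZ c hc)).2
  have hsq : ∀ s : heis hF B, ac (s * s) = bc s * θ (bc s) := fun s => by
    rw [θap]
    exact (hbc (s * s) _ _ (mul_self hF B (hcoord s))).2
  have key : ∀ c, θ c = c → h c = c := by
    refine fix_of_norm θ (fun x => by rw [θap, θap, pow_qq hF]) (fun c hc => ?_) ?_ σ ?_ ?_ h ?_ ?_ ?_ ?_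
    · obtain ⟨y, hy⟩ := exists_trace_eq hF (c := c) (by rw [← θap, hc])
      exact ⟨y, by rw [θap, hy]⟩
    · by_contra hne
      push Not at hne
      exact HermStd.qHom_ne_id hF (RingHom.ext hne)
    · intro x y
      have h1 := hσ (L x * L y)
      rw [map_mul, hbmul, hbmul, hσ, hσ, (hbc _ _ _ (hL x)).1, (hbc _ _ _ (hL y)).1] at h1
      exact h1.symm
    · intro x
      have h1 := congrArg bc (hτ (L x))
      rw [hσ, hσ, (hbc _ _ _ (hL x)).1, hbmul, hbmul, hbinv, (hbc _ _ _ (hL x)).1] at h1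
      linear_combination h1 + CharTwo.add_self_eq_zero (bc g)
    · intro c hc
      rw [← hacZ c hc, ← hh _ (hZc c hc)]
      exact (hcen0 _ (hcτ _ (hZc c hc))).2
    · intro c d hc hd
      have h1 := hh _ (mul_mem (hZc c hc) (hZc d hd))
      rw [map_mul, hamul _ _ (hcτ _ (hZc c hc)), hamul _ _ (hZc c hc), hh _ (hZc c hc),
        hh _ (hZc d hd), hacZ, hacZ] at h1
      exact h1.symm
    · intro c hc
      have h1 := hh _ (hcτ _ (hZc c hc))
      rw [hh _ (hZc c hc), hτ, hacZ, Subgroup.mem_center_iff.1 (hZc c hc) g,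
        mul_inv_cancel_right, hacZ] at h1
      exact h1.symm
    · intro x
      have h1 := hh _ (sq_mem_center hF B (L x))
      rw [map_mul, hsq, hsq, hσ, (hbc _ _ _ (hL x)).1] at h1
      exact h1
  obtain ⟨h1, h2⟩ := hcen0 z hz
  have h3 := (hcen0 _ (hcτ z hz)).1
  rw [hh z hz, key _ h2] at h3
  exact Subtype.ext (IsCoord.ext hF B h3 h1)

end Heis

end Cfsg.Agent.InvChar.UnitaryThreeSylowExtension
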